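import Mathlib
import Cfsg.Agent.Tri8.Defs
import Cfsg.Agent.Rec.Top

/-! Basic facts on a frame. -/

set_option autoImplicit false
set_option linter.unusedSectionVars false
set_option maxRecDepth 100000
set_option synthInstance.maxSize 100000
set_option synthInstance.maxHeartbeats 1000000

namespace Cfsg.Agent.Tri8

open Cfsg Cfsg.Agent.Rec Cfsg.Agent.Spor Cfsg.Agent.Loc.Mss Subgroup

variable {G : Type*} [Group G] [Finite G]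

theorem all3 {P : Fin 3 → Prop} (h0 : P 0) (h1 : P 1) (h2 : P 2) : ∀ i, P i := fun i => by
  fin_cases i
  exacts [h0, h1, h2]

namespace Fr

variable (s : Fr G)

theorem sq : (∀ i, s.x i * s.x i = 1) ∧ (∀ i, s.m i * s.m i = 1) ∧ (∀ i, s.k i * s.k i = 1) ∧
    (∀ i, s.h i * s.h i = 1) ∧ s.x2 * s.x2 = 1 ∧ s.m2 * s.m2 = 1 ∧ s.y * s.y = 1 ∧ s.z * s.z = 1 := by
  have h : (s.x1 * s.x1 = 1 ∧ s.x3 * s.x3 = 1 ∧ s.x4 * s.x4 = 1) ∧ (s.m1 * s.m1 = 1 ∧ s.m3 * s.m3 = 1 ∧ s.m4 * s.m4 = 1) ∧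
      (s.k1 * s.k1 = 1 ∧ s.k3 * s.k3 = 1 ∧ s.k4 * s.k4 = 1) ∧ (s.h1 * s.h1 = 1 ∧ s.h3 * s.h3 = 1 ∧ s.h4 * s.h4 = 1) ∧
      s.x2 * s.x2 = 1 ∧ s.m2 * s.m2 = 1 ∧ s.y * s.y = 1 ∧ s.z * s.z = 1 := s.hL.decide s.rp (by decide +kernel)
  obtain ⟨a, b, c, d, e⟩ := h
  exact ⟨all3 a.1 a.2.1 a.2.2, all3 b.1 b.2.1 b.2.2, all3 c.1 c.2.1 c.2.2, all3 d.1 d.2.1 d.2.2, e⟩

theorem mems : (∀ i, s.x i ∈ s.X8) ∧ (∀ i, s.m i ∈ s.Lam) ∧ (∀ i, s.k i ∈ s.U1) ∧ (∀ i, s.h i ∈ s.H5) ∧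
    s.x2 ∈ s.Q ∧ s.m2 ∈ s.L ∧ s.y ∈ s.Z2 ∧ s.z ∈ s.Z := by
  have h : (s.x1 ∈ s.X8 ∧ s.x3 ∈ s.X8 ∧ s.x4 ∈ s.X8) ∧ (s.m1 ∈ s.Lam ∧ s.m3 ∈ s.Lam ∧ s.m4 ∈ s.Lam) ∧
      (s.k1 ∈ s.U1 ∧ s.k3 ∈ s.U1 ∧ s.k4 ∈ s.U1) ∧ (s.h1 ∈ s.H5 ∧ s.h3 ∈ s.H5 ∧ s.h4 ∈ s.H5) ∧
      s.x2 ∈ s.Q ∧ s.y ∈ s.Z2 ∧ s.z ∈ s.Z := s.hL.decide s.rp (by decide +kernel)
  obtain ⟨a, b, c, d, e, f⟩ := h
  exact ⟨all3 a.1 a.2.1 a.2.2, all3 b.1 b.2.1 b.2.2, all3 c.1 c.2.1 c.2.2, all3 d.1 d.2.1 d.2.2, e,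
    s.mem_L _ (by simp), f⟩

theorem les : s.Z ≤ s.Z2 ∧ s.Z2 ≤ s.H5 ∧ s.H5 ≤ s.U1 ∧ s.U1 ≤ s.Q ∧ s.U1 ≤ s.V0 ∧ s.Q ≤ s.U ∧ s.V0 ≤ s.U ∧
    s.X8 ≤ s.V0 ∧ s.X8 ≤ s.Lam ∧ s.E27 ≤ s.Lam ∧ s.U ≤ s.Pz ∧ s.Lam ≤ s.Pz ∧ s.Pz ≤ s.L ∧ s.U ≤ s.NA ∧ s.NA ≤ s.L := by
  have h : s.Z ≤ s.Z2 ∧ s.Z2 ≤ s.H5 ∧ s.H5 ≤ s.U1 ∧ s.U1 ≤ s.Q ∧ s.U1 ≤ s.V0 ∧ s.Q ≤ s.U ∧ s.V0 ≤ s.U ∧
    s.X8 ≤ s.V0 ∧ s.X8 ≤ s.Lam ∧ s.E27 ≤ s.Lam := s.hL.decide s.rp (by decide +kernel)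
  obtain ⟨a, b, c, d, e, f, g, h, i, j⟩ := h
  refine ⟨a, b, c, d, e, f, g, h, i, j, ?_, ?_, ?_, ?_, ?_⟩ <;> try rw [s.L_eq]
  all_goals exact clos_le.2 fun y hy => mem_clos (by
    simp only [List.mem_cons, List.not_mem_nil, or_false] at hy ⊢; tauto)

theorem memKA : (∀ i, s.x i ∈ s.KA) ∧ (∀ i, s.m i ∈ s.KA) ∧ (∀ i, s.k i ∈ s.KA) ∧ (∀ i, s.h i ∈ s.KA) ∧
    s.x2 ∈ s.KA ∧ s.m2 ∈ s.KA ∧ s.y ∈ s.KA ∧ s.z ∈ s.KA := by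
  have h : (s.x1 ∈ s.KA ∧ s.x3 ∈ s.KA ∧ s.x4 ∈ s.KA) ∧ (s.m1 ∈ s.KA ∧ s.m3 ∈ s.KA ∧ s.m4 ∈ s.KA) ∧
      (s.k1 ∈ s.KA ∧ s.k3 ∈ s.KA ∧ s.k4 ∈ s.KA) ∧ (s.h1 ∈ s.KA ∧ s.h3 ∈ s.KA ∧ s.h4 ∈ s.KA) ∧
      s.x2 ∈ s.KA ∧ s.m2 ∈ s.KA ∧ s.y ∈ s.KA ∧ s.z ∈ s.KA := s.hL.decide s.rp (by decide +kernel)
  obtain ⟨a, b, c, d, e⟩ := h
  exact ⟨all3 a.1 a.2.1 a.2.2, all3 b.1 b.2.1 b.2.2, all3 c.1 c.2.1 c.2.2, all3 d.1 d.2.1 d.2.2, e⟩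

theorem memn : s.n1 ∈ s.Lam ∧ s.n2 ∈ s.L ∧ s.n3 ∈ s.Lam ∧ s.n4 ∈ s.Lam := by
  have h : s.x1 * s.m1 * s.x1 ∈ s.Lam ∧ s.x3 * s.m3 * s.x3 ∈ s.Lam ∧ s.x4 * s.m4 * s.x4 ∈ s.Lam :=
    s.hL.decide s.rp (by decide +kernel)
  have h2 : s.x2 ∈ s.L := s.mem_L _ (by simp)
  exact ⟨h.1, mul_mem (mul_mem h2 s.mems.2.2.2.2.2.1) h2, h.2⟩

theorem memZ {a : G} : a ∈ s.Z ↔ a = 1 ∨ a = s.z := by
  have h : ∀ a ∈ s.Z, a = 1 ∨ a = s.z := s.hL.decide s.rp (by decide +kernel)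
  refine ⟨h a, ?_⟩
  rintro (rfl | rfl)
  exacts [one_mem _, s.mems.2.2.2.2.2.2.2]

theorem memZ2 {a : G} : a ∈ s.Z2 ↔ a = 1 ∨ a = s.z ∨ a = s.y ∨ a = s.y * s.z := by
  have h : ∀ a ∈ s.Z2, a = 1 ∨ a = s.z ∨ a = s.y ∨ a = s.y * s.z := s.hL.decide s.rp (by decide +kernel)
  have hz := s.les.1 s.mems.2.2.2.2.2.2.2
  have hy := s.mems.2.2.2.2.2.2.1
  refine ⟨h a, ?_⟩
  rintro (rfl | rfl | rfl | rfl)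
  exacts [one_mem _, hz, hy, mul_mem hy hz]

theorem KA_iff {a : G} : a ∈ s.KA ↔ ∃ l ∈ s.L, l * s.z * l⁻¹ = a := by
  rw [s.L_eq]
  rfl

theorem U_eq {u : G} (hu : u ∈ s.U) : ∃ q ∈ s.Q, ∃ a ∈ s.X8, u = q * a := by
  have h : ∀ u ∈ s.U, ∃ a ∈ s.X8, u * a ∈ s.Q ∧ a * a = 1 := s.hL.decide s.rp (by decide +kernel)
  obtain ⟨a, ha, h1, h2⟩ := h u hu
  exact ⟨_, h1, a, ha, by rw [mul_assoc, h2, mul_one]⟩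

theorem Pz_nQ : s.Pz ≤ 𝐍[s.Q] := fun g hg => mem_norm_of_cj_le (cj_le_iff.2 (le_normalizer_clos (by
  simp only [List.forall_mem_cons, List.not_mem_nil, false_imp_iff, implies_true, and_true]
  exact s.hL.decide s.rp (by decide +kernel)) hg))

theorem Pz_eq {g : G} : g ∈ s.Pz ↔ ∃ q ∈ s.Q, ∃ a ∈ s.Lam, g = q * a := by
  obtain ⟨-, -, -, -, -, h1, -, -, -, -, h2, h3, -⟩ := s.les
  refine ⟨fun hg => ?_, ?_⟩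
  · have h : s.Pz ≤ s.Q ⊔ s.Lam := clos_le.2 (by
      simp only [List.forall_mem_cons, List.not_mem_nil, false_imp_iff, implies_true, and_true]
      refine ⟨mem_sup_right ?_, mem_sup_right ?_, mem_sup_right ?_, mem_sup_right ?_, mem_sup_right ?_,
        mem_sup_right ?_, mem_sup_left ?_⟩ <;> exact mem_clos (by simp))
    obtain ⟨v, hv, l, hl, e⟩ := (mem_sup_norm (h3.trans s.Pz_nQ)).1 (h hg)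
    exact ⟨v, hv, l, hl, e.symm⟩
  · rintro ⟨q, hq, a, ha, rfl⟩
    exact mul_mem (h2 (h1 hq)) (h3 ha)

theorem QLam {a : G} (h : a ∈ s.Q) (h' : a ∈ s.Lam) : a = 1 :=
  (s.hL.decide s.rp (by decide +kernel) : ∀ a ∈ s.Lam, a ∈ s.Q → a = 1) a h' h

theorem Pz_z {g : G} (hg : g ∈ s.Pz) : g * s.z = s.z * g :=
  (commute_clos (g := s.z) (by
    simp only [List.forall_mem_cons, List.not_mem_nil, false_imp_iff, implies_true, and_true]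
    exact s.hL.decide s.rp (by decide +kernel)) g hg).symm

theorem Q_comm {a b : G} (ha : a ∈ s.Q) (hb : b ∈ s.Q) : a * b * a⁻¹ * b⁻¹ ∈ s.Z ∧ a * a ∈ s.Z := by
  have h1 : ∀ a ∈ s.Q, a * a ∈ s.Z := s.hL.decide s.rp (by decide +kernel)
  refine ⟨?_, h1 a ha⟩
  have hz : ∀ c ∈ s.Z, ∀ g ∈ s.Q, g * c * g⁻¹ ∈ s.Z := fun c hc g hg => by
    rcases s.memZ.1 hc with rfl | rfl
    · simpa using one_mem s.Z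
    · rw [s.Pz_z (s.les.2.2.2.2.2.2.2.2.2.2.1 (s.les.2.2.2.2.2.1 hg)), mul_inv_cancel_right]; exact hc
  rw [show a * b * a⁻¹ * b⁻¹ = a * b * (a * b) * (b⁻¹ * (a * a)⁻¹ * b⁻¹⁻¹) * (b * b)⁻¹ by group]
  exact mul_mem (mul_mem (h1 _ (mul_mem ha hb)) (hz _ (inv_mem (h1 a ha)) _ (inv_mem hb))) (inv_mem (h1 b hb))

theorem V0_y {g : G} (hg : g ∈ s.V0) : g * s.y = s.y * g :=
  (commute_clos (g := s.y) (by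
    simp only [List.forall_mem_cons, List.not_mem_nil, false_imp_iff, implies_true, and_true]
    exact s.hL.decide s.rp (by decide +kernel)) g hg).symm

theorem card_Pz : Nat.card s.Pz = 110592 := by
  obtain ⟨-, -, -, -, -, -, h1, -, -, -, h2, -, h3, -⟩ := s.les
  have a : 54 * 2048 ≤ Nat.card s.Pz :=
    mul_le_card_clos (K := s.V0) (h1.trans h2) (fun _ => s.V0_y) s.gKy.2 s.gV0.2.ge
  have b : 1575 * Nat.card s.Pz ≤ Nat.card (clos s.gL) :=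
    mul_le_card_clos (K := s.Pz) (s.L_eq ▸ h3) (fun _ => s.Pz_z) s.gKA.2 le_rfl
  rw [← s.L_eq, s.card] at b
  omega

theorem cent_z {g : G} (hg : g ∈ s.L) (h : g * s.z = s.z * g) : g ∈ s.Pz := by
  refine mem_of_cls (xs := s.gL) (s.L_eq ▸ s.les.2.2.2.2.2.2.2.2.2.2.2.2.1) (fun _ => s.Pz_z) ?_ g (s.L_eq ▸ hg) h
  have := s.gKA.2
  rw [← s.L_eq, s.card, s.card_Pz]
  exact (congrArg (· * 110592) this).ge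

theorem cent_yz {g : G} (hg : g ∈ s.L) (h : g * s.z = s.z * g) (h' : g * s.y = s.y * g) : g ∈ s.V0 := by
  obtain ⟨-, -, -, -, -, -, h1, -, -, -, h2, -⟩ := s.les
  refine mem_of_cls (xs := s.gP) (h1.trans h2) (fun _ => s.V0_y) ?_ g (s.cent_z hg h) h'
  have := s.gKy.2
  rw [s.gV0.2]
  exact s.card_Pz.le.trans (congrArg (· * 2048) this).ge

theorem cenL {g : G} (hg : g ∈ s.L) (h : ∀ l ∈ s.L, g * l = l * g) : g = 1 := by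
  have k : ∀ g ∈ s.V0, g * s.x2 = s.x2 * g → g * s.m2 = s.m2 * g → g * s.x1 = s.x1 * g → g * s.x3 = s.x3 * g →
      g * s.x4 = s.x4 * g → g = 1 := s.hL.decide s.rp (by decide +kernel)
  have m := s.mem_L
  exact k g (s.cent_yz hg (h _ (m _ (by simp))) (h _ (m _ (by simp)))) (h _ (m _ (by simp))) (h _ (m _ (by simp)))
    (h _ (m _ (by simp))) (h _ (m _ (by simp))) (h _ (m _ (by simp)))

theorem sylU : Syl 2 s.U s.L := by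
  obtain ⟨T, hT⟩ := Syl.exists 2 s.L
  have hU : IsPGroup 2 s.U := IsPGroup.of_card (n := 12) s.gU.2
  refine hT.of_card_le hU s.U_le ?_
  obtain ⟨n, hn⟩ := IsPGroup.iff_card.1 hT.pg
  have h := card_dvd_of_le hT.le
  rw [hn, s.card] at h
  rw [hn, s.gU.2]
  by_contra c
  have h2 : 13 ≤ n := by
    by_contra d
    exact c ((Nat.pow_le_pow_right two_pos (by omega : n ≤ 12)).trans (by norm_num))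
  exact absurd ((pow_dvd_pow 2 h2).trans h) (by norm_num)

theorem normU {g : G} (hg : g ∈ s.L) (h : g ∈ 𝐍[s.U]) : g ∈ s.U := by
  have k1 : ∀ b ∈ s.U, b * s.x1 * b⁻¹ * s.x1⁻¹ ∈ s.Z → b * s.x3 * b⁻¹ * s.x3⁻¹ ∈ s.Z → b * s.x4 * b⁻¹ * s.x4⁻¹ ∈ s.Z →
      b * s.x2 * b⁻¹ * s.x2⁻¹ ∈ s.Z → b ∈ s.Z2 := s.hL.decide s.rp (by decide +kernel)
  have k2 : ∀ u ∈ s.U, s.y * u * s.y⁻¹ * u⁻¹ ∈ s.Z := s.hL.decide s.rp (by decide +kernel)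
  have k3 : s.y * s.x2 ≠ s.x2 * s.y ∧ s.y * s.z * s.x2 ≠ s.x2 * (s.y * s.z) ∧ s.z ≠ 1 ∧ s.y ≠ 1 ∧ s.y ≠ s.z ∧
      s.x2 * (s.y * s.z) * s.x2⁻¹ = s.y ∧ s.x2 * s.z * s.x2⁻¹ = s.z := s.hL.decide s.rp (by decide +kernel)
  obtain ⟨l1, l2, l3, l4, -, l5, l6, -, -, -, l7, -⟩ := s.les
  have mU : s.x1 ∈ s.U ∧ s.x3 ∈ s.U ∧ s.x4 ∈ s.U ∧ s.x2 ∈ s.U := by
    refine ⟨?_, ?_, ?_, ?_⟩ <;> exact mem_clos (by simp)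
  have yU : s.y ∈ s.U := l5 (l4 (l3 (l2 s.mems.2.2.2.2.2.2.1)))
  have zU : s.z ∈ s.U := l5 (l4 (l3 (l2 (l1 s.mems.2.2.2.2.2.2.2))))
  have cz : ∀ u ∈ s.U, g * s.z * g⁻¹ * u = u * (g * s.z * g⁻¹) := fun u hu => by
    have := s.Pz_z (l7 (conj_mem_of_norm' h hu))
    rw [show g * s.z * g⁻¹ * u = g * (s.z * (g⁻¹ * u * g)) * g⁻¹ by group, ← this]; group
  have ez : g * s.z * g⁻¹ = s.z := by
    have c : ∀ u ∈ s.U, g * s.z * g⁻¹ * u * (g * s.z * g⁻¹)⁻¹ * u⁻¹ ∈ s.Z := fun u hu => by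
      rw [cz u hu, mul_inv_cancel_right, mul_inv_cancel]; exact one_mem _
    have c2 := cz _ mU.2.2.2
    rcases s.memZ2.1 (k1 _ (conj_mem_of_norm h zU) (c _ mU.1) (c _ mU.2.1) (c _ mU.2.2.1) (c _ mU.2.2.2)) with
      e | e | e | e
    · exact absurd (conj_eq_one.1 e) k3.2.2.1
    · exact e
    · rw [e] at c2; exact absurd c2 k3.1
    · rw [e] at c2; exact absurd c2 k3.2.1
  have c : ∀ u ∈ s.U, g * s.y * g⁻¹ * u * (g * s.y * g⁻¹)⁻¹ * u⁻¹ ∈ s.Z := fun u hu => by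
    rw [show g * s.y * g⁻¹ * u * (g * s.y * g⁻¹)⁻¹ * u⁻¹ =
      g * (s.y * (g⁻¹ * u * g) * s.y⁻¹ * (g⁻¹ * u * g)⁻¹) * g⁻¹ by group]
    rcases s.memZ.1 (k2 _ (conj_mem_of_norm' h hu)) with e | e <;> rw [e]
    · simpa using one_mem s.Z
    · rw [ez]; exact s.mems.2.2.2.2.2.2.2
  rcases s.memZ2.1 (k1 _ (conj_mem_of_norm h yU) (c _ mU.1) (c _ mU.2.1) (c _ mU.2.2.1) (c _ mU.2.2.2)) with
    e | e | e | e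
  · exact absurd (conj_eq_one.1 e) k3.2.2.2.1
  · exact absurd (by simpa using e.trans ez.symm) k3.2.2.2.2.1
  · exact l6 (s.cent_yz hg (mul_inv_eq_iff_eq_mul.1 ez) (mul_inv_eq_iff_eq_mul.1 e))
  · refine (mul_mem_cancel_left mU.2.2.2).1 (l6 (s.cent_yz (mul_mem (s.U_le mU.2.2.2) hg)
      (mul_inv_eq_iff_eq_mul.1 ?_) (mul_inv_eq_iff_eq_mul.1 ?_)))
    · rw [show s.x2 * g * s.z * (s.x2 * g)⁻¹ = s.x2 * (g * s.z * g⁻¹) * s.x2⁻¹ by group, ez, k3.2.2.2.2.2.2]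
    · rw [show s.x2 * g * s.y * (s.x2 * g)⁻¹ = s.x2 * (g * s.y * g⁻¹) * s.x2⁻¹ by group, e, k3.2.2.2.2.2.1]

theorem NA_norm : s.NA ≤ 𝐍[s.A1] := fun g hg => mem_norm_of_cj_le (cj_le_iff.2 (le_normalizer_clos (by
  simp only [List.forall_mem_cons, List.not_mem_nil, false_imp_iff, implies_true, and_true]
  exact s.hL.decide s.rp (by decide +kernel)) hg))

end Fr

end Cfsg.Agent.Tri8
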