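import Mathlib
import Cfsg.Agent.Tri8.Fact

/-! The action of `N(L)`; twisted and conjugated frames. -/

set_option autoImplicit false
set_option linter.unusedSectionVars false
set_option maxRecDepth 100000
set_option synthInstance.maxSize 100000
set_option synthInstance.maxHeartbeats 1000000

namespace Cfsg.Agent.Tri8

open Cfsg Cfsg.Agent.Rec Cfsg.Agent.Spor Cfsg.Agent.Loc.Mss Subgroup

variable {G : Type*} [Group G] [Finite G]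

namespace Act

theorem all3 {p : Fin 3 → Prop} (h0 : p 0) (h1 : p 1) (h2 : p 2) : ∀ i, p i := fun i => by
  fin_cases i
  exacts [h0, h1, h2]

theorem all33 {p : Fin 3 → Fin 3 → Prop} (h01 : p 0 1) (h02 : p 0 2) (h10 : p 1 0) (h12 : p 1 2) (h20 : p 2 0)
    (h21 : p 2 1) : ∀ i j, i ≠ j → p i j :=
  all3 (all3 (fun h => absurd rfl h) (fun _ => h01) fun _ => h02)
    (all3 (fun _ => h10) (fun h => absurd rfl h) fun _ => h12)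
    (all3 (fun _ => h20) (fun _ => h21) fun h => absurd rfl h)

theorem cm {g l a b a' b' c c' : G} (ha : g * a * g⁻¹ = l * a' * l⁻¹) (hb : g * b * g⁻¹ = l * b' * l⁻¹)
    (hc : c = a * b * a⁻¹ * b⁻¹) (hc' : c' = a' * b' * a'⁻¹ * b'⁻¹) : g * c * g⁻¹ = l * c' * l⁻¹ := by
  calc g * c * g⁻¹ = g * a * g⁻¹ * (g * b * g⁻¹) * (g * a * g⁻¹)⁻¹ * (g * b * g⁻¹)⁻¹ := by rw [hc]; group
    _ = _ := by rw [ha, hb, hc']; group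

variable (s : Fr G)

theorem rel : s.k1 = s.x1 * s.x2 * s.x1⁻¹ * s.x2⁻¹ ∧ s.k3 = s.x3 * s.x2 * s.x3⁻¹ * s.x2⁻¹ ∧
    s.k4 = s.x4 * s.x2 * s.x4⁻¹ * s.x2⁻¹ ∧ s.h1 = s.x3 * s.k4 * s.x3⁻¹ * s.k4⁻¹ ∧
    s.h3 = s.x1 * s.k4 * s.x1⁻¹ * s.k4⁻¹ ∧ s.h4 = s.x1 * s.k3 * s.x1⁻¹ * s.k3⁻¹ ∧
    s.y = s.x1 * s.h1 * s.x1⁻¹ * s.h1⁻¹ ∧ s.z = s.x2 * s.y * s.x2⁻¹ * s.y⁻¹ :=
  s.hL.decide s.rp (by decide +kernel)

theorem hZ2 {l : G} (hl : l ∈ s.V0) : ∀ i j, i ≠ j → l * s.h i * l⁻¹ * s.h j ∉ s.Z2 := by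
  have h : ∀ l ∈ s.V0, l * s.h1 * l⁻¹ * s.h3 ∉ s.Z2 ∧ l * s.h1 * l⁻¹ * s.h4 ∉ s.Z2 ∧
      l * s.h3 * l⁻¹ * s.h1 ∉ s.Z2 ∧ l * s.h3 * l⁻¹ * s.h4 ∉ s.Z2 ∧ l * s.h4 * l⁻¹ * s.h1 ∉ s.Z2 ∧
      l * s.h4 * l⁻¹ * s.h3 ∉ s.Z2 := s.hL.decide s.rp (by decide +kernel)
  obtain ⟨h1, h2, h3, h4, h5, h6⟩ := h l hl
  exact all33 h1 h2 h3 h4 h5 h6

theorem xQ {l : G} (hl : l ∈ s.U) : ∀ i j, i ≠ j → l * s.x i * l⁻¹ * (s.x j)⁻¹ ∉ s.Q := by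
  have h : ∀ l ∈ s.U, l * s.x1 * l⁻¹ * s.x3⁻¹ ∉ s.Q ∧ l * s.x1 * l⁻¹ * s.x4⁻¹ ∉ s.Q ∧
      l * s.x3 * l⁻¹ * s.x1⁻¹ ∉ s.Q ∧ l * s.x3 * l⁻¹ * s.x4⁻¹ ∉ s.Q ∧ l * s.x4 * l⁻¹ * s.x1⁻¹ ∉ s.Q ∧
      l * s.x4 * l⁻¹ * s.x3⁻¹ ∉ s.Q := s.hL.decide s.rp (by decide +kernel)
  obtain ⟨h1, h2, h3, h4, h5, h6⟩ := h l hl
  exact all33 h1 h2 h3 h4 h5 h6

theorem memL : (∀ i, s.x i ∈ s.L) ∧ (∀ i, s.m i ∈ s.L) ∧ (∀ i, s.k i ∈ s.L) ∧ (∀ i, s.h i ∈ s.L) ∧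
    s.x2 ∈ s.L ∧ s.m2 ∈ s.L ∧ s.y ∈ s.L ∧ s.z ∈ s.L := by
  have h := s.mem_L
  simp only [List.forall_mem_cons] at h
  obtain ⟨a1, a2, a3, b1, b2, b3, c1, c2, c3, d1, d2, d3, e1, e2, e3, e4, -⟩ := h
  exact ⟨all3 a1 a2 a3, all3 b1 b2 b3, all3 c1 c2 c3, all3 d1 d2 d3, e1, e2, e3, e4⟩

theorem eq_card {A B : Subgroup G} {n : ℕ} (h : A ≤ B) (hA : Nat.card A = n) (hB : Nat.card B = n) : A = B :=
  eq_of_le_of_card_ge h (hB.trans hA.symm).le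

theorem hhh : ∀ i j k : Fin 3, i ≠ j → i ≠ k → j ≠ k → s.h i * s.h j * s.h k = s.h1 * s.h3 * s.h4 := by
  have h : s.h1 * s.h4 * s.h3 = s.h1 * s.h3 * s.h4 ∧ s.h3 * s.h1 * s.h4 = s.h1 * s.h3 * s.h4 ∧
      s.h3 * s.h4 * s.h1 = s.h1 * s.h3 * s.h4 ∧ s.h4 * s.h1 * s.h3 = s.h1 * s.h3 * s.h4 ∧
      s.h4 * s.h3 * s.h1 = s.h1 * s.h3 * s.h4 := s.hL.decide s.rp (by decide +kernel)
  obtain ⟨h1, h2, h3, h4, h5⟩ := h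
  intro i j k hij
  revert k
  revert i j
  exact all33 (all3 (fun h => absurd rfl h) (fun _ h => absurd rfl h) fun _ _ => rfl)
    (all3 (fun h => absurd rfl h) (fun _ _ => h1) fun _ h => absurd rfl h)
    (all3 (fun _ h => absurd rfl h) (fun h => absurd rfl h) fun _ _ => h2)
    (all3 (fun _ _ => h3) (fun h => absurd rfl h) fun _ h => absurd rfl h)
    (all3 (fun _ h => absurd rfl h) (fun _ _ => h4) fun h => absurd rfl h)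
    (all3 (fun _ _ => h5) (fun _ h => absurd rfl h) fun h => absurd rfl h)

theorem nrm {g : G} {xs ys : List G} (h : xs.map (fun a => g * a * g⁻¹) = ys) (e : clos ys = clos xs) :
    g ∈ 𝐍[clos xs] := by
  rw [← cj_eq_iff, map_clos, ← e, ← h]; rfl

theorem comm_of {g a : G} (h : g * a * g⁻¹ = a) : g * a = a * g := mul_inv_eq_iff_eq_mul.1 h

theorem conj_of {g a : G} (h : g * a = a * g) : g * a * g⁻¹ = a := mul_inv_eq_iff_eq_mul.2 h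

end Act

namespace Fr

open Act

variable (s : Fr G)

theorem act {g : G} (hg : g ∈ 𝐍[s.L]) : ∃ l ∈ s.L, ∃ σ, s.Ac g l σ := by
  obtain ⟨l, hl, σ, hx, hm, h2, h3⟩ := s.aut g hg
  obtain ⟨a1, a2, a3, a4, a5, a6, a7, a8⟩ := rel s
  obtain ⟨b1, b2, b3, b4, b5, b6, b7, b8⟩ := rel (s.tw σ)
  have k1 := cm (hx 0) h2 a1 b1
  have k3 := cm (hx 1) h2 a2 b2
  have k4 := cm (hx 2) h2 a3 b3
  have h1 := cm (hx 1) k4 a4 b4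
  have hy := cm (hx 0) h1 a7 b7
  exact ⟨l, hl, σ, hx, hm, all3 k1 k3 k4, all3 h1 (cm (hx 0) k4 a5 b5) (cm (hx 0) k3 a6 b6), h2, h3, hy,
    cm h2 hy a8 b8⟩

theorem Ac.self (l : G) : s.Ac l l 1 :=
  ⟨fun _ => rfl, fun _ => rfl, fun _ => rfl, fun _ => rfl, rfl, rfl, rfl, rfl⟩

theorem Ac.mul {s : Fr G} {g l g' l' : G} {σ τ : Equiv.Perm (Fin 3)} (h : s.Ac g l σ) (h' : s.Ac g' l' τ) :
    s.Ac (g * g') (g * l' * g⁻¹ * l) (σ * τ) := by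
  have e : ∀ {u v w : G}, g' * u * g'⁻¹ = l' * v * l'⁻¹ → g * v * g⁻¹ = l * w * l⁻¹ →
      g * g' * u * (g * g')⁻¹ = g * l' * g⁻¹ * l * w * (g * l' * g⁻¹ * l)⁻¹ := fun {u v w} h1 h2 => by
    calc g * g' * u * (g * g')⁻¹ = g * (g' * u * g'⁻¹) * g⁻¹ := by group
      _ = g * l' * g⁻¹ * (g * v * g⁻¹) * (g * l' * g⁻¹)⁻¹ := by rw [h1]; group
      _ = _ := by rw [h2]; group
  exact ⟨fun i => e (h'.x i) (h.x _), fun i => e (h'.m i) (h.m _), fun i => e (h'.k i) (h.k _),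
    fun i => e (h'.h i) (h.h _), e h'.x2 h.x2, e h'.m2 h.m2, e h'.y h.y, e h'.z h.z⟩

theorem Ac.exact {s : Fr G} {g l : G} {σ : Equiv.Perm (Fin 3)} (h : s.Ac g l σ) : s.Ac (l⁻¹ * g) 1 σ := by
  have e : ∀ {u v : G}, g * u * g⁻¹ = l * v * l⁻¹ → l⁻¹ * g * u * (l⁻¹ * g)⁻¹ = 1 * v * 1⁻¹ := fun {u v} h1 => by
    calc l⁻¹ * g * u * (l⁻¹ * g)⁻¹ = l⁻¹ * (g * u * g⁻¹) * l := by group
      _ = _ := by rw [h1]; group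
  exact ⟨fun i => e (h.x i), fun i => e (h.m i), fun i => e (h.k i), fun i => e (h.h i), e h.x2, e h.m2, e h.y, e h.z⟩

theorem Ac.inv {s : Fr G} {g : G} {σ : Equiv.Perm (Fin 3)} (h : s.Ac g 1 σ) : s.Ac g⁻¹ 1 σ⁻¹ := by
  have e : ∀ {u v : G}, g * u * g⁻¹ = 1 * v * 1⁻¹ → g⁻¹ * v * g⁻¹⁻¹ = 1 * u * 1⁻¹ := fun {u v} h1 => by
    calc g⁻¹ * v * g⁻¹⁻¹ = g⁻¹ * (1 * v * 1⁻¹) * g := by group
      _ = _ := by rw [← h1]; group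
  have e' : ∀ {f : Fin 3 → G}, (∀ i, g * f i * g⁻¹ = 1 * f (σ i) * 1⁻¹) →
      ∀ i, g⁻¹ * f i * g⁻¹⁻¹ = 1 * f (σ⁻¹ i) * 1⁻¹ := fun {f} h1 i => by
    have := e (h1 (σ⁻¹ i))
    rwa [show σ (σ⁻¹ i) = i from σ.apply_symm_apply i] at this
  exact ⟨e' h.x, e' h.m, e' h.k, e' h.h, e h.x2, e h.m2, e h.y, e h.z⟩

theorem Ac.inner {s : Fr G} {g l : G} (h : s.Ac g l 1) : ∀ a ∈ s.L, g * a * g⁻¹ = l * a * l⁻¹ := by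
  have h1 := h.exact
  have e : ∀ {u : G}, l⁻¹ * g * u * (l⁻¹ * g)⁻¹ = 1 * u * 1⁻¹ → l⁻¹ * g * u = u * (l⁻¹ * g) := fun {u} h2 =>
    comm_of (by rw [h2]; group)
  intro a ha
  rw [s.L_eq] at ha
  have h2 := conj_of (commute_clos (g := l⁻¹ * g) (by
    simp only [List.forall_mem_cons]
    exact ⟨e (h1.x 0), e (h1.x 1), e (h1.x 2), e (h1.m 0), e (h1.m 1), e (h1.m 2), e h1.x2, e h1.m2, by simp⟩) a ha)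
  calc g * a * g⁻¹ = l * (l⁻¹ * g * a * (l⁻¹ * g)⁻¹) * l⁻¹ := by group
    _ = _ := by rw [h2]

theorem Ac.of_inner {s : Fr G} {g l : G} (h : ∀ a ∈ s.L, g * a * g⁻¹ = l * a * l⁻¹) : s.Ac g l 1 := by
  obtain ⟨a1, a2, a3, a4, a5, a6, a7, a8⟩ := memL s
  exact ⟨fun i => h _ (a1 i), fun i => h _ (a2 i), fun i => h _ (a3 i), fun i => h _ (a4 i), h _ a5, h _ a6,
    h _ a7, h _ a8⟩

theorem Ac.memPz {s : Fr G} {g l : G} {σ : Equiv.Perm (Fin 3)} (h : s.Ac g l σ) (hl : l ∈ s.L) (hz : g * s.z = s.z * g) :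
    l ∈ s.Pz :=
  s.cent_z hl (comm_of (h.z.symm.trans (conj_of hz)))

theorem Ac.memV0 {s : Fr G} {g l : G} {σ : Equiv.Perm (Fin 3)} (h : s.Ac g l σ) (hl : l ∈ s.L) (hz : g * s.z = s.z * g)
    (hy : g * s.y = s.y * g) : l ∈ s.V0 :=
  s.cent_yz hl (comm_of (h.z.symm.trans (conj_of hz))) (comm_of (h.y.symm.trans (conj_of hy)))

theorem Ac.perm {s : Fr G} {g l : G} {σ : Equiv.Perm (Fin 3)} (h : s.Ac g l σ) (hl : l ∈ s.V0) {i j : Fin 3}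
    (hij : g * s.h i * g⁻¹ * s.h j ∈ s.Z2) : σ i = j := by
  rw [h.h] at hij
  exact by_contra fun e => hZ2 s hl _ _ e hij

theorem Ac.act_triv {s : Fr G} {a : G} {ρ : Equiv.Perm (Fin 3)} (h : s.Ac a 1 ρ) (ha : a ∈ s.L) : ρ = 1 ∧ a = 1 := by
  have hV : a ∈ s.V0 := s.cent_yz ha (comm_of (by rw [h.z]; group)) (comm_of (by rw [h.y]; group))
  obtain rfl : ρ = 1 := Equiv.ext fun i => ((Ac.self s a).perm hV (i := i) (j := ρ i) (by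
    rw [h.h, one_mul, inv_one, mul_one, s.sq.2.2.2.1]; exact one_mem _)).symm
  exact ⟨rfl, s.cenL ha fun l hl => comm_of (by rw [h.inner l hl]; group)⟩

theorem Ac.uniq {s : Fr G} {g l l' : G} {σ τ : Equiv.Perm (Fin 3)} (h : s.Ac g l σ) (h' : s.Ac g l' τ) (hl : l ∈ s.L)
    (hl' : l' ∈ s.L) : σ = τ ∧ l = l' := by
  have h1 := h'.exact.mul h.exact.inv
  rw [show l'⁻¹ * g * (l⁻¹ * g)⁻¹ = l'⁻¹ * l by group,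
    show l'⁻¹ * g * 1 * (l'⁻¹ * g)⁻¹ * 1 = 1 by group] at h1
  obtain ⟨h2, h3⟩ := h1.act_triv (mul_mem (inv_mem hl') hl)
  exact ⟨(mul_inv_eq_one.1 h2).symm, (inv_mul_eq_one.1 h3).symm⟩

theorem tw_eq (π : Equiv.Perm (Fin 3)) : (s.tw π).Z = s.Z ∧ (s.tw π).Z2 = s.Z2 ∧ (s.tw π).H5 = s.H5 ∧ (s.tw π).U1 = s.U1 ∧
    (s.tw π).Q = s.Q ∧ (s.tw π).V0 = s.V0 ∧ (s.tw π).U = s.U ∧ (s.tw π).X8 = s.X8 ∧ (s.tw π).Lam = s.Lam ∧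
    (s.tw π).E27 = s.E27 ∧ (s.tw π).Pz = s.Pz ∧ (s.tw π).KA = s.KA ∧
    (s.tw π).h1 * (s.tw π).h3 * (s.tw π).h4 = s.h1 * s.h3 * s.h4 := by
  obtain ⟨mx, mm, mk, mh, m2, -, my, mz⟩ := s.mems
  obtain ⟨l1, l2, l3, l4, l5, l6, l7, l8, l9, -⟩ := s.les
  have mr : ∀ i, s.x i * s.m i ∈ s.E27 :=
    all3 (mem_clos (.head _)) (mem_clos (.tail _ (.head _))) (mem_clos (.tail _ (.tail _ (.head _))))
  have y5 := l2 my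
  have z5 := l2 (l1 mz)
  have eQ : (s.tw π).Q = s.Q := eq_card (clos_le.2 (by
    simp only [List.forall_mem_cons]
    exact ⟨m2, l4 (mk _), l4 (mk _), l4 (mk _), l4 (l3 (mh _)), l4 (l3 (mh _)), l4 (l3 (mh _)), l4 (l3 y5),
      l4 (l3 z5), by simp⟩)) (s.tw π).gQ.2 s.gQ.2
  have eL : (s.tw π).Lam = s.Lam := eq_card (clos_le.2 (by
    simp only [List.forall_mem_cons]
    exact ⟨l9 (mx _), l9 (mx _), l9 (mx _), mm _, mm _, mm _, by simp⟩)) (s.tw π).gLam.2 s.gLam.2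
  refine ⟨rfl, rfl, eq_card (clos_le.2 ?_) (s.tw π).gH5.2 s.gH5.2, eq_card (clos_le.2 ?_) (s.tw π).gU1.2 s.gU1.2,
    eQ, eq_card (clos_le.2 ?_) (s.tw π).gV0.2 s.gV0.2, eq_card (clos_le.2 ?_) (s.tw π).gU.2 s.gU.2,
    eq_card (clos_le.2 ?_) (s.tw π).gX8.2 s.gX8.2, eL, eq_card (clos_le.2 ?_) (s.tw π).gE27.2 s.gE27.2,
    Subgroup.ext fun g => by rw [Pz_eq, Pz_eq, eQ, eL], Set.ext fun g => by rw [KA_iff, KA_iff]; rfl,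
    hhh s _ _ _ (π.injective.ne (by decide)) (π.injective.ne (by decide)) (π.injective.ne (by decide))⟩ <;>
    simp only [List.forall_mem_cons]
  · exact ⟨mh _, mh _, mh _, y5, z5, by simp⟩
  · exact ⟨mk _, mk _, mk _, l3 (mh _), l3 (mh _), l3 (mh _), l3 y5, l3 z5, by simp⟩
  · exact ⟨l8 (mx _), l8 (mx _), l8 (mx _), l5 (mk _), l5 (mk _), l5 (mk _), by simp⟩
  · exact ⟨l7 (l8 (mx _)), l7 (l8 (mx _)), l7 (l8 (mx _)), l6 m2, by simp⟩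
  · exact ⟨mx _, mx _, mx _, by simp⟩
  · exact ⟨mr _, mr _, mr _, by simp⟩

theorem Ac.norm {s : Fr G} {g : G} {σ : Equiv.Perm (Fin 3)} (h : s.Ac g 1 σ) : g ∈ 𝐍[s.L] ∧ g ∈ 𝐍[s.Pz] ∧ g ∈ 𝐍[s.U] ∧
    g ∈ 𝐍[s.V0] ∧ g ∈ 𝐍[s.Q] ∧ g ∈ 𝐍[s.U1] ∧ g ∈ 𝐍[s.H5] ∧ g ∈ 𝐍[s.Lam] ∧ g ∈ 𝐍[s.E27] ∧ g ∈ 𝐍[s.X8] ∧
    g * s.n2 = s.n2 * g := by
  obtain ⟨hx, hm, hk, hh, h2, h3, hy, hz⟩ := h
  simp only [one_mul, inv_one, mul_one] at hx hm hk hh h2 h3 hy hz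
  have hr : ∀ i, g * (s.x i * s.m i) * g⁻¹ = s.x (σ i) * s.m (σ i) := fun i => by rw [← hx, ← hm]; group
  obtain ⟨-, -, e1, e2, e3, e4, e5, e6, e7, e8, e9, -⟩ := s.tw_eq σ
  refine ⟨s.L_eq ▸ nrm ?_ ((s.tw σ).L_eq.symm.trans s.L_eq), nrm ?_ e9, nrm ?_ e5, nrm ?_ e4, nrm ?_ e3, nrm ?_ e2,
    nrm ?_ e1, nrm ?_ e7, nrm ?_ e8, nrm ?_ e6, comm_of ?_⟩
  rotate_right
  · rw [n2, show g * (s.x2 * s.m2 * s.x2) * g⁻¹ = g * s.x2 * g⁻¹ * (g * s.m2 * g⁻¹) * (g * s.x2 * g⁻¹) by group,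
      h2, h3]
  all_goals
    simp only [List.map, x1, x3, x4, m1, m3, m4, k1, k3, k4, h1, Fr.h3, h4, hx, hm, hk, hh, hr, h2, h3, hy, hz]
    rfl

theorem norm_KA {g a : G} (hg : g ∈ 𝐍[s.L]) (ha : a ∈ s.KA) : g * a * g⁻¹ ∈ s.KA := by
  obtain ⟨l, hl, rfl⟩ := s.KA_iff.1 ha
  obtain ⟨l0, hl0, σ, h⟩ := s.act hg
  refine s.KA_iff.2 ⟨g * l * g⁻¹ * l0, mul_mem (conj_mem_of_norm hg hl) hl0, ?_⟩
  calc g * l * g⁻¹ * l0 * s.z * (g * l * g⁻¹ * l0)⁻¹ = g * l * g⁻¹ * (l0 * s.z * l0⁻¹) * (g * l * g⁻¹)⁻¹ := by group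
    _ = _ := by rw [← h.z]; group

theorem exists_sg : ∃ f : 𝐍[s.L] →* Equiv.Perm (Fin 3), ∀ (g : 𝐍[s.L]) (l : G) (σ : Equiv.Perm (Fin 3)), l ∈ s.L → s.Ac g l σ → f g = σ := by
  choose l hl σ h using fun g : 𝐍[s.L] => s.act g.2
  exact ⟨MonoidHom.mk' σ fun a b => ((h (a * b)).uniq ((h a).mul (h b)) (hl _)
    (mul_mem (conj_mem_of_norm a.2 (hl b)) (hl a))).1, fun g l' τ hl' h' => ((h g).uniq h' (hl g) hl').1⟩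

theorem Ac.act_norm {s : Fr G} {g l : G} {σ : Equiv.Perm (Fin 3)} (h : s.Ac g l σ) (hl : l ∈ s.L) : g ∈ 𝐍[s.L] :=
  (mul_mem_cancel_left (inv_mem (le_normalizer hl))).1 h.exact.norm.1

theorem Ac.sq {s : Fr G} {g l : G} {σ : Equiv.Perm (Fin 3)} (h : s.Ac g l σ) (hl : l ∈ s.L) {n : ℕ} (hn : g ^ 2 ^ n = 1) :
    σ * σ = 1 := by
  obtain ⟨f, hf⟩ := s.exists_sg
  have h1 : σ ^ 2 ^ n = 1 := by
    rw [← hf ⟨g, h.act_norm hl⟩ l σ hl h, ← map_pow,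
      show (⟨g, h.act_norm hl⟩ : 𝐍[s.L]) ^ 2 ^ n = 1 from Subtype.ext hn, map_one]
  refine ((by decide : ∀ σ : Equiv.Perm (Fin 3), σ * σ = 1 ∨ σ ^ 3 = 1) σ).elim id fun h3 => ?_
  have h2 := pow_gcd_eq_one.2 ⟨h1, h3⟩
  rw [Nat.Coprime.pow_left n (by decide : Nat.Coprime 2 3), pow_one] at h2
  rw [h2, one_mul]

theorem Ac.memU {s : Fr G} {g l : G} {σ : Equiv.Perm (Fin 3)} (h : s.Ac g l σ) (hl : l ∈ s.L) (hg : g ∈ 𝐍[s.U]) : l ∈ s.U :=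
  s.normU hl (inv_mem_iff.1 ((mul_mem_cancel_right hg).1 h.exact.norm.2.2.1))

theorem Ac.notQ {s : Fr G} {g l : G} {σ : Equiv.Perm (Fin 3)} (h : s.Ac g l σ) (hl : l ∈ s.U) {i : Fin 3} (hi : σ i ≠ i) :
    g * s.x i * g⁻¹ * (s.x i)⁻¹ ∈ s.U ∧ g * s.x i * g⁻¹ * (s.x i)⁻¹ ∉ s.Q := by
  obtain ⟨-, -, -, -, -, -, l7, l8, -⟩ := s.les
  have hx : ∀ j, s.x j ∈ s.U := fun j => l7 (l8 (s.mems.1 j))
  rw [h.x]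
  exact ⟨mul_mem (mul_mem (mul_mem hl (hx _)) (inv_mem hl)) (inv_mem (hx _)), xQ s hl _ _ hi⟩

theorem comm_inner {a b : G} (ha : a ∈ 𝐍[s.L]) (hb : b ∈ 𝐍[s.L])
    (h : a * b * a⁻¹ * b⁻¹ * (a * b * a⁻¹ * b⁻¹) = 1) : ∃ l ∈ s.L, s.Ac (a * b * a⁻¹ * b⁻¹) l 1 := by
  obtain ⟨f, hf⟩ := s.exists_sg
  obtain ⟨l, hl, σ, h1⟩ := s.act (mul_mem (mul_mem (mul_mem ha hb) (inv_mem ha)) (inv_mem hb))
  have h2 := hf (⟨a, ha⟩ * ⟨b, hb⟩ * ⟨a, ha⟩⁻¹ * ⟨b, hb⟩⁻¹) l σ hl h1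
  have h3 := h1.sq hl (n := 1) (by rw [pow_one, pow_two, h])
  rw [map_mul, map_mul, map_mul, map_inv, map_inv] at h2
  rw [← h2] at h3
  rw [(by decide : ∀ p q : Equiv.Perm (Fin 3), p * q * p⁻¹ * q⁻¹ * (p * q * p⁻¹ * q⁻¹) = 1 →
    p * q * p⁻¹ * q⁻¹ = 1) _ _ h3] at h2
  exact ⟨l, hl, h2 ▸ h1⟩

theorem Ac.tw {s : Fr G} {g l : G} {σ : Equiv.Perm (Fin 3)} (h : s.Ac g l σ) (π : Equiv.Perm (Fin 3)) : (s.tw π).Ac g l (π⁻¹ * σ * π) := by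
  have e : ∀ {f : Fin 3 → G}, (∀ i, g * f i * g⁻¹ = l * f (σ i) * l⁻¹) →
      ∀ i, g * f (π i) * g⁻¹ = l * f (π ((π⁻¹ * σ * π) i)) * l⁻¹ := fun {f} h1 i => by
    rw [h1, Equiv.Perm.mul_apply, Equiv.Perm.mul_apply,
      show ∀ j, π (π⁻¹ j) = j from π.apply_symm_apply]
  exact ⟨e h.x, e h.m, e h.k, e h.h, h.x2, h.m2, h.y, h.z⟩

theorem exists_swap {σ : Equiv.Perm (Fin 3)} (h : σ * σ = 1) (h1 : σ ≠ 1) : ∃ π : Equiv.Perm (Fin 3), π⁻¹ * σ * π = Equiv.swap 1 2 := by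
  revert σ; decide

theorem tw_01 : (s.tw (Equiv.swap 0 1)).A1 = s.A3 ∧ (s.tw (Equiv.swap 0 1)).B1 = s.B3 ∧
    (s.tw (Equiv.swap 0 1)).P1 = s.P3 ∧ (s.tw (Equiv.swap 0 1)).h3 * (s.tw (Equiv.swap 0 1)).h4 = s.h1 * s.h4 :=
  ⟨rfl, rfl, rfl, rfl⟩

theorem tw_02 : (s.tw (Equiv.swap 0 2)).A1 = s.A4 ∧ (s.tw (Equiv.swap 0 2)).B1 = s.B4 ∧
    (s.tw (Equiv.swap 0 2)).P1 = s.P4 ∧ (s.tw (Equiv.swap 0 2)).h3 * (s.tw (Equiv.swap 0 2)).h4 = s.h1 * s.h3 := by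
  have h : (s.x4 ∈ s.A4 ∧ s.k4 ∈ s.A4 ∧ s.h3 ∈ s.A4 ∧ s.h1 ∈ s.A4 ∧ s.y ∈ s.A4 ∧ s.z ∈ s.A4) ∧
      (s.x3 * s.x1 ∈ s.B4 ∧ s.k3 * s.k1 ∈ s.B4 ∧ s.h3 * s.h1 ∈ s.B4 ∧ s.h4 ∈ s.B4 ∧ s.y ∈ s.B4 ∧ s.z ∈ s.B4) ∧
      s.h3 * s.h1 = s.h1 * s.h3 := s.hL.decide s.rp (by decide +kernel)
  obtain ⟨⟨a1, a2, a3, a4, a5, a6⟩, ⟨b1, b2, b3, b4, b5, b6⟩, c⟩ := h
  refine ⟨eq_card (clos_le.2 ?_) (s.tw _).gA1.2 s.gA4.2, eq_card (clos_le.2 ?_) (s.tw _).gB1.2 s.gB4.2, rfl, c⟩ <;>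
    simp only [List.forall_mem_cons]
  exacts [⟨a1, a2, a3, a4, a5, a6, by simp⟩, ⟨b1, b2, b3, b4, b5, b6, by simp⟩]

theorem cj_eq (g : G) : (s.cj g).U = cj(g, s.U) ∧ (s.cj g).Q = cj(g, s.Q) ∧ (s.cj g).H5 = cj(g, s.H5) := by
  have e : ∀ {xs ys : List G}, xs.map (fun a => g * a * g⁻¹) = ys → clos ys = cj(g, clos xs) := fun {xs ys} h => by
    rw [map_clos, ← h]; rfl
  exact ⟨e rfl, e rfl, e rfl⟩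

end Fr

end Cfsg.Agent.Tri8
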