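import Mathlib
import Cfsg.Agent.Tri8.Fact

/-! Orders of abelian sections of `U`. -/

set_option autoImplicit false
set_option linter.unusedSectionVars false
set_option maxRecDepth 100000
set_option synthInstance.maxSize 100000
set_option synthInstance.maxHeartbeats 1000000

namespace Cfsg.Agent.Tri8

open Cfsg Cfsg.Agent.Rec Cfsg.Agent.Spor Cfsg.Agent.Loc.Mss Subgroup

variable {G : Type*} [Group G] [Finite G]

namespace Cnt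

theorem card_rel (K H : Subgroup G) : Nat.card (H ⊓ K : Subgroup G) * K.relIndex H = Nat.card H := by
  rw [← inf_relIndex_left, relIndex, ← Nat.card_congr (subgroupOfEquivOfLe (inf_le_left : H ⊓ K ≤ H)).toEquiv,
    card_mul_index]

theorem two_mul_le {H K : Subgroup G} (h : H < K) : 2 * Nat.card H ≤ Nat.card K := by
  obtain ⟨k, hk⟩ := card_dvd_of_le h.le
  have h1 : Nat.card H < Nat.card K := lt_of_le_of_ne (card_le_of_le h.le) fun e =>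
    h.ne (eq_of_le_of_card_ge h.le e.ge)
  have h0 : 0 < Nat.card H := Nat.card_pos
  rw [hk] at h1 ⊢
  have : 2 ≤ k := by by_contra hh; interval_cases k <;> omega
  nlinarith

theorem two {S T : Subgroup G} (h : ∀ a ∈ S, ∀ b ∈ S, a ∈ T ∨ b ∈ T ∨ b * a⁻¹ ∈ T) :
    Nat.card S ≤ 2 * Nat.card (S ⊓ T : Subgroup G) := by
  by_cases hle : S ≤ T
  · rw [inf_eq_left.2 hle]; omega
  obtain ⟨a, ha, haT⟩ := SetLike.not_le_iff_exists.1 hle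
  have e : (S : Set G) ⊆ ((S ⊓ T : Subgroup G) : Set G) ∪ (· * a) '' ((S ⊓ T : Subgroup G) : Set G) := fun b hb => by
    rcases (h a ha b hb).resolve_left haT with h1 | h1
    · exact Or.inl ⟨hb, h1⟩
    · exact Or.inr ⟨b * a⁻¹, mem_inf.2 ⟨mul_mem hb (inv_mem ha), h1⟩, by simp⟩
  have h1 := (Set.ncard_le_ncard e).trans (Set.ncard_union_le _ _)
  have h2 := Set.ncard_image_le (s := ((S ⊓ T : Subgroup G) : Set G)) (f := (· * a))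
  rw [← SetLike.coe_sort_coe, ← SetLike.coe_sort_coe (S ⊓ T), Nat.card_coe_set_eq, Nat.card_coe_set_eq]
  omega

theorem dbl {α : Type*} [DecidableEq α] (A Q Z : Finset α) (r : α → α → Prop) [DecidableRel r] (hA : A ⊆ Q)
    (h1 : ∀ a ∈ A, a ∉ Z → 2 * (Q.filter (r a)).card ≤ Q.card)
    (h2 : ∀ q ∈ Q, A.card ≤ 2 * (A.filter (r · q)).card) (h3 : ∀ q ∈ A, ∀ a ∈ A, r a q) :
    A.card * A.card ≤ Z.card * Q.card := by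
  have e : ∑ a ∈ A, (Q.filter (r a)).card = ∑ q ∈ Q, (A.filter (r · q)).card :=
    Finset.sum_card_bipartiteAbove_eq_sum_card_bipartiteBelow r
  have u : ∑ a ∈ A, 2 * (Q.filter (r a)).card ≤ ∑ a ∈ A, (Q.card + if a ∈ Z then Q.card else 0) :=
    Finset.sum_le_sum fun a ha => by
      split_ifs with h
      · have := Finset.card_filter_le Q (r a); omega
      · exact h1 a ha h
  have l : ∑ q ∈ Q, (A.card + if q ∈ A then A.card else 0) ≤ ∑ q ∈ Q, 2 * (A.filter (r · q)).card :=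
    Finset.sum_le_sum fun q hq => by
      split_ifs with h
      · rw [Finset.filter_true_of_mem (h3 q h)]; omega
      · exact h2 q hq
  rw [← Finset.mul_sum, Finset.sum_add_distrib, Finset.sum_const, ← Finset.sum_filter, Finset.sum_const] at u l
  rw [Finset.filter_mem_eq_inter] at u l
  rw [Finset.inter_eq_right.2 hA] at l
  have := Nat.mul_le_mul_right Q.card (Finset.card_le_card (Finset.inter_subset_right : A ∩ Z ⊆ Z))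
  simp only [smul_eq_mul] at u l
  rw [mul_comm Q.card A.card] at l
  omega

theorem card_filter (K : Subgroup G) (T : Finset G) (h : ∀ x, x ∈ T ↔ x ∈ K) : T.card = Nat.card K :=
  (Nat.subtype_card T h).symm

theorem comm_of_sq {A : Subgroup G} (h2 : ∀ a ∈ A, a * a = 1) : ∀ a ∈ A, ∀ b ∈ A, a * b = b * a := fun a ha b hb => by
  rw [← inv_eq_of_mul_eq_one_right (h2 _ (mul_mem ha hb)), mul_inv_rev, inv_eq_of_mul_eq_one_right (h2 a ha),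
    inv_eq_of_mul_eq_one_right (h2 b hb)]

variable (s : Fr G)

theorem QU : s.Q ≤ s.U := s.les.2.2.2.2.2.1

theorem zc {q c : G} (hq : q ∈ s.U) (hc : q * c * q⁻¹ ∈ s.Z) : c ∈ s.Z := by
  have hz := s.Pz_z (s.les.2.2.2.2.2.2.2.2.2.2.1 hq)
  rcases s.memZ.1 hc with h | h
  · exact s.memZ.2 (Or.inl (conj_eq_one.1 h))
  · exact s.memZ.2 (Or.inr (by rw [mul_inv_eq_iff_eq_mul, ← hz] at h; exact mul_left_cancel h))

theorem red {n : G} (hn : n ∈ s.U) : ∃ a ∈ s.X8, n * a⁻¹ ∈ s.Q ∧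
    ∀ q ∈ s.Q, q * n * q⁻¹ * n⁻¹ ∈ s.Z → q * a * q⁻¹ * a⁻¹ ∈ s.Z := by
  obtain ⟨p, hp, a, ha, rfl⟩ := s.U_eq hn
  refine ⟨a, ha, by simpa using hp, fun q hq h => zc s (QU s hp) ?_⟩
  have := mul_mem (inv_mem (s.Q_comm hq hp).1) h
  convert this using 1
  group

theorem idx {N : Subgroup G} (h : N ≤ s.U) : Nat.card N ≤ 8 * Nat.card (N ⊓ s.Q : Subgroup G) := by
  have h1 := card_rel s.Q s.U
  rw [inf_eq_right.2 (QU s), s.gQ.2, s.gU.2] at h1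
  have h2 := relIndex_le_of_le_right (H := s.Q) h (by omega)
  rw [← card_rel s.Q N, mul_comm]
  exact Nat.mul_le_mul_right _ (by omega)

theorem cnt {n : G} (hn : n ∈ s.U) (hQ : n ∉ s.Q) {T : Subgroup G} (hT : T ≤ s.Q)
    (h : ∀ q ∈ T, q * n * q⁻¹ * n⁻¹ ∈ s.Z) : Nat.card T ≤ 32 := by
  obtain ⟨a, ha, h1, h2⟩ := red s hn
  refine (card_le_ncard fun q hq => ?_).trans
    (s.hL.all_count s.rp s.gX8.1 s.gQ.1 (fun a => a ≠ 1) (fun a q => q * a * q⁻¹ * a⁻¹ ∈ s.Z) 32 (by decide +kernel)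
      a ha fun e => hQ (by simpa [e] using h1))
  exact ⟨hT hq, h2 q (hT hq) (h q hq)⟩

theorem pair {n n' : G} (hn : n ∈ s.U) (hn' : n' ∈ s.U) (h : ¬ (n ∈ s.Q ∨ n' ∈ s.Q ∨ n' * n⁻¹ ∈ s.Q)) {q : G}
    (hq : q ∈ s.Q) (c : q * n * q⁻¹ * n⁻¹ ∈ s.Z) (c' : q * n' * q⁻¹ * n'⁻¹ ∈ s.Z) : q ∈ s.H5 ∧ ∀ p ∈ s.Q,
      p * n * p⁻¹ * n⁻¹ ∈ s.Z → p * n' * p⁻¹ * n'⁻¹ ∈ s.Z → q ∈ s.Z2 ∨ p ∈ s.Z2 ∨ p * q⁻¹ ∈ s.Z2 := by
  obtain ⟨a, ha, h1, h2⟩ := red s hn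
  obtain ⟨b, hb, h3, h4⟩ := red s hn'
  have a1 : a ≠ 1 := fun e => h (Or.inl (by simpa [e] using h1))
  have b1 : b ≠ 1 := fun e => h (Or.inr (Or.inl (by simpa [e] using h3)))
  have ab : a ≠ b := fun e => h (Or.inr (Or.inr (by simpa [e] using mul_mem h3 (inv_mem h1))))
  have d1 := (s.hL.decide s.rp (by decide +kernel) : ∀ a ∈ s.X8, a ≠ 1 → ∀ q ∈ s.Q, q * a * q⁻¹ * a⁻¹ ∈ s.Z →
    ∀ b ∈ s.X8, b ≠ 1 → a ≠ b → q * b * q⁻¹ * b⁻¹ ∈ s.Z → q ∈ s.H5) a ha a1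
  have d2 := (s.hL.decide s.rp (by decide +kernel) : ∀ a ∈ s.X8, a ≠ 1 → ∀ b ∈ s.X8, b ≠ 1 → a ≠ b → ∀ q ∈ s.H5,
    q * a * q⁻¹ * a⁻¹ ∈ s.Z → q * b * q⁻¹ * b⁻¹ ∈ s.Z → ∀ p ∈ s.H5, p * a * p⁻¹ * a⁻¹ ∈ s.Z →
    p * b * p⁻¹ * b⁻¹ ∈ s.Z → q ∈ s.Z2 ∨ p ∈ s.Z2 ∨ p * q⁻¹ ∈ s.Z2) a ha a1 b hb b1 ab
  have hq5 := d1 q hq (h2 q hq c) b hb b1 ab (h4 q hq c')
  exact ⟨hq5, fun p hp e e' => d2 q hq5 (h2 q hq c) (h4 q hq c') p (d1 p hp (h2 p hp e) b hb b1 ab (h4 p hp e'))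
    (h2 p hp e) (h4 p hp e')⟩

theorem half {a : G} (ha : a ∈ s.Q) (hZ : a ∉ s.Z) :
    2 * Nat.card (s.Q ⊓ centralizer {a} : Subgroup G) ≤ Nat.card s.Q := by
  obtain ⟨q, hq, h⟩ := ((s.hL.decide s.rp (by decide +kernel) :
    ∀ a ∈ s.Q, a ∈ s.Z ∨ ∃ q ∈ s.Q, q * a ≠ a * q) a ha).resolve_left hZ
  exact two_mul_le (lt_of_le_of_ne inf_le_left fun e => h (mem_cen.1 (e.ge hq).2))

theorem x2U : s.x2 ∈ s.U := mem_clos (by simp)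

end Cnt

open Cnt

namespace Fr

variable (s : Fr G)

theorem abQ {A : Subgroup G} (h : A ≤ s.Q) (hc : ∀ a ∈ A, ∀ b ∈ A, a * b = b * a) : Nat.card A ≤ 32 := by
  classical
  have := Fintype.ofFinite G
  have c : ∀ K : Subgroup G, (Finset.univ.filter (· ∈ K)).card = Nat.card K := fun K => card_filter K _ (by simp)
  have key := dbl (Finset.univ.filter (· ∈ A)) (Finset.univ.filter (· ∈ s.Q)) (Finset.univ.filter (· ∈ s.Z))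
    (fun a q => q * a = a * q) (fun x hx => by simpa using h (by simpa using hx))
    (fun a ha hZ => by
      rw [c, card_filter (s.Q ⊓ centralizer {a}) _ (by simp [mem_cen])]
      exact half s (h (by simpa using ha)) (by simpa using hZ))
    (fun q hq => by
      rw [c, card_filter (A ⊓ centralizer {q}) _ (by simp [mem_cen, eq_comm])]
      refine two fun a ha b hb => ?_
      have hq' : q ∈ s.Q := by simpa using hq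
      rcases s.memZ.1 (s.Q_comm (h ha) hq').1 with e | e
      · exact Or.inl (mem_cen'.2 (mul_inv_eq_one.1 e))
      rcases s.memZ.1 (s.Q_comm (h hb) hq').1 with e' | e'
      · exact Or.inr (Or.inl (mem_cen'.2 (mul_inv_eq_one.1 e')))
      have e2 : a * q * a⁻¹ = b * q * b⁻¹ := mul_right_cancel (e.trans e'.symm)
      refine Or.inr (Or.inr (mem_cen'.2 ?_))
      rw [show b * a⁻¹ = a⁻¹ * b from hc _ hb _ (inv_mem ha)]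
      calc _ = a⁻¹ * (b * q * b⁻¹) * a := by group
        _ = q := by rw [← e2]; group)
    (fun q hq a ha => hc _ (by simpa using hq) _ (by simpa using ha))
  rw [c, c, c, s.gZ.2, s.gQ.2] at key
  nlinarith

theorem smallN {N : Subgroup G} (h : N ≤ s.U) (hc : ∀ a ∈ N, ∀ b ∈ N, a * b * a⁻¹ * b⁻¹ ∈ s.Z) (hQ : ¬ N ≤ s.Q) :
    Nat.card N ≤ 64 := by
  by_cases h2 : ∀ a ∈ N, ∀ b ∈ N, a ∈ s.Q ∨ b ∈ s.Q ∨ b * a⁻¹ ∈ s.Q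
  · obtain ⟨n, hn, hnQ⟩ := SetLike.not_le_iff_exists.1 hQ
    have := two h2
    have := cnt s (h hn) hnQ (inf_le_right : N ⊓ s.Q ≤ s.Q) fun q hq => hc q hq.1 n hn
    omega
  simp only [not_forall] at h2
  obtain ⟨a, ha, b, hb, h2⟩ := h2
  have h3 := two (S := N ⊓ s.Q) (T := s.Z2) fun q hq p hp =>
    (pair s (h ha) (h hb) h2 hq.2 (hc q hq.1 a ha) (hc q hq.1 b hb)).2 p hp.2 (hc p hp.1 a ha) (hc p hp.1 b hb)
  have h4 := card_le_of_le (inf_le_right : N ⊓ s.Q ⊓ s.Z2 ≤ s.Z2)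
  have := idx s h
  rw [s.gZ2.2] at h4
  omega

theorem rankL {A : Subgroup G} (h : A ≤ s.L) (h2 : ∀ a ∈ A, a * a = 1) : Nat.card A ≤ 64 := by
  have : Fact (Nat.Prime 2) := ⟨Nat.prime_two⟩
  obtain ⟨g, -, hg⟩ := s.sylU.conj_le (P := A) (fun a => ⟨1, Subtype.ext (by simpa [pow_two] using h2 a a.2)⟩) h
  rw [← card_cj A g]
  have h3 : ∀ a ∈ cj(g, A), a * a = 1 := by
    rintro _ ⟨a, ha, rfl⟩
    exact conj_sq (h2 a ha)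
  by_cases hQ : cj(g, A) ≤ s.Q
  · exact (s.abQ hQ (comm_of_sq h3)).trans (by norm_num)
  · exact s.smallN hg (fun a ha b hb => by rw [comm_of_sq h3 a ha b hb]; simp) hQ

theorem six {N : Subgroup G} (h : N ≤ s.U) (hn : s.U ≤ 𝐍[N]) (h2 : ∀ a ∈ N, a * a = 1) (hc : Nat.card N = 64) :
    N = s.A1 ∨ N = s.A3 ∨ N = s.A4 ∨ N = s.B1 ∨ N = s.B3 ∨ N = s.B4 := by
  have cm := comm_of_sq h2
  obtain ⟨n, hN, hQ⟩ := SetLike.not_le_iff_exists.1 fun hQ : N ≤ s.Q => by have := s.abQ hQ cm; omega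
  have hx := conj_mem_of_mem_norm (hn (x2U s)) hN
  have d1 := (s.hL.decide s.rp (by decide +kernel) : ∀ n ∈ s.U, n * n = 1 → n ∉ s.Q →
    n * (s.x2 * n * s.x2⁻¹) = s.x2 * n * s.x2⁻¹ * n →
    n ∈ s.A1 ∨ n ∈ s.A3 ∨ n ∈ s.A4 ∨ n ∈ s.B1 ∨ n ∈ s.B3 ∨ n ∈ s.B4) n (h hN) (h2 n hN) hQ (cm _ hN _ hx)
  have d2 := fun a ha => (s.hL.decide s.rp (by decide +kernel) : ∀ a ∈ s.U, a * a = 1 →
    (a ∈ s.A1 ∨ ∀ n ∈ s.A1, n ∉ s.Q → a * n = n * a → a * (s.x2 * n * s.x2⁻¹) ≠ s.x2 * n * s.x2⁻¹ * a) ∧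
    (a ∈ s.A3 ∨ ∀ n ∈ s.A3, n ∉ s.Q → a * n = n * a → a * (s.x2 * n * s.x2⁻¹) ≠ s.x2 * n * s.x2⁻¹ * a) ∧
    (a ∈ s.A4 ∨ ∀ n ∈ s.A4, n ∉ s.Q → a * n = n * a → a * (s.x2 * n * s.x2⁻¹) ≠ s.x2 * n * s.x2⁻¹ * a) ∧
    (a ∈ s.B1 ∨ ∀ n ∈ s.B1, n ∉ s.Q → a * n = n * a → a * (s.x2 * n * s.x2⁻¹) ≠ s.x2 * n * s.x2⁻¹ * a) ∧
    (a ∈ s.B3 ∨ ∀ n ∈ s.B3, n ∉ s.Q → a * n = n * a → a * (s.x2 * n * s.x2⁻¹) ≠ s.x2 * n * s.x2⁻¹ * a) ∧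
    (a ∈ s.B4 ∨ ∀ n ∈ s.B4, n ∉ s.Q → a * n = n * a → a * (s.x2 * n * s.x2⁻¹) ≠ s.x2 * n * s.x2⁻¹ * a))
    a (h ha) (h2 a ha)
  have fin : ∀ S : Subgroup G, Nat.card S = 64 → n ∈ S → (∀ a ∈ N, a ∈ S ∨ ∀ n ∈ S, n ∉ s.Q → a * n = n * a →
      a * (s.x2 * n * s.x2⁻¹) ≠ s.x2 * n * s.x2⁻¹ * a) → N = S := fun S hS hnS k =>
    eq_of_le_of_card_ge (fun a ha => (k a ha).resolve_right fun k' => k' n hnS hQ (cm _ ha _ hN) (cm _ ha _ hx))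
      (by omega)
  exact d1.imp (fun k => fin _ s.gA1.2 k fun a ha => (d2 a ha).1) <|
    Or.imp (fun k => fin _ s.gA3.2 k fun a ha => (d2 a ha).2.1) <|
    Or.imp (fun k => fin _ s.gA4.2 k fun a ha => (d2 a ha).2.2.1) <|
    Or.imp (fun k => fin _ s.gB1.2 k fun a ha => (d2 a ha).2.2.2.1) <|
    Or.imp (fun k => fin _ s.gB3.2 k fun a ha => (d2 a ha).2.2.2.2.1)
      (fun k => fin _ s.gB4.2 k fun a ha => (d2 a ha).2.2.2.2.2)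

theorem sixB {N : Subgroup G} (h : N ≤ s.U) (hn : s.U ≤ 𝐍[N]) (hc : ∀ a ∈ N, ∀ b ∈ N, a * b * a⁻¹ * b⁻¹ ∈ s.Z)
    (h2 : ∀ a ∈ N, a * a ∈ s.Z) {n : G} (hN : n ∈ N) (hQ : n * (s.x3 * s.x4) ∈ s.Q) : N ≤ s.B1 := by
  have hx := conj_mem_of_mem_norm (hn (x2U s)) hN
  have d1 := (s.hL.decide s.rp (by decide +kernel) : ∀ n ∈ s.U, n * n ∈ s.Z → n * (s.x3 * s.x4) ∈ s.Q →
    n ∈ s.B1 ∧ n ∉ s.Q) n (h hN) (h2 n hN) hQ
  intro a ha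
  exact ((s.hL.decide s.rp (by decide +kernel) : ∀ a ∈ s.U, a * a ∈ s.Z → a ∈ s.B1 ∨ ∀ n ∈ s.B1, n ∉ s.Q →
    a * n * a⁻¹ * n⁻¹ ∈ s.Z → a * (s.x2 * n * s.x2⁻¹) * a⁻¹ * (s.x2 * n * s.x2⁻¹)⁻¹ ∉ s.Z) a (h ha)
    (h2 a ha)).resolve_right fun k => k n d1.1 d1.2 (hc _ ha _ hN) (hc _ ha _ hx)

theorem pure {Y : Subgroup G} (h : Y ≤ s.U) (hn : s.U ≤ 𝐍[Y]) (hK : ∀ a ∈ Y, a = 1 ∨ a ∈ s.KA) :
    Y ≤ s.P1 ∨ Y ≤ s.P3 ∨ Y ≤ s.P4 := by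
  obtain ⟨u1, u2⟩ : s.x1 * s.x3 * s.x4 ∈ s.U ∧ s.k1 * s.k3 * s.k4 ∈ s.U := s.hL.decide s.rp (by decide +kernel)
  have d1 := fun c hc => (s.hL.decide s.rp (by decide +kernel) : ∀ c ∈ s.U, (c = 1 ∨ c ∈ s.KA) →
    (c * (s.x1 * s.x3 * s.x4 * c * (s.x1 * s.x3 * s.x4)⁻¹) = 1 ∨
      c * (s.x1 * s.x3 * s.x4 * c * (s.x1 * s.x3 * s.x4)⁻¹) ∈ s.KA) →
    (c * (s.k1 * s.k3 * s.k4 * c * (s.k1 * s.k3 * s.k4)⁻¹) = 1 ∨
      c * (s.k1 * s.k3 * s.k4 * c * (s.k1 * s.k3 * s.k4)⁻¹) ∈ s.KA) →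
    c ∈ s.H5 ∧ (c ∈ s.P1 ∨ c ∈ s.P3 ∨ c ∈ s.P4)) c (h hc) (hK c hc)
    (hK _ (mul_mem hc (conj_mem_of_mem_norm (hn u1) hc))) (hK _ (mul_mem hc (conj_mem_of_mem_norm (hn u2) hc)))
  by_contra hh
  simp only [not_or, SetLike.not_le_iff_exists] at hh
  obtain ⟨⟨a, ha, a1⟩, ⟨b, hb, b1⟩, c, hc, c1⟩ := hh
  exact (s.hL.decide s.rp (by decide +kernel) : ∀ a ∈ s.H5, (a ∈ s.P1 ∨ a ∈ s.P3 ∨ a ∈ s.P4) → a ∉ s.P1 →
    ∀ b ∈ s.H5, (b ∈ s.P1 ∨ b ∈ s.P3 ∨ b ∈ s.P4) → b ∉ s.P3 → (a * b = 1 ∨ a * b ∈ s.KA) →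
    ∀ c ∈ s.H5, (c ∈ s.P1 ∨ c ∈ s.P3 ∨ c ∈ s.P4) → c ∉ s.P4 → ¬ (a * c = 1 ∨ a * c ∈ s.KA))
    a (d1 a ha).1 (d1 a ha).2 a1 b (d1 b hb).1 (d1 b hb).2 b1 (hK _ (mul_mem ha hb)) c (d1 c hc).1 (d1 c hc).2 c1
    (hK _ (mul_mem ha hc))

theorem cent_small {a : G} (ha : a ∈ s.U) (h2 : a * a = 1) (h5 : a ∉ s.H5) :
    Nat.card (s.U ⊓ centralizer {a} : Subgroup G) ≤ 512 := by
  have _ := h2
  have k : ∀ q ∈ (s.U ⊓ centralizer {a} : Subgroup G), q * a * q⁻¹ * a⁻¹ ∈ s.Z ∧ a * q * a⁻¹ * q⁻¹ ∈ s.Z :=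
    fun q hq => ⟨by rw [mem_cen.1 hq.2]; simp, by rw [← mem_cen.1 hq.2]; simp⟩
  by_cases hQ : a ∈ s.Q
  · have h3 := two (S := s.U ⊓ centralizer {a}) (T := s.Q) fun n hn n' hn' => by
      by_contra hh
      exact h5 (pair s hn.1 hn'.1 hh hQ (k n hn).2 (k n' hn').2).1
    have h4 := half s hQ fun hZ => h5 (s.les.2.1 (s.les.1 hZ))
    have h6 := card_le_of_le (show s.U ⊓ centralizer {a} ⊓ s.Q ≤ s.Q ⊓ centralizer {a} from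
      le_inf inf_le_right (inf_le_left.trans inf_le_right))
    rw [s.gQ.2] at h4
    omega
  · have h3 := idx s (inf_le_left : s.U ⊓ centralizer {a} ≤ s.U)
    have h4 := cnt s ha hQ (inf_le_right : s.U ⊓ centralizer {a} ⊓ s.Q ≤ s.Q) fun q hq => (k q hq.1).1
    omega

end Fr

end Cfsg.Agent.Tri8
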