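import Mathlib
import Cfsg.Agent.Rec.B8
import Cfsg.Agent.Rec.Orb
import Cfsg.Agent.Rec.Misc
import Cfsg.Agent.Rec.Sim

/-! Generated by tools/rec: classes of involutions -/

set_option autoImplicit false
set_option maxRecDepth 100000
set_option linter.unusedVariables false
set_option exponentiation.threshold 100000

namespace Cfsg.Agent.Tri8

open Cfsg.Agent.Spor Cfsg.Agent.Rec

universe u

noncomputable def I0_t : ST :=
(.leaf (nat_lit 0x8040201008041221) (nat_lit 0))


theorem I0_ok : orbOK B8.A [(nat_lit 0x8040301008040203), (nat_lit 0xc0402010080c0201), (nat_lit 0x8040201048840201), (nat_lit 0x8040203008040301), (nat_lit 0x80c020100c040201), (nat_lit 0x8448201008040201), (nat_lit 0x8060201008040601)] (nat_lit 0x8040201008041221) I0_t (nat_lit 1) = true := by decide +kernel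

noncomputable def I1_t : ST :=
(.node (nat_lit 0x8070201008041625) (.node (nat_lit 0x804020102824d221) (.node (nat_lit 0x8040201018040281) (.node (nat_lit 0x8040201008245221) (.node (nat_lit 0x8040201008141261) (.leaf (nat_lit 0x8040201008140241) (nat_lit 0))
 (.node (nat_lit 0x8040201008244201) (.leaf (nat_lit 0x8040201008141261) (nat_lit 262))
 (.leaf (nat_lit 0x8040201008244201) (nat_lit 512))
)) (.node (nat_lit 0x8040201008344241) (.leaf (nat_lit 0x8040201008245221) (nat_lit 768))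
 (.node (nat_lit 0x8040201008345261) (.leaf (nat_lit 0x8040201008344241) (nat_lit 259))
 (.leaf (nat_lit 0x8040201008345261) (nat_lit 518))
))) (.node (nat_lit 0x80402010181412e1) (.node (nat_lit 0x80402010180412a1) (.leaf (nat_lit 0x8040201018040281) (nat_lit 513))
 (.node (nat_lit 0x80402010181402c1) (.leaf (nat_lit 0x80402010180412a1) (nat_lit 769))
 (.leaf (nat_lit 0x80402010181402c1) (nat_lit 260))
)) (.node (nat_lit 0x8040201028049221) (.node (nat_lit 0x8040201028048201) (.leaf (nat_lit 0x80402010181412e1) (nat_lit 518))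
 (.leaf (nat_lit 0x8040201028048201) (nat_lit 1025))
) (.node (nat_lit 0x804020102824c201) (.leaf (nat_lit 0x8040201028049221) (nat_lit 1281))
 (.leaf (nat_lit 0x804020102824c201) (nat_lit 772))
)))) (.node (nat_lit 0x8050201018040285) (.node (nat_lit 0x804020103834c2c1) (.node (nat_lit 0x8040201038048281) (.leaf (nat_lit 0x804020102824d221) (nat_lit 1024))
 (.node (nat_lit 0x80402010380492a1) (.leaf (nat_lit 0x8040201038048281) (nat_lit 769))
 (.leaf (nat_lit 0x80402010380492a1) (nat_lit 1025))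
)) (.node (nat_lit 0x8050201008040205) (.node (nat_lit 0x804020103834d2e1) (.leaf (nat_lit 0x804020103834c2c1) (nat_lit 516))
 (.leaf (nat_lit 0x804020103834d2e1) (nat_lit 774))
) (.node (nat_lit 0x8050201008041225) (.leaf (nat_lit 0x8050201008040205) (nat_lit 1026))
 (.leaf (nat_lit 0x8050201008041225) (nat_lit 1282))
))) (.node (nat_lit 0x8060201008041621) (.node (nat_lit 0x80502010180412a5) (.leaf (nat_lit 0x8050201018040285) (nat_lit 773))
 (.node (nat_lit 0x8060201008040601) (.leaf (nat_lit 0x80502010180412a5) (nat_lit 1025))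
 (.leaf (nat_lit 0x8060201008040601) (nat_lit 1538))
)) (.node (nat_lit 0x8060201028049621) (.node (nat_lit 0x8060201028048601) (.leaf (nat_lit 0x8060201008041621) (nat_lit 1794))
 (.leaf (nat_lit 0x8060201028048601) (nat_lit 1285))
) (.node (nat_lit 0x8070201008040605) (.leaf (nat_lit 0x8060201028049621) (nat_lit 1537))
 (.leaf (nat_lit 0x8070201008040605) (nat_lit 1282))
))))) (.node (nat_lit 0xa040201008244a01) (.node (nat_lit 0x9040201008141269) (.node (nat_lit 0x9040201008040209) (.node (nat_lit 0x8070201038048685) (.leaf (nat_lit 0x8070201008041625) (nat_lit 1538))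
 (.node (nat_lit 0x80702010380496a5) (.leaf (nat_lit 0x8070201038048685) (nat_lit 1029))
 (.leaf (nat_lit 0x80702010380496a5) (nat_lit 1281))
)) (.node (nat_lit 0x9040201008041229) (.leaf (nat_lit 0x9040201008040209) (nat_lit 514))
 (.node (nat_lit 0x9040201008140249) (.leaf (nat_lit 0x9040201008041229) (nat_lit 770))
 (.leaf (nat_lit 0x9040201008140249) (nat_lit 261))
))) (.node (nat_lit 0x90502010181402cd) (.node (nat_lit 0x905020100804020d) (.leaf (nat_lit 0x9040201008141269) (nat_lit 518))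
 (.node (nat_lit 0x905020100804122d) (.leaf (nat_lit 0x905020100804020d) (nat_lit 770))
 (.leaf (nat_lit 0x905020100804122d) (nat_lit 1026))
)) (.node (nat_lit 0xa040201008040a01) (.node (nat_lit 0x90502010181412ed) (.leaf (nat_lit 0x90502010181402cd) (nat_lit 517))
 (.leaf (nat_lit 0x90502010181412ed) (nat_lit 774))
) (.node (nat_lit 0xa040201008041a21) (.leaf (nat_lit 0xa040201008040a01) (nat_lit 1026))
 (.leaf (nat_lit 0xa040201008041a21) (nat_lit 1282))
)))) (.node (nat_lit 0xb040201008041a29) (.node (nat_lit 0xa060201008041e21) (.node (nat_lit 0xa040201008245a21) (.leaf (nat_lit 0xa040201008244a01) (nat_lit 773))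
 (.node (nat_lit 0xa060201008040e01) (.leaf (nat_lit 0xa040201008245a21) (nat_lit 1024))
 (.leaf (nat_lit 0xa060201008040e01) (nat_lit 1282))
)) (.node (nat_lit 0xa06020102824de21) (.node (nat_lit 0xa06020102824ce01) (.leaf (nat_lit 0xa060201008041e21) (nat_lit 1538))
 (.leaf (nat_lit 0xa06020102824ce01) (nat_lit 1029))
) (.node (nat_lit 0xb040201008040a09) (.leaf (nat_lit 0xa06020102824de21) (nat_lit 1280))
 (.leaf (nat_lit 0xb040201008040a09) (nat_lit 770))
))) (.node (nat_lit 0xb070201008040e0d) (.node (nat_lit 0xb040201008344a49) (.leaf (nat_lit 0xb040201008041a29) (nat_lit 1026))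
 (.node (nat_lit 0xb040201008345a69) (.leaf (nat_lit 0xb040201008344a49) (nat_lit 517))
 (.leaf (nat_lit 0xb040201008345a69) (nat_lit 774))
)) (.node (nat_lit 0xb07020103834cecd) (.node (nat_lit 0xb070201008041e2d) (.leaf (nat_lit 0xb070201008040e0d) (nat_lit 1026))
 (.leaf (nat_lit 0xb070201008041e2d) (nat_lit 1282))
) (.node (nat_lit 0xb07020103834deed) (.leaf (nat_lit 0xb07020103834cecd) (nat_lit 773))
 (.leaf (nat_lit 0xb07020103834deed) (nat_lit 1030))
))))))

theorem I1_ok : orbOK B8.A [(nat_lit 0x8040301008040203), (nat_lit 0xc0402010080c0201), (nat_lit 0x8040201048840201), (nat_lit 0x8040203008040301), (nat_lit 0x80c020100c040201), (nat_lit 0x8448201008040201), (nat_lit 0x8060201008040601)] (nat_lit 0x8040201008140241) I1_t (nat_lit 54) = true := by decide +kernel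

noncomputable def I2_t : ST :=
(.node (nat_lit 0x904030100804020b) (.node (nat_lit 0x8050301008040207) (.node (nat_lit 0x8040203028048301) (.node (nat_lit 0x804010203834c1c2) (.node (nat_lit 0x8040102008344142) (.leaf (nat_lit 0x8040102008040102) (nat_lit 259))
 (.node (nat_lit 0x8040102038048182) (.leaf (nat_lit 0x8040102008344142) (nat_lit 1541))
 (.leaf (nat_lit 0x8040102038048182) (nat_lit 1029))
)) (.node (nat_lit 0x8040203008040301) (.leaf (nat_lit 0x804010203834c1c2) (nat_lit 1285))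
 (.node (nat_lit 0x8040203008244301) (.leaf (nat_lit 0x8040203008040301) (nat_lit 512))
 (.leaf (nat_lit 0x8040203008244301) (nat_lit 1797))
))) (.node (nat_lit 0x8040301008140243) (.node (nat_lit 0x804020302824c301) (.leaf (nat_lit 0x8040203028048301) (nat_lit 1285))
 (.node (nat_lit 0x8040301008040203) (.leaf (nat_lit 0x804020302824c301) (nat_lit 1541))
 (.leaf (nat_lit 0x8040301008040203) (nat_lit 0))
)) (.node (nat_lit 0x8040301018040283) (.leaf (nat_lit 0x8040301008140243) (nat_lit 1285))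
 (.node (nat_lit 0x80403010181402c3) (.leaf (nat_lit 0x8040301018040283) (nat_lit 773))
 (.leaf (nat_lit 0x80403010181402c3) (nat_lit 1029))
)))) (.node (nat_lit 0x8060203028048701) (.node (nat_lit 0x80503010181412e7) (.node (nat_lit 0x8050301008141267) (.leaf (nat_lit 0x8050301008040207) (nat_lit 262))
 (.node (nat_lit 0x8050301018040287) (.leaf (nat_lit 0x8050301008141267) (nat_lit 1542))
 (.leaf (nat_lit 0x8050301018040287) (nat_lit 514))
)) (.node (nat_lit 0x8060203008040701) (.leaf (nat_lit 0x80503010181412e7) (nat_lit 1286))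
 (.node (nat_lit 0x8060203008245721) (.leaf (nat_lit 0x8060203008040701) (nat_lit 768))
 (.leaf (nat_lit 0x8060203008245721) (nat_lit 2048))
))) (.node (nat_lit 0x8070102008345566) (.node (nat_lit 0x806020302824d721) (.leaf (nat_lit 0x8060203028048701) (nat_lit 1026))
 (.node (nat_lit 0x8070102008040506) (.leaf (nat_lit 0x806020302824d721) (nat_lit 1792))
 (.leaf (nat_lit 0x8070102008040506) (nat_lit 518))
)) (.node (nat_lit 0x8070102038048586) (.leaf (nat_lit 0x8070102008345566) (nat_lit 1798))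
 (.node (nat_lit 0x807010203834d5e6) (.leaf (nat_lit 0x8070102038048586) (nat_lit 770))
 (.leaf (nat_lit 0x807010203834d5e6) (nat_lit 1542))
))))) (.node (nat_lit 0xa060203008040f01) (.node (nat_lit 0x90503010180412af) (.node (nat_lit 0x90403010181412eb) (.node (nat_lit 0x904030100814024b) (.leaf (nat_lit 0x904030100804020b) (nat_lit 772))
 (.node (nat_lit 0x90403010180412ab) (.leaf (nat_lit 0x904030100814024b) (nat_lit 1028))
 (.leaf (nat_lit 0x90403010180412ab) (nat_lit 1281))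
)) (.node (nat_lit 0x905030100804020f) (.leaf (nat_lit 0x90403010181412eb) (nat_lit 1030))
 (.node (nat_lit 0x905030100814126f) (.leaf (nat_lit 0x905030100804020f) (nat_lit 513))
 (.leaf (nat_lit 0x905030100814126f) (nat_lit 1286))
))) (.node (nat_lit 0xa040203008244b01) (.node (nat_lit 0x90503010181402cf) (.leaf (nat_lit 0x90503010180412af) (nat_lit 1538))
 (.node (nat_lit 0xa040203008040b01) (.leaf (nat_lit 0x90503010181402cf) (nat_lit 770))
 (.leaf (nat_lit 0xa040203008040b01) (nat_lit 1284))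
)) (.node (nat_lit 0xa040203028049b21) (.leaf (nat_lit 0xa040203008244b01) (nat_lit 1540))
 (.node (nat_lit 0xa04020302824db21) (.leaf (nat_lit 0xa040203028049b21) (nat_lit 1793))
 (.leaf (nat_lit 0xa04020302824db21) (nat_lit 1536))
)))) (.node (nat_lit 0xb0401020380499aa) (.node (nat_lit 0xa06020302824cf01) (.node (nat_lit 0xa060203008245f21) (.leaf (nat_lit 0xa060203008040f01) (nat_lit 1025))
 (.node (nat_lit 0xa060203028049f21) (.leaf (nat_lit 0xa060203008245f21) (nat_lit 1792))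
 (.leaf (nat_lit 0xa060203028049f21) (nat_lit 2050))
)) (.node (nat_lit 0xb04010200804090a) (.leaf (nat_lit 0xa06020302824cf01) (nat_lit 1282))
 (.node (nat_lit 0xb04010200834494a) (.leaf (nat_lit 0xb04010200804090a) (nat_lit 1028))
 (.leaf (nat_lit 0xb04010200834494a) (nat_lit 1284))
))) (.node (nat_lit 0xb070102008345d6e) (.node (nat_lit 0xb04010203834d9ea) (.leaf (nat_lit 0xb0401020380499aa) (nat_lit 1537))
 (.node (nat_lit 0xb070102008040d0e) (.leaf (nat_lit 0xb04010203834d9ea) (nat_lit 1286))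
 (.leaf (nat_lit 0xb070102008040d0e) (nat_lit 769))
)) (.node (nat_lit 0xb070102038049dae) (.leaf (nat_lit 0xb070102008345d6e) (nat_lit 1542))
 (.node (nat_lit 0xb07010203834cdce) (.leaf (nat_lit 0xb070102038049dae) (nat_lit 1794))
 (.leaf (nat_lit 0xb07010203834cdce) (nat_lit 1026))
))))))

theorem I2_ok : orbOK B8.A [(nat_lit 0x8040301008040203), (nat_lit 0xc0402010080c0201), (nat_lit 0x8040201048840201), (nat_lit 0x8040203008040301), (nat_lit 0x80c020100c040201), (nat_lit 0x8448201008040201), (nat_lit 0x8060201008040601)] (nat_lit 0x8040301008040203) I2_t (nat_lit 48) = true := by decide +kernel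

noncomputable def I3_t : ST :=
(.node (nat_lit 0x80e020100c040601) (.node (nat_lit 0x70b0201004080e0d) (.node (nat_lit 0x509020102428d22d) (.node (nat_lit 0x408020103438c2c1) (.node (nat_lit 0x40802010141802c1) (.leaf (nat_lit 0x4080201004080201) (nat_lit 260))
 (.node (nat_lit 0x408020102428c201) (.leaf (nat_lit 0x40802010141802c1) (nat_lit 1541))
 (.leaf (nat_lit 0x408020102428c201) (nat_lit 1029))
)) (.node (nat_lit 0x509020100408020d) (.leaf (nat_lit 0x408020103438c2c1) (nat_lit 1285))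
 (.node (nat_lit 0x50902010141802cd) (.leaf (nat_lit 0x509020100408020d) (nat_lit 1027))
 (.leaf (nat_lit 0x50902010141802cd) (nat_lit 1283))
))) (.node (nat_lit 0x60a0201014181ee1) (.node (nat_lit 0x509020103438d2ed) (.leaf (nat_lit 0x509020102428d22d) (nat_lit 1536))
 (.node (nat_lit 0x60a0201004080e01) (.leaf (nat_lit 0x509020103438d2ed) (nat_lit 1286))
 (.leaf (nat_lit 0x60a0201004080e01) (nat_lit 518))
)) (.node (nat_lit 0x60a020102428ce01) (.leaf (nat_lit 0x60a0201014181ee1) (nat_lit 1798))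
 (.node (nat_lit 0x60a020103438dee1) (.leaf (nat_lit 0x60a020102428ce01) (nat_lit 770))
 (.leaf (nat_lit 0x60a020103438dee1) (nat_lit 1542))
)))) (.node (nat_lit 0x80c020102c048201) (.node (nat_lit 0x70b020103438cecd) (.node (nat_lit 0x70b0201014181eed) (.leaf (nat_lit 0x70b0201004080e0d) (nat_lit 768))
 (.node (nat_lit 0x70b020102428de2d) (.leaf (nat_lit 0x70b0201014181eed) (nat_lit 1542))
 (.leaf (nat_lit 0x70b020102428de2d) (nat_lit 1794))
)) (.node (nat_lit 0x80c020100c040201) (.leaf (nat_lit 0x70b020103438cecd) (nat_lit 1026))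
 (.node (nat_lit 0x80c020101c040281) (.leaf (nat_lit 0x80c020100c040201) (nat_lit 513))
 (.leaf (nat_lit 0x80c020101c040281) (nat_lit 1797))
))) (.node (nat_lit 0x80d020101c040285) (.node (nat_lit 0x80c020103c048281) (.leaf (nat_lit 0x80c020102c048201) (nat_lit 1285))
 (.node (nat_lit 0x80d020100c040205) (.leaf (nat_lit 0x80c020103c048281) (nat_lit 1541))
 (.leaf (nat_lit 0x80d020100c040205) (nat_lit 1283))
)) (.node (nat_lit 0x80d020102c049225) (.leaf (nat_lit 0x80d020101c040285) (nat_lit 1539))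
 (.node (nat_lit 0x80d020103c0492a5) (.leaf (nat_lit 0x80d020102c049225) (nat_lit 1793))
 (.leaf (nat_lit 0x80d020103c0492a5) (nat_lit 1537))
))))) (.node (nat_lit 0xd0402010080c0209) (.node (nat_lit 0x80f020102c049625) (.node (nat_lit 0x80e020103c0496a1) (.node (nat_lit 0x80e020101c0416a1) (.leaf (nat_lit 0x80e020100c040601) (nat_lit 769))
 (.node (nat_lit 0x80e020102c048601) (.leaf (nat_lit 0x80e020101c0416a1) (nat_lit 2049))
 (.leaf (nat_lit 0x80e020102c048601) (nat_lit 1026))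
)) (.node (nat_lit 0x80f020100c040605) (.leaf (nat_lit 0x80e020103c0496a1) (nat_lit 1793))
 (.node (nat_lit 0x80f020101c0416a5) (.leaf (nat_lit 0x80f020100c040605) (nat_lit 1025))
 (.leaf (nat_lit 0x80f020101c0416a5) (nat_lit 1793))
))) (.node (nat_lit 0xc0402010081c0241) (.node (nat_lit 0x80f020103c048685) (.leaf (nat_lit 0x80f020102c049625) (nat_lit 2050))
 (.node (nat_lit 0xc0402010080c0201) (.leaf (nat_lit 0x80f020103c048685) (nat_lit 1282))
 (.leaf (nat_lit 0xc0402010080c0201) (nat_lit 0))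
)) (.node (nat_lit 0xc0402010082c4201) (.leaf (nat_lit 0xc0402010081c0241) (nat_lit 1285))
 (.node (nat_lit 0xc0402010083c4241) (.leaf (nat_lit 0xc0402010082c4201) (nat_lit 773))
 (.leaf (nat_lit 0xc0402010083c4241) (nat_lit 1029))
)))) (.node (nat_lit 0xe0402010082c4a01) (.node (nat_lit 0xd0402010083c5269) (.node (nat_lit 0xd0402010081c0249) (.leaf (nat_lit 0xd0402010080c0209) (nat_lit 771))
 (.node (nat_lit 0xd0402010082c5229) (.leaf (nat_lit 0xd0402010081c0249) (nat_lit 1027))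
 (.leaf (nat_lit 0xd0402010082c5229) (nat_lit 1280))
)) (.node (nat_lit 0xe0402010080c0a01) (.leaf (nat_lit 0xd0402010083c5269) (nat_lit 1030))
 (.node (nat_lit 0xe0402010081c1a61) (.leaf (nat_lit 0xe0402010080c0a01) (nat_lit 262))
 (.leaf (nat_lit 0xe0402010081c1a61) (nat_lit 1542))
))) (.node (nat_lit 0xf0402010081c1a69) (.node (nat_lit 0xe0402010083c5a61) (.leaf (nat_lit 0xe0402010082c4a01) (nat_lit 514))
 (.node (nat_lit 0xf0402010080c0a09) (.leaf (nat_lit 0xe0402010083c5a61) (nat_lit 1286))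
 (.leaf (nat_lit 0xf0402010080c0a09) (nat_lit 512))
)) (.node (nat_lit 0xf0402010082c5a29) (.leaf (nat_lit 0xf0402010081c1a69) (nat_lit 1286))
 (.node (nat_lit 0xf0402010083c4a49) (.leaf (nat_lit 0xf0402010082c5a29) (nat_lit 1538))
 (.leaf (nat_lit 0xf0402010083c4a49) (nat_lit 770))
))))))

theorem I3_ok : orbOK B8.A [(nat_lit 0x8040301008040203), (nat_lit 0xc0402010080c0201), (nat_lit 0x8040201048840201), (nat_lit 0x8040203008040301), (nat_lit 0x80c020100c040201), (nat_lit 0x8448201008040201), (nat_lit 0x8060201008040601)] (nat_lit 0xc0402010080c0201) I3_t (nat_lit 48) = true := by decide +kernel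

noncomputable def I4_t : ST :=
(.node (nat_lit 0x8040201068848201) (.node (nat_lit 0x3408201040b04a49) (.node (nat_lit 0x1428201060909669) (.node (nat_lit 0x438201070808685) (.node (nat_lit 0x418201050800285) (.leaf (nat_lit 0x408201040800201) (nat_lit 261))
 (.node (nat_lit 0x428201060808601) (.leaf (nat_lit 0x418201050800285) (nat_lit 1027))
 (.leaf (nat_lit 0x428201060808601) (nat_lit 518))
)) (.node (nat_lit 0x1408201040900249) (.leaf (nat_lit 0x438201070808685) (nat_lit 768))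
 (.node (nat_lit 0x14182010509002cd) (.leaf (nat_lit 0x1408201040900249) (nat_lit 1540))
 (.leaf (nat_lit 0x14182010509002cd) (nat_lit 1283))
))) (.node (nat_lit 0x2418201050a05aa5) (.node (nat_lit 0x14382010709096ed) (.leaf (nat_lit 0x1428201060909669) (nat_lit 1798))
 (.node (nat_lit 0x2408201040a04a01) (.leaf (nat_lit 0x14382010709096ed) (nat_lit 1542))
 (.leaf (nat_lit 0x2408201040a04a01) (nat_lit 1028))
)) (.node (nat_lit 0x2428201060a0ce01) (.leaf (nat_lit 0x2418201050a05aa5) (nat_lit 1536))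
 (.node (nat_lit 0x2438201070a0dea5) (.leaf (nat_lit 0x2428201060a0ce01) (nat_lit 769))
 (.leaf (nat_lit 0x2438201070a0dea5) (nat_lit 1793))
)))) (.node (nat_lit 0x8040201048a44201) (.node (nat_lit 0x3438201070b0cecd) (.node (nat_lit 0x3418201050b05aed) (.leaf (nat_lit 0x3408201040b04a49) (nat_lit 1284))
 (.node (nat_lit 0x3428201060b0de69) (.leaf (nat_lit 0x3418201050b05aed) (nat_lit 1286))
 (.leaf (nat_lit 0x3428201060b0de69) (nat_lit 1542))
)) (.node (nat_lit 0x8040201048840201) (.leaf (nat_lit 0x3438201070b0cecd) (nat_lit 1025))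
 (.node (nat_lit 0x8040201048940241) (.leaf (nat_lit 0x8040201048840201) (nat_lit 0))
 (.leaf (nat_lit 0x8040201048940241) (nat_lit 1284))
))) (.node (nat_lit 0x80402010589402c1) (.node (nat_lit 0x8040201048b44241) (.leaf (nat_lit 0x8040201048a44201) (nat_lit 772))
 (.node (nat_lit 0x8040201058840281) (.leaf (nat_lit 0x8040201048b44241) (nat_lit 1028))
 (.leaf (nat_lit 0x8040201058840281) (nat_lit 771))
)) (.node (nat_lit 0x8040201058a452a1) (.leaf (nat_lit 0x80402010589402c1) (nat_lit 1027))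
 (.node (nat_lit 0x8040201058b452e1) (.leaf (nat_lit 0x8040201058a452a1) (nat_lit 1280))
 (.leaf (nat_lit 0x8040201058b452e1) (nat_lit 1030))
))))) (.node (nat_lit 0x9448201008040209) (.node (nat_lit 0x8040201078a4d2a1) (.node (nat_lit 0x8040201068b4d261) (.node (nat_lit 0x8040201068949261) (.leaf (nat_lit 0x8040201068848201) (nat_lit 262))
 (.node (nat_lit 0x8040201068a4c201) (.leaf (nat_lit 0x8040201068949261) (nat_lit 1542))
 (.leaf (nat_lit 0x8040201068a4c201) (nat_lit 513))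
)) (.node (nat_lit 0x8040201078848281) (.leaf (nat_lit 0x8040201068b4d261) (nat_lit 1286))
 (.node (nat_lit 0x80402010789492e1) (.leaf (nat_lit 0x8040201078848281) (nat_lit 512))
 (.leaf (nat_lit 0x80402010789492e1) (nat_lit 1286))
))) (.node (nat_lit 0x8458201008040205) (.node (nat_lit 0x8040201078b4c2c1) (.leaf (nat_lit 0x8040201078a4d2a1) (nat_lit 1537))
 (.node (nat_lit 0x8448201008040201) (.leaf (nat_lit 0x8040201078b4c2c1) (nat_lit 769))
 (.leaf (nat_lit 0x8448201008040201) (nat_lit 514))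
)) (.node (nat_lit 0x8468201008040601) (.leaf (nat_lit 0x8458201008040205) (nat_lit 1283))
 (.node (nat_lit 0x8478201008040605) (.leaf (nat_lit 0x8468201008040601) (nat_lit 770))
 (.leaf (nat_lit 0x8478201008040605) (nat_lit 1026))
)))) (.node (nat_lit 0xa468201008040e01) (.node (nat_lit 0x947820100804162d) (.node (nat_lit 0x945820100804020d) (.leaf (nat_lit 0x9448201008040209) (nat_lit 1796))
 (.node (nat_lit 0x9468201008041629) (.leaf (nat_lit 0x945820100804020d) (nat_lit 1539))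
 (.leaf (nat_lit 0x9468201008041629) (nat_lit 2050))
)) (.node (nat_lit 0xa448201008040a01) (.leaf (nat_lit 0x947820100804162d) (nat_lit 1794))
 (.node (nat_lit 0xa458201008041a25) (.leaf (nat_lit 0xa448201008040a01) (nat_lit 1284))
 (.leaf (nat_lit 0xa458201008041a25) (nat_lit 1794))
))) (.node (nat_lit 0xb458201008041a2d) (.node (nat_lit 0xa478201008041e25) (.leaf (nat_lit 0xa468201008040e01) (nat_lit 1026))
 (.node (nat_lit 0xb448201008040a09) (.leaf (nat_lit 0xa478201008041e25) (nat_lit 2050))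
 (.leaf (nat_lit 0xb448201008040a09) (nat_lit 1540))
)) (.node (nat_lit 0xb468201008041e29) (.leaf (nat_lit 0xb458201008041a2d) (nat_lit 1538))
 (.node (nat_lit 0xb478201008040e0d) (.leaf (nat_lit 0xb468201008041e29) (nat_lit 1794))
 (.leaf (nat_lit 0xb478201008040e0d) (nat_lit 1282))
))))))

theorem I4_ok : orbOK B8.A [(nat_lit 0x8040301008040203), (nat_lit 0xc0402010080c0201), (nat_lit 0x8040201048840201), (nat_lit 0x8040203008040301), (nat_lit 0x80c020100c040201), (nat_lit 0x8448201008040201), (nat_lit 0x8060201008040601)] (nat_lit 0x8040201048840201) I4_t (nat_lit 48) = true := by decide +kernel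

noncomputable def I5_t : ST :=
(.node (nat_lit 0x904030100804123b) (.node (nat_lit 0x8050301008041237) (.node (nat_lit 0x804020302804b321) (.node (nat_lit 0x804010203834e1d2) (.node (nat_lit 0x8040102008346152) (.leaf (nat_lit 0x8040102008042112) (nat_lit 259))
 (.node (nat_lit 0x804010203804a192) (.leaf (nat_lit 0x8040102008346152) (nat_lit 1541))
 (.leaf (nat_lit 0x804010203804a192) (nat_lit 1029))
)) (.node (nat_lit 0x8040203008043321) (.leaf (nat_lit 0x804010203834e1d2) (nat_lit 1285))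
 (.node (nat_lit 0x8040203008247321) (.leaf (nat_lit 0x8040203008043321) (nat_lit 512))
 (.leaf (nat_lit 0x8040203008247321) (nat_lit 1797))
))) (.node (nat_lit 0x8040301008141273) (.node (nat_lit 0x804020302824f321) (.leaf (nat_lit 0x804020302804b321) (nat_lit 1285))
 (.node (nat_lit 0x8040301008041233) (.leaf (nat_lit 0x804020302824f321) (nat_lit 1541))
 (.leaf (nat_lit 0x8040301008041233) (nat_lit 0))
)) (.node (nat_lit 0x80403010180412b3) (.leaf (nat_lit 0x8040301008141273) (nat_lit 1285))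
 (.node (nat_lit 0x80403010181412f3) (.leaf (nat_lit 0x80403010180412b3) (nat_lit 773))
 (.leaf (nat_lit 0x80403010181412f3) (nat_lit 1029))
)))) (.node (nat_lit 0x806020302804b721) (.node (nat_lit 0x80503010181402d7) (.node (nat_lit 0x8050301008140257) (.leaf (nat_lit 0x8050301008041237) (nat_lit 262))
 (.node (nat_lit 0x80503010180412b7) (.leaf (nat_lit 0x8050301008140257) (nat_lit 1542))
 (.leaf (nat_lit 0x80503010180412b7) (nat_lit 514))
)) (.node (nat_lit 0x8060203008043721) (.leaf (nat_lit 0x80503010181402d7) (nat_lit 1286))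
 (.node (nat_lit 0x8060203008246701) (.leaf (nat_lit 0x8060203008043721) (nat_lit 768))
 (.leaf (nat_lit 0x8060203008246701) (nat_lit 2048))
))) (.node (nat_lit 0x8070102008347576) (.node (nat_lit 0x806020302824e701) (.leaf (nat_lit 0x806020302804b721) (nat_lit 1026))
 (.node (nat_lit 0x8070102008042516) (.leaf (nat_lit 0x806020302824e701) (nat_lit 1792))
 (.leaf (nat_lit 0x8070102008042516) (nat_lit 518))
)) (.node (nat_lit 0x807010203804a596) (.leaf (nat_lit 0x8070102008347576) (nat_lit 1798))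
 (.node (nat_lit 0x807010203834f5f6) (.leaf (nat_lit 0x807010203804a596) (nat_lit 770))
 (.leaf (nat_lit 0x807010203834f5f6) (nat_lit 1542))
))))) (.node (nat_lit 0xa060203008043f21) (.node (nat_lit 0x905030101804029f) (.node (nat_lit 0x90403010181402db) (.node (nat_lit 0x904030100814127b) (.leaf (nat_lit 0x904030100804123b) (nat_lit 772))
 (.node (nat_lit 0x904030101804029b) (.leaf (nat_lit 0x904030100814127b) (nat_lit 1028))
 (.leaf (nat_lit 0x904030101804029b) (nat_lit 1281))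
)) (.node (nat_lit 0x905030100804123f) (.leaf (nat_lit 0x90403010181402db) (nat_lit 1030))
 (.node (nat_lit 0x905030100814025f) (.leaf (nat_lit 0x905030100804123f) (nat_lit 513))
 (.leaf (nat_lit 0x905030100814025f) (nat_lit 1286))
))) (.node (nat_lit 0xa040203008247b21) (.node (nat_lit 0x90503010181412ff) (.leaf (nat_lit 0x905030101804029f) (nat_lit 1538))
 (.node (nat_lit 0xa040203008043b21) (.leaf (nat_lit 0x90503010181412ff) (nat_lit 770))
 (.leaf (nat_lit 0xa040203008043b21) (nat_lit 1284))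
)) (.node (nat_lit 0xa04020302804ab01) (.leaf (nat_lit 0xa040203008247b21) (nat_lit 1540))
 (.node (nat_lit 0xa04020302824eb01) (.leaf (nat_lit 0xa04020302804ab01) (nat_lit 1793))
 (.leaf (nat_lit 0xa04020302824eb01) (nat_lit 1536))
)))) (.node (nat_lit 0xb04010203804b9ba) (.node (nat_lit 0xa06020302824ff21) (.node (nat_lit 0xa060203008246f01) (.leaf (nat_lit 0xa060203008043f21) (nat_lit 1025))
 (.node (nat_lit 0xa06020302804af01) (.leaf (nat_lit 0xa060203008246f01) (nat_lit 1792))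
 (.leaf (nat_lit 0xa06020302804af01) (nat_lit 2050))
)) (.node (nat_lit 0xb04010200804291a) (.leaf (nat_lit 0xa06020302824ff21) (nat_lit 1282))
 (.node (nat_lit 0xb04010200834695a) (.leaf (nat_lit 0xb04010200804291a) (nat_lit 1028))
 (.leaf (nat_lit 0xb04010200834695a) (nat_lit 1284))
))) (.node (nat_lit 0xb070102008347d7e) (.node (nat_lit 0xb04010203834f9fa) (.leaf (nat_lit 0xb04010203804b9ba) (nat_lit 1537))
 (.node (nat_lit 0xb070102008042d1e) (.leaf (nat_lit 0xb04010203834f9fa) (nat_lit 1286))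
 (.leaf (nat_lit 0xb070102008042d1e) (nat_lit 769))
)) (.node (nat_lit 0xb07010203804bdbe) (.leaf (nat_lit 0xb070102008347d7e) (nat_lit 1542))
 (.node (nat_lit 0xb07010203834edde) (.leaf (nat_lit 0xb07010203804bdbe) (nat_lit 1794))
 (.leaf (nat_lit 0xb07010203834edde) (nat_lit 1026))
))))))

theorem I5_ok : orbOK B8.A [(nat_lit 0x8040301008040203), (nat_lit 0xc0402010080c0201), (nat_lit 0x8040201048840201), (nat_lit 0x8040203008040301), (nat_lit 0x80c020100c040201), (nat_lit 0x8448201008040201), (nat_lit 0x8060201008040601)] (nat_lit 0x8040301008041233) I5_t (nat_lit 48) = true := by decide +kernel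

noncomputable def I6_t : ST :=
(.node (nat_lit 0x80e020100c041621) (.node (nat_lit 0x70b0201004081e2d) (.node (nat_lit 0x509020102428c20d) (.node (nat_lit 0x408020103438d2e1) (.node (nat_lit 0x40802010141812e1) (.leaf (nat_lit 0x4080201004081221) (nat_lit 260))
 (.node (nat_lit 0x408020102428d221) (.leaf (nat_lit 0x40802010141812e1) (nat_lit 1541))
 (.leaf (nat_lit 0x408020102428d221) (nat_lit 1029))
)) (.node (nat_lit 0x509020100408122d) (.leaf (nat_lit 0x408020103438d2e1) (nat_lit 1285))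
 (.node (nat_lit 0x50902010141812ed) (.leaf (nat_lit 0x509020100408122d) (nat_lit 1027))
 (.leaf (nat_lit 0x50902010141812ed) (nat_lit 1283))
))) (.node (nat_lit 0x60a0201014180ec1) (.node (nat_lit 0x509020103438c2cd) (.leaf (nat_lit 0x509020102428c20d) (nat_lit 1536))
 (.node (nat_lit 0x60a0201004081e21) (.leaf (nat_lit 0x509020103438c2cd) (nat_lit 1286))
 (.leaf (nat_lit 0x60a0201004081e21) (nat_lit 518))
)) (.node (nat_lit 0x60a020102428de21) (.leaf (nat_lit 0x60a0201014180ec1) (nat_lit 1798))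
 (.node (nat_lit 0x60a020103438cec1) (.leaf (nat_lit 0x60a020102428de21) (nat_lit 770))
 (.leaf (nat_lit 0x60a020103438cec1) (nat_lit 1542))
)))) (.node (nat_lit 0x80c020102c049221) (.node (nat_lit 0x70b020103438deed) (.node (nat_lit 0x70b0201014180ecd) (.leaf (nat_lit 0x70b0201004081e2d) (nat_lit 768))
 (.node (nat_lit 0x70b020102428ce0d) (.leaf (nat_lit 0x70b0201014180ecd) (nat_lit 1542))
 (.leaf (nat_lit 0x70b020102428ce0d) (nat_lit 1794))
)) (.node (nat_lit 0x80c020100c041221) (.leaf (nat_lit 0x70b020103438deed) (nat_lit 1026))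
 (.node (nat_lit 0x80c020101c0412a1) (.leaf (nat_lit 0x80c020100c041221) (nat_lit 513))
 (.leaf (nat_lit 0x80c020101c0412a1) (nat_lit 1797))
))) (.node (nat_lit 0x80d020101c0412a5) (.node (nat_lit 0x80c020103c0492a1) (.leaf (nat_lit 0x80c020102c049221) (nat_lit 1285))
 (.node (nat_lit 0x80d020100c041225) (.leaf (nat_lit 0x80c020103c0492a1) (nat_lit 1541))
 (.leaf (nat_lit 0x80d020100c041225) (nat_lit 1283))
)) (.node (nat_lit 0x80d020102c048205) (.leaf (nat_lit 0x80d020101c0412a5) (nat_lit 1539))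
 (.node (nat_lit 0x80d020103c048285) (.leaf (nat_lit 0x80d020102c048205) (nat_lit 1793))
 (.leaf (nat_lit 0x80d020103c048285) (nat_lit 1537))
))))) (.node (nat_lit 0xd0402010080c1229) (.node (nat_lit 0x80f020102c048605) (.node (nat_lit 0x80e020103c048681) (.node (nat_lit 0x80e020101c040681) (.leaf (nat_lit 0x80e020100c041621) (nat_lit 769))
 (.node (nat_lit 0x80e020102c049621) (.leaf (nat_lit 0x80e020101c040681) (nat_lit 2049))
 (.leaf (nat_lit 0x80e020102c049621) (nat_lit 1026))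
)) (.node (nat_lit 0x80f020100c041625) (.leaf (nat_lit 0x80e020103c048681) (nat_lit 1793))
 (.node (nat_lit 0x80f020101c040685) (.leaf (nat_lit 0x80f020100c041625) (nat_lit 1025))
 (.leaf (nat_lit 0x80f020101c040685) (nat_lit 1793))
))) (.node (nat_lit 0xc0402010081c1261) (.node (nat_lit 0x80f020103c0496a5) (.leaf (nat_lit 0x80f020102c048605) (nat_lit 2050))
 (.node (nat_lit 0xc0402010080c1221) (.leaf (nat_lit 0x80f020103c0496a5) (nat_lit 1282))
 (.leaf (nat_lit 0xc0402010080c1221) (nat_lit 0))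
)) (.node (nat_lit 0xc0402010082c5221) (.leaf (nat_lit 0xc0402010081c1261) (nat_lit 1285))
 (.node (nat_lit 0xc0402010083c5261) (.leaf (nat_lit 0xc0402010082c5221) (nat_lit 773))
 (.leaf (nat_lit 0xc0402010083c5261) (nat_lit 1029))
)))) (.node (nat_lit 0xe0402010082c5a21) (.node (nat_lit 0xd0402010083c4249) (.node (nat_lit 0xd0402010081c1269) (.leaf (nat_lit 0xd0402010080c1229) (nat_lit 771))
 (.node (nat_lit 0xd0402010082c4209) (.leaf (nat_lit 0xd0402010081c1269) (nat_lit 1027))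
 (.leaf (nat_lit 0xd0402010082c4209) (nat_lit 1280))
)) (.node (nat_lit 0xe0402010080c1a21) (.leaf (nat_lit 0xd0402010083c4249) (nat_lit 1030))
 (.node (nat_lit 0xe0402010081c0a41) (.leaf (nat_lit 0xe0402010080c1a21) (nat_lit 262))
 (.leaf (nat_lit 0xe0402010081c0a41) (nat_lit 1542))
))) (.node (nat_lit 0xf0402010081c0a49) (.node (nat_lit 0xe0402010083c4a41) (.leaf (nat_lit 0xe0402010082c5a21) (nat_lit 514))
 (.node (nat_lit 0xf0402010080c1a29) (.leaf (nat_lit 0xe0402010083c4a41) (nat_lit 1286))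
 (.leaf (nat_lit 0xf0402010080c1a29) (nat_lit 512))
)) (.node (nat_lit 0xf0402010082c4a09) (.leaf (nat_lit 0xf0402010081c0a49) (nat_lit 1286))
 (.node (nat_lit 0xf0402010083c5a69) (.leaf (nat_lit 0xf0402010082c4a09) (nat_lit 1538))
 (.leaf (nat_lit 0xf0402010083c5a69) (nat_lit 770))
))))))

theorem I6_ok : orbOK B8.A [(nat_lit 0x8040301008040203), (nat_lit 0xc0402010080c0201), (nat_lit 0x8040201048840201), (nat_lit 0x8040203008040301), (nat_lit 0x80c020100c040201), (nat_lit 0x8448201008040201), (nat_lit 0x8060201008040601)] (nat_lit 0xc0402010080c1221) I6_t (nat_lit 48) = true := by decide +kernel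

noncomputable def I7_t : ST :=
(.node (nat_lit 0x8040201068849221) (.node (nat_lit 0x3408201040b05a69) (.node (nat_lit 0x1428201060908649) (.node (nat_lit 0x4382010708096a5) (.node (nat_lit 0x4182010508012a5) (.leaf (nat_lit 0x408201040801221) (nat_lit 261))
 (.node (nat_lit 0x428201060809621) (.leaf (nat_lit 0x4182010508012a5) (nat_lit 1027))
 (.leaf (nat_lit 0x428201060809621) (nat_lit 518))
)) (.node (nat_lit 0x1408201040901269) (.leaf (nat_lit 0x4382010708096a5) (nat_lit 768))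
 (.node (nat_lit 0x14182010509012ed) (.leaf (nat_lit 0x1408201040901269) (nat_lit 1540))
 (.leaf (nat_lit 0x14182010509012ed) (nat_lit 1283))
))) (.node (nat_lit 0x2418201050a04a85) (.node (nat_lit 0x14382010709086cd) (.leaf (nat_lit 0x1428201060908649) (nat_lit 1798))
 (.node (nat_lit 0x2408201040a05a21) (.leaf (nat_lit 0x14382010709086cd) (nat_lit 1542))
 (.leaf (nat_lit 0x2408201040a05a21) (nat_lit 1028))
)) (.node (nat_lit 0x2428201060a0de21) (.leaf (nat_lit 0x2418201050a04a85) (nat_lit 1536))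
 (.node (nat_lit 0x2438201070a0ce85) (.leaf (nat_lit 0x2428201060a0de21) (nat_lit 769))
 (.leaf (nat_lit 0x2438201070a0ce85) (nat_lit 1793))
)))) (.node (nat_lit 0x8040201048a45221) (.node (nat_lit 0x3438201070b0deed) (.node (nat_lit 0x3418201050b04acd) (.leaf (nat_lit 0x3408201040b05a69) (nat_lit 1284))
 (.node (nat_lit 0x3428201060b0ce49) (.leaf (nat_lit 0x3418201050b04acd) (nat_lit 1286))
 (.leaf (nat_lit 0x3428201060b0ce49) (nat_lit 1542))
)) (.node (nat_lit 0x8040201048841221) (.leaf (nat_lit 0x3438201070b0deed) (nat_lit 1025))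
 (.node (nat_lit 0x8040201048941261) (.leaf (nat_lit 0x8040201048841221) (nat_lit 0))
 (.leaf (nat_lit 0x8040201048941261) (nat_lit 1284))
))) (.node (nat_lit 0x80402010589412e1) (.node (nat_lit 0x8040201048b45261) (.leaf (nat_lit 0x8040201048a45221) (nat_lit 772))
 (.node (nat_lit 0x80402010588412a1) (.leaf (nat_lit 0x8040201048b45261) (nat_lit 1028))
 (.leaf (nat_lit 0x80402010588412a1) (nat_lit 771))
)) (.node (nat_lit 0x8040201058a44281) (.leaf (nat_lit 0x80402010589412e1) (nat_lit 1027))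
 (.node (nat_lit 0x8040201058b442c1) (.leaf (nat_lit 0x8040201058a44281) (nat_lit 1280))
 (.leaf (nat_lit 0x8040201058b442c1) (nat_lit 1030))
))))) (.node (nat_lit 0x9448201008041229) (.node (nat_lit 0x8040201078a4c281) (.node (nat_lit 0x8040201068b4c241) (.node (nat_lit 0x8040201068948241) (.leaf (nat_lit 0x8040201068849221) (nat_lit 262))
 (.node (nat_lit 0x8040201068a4d221) (.leaf (nat_lit 0x8040201068948241) (nat_lit 1542))
 (.leaf (nat_lit 0x8040201068a4d221) (nat_lit 513))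
)) (.node (nat_lit 0x80402010788492a1) (.leaf (nat_lit 0x8040201068b4c241) (nat_lit 1286))
 (.node (nat_lit 0x80402010789482c1) (.leaf (nat_lit 0x80402010788492a1) (nat_lit 512))
 (.leaf (nat_lit 0x80402010789482c1) (nat_lit 1286))
))) (.node (nat_lit 0x8458201008041225) (.node (nat_lit 0x8040201078b4d2e1) (.leaf (nat_lit 0x8040201078a4c281) (nat_lit 1537))
 (.node (nat_lit 0x8448201008041221) (.leaf (nat_lit 0x8040201078b4d2e1) (nat_lit 769))
 (.leaf (nat_lit 0x8448201008041221) (nat_lit 514))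
)) (.node (nat_lit 0x8468201008041621) (.leaf (nat_lit 0x8458201008041225) (nat_lit 1283))
 (.node (nat_lit 0x8478201008041625) (.leaf (nat_lit 0x8468201008041621) (nat_lit 770))
 (.leaf (nat_lit 0x8478201008041625) (nat_lit 1026))
)))) (.node (nat_lit 0xa468201008041e21) (.node (nat_lit 0x947820100804060d) (.node (nat_lit 0x945820100804122d) (.leaf (nat_lit 0x9448201008041229) (nat_lit 1796))
 (.node (nat_lit 0x9468201008040609) (.leaf (nat_lit 0x945820100804122d) (nat_lit 1539))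
 (.leaf (nat_lit 0x9468201008040609) (nat_lit 2050))
)) (.node (nat_lit 0xa448201008041a21) (.leaf (nat_lit 0x947820100804060d) (nat_lit 1794))
 (.node (nat_lit 0xa458201008040a05) (.leaf (nat_lit 0xa448201008041a21) (nat_lit 1284))
 (.leaf (nat_lit 0xa458201008040a05) (nat_lit 1794))
))) (.node (nat_lit 0xb458201008040a0d) (.node (nat_lit 0xa478201008040e05) (.leaf (nat_lit 0xa468201008041e21) (nat_lit 1026))
 (.node (nat_lit 0xb448201008041a29) (.leaf (nat_lit 0xa478201008040e05) (nat_lit 2050))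
 (.leaf (nat_lit 0xb448201008041a29) (nat_lit 1540))
)) (.node (nat_lit 0xb468201008040e09) (.leaf (nat_lit 0xb458201008040a0d) (nat_lit 1538))
 (.node (nat_lit 0xb478201008041e2d) (.leaf (nat_lit 0xb468201008040e09) (nat_lit 1794))
 (.leaf (nat_lit 0xb478201008041e2d) (nat_lit 1282))
))))))

theorem I7_ok : orbOK B8.A [(nat_lit 0x8040301008040203), (nat_lit 0xc0402010080c0201), (nat_lit 0x8040201048840201), (nat_lit 0x8040203008040301), (nat_lit 0x80c020100c040201), (nat_lit 0x8448201008040201), (nat_lit 0x8060201008040601)] (nat_lit 0x8040201048841221) I7_t (nat_lit 48) = true := by decide +kernel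

noncomputable def I8_t : ST :=
(.node (nat_lit 0x905020101804029d) (.node (nat_lit 0x8070201008347675) (.node (nat_lit 0x8060201008246601) (.node (nat_lit 0x80502010181402d5) (.node (nat_lit 0x8050201008141275) (.leaf (nat_lit 0x8050201008140255) (nat_lit 0))
 (.leaf (nat_lit 0x8050201008141275) (nat_lit 262))
) (.node (nat_lit 0x80502010181412f5) (.leaf (nat_lit 0x80502010181402d5) (nat_lit 258))
 (.leaf (nat_lit 0x80502010181412f5) (nat_lit 518))
)) (.node (nat_lit 0x806020102824e601) (.node (nat_lit 0x8060201008247621) (.leaf (nat_lit 0x8060201008246601) (nat_lit 512))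
 (.leaf (nat_lit 0x8060201008247621) (nat_lit 768))
) (.node (nat_lit 0x806020102824f621) (.leaf (nat_lit 0x806020102824e601) (nat_lit 768))
 (.node (nat_lit 0x8070201008346655) (.leaf (nat_lit 0x806020102824f621) (nat_lit 1024))
 (.leaf (nat_lit 0x8070201008346655) (nat_lit 518))
)))) (.node (nat_lit 0x90402010180412b9) (.node (nat_lit 0x807020103834f6f5) (.node (nat_lit 0x807020103834e6d5) (.leaf (nat_lit 0x8070201008347675) (nat_lit 259))
 (.leaf (nat_lit 0x807020103834e6d5) (nat_lit 774))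
) (.node (nat_lit 0x9040201018040299) (.leaf (nat_lit 0x807020103834f6f5) (nat_lit 515))
 (.leaf (nat_lit 0x9040201018040299) (nat_lit 772))
)) (.node (nat_lit 0x90402010181412f9) (.node (nat_lit 0x90402010181402d9) (.leaf (nat_lit 0x90402010180412b9) (nat_lit 1025))
 (.leaf (nat_lit 0x90402010181402d9) (nat_lit 516))
) (.node (nat_lit 0x905020100814025d) (.leaf (nat_lit 0x90402010181412f9) (nat_lit 774))
 (.node (nat_lit 0x905020100814127d) (.leaf (nat_lit 0x905020100814025d) (nat_lit 257))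
 (.leaf (nat_lit 0x905020100814127d) (nat_lit 518))
))))) (.node (nat_lit 0xa06020102804be21) (.node (nat_lit 0xa04020102824ea01) (.node (nat_lit 0xa04020102804aa01) (.node (nat_lit 0x90502010180412bd) (.leaf (nat_lit 0x905020101804029d) (nat_lit 514))
 (.leaf (nat_lit 0x90502010180412bd) (nat_lit 770))
) (.node (nat_lit 0xa04020102804ba21) (.leaf (nat_lit 0xa04020102804aa01) (nat_lit 1284))
 (.leaf (nat_lit 0xa04020102804ba21) (nat_lit 1537))
)) (.node (nat_lit 0xa060201008246e01) (.node (nat_lit 0xa04020102824fa21) (.leaf (nat_lit 0xa04020102824ea01) (nat_lit 1028))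
 (.leaf (nat_lit 0xa04020102824fa21) (nat_lit 1280))
) (.node (nat_lit 0xa060201008247e21) (.leaf (nat_lit 0xa060201008246e01) (nat_lit 768))
 (.node (nat_lit 0xa06020102804ae01) (.leaf (nat_lit 0xa060201008247e21) (nat_lit 1024))
 (.leaf (nat_lit 0xa06020102804ae01) (nat_lit 1024))
)))) (.node (nat_lit 0xb04020103834faf9) (.node (nat_lit 0xb04020103804bab9) (.node (nat_lit 0xb04020103804aa99) (.leaf (nat_lit 0xa06020102804be21) (nat_lit 1282))
 (.leaf (nat_lit 0xb04020103804aa99) (nat_lit 1281))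
) (.node (nat_lit 0xb04020103834ead9) (.leaf (nat_lit 0xb04020103804bab9) (nat_lit 1028))
 (.leaf (nat_lit 0xb04020103834ead9) (nat_lit 1030))
)) (.node (nat_lit 0xb070201008347e7d) (.node (nat_lit 0xb070201008346e5d) (.leaf (nat_lit 0xb04020103834faf9) (nat_lit 772))
 (.leaf (nat_lit 0xb070201008346e5d) (nat_lit 774))
) (.node (nat_lit 0xb07020103804ae9d) (.leaf (nat_lit 0xb070201008347e7d) (nat_lit 515))
 (.node (nat_lit 0xb07020103804bebd) (.leaf (nat_lit 0xb07020103804ae9d) (nat_lit 1026))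
 (.leaf (nat_lit 0xb07020103804bebd) (nat_lit 771))
))))))

theorem I8_ok : orbOK B8.A [(nat_lit 0x8040301008040203), (nat_lit 0xc0402010080c0201), (nat_lit 0x8040201048840201), (nat_lit 0x8040203008040301), (nat_lit 0x80c020100c040201), (nat_lit 0x8448201008040201), (nat_lit 0x8060201008040601)] (nat_lit 0x8050201008140255) I8_t (nat_lit 36) = true := by decide +kernel

noncomputable def I9_t : ST :=
(.node (nat_lit 0x905020103834c2cd) (.node (nat_lit 0x80702010180416a5) (.node (nat_lit 0x8060201018040681) (.node (nat_lit 0x8050201038048285) (.node (nat_lit 0x8050201028049225) (.leaf (nat_lit 0x8050201028048205) (nat_lit 1281))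
 (.leaf (nat_lit 0x8050201028049225) (nat_lit 1537))
) (.node (nat_lit 0x80502010380492a5) (.leaf (nat_lit 0x8050201038048285) (nat_lit 1025))
 (.leaf (nat_lit 0x80502010380492a5) (nat_lit 1281))
)) (.node (nat_lit 0x8060201038048681) (.node (nat_lit 0x80602010180416a1) (.leaf (nat_lit 0x8060201018040681) (nat_lit 513))
 (.leaf (nat_lit 0x80602010180416a1) (nat_lit 769))
) (.node (nat_lit 0x80602010380496a1) (.leaf (nat_lit 0x8060201038048681) (nat_lit 769))
 (.node (nat_lit 0x8070201018040685) (.leaf (nat_lit 0x80602010380496a1) (nat_lit 1025))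
 (.leaf (nat_lit 0x8070201018040685) (nat_lit 769))
)))) (.node (nat_lit 0x9040201008245229) (.node (nat_lit 0x8070201028049625) (.node (nat_lit 0x8070201028048605) (.leaf (nat_lit 0x80702010180416a5) (nat_lit 1025))
 (.leaf (nat_lit 0x8070201028048605) (nat_lit 1025))
) (.node (nat_lit 0x9040201008244209) (.leaf (nat_lit 0x8070201028049625) (nat_lit 1282))
 (.leaf (nat_lit 0x9040201008244209) (nat_lit 771))
)) (.node (nat_lit 0x9040201008345269) (.node (nat_lit 0x9040201008344249) (.leaf (nat_lit 0x9040201008245229) (nat_lit 1024))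
 (.leaf (nat_lit 0x9040201008344249) (nat_lit 515))
) (.node (nat_lit 0x905020102824c20d) (.leaf (nat_lit 0x9040201008345269) (nat_lit 774))
 (.node (nat_lit 0x905020102824d22d) (.leaf (nat_lit 0x905020102824c20d) (nat_lit 1028))
 (.leaf (nat_lit 0x905020102824d22d) (nat_lit 1280))
))))) (.node (nat_lit 0xa06020103834dee1) (.node (nat_lit 0xa040201008344a41) (.node (nat_lit 0xa040201008140a41) (.node (nat_lit 0x905020103834d2ed) (.leaf (nat_lit 0x905020103834c2cd) (nat_lit 772))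
 (.leaf (nat_lit 0x905020103834d2ed) (nat_lit 1030))
) (.node (nat_lit 0xa040201008141a61) (.leaf (nat_lit 0xa040201008140a41) (nat_lit 0))
 (.leaf (nat_lit 0xa040201008141a61) (nat_lit 262))
)) (.node (nat_lit 0xa060201018140ec1) (.node (nat_lit 0xa040201008345a61) (.leaf (nat_lit 0xa040201008344a41) (nat_lit 258))
 (.leaf (nat_lit 0xa040201008345a61) (nat_lit 518))
) (.node (nat_lit 0xa060201018141ee1) (.leaf (nat_lit 0xa060201018140ec1) (nat_lit 260))
 (.node (nat_lit 0xa06020103834cec1) (.leaf (nat_lit 0xa060201018141ee1) (nat_lit 518))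
 (.leaf (nat_lit 0xa06020103834cec1) (nat_lit 516))
)))) (.node (nat_lit 0xb040201008245a29) (.node (nat_lit 0xb040201008141a69) (.node (nat_lit 0xb040201008140a49) (.leaf (nat_lit 0xa06020103834dee1) (nat_lit 774))
 (.leaf (nat_lit 0xb040201008140a49) (nat_lit 256))
) (.node (nat_lit 0xb040201008244a09) (.leaf (nat_lit 0xb040201008141a69) (nat_lit 518))
 (.leaf (nat_lit 0xb040201008244a09) (nat_lit 514))
)) (.node (nat_lit 0xb070201018141eed) (.node (nat_lit 0xb070201018140ecd) (.leaf (nat_lit 0xb040201008245a29) (nat_lit 770))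
 (.leaf (nat_lit 0xb070201018140ecd) (nat_lit 516))
) (.node (nat_lit 0xb07020102824ce0d) (.leaf (nat_lit 0xb070201018141eed) (nat_lit 774))
 (.node (nat_lit 0xb07020102824de2d) (.leaf (nat_lit 0xb07020102824ce0d) (nat_lit 772))
 (.leaf (nat_lit 0xb07020102824de2d) (nat_lit 1026))
))))))

theorem I9_ok : orbOK B8.A [(nat_lit 0x8040301008040203), (nat_lit 0xc0402010080c0201), (nat_lit 0x8040201048840201), (nat_lit 0x8040203008040301), (nat_lit 0x80c020100c040201), (nat_lit 0x8448201008040201), (nat_lit 0x8060201008040601)] (nat_lit 0xa040201008140a41) I9_t (nat_lit 36) = true := by decide +kernel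

noncomputable def I10_t : ST :=
(.node (nat_lit 0x90702010381486cd) (.node (nat_lit 0x80402010381492e1) (.node (nat_lit 0x8040201028148241) (.node (nat_lit 0x80402010183442c1) (.node (nat_lit 0x80402010182452a1) (.leaf (nat_lit 0x8040201018244281) (nat_lit 771))
 (.leaf (nat_lit 0x80402010182452a1) (nat_lit 1024))
) (.node (nat_lit 0x80402010183452e1) (.leaf (nat_lit 0x80402010183442c1) (nat_lit 515))
 (.leaf (nat_lit 0x80402010183452e1) (nat_lit 774))
)) (.node (nat_lit 0x804020102834c241) (.node (nat_lit 0x8040201028149261) (.leaf (nat_lit 0x8040201028148241) (nat_lit 0))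
 (.leaf (nat_lit 0x8040201028149261) (nat_lit 262))
) (.node (nat_lit 0x804020102834d261) (.leaf (nat_lit 0x804020102834c241) (nat_lit 257))
 (.node (nat_lit 0x80402010381482c1) (.leaf (nat_lit 0x804020102834d261) (nat_lit 518))
 (.leaf (nat_lit 0x80402010381482c1) (nat_lit 256))
)))) (.node (nat_lit 0x9060201008041629) (.node (nat_lit 0x804020103824d2a1) (.node (nat_lit 0x804020103824c281) (.leaf (nat_lit 0x80402010381492e1) (nat_lit 518))
 (.leaf (nat_lit 0x804020103824c281) (nat_lit 513))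
) (.node (nat_lit 0x9060201008040609) (.leaf (nat_lit 0x804020103824d2a1) (nat_lit 769))
 (.leaf (nat_lit 0x9060201008040609) (nat_lit 514))
)) (.node (nat_lit 0x9060201028149669) (.node (nat_lit 0x9060201028148649) (.leaf (nat_lit 0x9060201008041629) (nat_lit 770))
 (.leaf (nat_lit 0x9060201028148649) (nat_lit 261))
) (.node (nat_lit 0x907020100804060d) (.leaf (nat_lit 0x9060201028149669) (nat_lit 518))
 (.node (nat_lit 0x907020100804162d) (.leaf (nat_lit 0x907020100804060d) (nat_lit 770))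
 (.leaf (nat_lit 0x907020100804162d) (nat_lit 1026))
))))) (.node (nat_lit 0xa07020103824dea5) (.node (nat_lit 0xa050201018244a85) (.node (nat_lit 0xa050201008040a05) (.node (nat_lit 0x90702010381496ed) (.leaf (nat_lit 0x90702010381486cd) (nat_lit 517))
 (.leaf (nat_lit 0x90702010381496ed) (nat_lit 774))
) (.node (nat_lit 0xa050201008041a25) (.leaf (nat_lit 0xa050201008040a05) (nat_lit 1282))
 (.leaf (nat_lit 0xa050201008041a25) (nat_lit 1538))
)) (.node (nat_lit 0xa070201008040e05) (.node (nat_lit 0xa050201018245aa5) (.leaf (nat_lit 0xa050201018244a85) (nat_lit 1029))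
 (.leaf (nat_lit 0xa050201018245aa5) (nat_lit 1280))
) (.node (nat_lit 0xa070201008041e25) (.leaf (nat_lit 0xa070201008040e05) (nat_lit 1026))
 (.node (nat_lit 0xa07020103824ce85) (.leaf (nat_lit 0xa070201008041e25) (nat_lit 1282))
 (.leaf (nat_lit 0xa07020103824ce85) (nat_lit 773))
)))) (.node (nat_lit 0xb050201018345aed) (.node (nat_lit 0xb050201008041a2d) (.node (nat_lit 0xb050201008040a0d) (.leaf (nat_lit 0xa07020103824dea5) (nat_lit 1025))
 (.leaf (nat_lit 0xb050201008040a0d) (nat_lit 1026))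
) (.node (nat_lit 0xb050201018344acd) (.leaf (nat_lit 0xb050201008041a2d) (nat_lit 1282))
 (.leaf (nat_lit 0xb050201018344acd) (nat_lit 773))
)) (.node (nat_lit 0xb060201008041e29) (.node (nat_lit 0xb060201008040e09) (.leaf (nat_lit 0xb050201018345aed) (nat_lit 1030))
 (.leaf (nat_lit 0xb060201008040e09) (nat_lit 770))
) (.node (nat_lit 0xb06020102834ce49) (.leaf (nat_lit 0xb060201008041e29) (nat_lit 1026))
 (.node (nat_lit 0xb06020102834de69) (.leaf (nat_lit 0xb06020102834ce49) (nat_lit 517))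
 (.leaf (nat_lit 0xb06020102834de69) (nat_lit 774))
))))))

theorem I10_ok : orbOK B8.A [(nat_lit 0x8040301008040203), (nat_lit 0xc0402010080c0201), (nat_lit 0x8040201048840201), (nat_lit 0x8040203008040301), (nat_lit 0x80c020100c040201), (nat_lit 0x8448201008040201), (nat_lit 0x8060201008040601)] (nat_lit 0x8040201028148241) I10_t (nat_lit 36) = true := by decide +kernel

noncomputable def I11_t : ST :=
(.node (nat_lit 0x70b0201084787e7d) (.node (nat_lit 0x340c2010f0b0faf9) (.node (nat_lit 0x1824201090606699) (.node (nat_lit 0xc18201050d002d5) (.node (nat_lit 0x804201080400201) (.node (nat_lit 0x42c2010e0808601) (.node (nat_lit 0x41c2010d0800285) (.leaf (nat_lit 0x40c2010c0800201) (nat_lit 773))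
 (.leaf (nat_lit 0x41c2010d0800285) (nat_lit 1539))
) (.node (nat_lit 0x43c2010f0808685) (.leaf (nat_lit 0x42c2010e0808601) (nat_lit 1030))
 (.leaf (nat_lit 0x43c2010f0808685) (nat_lit 1280))
)) (.node (nat_lit 0x824201080606601) (.node (nat_lit 0x814201080500255) (.leaf (nat_lit 0x804201080400201) (nat_lit 517))
 (.leaf (nat_lit 0x814201080500255) (nat_lit 1283))
) (.node (nat_lit 0x834201080707675) (.leaf (nat_lit 0x824201080606601) (nat_lit 774))
 (.node (nat_lit 0xc08201040c00201) (.leaf (nat_lit 0x834201080707675) (nat_lit 1024))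
 (.leaf (nat_lit 0xc08201040c00201) (nat_lit 261))
)))) (.node (nat_lit 0x141c2010c090025d) (.node (nat_lit 0xc38201070f0f6f5) (.node (nat_lit 0xc28201060e0e601) (.leaf (nat_lit 0xc18201050d002d5) (nat_lit 1027))
 (.leaf (nat_lit 0xc28201060e0e601) (nat_lit 518))
) (.node (nat_lit 0x140c2010d09002d9) (.leaf (nat_lit 0xc38201070f0f6f5) (nat_lit 768))
 (.leaf (nat_lit 0x140c2010d09002d9) (nat_lit 1796))
)) (.node (nat_lit 0x143c2010e090967d) (.node (nat_lit 0x142c2010f09096f9) (.leaf (nat_lit 0x141c2010c090025d) (nat_lit 1539))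
 (.leaf (nat_lit 0x142c2010f09096f9) (nat_lit 1793))
) (.node (nat_lit 0x1804201090400299) (.leaf (nat_lit 0x143c2010e090967d) (nat_lit 1798))
 (.node (nat_lit 0x18142010905002cd) (.leaf (nat_lit 0x1804201090400299) (nat_lit 1541))
 (.leaf (nat_lit 0x18142010905002cd) (nat_lit 1795))
))))) (.node (nat_lit 0x243c2010d0a07ea5) (.node (nat_lit 0x1c28201060f0f669) (.node (nat_lit 0x1c08201040d00249) (.node (nat_lit 0x18342010907076ed) (.leaf (nat_lit 0x1824201090606699) (nat_lit 1798))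
 (.leaf (nat_lit 0x18342010907076ed) (nat_lit 2054))
) (.node (nat_lit 0x1c18201050c0029d) (.leaf (nat_lit 0x1c08201040d00249) (nat_lit 1539))
 (.leaf (nat_lit 0x1c18201050c0029d) (nat_lit 1283))
)) (.node (nat_lit 0x240c2010e0a0ea01) (.node (nat_lit 0x1c38201070e0e69d) (.leaf (nat_lit 0x1c28201060f0f669) (nat_lit 1798))
 (.leaf (nat_lit 0x1c38201070e0e69d) (nat_lit 1542))
) (.node (nat_lit 0x241c2010f0a0faa5) (.leaf (nat_lit 0x240c2010e0a0ea01) (nat_lit 1284))
 (.node (nat_lit 0x242c2010c0a06e01) (.leaf (nat_lit 0x241c2010f0a0faa5) (nat_lit 1792))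
 (.leaf (nat_lit 0x242c2010c0a06e01) (nat_lit 1025))
)))) (.node (nat_lit 0x28342010a070de75) (.node (nat_lit 0x28142010a050aa55) (.node (nat_lit 0x28042010a040aa01) (.leaf (nat_lit 0x243c2010d0a07ea5) (nat_lit 2048))
 (.leaf (nat_lit 0x28042010a040aa01) (nat_lit 1029))
) (.node (nat_lit 0x28242010a060ce01) (.leaf (nat_lit 0x28142010a050aa55) (nat_lit 1793))
 (.leaf (nat_lit 0x28242010a060ce01) (nat_lit 1281))
)) (.node (nat_lit 0x2c18201050f05af5) (.node (nat_lit 0x2c08201040e04a01) (.leaf (nat_lit 0x28342010a070de75) (nat_lit 1792))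
 (.leaf (nat_lit 0x2c08201040e04a01) (nat_lit 1026))
) (.node (nat_lit 0x2c28201060c0ae01) (.leaf (nat_lit 0x2c18201050f05af5) (nat_lit 1536))
 (.node (nat_lit 0x2c38201070d0aed5) (.leaf (nat_lit 0x2c28201060c0ae01) (nat_lit 769))
 (.leaf (nat_lit 0x2c38201070d0aed5) (nat_lit 1538))
)))))) (.node (nat_lit 0x48a420102428e601) (.node (nat_lit 0x3c18201050e05abd) (.node (nat_lit 0x38042010b040bab9) (.node (nat_lit 0x342c2010d0b06ed9) (.node (nat_lit 0x341c2010e0b0ea5d) (.leaf (nat_lit 0x340c2010f0b0faf9) (nat_lit 1540))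
 (.leaf (nat_lit 0x341c2010e0b0ea5d) (nat_lit 1542))
) (.node (nat_lit 0x343c2010c0b07e7d) (.leaf (nat_lit 0x342c2010d0b06ed9) (nat_lit 1798))
 (.leaf (nat_lit 0x343c2010c0b07e7d) (nat_lit 1281))
)) (.node (nat_lit 0x38242010b060deb9) (.node (nat_lit 0x38142010b050baed) (.leaf (nat_lit 0x38042010b040bab9) (nat_lit 1285))
 (.leaf (nat_lit 0x38142010b050baed) (nat_lit 1798))
) (.node (nat_lit 0x38342010b070cecd) (.leaf (nat_lit 0x38242010b060deb9) (nat_lit 1542))
 (.node (nat_lit 0x3c08201040f04a49) (.leaf (nat_lit 0x38342010b070cecd) (nat_lit 1537))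
 (.leaf (nat_lit 0x3c08201040f04a49) (nat_lit 1282))
)))) (.node (nat_lit 0x40802010945802c1) (.node (nat_lit 0x3c38201070c0bebd) (.node (nat_lit 0x3c28201060d0be69) (.leaf (nat_lit 0x3c18201050e05abd) (nat_lit 1286))
 (.leaf (nat_lit 0x3c28201060d0be69) (nat_lit 1542))
) (.node (nat_lit 0x4080201084480201) (.leaf (nat_lit 0x3c38201070c0bebd) (nat_lit 1025))
 (.leaf (nat_lit 0x4080201084480201) (nat_lit 260))
)) (.node (nat_lit 0x40802010b478c2c1) (.node (nat_lit 0x40802010a468c201) (.leaf (nat_lit 0x40802010945802c1) (nat_lit 1539))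
 (.leaf (nat_lit 0x40802010a468c201) (nat_lit 1025))
) (.node (nat_lit 0x4884201004080201) (.leaf (nat_lit 0x40802010b478c2c1) (nat_lit 1281))
 (.node (nat_lit 0x48942010141802d5) (.leaf (nat_lit 0x4884201004080201) (nat_lit 770))
 (.leaf (nat_lit 0x48942010141802d5) (nat_lit 1539))
))))) (.node (nat_lit 0x58b420102428f62d) (.node (nat_lit 0x50902010a478d27d) (.node (nat_lit 0x509020108458025d) (.node (nat_lit 0x48b420103438f6f5) (.leaf (nat_lit 0x48a420102428e601) (nat_lit 1026))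
 (.leaf (nat_lit 0x48b420103438f6f5) (nat_lit 1282))
) (.node (nat_lit 0x509020109448029d) (.leaf (nat_lit 0x509020108458025d) (nat_lit 1027))
 (.leaf (nat_lit 0x509020109448029d) (nat_lit 1283))
)) (.node (nat_lit 0x58842010141802d9) (.node (nat_lit 0x50902010b468d2bd) (.leaf (nat_lit 0x50902010a478d27d) (nat_lit 1536))
 (.leaf (nat_lit 0x50902010b468d2bd) (nat_lit 1286))
) (.node (nat_lit 0x589420100408020d) (.leaf (nat_lit 0x58842010141802d9) (nat_lit 1797))
 (.node (nat_lit 0x58a420103438e6d9) (.leaf (nat_lit 0x589420100408020d) (nat_lit 1539))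
 (.leaf (nat_lit 0x58a420103438e6d9) (nat_lit 1798))
)))) (.node (nat_lit 0x60a02010b458bee1) (.node (nat_lit 0x60a0201094787ee1) (.node (nat_lit 0x60a0201084686e01) (.leaf (nat_lit 0x58b420102428f62d) (nat_lit 2048))
 (.leaf (nat_lit 0x60a0201084686e01) (nat_lit 518))
) (.node (nat_lit 0x60a02010a448ae01) (.leaf (nat_lit 0x60a0201094787ee1) (nat_lit 1798))
 (.leaf (nat_lit 0x60a02010a448ae01) (nat_lit 770))
)) (.node (nat_lit 0x689420103438ead5) (.node (nat_lit 0x688420102428ea01) (.leaf (nat_lit 0x60a02010b458bee1) (nat_lit 1542))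
 (.leaf (nat_lit 0x688420102428ea01) (nat_lit 1285))
) (.node (nat_lit 0x68a4201004080e01) (.leaf (nat_lit 0x689420103438ead5) (nat_lit 1542))
 (.node (nat_lit 0x68b4201014181ef5) (.leaf (nat_lit 0x68a4201004080e01) (nat_lit 1030))
 (.leaf (nat_lit 0x68b4201014181ef5) (nat_lit 1798))
))))))) (.node (nat_lit 0xb4cc20103c04bab9) (.node (nat_lit 0x80e02010eca4e601) (.node (nat_lit 0x80c02010dc840281) (.node (nat_lit 0x788420103438faf9) (.node (nat_lit 0x70b02010a458ae5d) (.node (nat_lit 0x70b0201094686e9d) (.leaf (nat_lit 0x70b0201084787e7d) (nat_lit 768))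
 (.leaf (nat_lit 0x70b0201094686e9d) (nat_lit 1542))
) (.node (nat_lit 0x70b02010b448bebd) (.leaf (nat_lit 0x70b02010a458ae5d) (nat_lit 1537))
 (.leaf (nat_lit 0x70b02010b448bebd) (nat_lit 1026))
)) (.node (nat_lit 0x78a4201014181ef9) (.node (nat_lit 0x789420102428fa2d) (.leaf (nat_lit 0x788420103438faf9) (nat_lit 1541))
 (.leaf (nat_lit 0x789420102428fa2d) (nat_lit 1792))
) (.node (nat_lit 0x78b4201004080e0d) (.leaf (nat_lit 0x78a4201014181ef9) (nat_lit 1794))
 (.node (nat_lit 0x80c02010cc840201) (.leaf (nat_lit 0x78b4201004080e0d) (nat_lit 1280))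
 (.leaf (nat_lit 0x80c02010cc840201) (nat_lit 513))
)))) (.node (nat_lit 0x80d02010dc9402d5) (.node (nat_lit 0x80c02010fc848281) (.node (nat_lit 0x80c02010ec848201) (.leaf (nat_lit 0x80c02010dc840281) (nat_lit 1283))
 (.leaf (nat_lit 0x80c02010ec848201) (nat_lit 774))
) (.node (nat_lit 0x80d02010cc940255) (.leaf (nat_lit 0x80c02010fc848281) (nat_lit 1024))
 (.leaf (nat_lit 0x80d02010cc940255) (nat_lit 1283))
)) (.node (nat_lit 0x80d02010fc9492f5) (.node (nat_lit 0x80d02010ec949275) (.leaf (nat_lit 0x80d02010dc9402d5) (nat_lit 1539))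
 (.leaf (nat_lit 0x80d02010ec949275) (nat_lit 1542))
) (.node (nat_lit 0x80e02010cca46601) (.leaf (nat_lit 0x80d02010fc9492f5) (nat_lit 1537))
 (.node (nat_lit 0x80e02010dca476a1) (.leaf (nat_lit 0x80e02010cca46601) (nat_lit 769))
 (.leaf (nat_lit 0x80e02010dca476a1) (nat_lit 1792))
))))) (.node (nat_lit 0x84fc20100c040605) (.node (nat_lit 0x80f02010ecb4e655) (.node (nat_lit 0x80f02010ccb47675) (.node (nat_lit 0x80e02010fca4f6a1) (.leaf (nat_lit 0x80e02010eca4e601) (nat_lit 1026))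
 (.leaf (nat_lit 0x80e02010fca4f6a1) (nat_lit 1536))
) (.node (nat_lit 0x80f02010dcb466d5) (.leaf (nat_lit 0x80f02010ccb47675) (nat_lit 1025))
 (.leaf (nat_lit 0x80f02010dcb466d5) (nat_lit 1542))
)) (.node (nat_lit 0x84cc20100c040201) (.node (nat_lit 0x80f02010fcb4f6f5) (.leaf (nat_lit 0x80f02010ecb4e655) (nat_lit 1286))
 (.leaf (nat_lit 0x80f02010fcb4f6f5) (nat_lit 1282))
) (.node (nat_lit 0x84dc20100c040205) (.leaf (nat_lit 0x84cc20100c040201) (nat_lit 1026))
 (.node (nat_lit 0x84ec20100c040601) (.leaf (nat_lit 0x84dc20100c040205) (nat_lit 1795))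
 (.leaf (nat_lit 0x84ec20100c040601) (nat_lit 1282))
)))) (.node (nat_lit 0x94fc20101c0416bd) (.node (nat_lit 0x94dc20101c04029d) (.node (nat_lit 0x94cc20101c040299) (.leaf (nat_lit 0x84fc20100c040605) (nat_lit 1538))
 (.leaf (nat_lit 0x94cc20101c040299) (nat_lit 2052))
) (.node (nat_lit 0x94ec20101c0416b9) (.leaf (nat_lit 0x94dc20101c04029d) (nat_lit 1795))
 (.leaf (nat_lit 0x94ec20101c0416b9) (nat_lit 2050))
)) (.node (nat_lit 0xa4dc20102c04ba25) (.node (nat_lit 0xa4cc20102c04aa01) (.leaf (nat_lit 0x94fc20101c0416bd) (nat_lit 2050))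
 (.leaf (nat_lit 0xa4cc20102c04aa01) (nat_lit 1540))
) (.node (nat_lit 0xa4ec20102c04ae01) (.leaf (nat_lit 0xa4dc20102c04ba25) (nat_lit 2050))
 (.node (nat_lit 0xa4fc20102c04be25) (.leaf (nat_lit 0xa4ec20102c04ae01) (nat_lit 1282))
 (.leaf (nat_lit 0xa4fc20102c04be25) (nat_lit 2306))
)))))) (.node (nat_lit 0xdc682010082c7629) (.node (nat_lit 0xcc582010081c0255) (.node (nat_lit 0xc040201048cc0201) (.node (nat_lit 0xb4ec20103c04ae99) (.node (nat_lit 0xb4dc20103c04aa9d) (.leaf (nat_lit 0xb4cc20103c04bab9) (nat_lit 1796))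
 (.leaf (nat_lit 0xb4dc20103c04aa9d) (nat_lit 1794))
) (.node (nat_lit 0xb4fc20103c04bebd) (.leaf (nat_lit 0xb4ec20103c04ae99) (nat_lit 2050))
 (.leaf (nat_lit 0xb4fc20103c04bebd) (nat_lit 1538))
)) (.node (nat_lit 0xc040201048ec4201) (.node (nat_lit 0xc040201048dc0241) (.leaf (nat_lit 0xc040201048cc0201) (nat_lit 0))
 (.leaf (nat_lit 0xc040201048dc0241) (nat_lit 1283))
) (.node (nat_lit 0xc040201048fc4241) (.leaf (nat_lit 0xc040201048ec4201) (nat_lit 774))
 (.node (nat_lit 0xcc482010080c0201) (.leaf (nat_lit 0xc040201048fc4241) (nat_lit 1024))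
 (.leaf (nat_lit 0xcc482010080c0201) (nat_lit 514))
)))) (.node (nat_lit 0xd040201058dc02d9) (.node (nat_lit 0xcc782010083c7675) (.node (nat_lit 0xcc682010082c6601) (.leaf (nat_lit 0xcc582010081c0255) (nat_lit 1283))
 (.leaf (nat_lit 0xcc682010082c6601) (nat_lit 770))
) (.node (nat_lit 0xd040201058cc0299) (.leaf (nat_lit 0xcc782010083c7675) (nat_lit 1026))
 (.leaf (nat_lit 0xd040201058cc0299) (nat_lit 1027))
)) (.node (nat_lit 0xd040201058fc52f9) (.node (nat_lit 0xd040201058ec52b9) (.leaf (nat_lit 0xd040201058dc02d9) (nat_lit 771))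
 (.leaf (nat_lit 0xd040201058ec52b9) (nat_lit 1030))
) (.node (nat_lit 0xdc482010080c0209) (.leaf (nat_lit 0xd040201058fc52f9) (nat_lit 1280))
 (.node (nat_lit 0xdc582010081c025d) (.leaf (nat_lit 0xdc482010080c0209) (nat_lit 1283))
 (.leaf (nat_lit 0xdc582010081c025d) (nat_lit 1539))
))))) (.node (nat_lit 0xec782010083c6e55) (.node (nat_lit 0xe040201068ecea01) (.node (nat_lit 0xe040201068ccaa01) (.node (nat_lit 0xdc782010083c665d) (.leaf (nat_lit 0xdc682010082c7629) (nat_lit 1792))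
 (.leaf (nat_lit 0xdc782010083c665d) (nat_lit 1542))
) (.node (nat_lit 0xe040201068dcba61) (.leaf (nat_lit 0xe040201068ccaa01) (nat_lit 513))
 (.leaf (nat_lit 0xe040201068dcba61) (nat_lit 1286))
)) (.node (nat_lit 0xec482010080c0a01) (.node (nat_lit 0xe040201068fcfa61) (.leaf (nat_lit 0xe040201068ecea01) (nat_lit 262))
 (.leaf (nat_lit 0xe040201068fcfa61) (nat_lit 1536))
) (.node (nat_lit 0xec582010081c1a75) (.leaf (nat_lit 0xec482010080c0a01) (nat_lit 774))
 (.node (nat_lit 0xec682010082c6e01) (.leaf (nat_lit 0xec582010081c1a75) (nat_lit 1542))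
 (.leaf (nat_lit 0xec682010082c6e01) (nat_lit 1026))
)))) (.node (nat_lit 0xf040201078fcfaf9) (.node (nat_lit 0xf040201078dcaad9) (.node (nat_lit 0xf040201078ccbab9) (.leaf (nat_lit 0xec782010083c6e55) (nat_lit 1286))
 (.leaf (nat_lit 0xf040201078ccbab9) (nat_lit 769))
) (.node (nat_lit 0xf040201078ecea99) (.leaf (nat_lit 0xf040201078dcaad9) (nat_lit 1537))
 (.leaf (nat_lit 0xf040201078ecea99) (nat_lit 1286))
)) (.node (nat_lit 0xfc582010081c1a7d) (.node (nat_lit 0xfc482010080c0a09) (.leaf (nat_lit 0xf040201078fcfaf9) (nat_lit 512))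
 (.leaf (nat_lit 0xfc482010080c0a09) (nat_lit 1024))
) (.node (nat_lit 0xfc682010082c7e29) (.leaf (nat_lit 0xfc582010081c1a7d) (nat_lit 1538))
 (.node (nat_lit 0xfc782010083c7e7d) (.leaf (nat_lit 0xfc682010082c7e29) (nat_lit 1536))
 (.leaf (nat_lit 0xfc782010083c7e7d) (nat_lit 1282))
))))))))

theorem I11_ok : orbOK B8.A [(nat_lit 0x8040301008040203), (nat_lit 0xc0402010080c0201), (nat_lit 0x8040201048840201), (nat_lit 0x8040203008040301), (nat_lit 0x80c020100c040201), (nat_lit 0x8448201008040201), (nat_lit 0x8060201008040601)] (nat_lit 0xc040201048cc0201) I11_t (nat_lit 144) = true := by decide +kernel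

noncomputable def I12_t : ST :=
(.node (nat_lit 0x8448102008040102) (.node (nat_lit 0x3408102040b0494a) (.node (nat_lit 0x1428102050a055aa) (.node (nat_lit 0x438102070808586) (.node (nat_lit 0x418203070808385) (.node (nat_lit 0x408301040800203) (.node (nat_lit 0x408203040800301) (.leaf (nat_lit 0x408102040800102) (nat_lit 517))
 (.leaf (nat_lit 0x408203040800301) (nat_lit 773))
) (.node (nat_lit 0x418102060808106) (.leaf (nat_lit 0x408301040800203) (nat_lit 261))
 (.leaf (nat_lit 0x418102060808106) (nat_lit 774))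
)) (.node (nat_lit 0x428102050800582) (.node (nat_lit 0x418301050800287) (.leaf (nat_lit 0x418203070808385) (nat_lit 1024))
 (.leaf (nat_lit 0x418301050800287) (nat_lit 1026))
) (.node (nat_lit 0x428203060808701) (.leaf (nat_lit 0x428102050800582) (nat_lit 1029))
 (.node (nat_lit 0x428301070808683) (.leaf (nat_lit 0x428203060808701) (nat_lit 1030))
 (.leaf (nat_lit 0x428301070808683) (nat_lit 768))
)))) (.node (nat_lit 0x1408203040b04349) (.node (nat_lit 0x438301060808607) (.node (nat_lit 0x438203050800785) (.leaf (nat_lit 0x438102070808586) (nat_lit 1280))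
 (.leaf (nat_lit 0x438203050800785) (nat_lit 1283))
) (.node (nat_lit 0x1408102040a0410a) (.leaf (nat_lit 0x438301060808607) (nat_lit 518))
 (.leaf (nat_lit 0x1408102040a0410a) (nat_lit 1284))
)) (.node (nat_lit 0x1418102060a0c10e) (.node (nat_lit 0x140830104090024b) (.leaf (nat_lit 0x1408203040b04349) (nat_lit 1540))
 (.leaf (nat_lit 0x140830104090024b) (nat_lit 1540))
) (.node (nat_lit 0x1418203070b0c3cd) (.leaf (nat_lit 0x1418102060a0c10e) (nat_lit 1025))
 (.node (nat_lit 0x14183010509002cf) (.leaf (nat_lit 0x1418203070b0c3cd) (nat_lit 1281))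
 (.leaf (nat_lit 0x14183010509002cf) (nat_lit 1282))
))))) (.node (nat_lit 0x2418102060909966) (.node (nat_lit 0x1438203050b057ed) (.node (nat_lit 0x14283010709096eb) (.node (nat_lit 0x1428203060b0d769) (.leaf (nat_lit 0x1428102050a055aa) (nat_lit 1792))
 (.leaf (nat_lit 0x1428203060b0d769) (nat_lit 1798))
) (.node (nat_lit 0x1438102070a0d5ae) (.leaf (nat_lit 0x14283010709096eb) (nat_lit 1542))
 (.leaf (nat_lit 0x1438102070a0d5ae) (nat_lit 1793))
)) (.node (nat_lit 0x2408102040900942) (.node (nat_lit 0x143830106090966f) (.leaf (nat_lit 0x1438203050b057ed) (nat_lit 1542))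
 (.leaf (nat_lit 0x143830106090966f) (nat_lit 1798))
) (.node (nat_lit 0x2408203040a04b01) (.leaf (nat_lit 0x2408102040900942) (nat_lit 1541))
 (.node (nat_lit 0x2408301040b04a43) (.leaf (nat_lit 0x2408203040a04b01) (nat_lit 1540))
 (.leaf (nat_lit 0x2408301040b04a43) (nat_lit 1284))
)))) (.node (nat_lit 0x2428203060a0cf01) (.node (nat_lit 0x2418301050b05ae7) (.node (nat_lit 0x2418203070a0dba5) (.leaf (nat_lit 0x2418102060909966) (nat_lit 1798))
 (.leaf (nat_lit 0x2418203070a0dba5) (nat_lit 2049))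
) (.node (nat_lit 0x2428102050900dc2) (.leaf (nat_lit 0x2418301050b05ae7) (nat_lit 1286))
 (.leaf (nat_lit 0x2428102050900dc2) (nat_lit 1285))
)) (.node (nat_lit 0x2438102070909de6) (.node (nat_lit 0x2428301070b0cec3) (.leaf (nat_lit 0x2428203060a0cf01) (nat_lit 1281))
 (.leaf (nat_lit 0x2428301070b0cec3) (nat_lit 1025))
) (.node (nat_lit 0x2438203050a05fa5) (.leaf (nat_lit 0x2438102070909de6) (nat_lit 1542))
 (.node (nat_lit 0x2438301060b0de67) (.leaf (nat_lit 0x2438203050a05fa5) (nat_lit 1793))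
 (.leaf (nat_lit 0x2438301060b0de67) (nat_lit 1542))
)))))) (.node (nat_lit 0x8040203068848301) (.node (nat_lit 0x3438102070b0cdce) (.node (nat_lit 0x3418203070909bed) (.node (nat_lit 0x3408301040a04a0b) (.node (nat_lit 0x3408203040900b49) (.leaf (nat_lit 0x3408102040b0494a) (nat_lit 1796))
 (.leaf (nat_lit 0x3408203040900b49) (nat_lit 1796))
) (.node (nat_lit 0x3418102060b0d96e) (.leaf (nat_lit 0x3408301040a04a0b) (nat_lit 1028))
 (.leaf (nat_lit 0x3418102060b0d96e) (nat_lit 2054))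
)) (.node (nat_lit 0x3428102050b05dea) (.node (nat_lit 0x3418301050a05aaf) (.leaf (nat_lit 0x3418203070909bed) (nat_lit 1798))
 (.leaf (nat_lit 0x3418301050a05aaf) (nat_lit 1536))
) (.node (nat_lit 0x3428203060909f69) (.leaf (nat_lit 0x3428102050b05dea) (nat_lit 1798))
 (.node (nat_lit 0x3428301070a0deab) (.leaf (nat_lit 0x3428203060909f69) (nat_lit 1792))
 (.leaf (nat_lit 0x3428301070a0deab) (nat_lit 1538))
)))) (.node (nat_lit 0x8040102048b44142) (.node (nat_lit 0x3438301060a0ce0f) (.node (nat_lit 0x3438203050900fcd) (.leaf (nat_lit 0x3438102070b0cdce) (nat_lit 1537))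
 (.leaf (nat_lit 0x3438203050900fcd) (nat_lit 1539))
) (.node (nat_lit 0x8040102048840102) (.leaf (nat_lit 0x3438301060a0ce0f) (nat_lit 769))
 (.leaf (nat_lit 0x8040102048840102) (nat_lit 259))
)) (.node (nat_lit 0x8040102078b4c1c2) (.node (nat_lit 0x8040102078848182) (.leaf (nat_lit 0x8040102048b44142) (nat_lit 1540))
 (.leaf (nat_lit 0x8040102078848182) (nat_lit 1024))
) (.node (nat_lit 0x8040203048840301) (.leaf (nat_lit 0x8040102078b4c1c2) (nat_lit 1281))
 (.node (nat_lit 0x8040203048a44301) (.leaf (nat_lit 0x8040203048840301) (nat_lit 512))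
 (.leaf (nat_lit 0x8040203048a44301) (nat_lit 1284))
))))) (.node (nat_lit 0x80503010789492e7) (.node (nat_lit 0x8040301058840283) (.node (nat_lit 0x8040301048840203) (.node (nat_lit 0x8040203068a4c301) (.leaf (nat_lit 0x8040203068848301) (nat_lit 774))
 (.leaf (nat_lit 0x8040203068a4c301) (nat_lit 1025))
) (.node (nat_lit 0x8040301048940243) (.leaf (nat_lit 0x8040301048840203) (nat_lit 0))
 (.leaf (nat_lit 0x8040301048940243) (nat_lit 1284))
)) (.node (nat_lit 0x8050301068848207) (.node (nat_lit 0x80403010589402c3) (.leaf (nat_lit 0x8040301058840283) (nat_lit 774))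
 (.leaf (nat_lit 0x80403010589402c3) (nat_lit 1025))
) (.node (nat_lit 0x8050301068949267) (.leaf (nat_lit 0x8050301068848207) (nat_lit 262))
 (.node (nat_lit 0x8050301078848287) (.leaf (nat_lit 0x8050301068949267) (nat_lit 1537))
 (.leaf (nat_lit 0x8050301078848287) (nat_lit 512))
)))) (.node (nat_lit 0x8060203078a4d7a1) (.node (nat_lit 0x8060203058a457a1) (.node (nat_lit 0x8060203058840781) (.leaf (nat_lit 0x80503010789492e7) (nat_lit 1286))
 (.leaf (nat_lit 0x8060203058840781) (nat_lit 1026))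
) (.node (nat_lit 0x8060203078848781) (.leaf (nat_lit 0x8060203058a457a1) (nat_lit 1537))
 (.leaf (nat_lit 0x8060203078848781) (nat_lit 768))
)) (.node (nat_lit 0x8070102058b455e6) (.node (nat_lit 0x8070102058840586) (.leaf (nat_lit 0x8060203078a4d7a1) (nat_lit 1793))
 (.leaf (nat_lit 0x8070102058840586) (nat_lit 770))
) (.node (nat_lit 0x8070102068848506) (.leaf (nat_lit 0x8070102058b455e6) (nat_lit 1542))
 (.node (nat_lit 0x8070102068b4d566) (.leaf (nat_lit 0x8070102068848506) (nat_lit 518))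
 (.leaf (nat_lit 0x8070102068b4d566) (nat_lit 1798))
))))))) (.node (nat_lit 0xa060203058940fc1) (.node (nat_lit 0x9050301078a4d2af) (.node (nat_lit 0x8478102008040506) (.node (nat_lit 0x8458203028048305) (.node (nat_lit 0x8448301008040203) (.node (nat_lit 0x8448203008040301) (.leaf (nat_lit 0x8448102008040102) (nat_lit 770))
 (.leaf (nat_lit 0x8448203008040301) (nat_lit 1026))
) (.node (nat_lit 0x8458102038048186) (.leaf (nat_lit 0x8448301008040203) (nat_lit 514))
 (.leaf (nat_lit 0x8458102038048186) (nat_lit 1026))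
)) (.node (nat_lit 0x8468102038048582) (.node (nat_lit 0x8458301008040207) (.leaf (nat_lit 0x8458203028048305) (nat_lit 1282))
 (.leaf (nat_lit 0x8458301008040207) (nat_lit 774))
) (.node (nat_lit 0x8468203008040701) (.leaf (nat_lit 0x8468102038048582) (nat_lit 1285))
 (.node (nat_lit 0x8468301018040683) (.leaf (nat_lit 0x8468203008040701) (nat_lit 1282))
 (.leaf (nat_lit 0x8468301018040683) (nat_lit 1026))
)))) (.node (nat_lit 0x9040301048b4424b) (.node (nat_lit 0x8478301018040687) (.node (nat_lit 0x8478203028048705) (.leaf (nat_lit 0x8478102008040506) (nat_lit 1030))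
 (.leaf (nat_lit 0x8478203028048705) (nat_lit 1539))
) (.node (nat_lit 0x9040301048a4420b) (.leaf (nat_lit 0x8478301018040687) (nat_lit 770))
 (.leaf (nat_lit 0x9040301048a4420b) (nat_lit 772))
)) (.node (nat_lit 0x9040301058b452eb) (.node (nat_lit 0x9040301058a452ab) (.leaf (nat_lit 0x9040301048b4424b) (nat_lit 1028))
 (.leaf (nat_lit 0x9040301058a452ab) (nat_lit 1280))
) (.node (nat_lit 0x9050301068a4c20f) (.leaf (nat_lit 0x9040301058b452eb) (nat_lit 1030))
 (.node (nat_lit 0x9050301068b4d26f) (.leaf (nat_lit 0x9050301068a4c20f) (nat_lit 513))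
 (.leaf (nat_lit 0x9050301068b4d26f) (nat_lit 1286))
))))) (.node (nat_lit 0x9468203008245729) (.node (nat_lit 0x944830100804020b) (.node (nat_lit 0x944810200834414a) (.node (nat_lit 0x9050301078b4c2cf) (.leaf (nat_lit 0x9050301078a4d2af) (nat_lit 1536))
 (.leaf (nat_lit 0x9050301078b4c2cf) (nat_lit 769))
) (.node (nat_lit 0x9448203008244309) (.leaf (nat_lit 0x944810200834414a) (nat_lit 1540))
 (.leaf (nat_lit 0x9448203008244309) (nat_lit 1796))
)) (.node (nat_lit 0x945820302824c30d) (.node (nat_lit 0x945810203834c1ce) (.leaf (nat_lit 0x944830100804020b) (nat_lit 1284))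
 (.leaf (nat_lit 0x945810203834c1ce) (nat_lit 1282))
) (.node (nat_lit 0x945830100804020f) (.leaf (nat_lit 0x945820302824c30d) (nat_lit 1538))
 (.node (nat_lit 0x946810203834d5ea) (.leaf (nat_lit 0x945830100804020f) (nat_lit 1025))
 (.leaf (nat_lit 0x946810203834d5ea) (nat_lit 1542))
)))) (.node (nat_lit 0x94783010180416af) (.node (nat_lit 0x947810200834556e) (.node (nat_lit 0x94683010180416ab) (.leaf (nat_lit 0x9468203008245729) (nat_lit 2050))
 (.leaf (nat_lit 0x94683010180416ab) (nat_lit 1537))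
) (.node (nat_lit 0x947820302824d72d) (.leaf (nat_lit 0x947810200834556e) (nat_lit 1798))
 (.leaf (nat_lit 0x947820302824d72d) (nat_lit 1794))
)) (.node (nat_lit 0xa040203048b44b41) (.node (nat_lit 0xa040203048940b41) (.leaf (nat_lit 0x94783010180416af) (nat_lit 1793))
 (.leaf (nat_lit 0xa040203048940b41) (nat_lit 1540))
) (.node (nat_lit 0xa040203068949b61) (.leaf (nat_lit 0xa040203048b44b41) (nat_lit 1284))
 (.node (nat_lit 0xa040203068b4db61) (.leaf (nat_lit 0xa040203068949b61) (nat_lit 1536))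
 (.leaf (nat_lit 0xa040203068b4db61) (nat_lit 1542))
)))))) (.node (nat_lit 0xb0401020789499ea) (.node (nat_lit 0xa458301008141a67) (.node (nat_lit 0xa448102008344942) (.node (nat_lit 0xa060203078949fe1) (.node (nat_lit 0xa060203058b45fe1) (.leaf (nat_lit 0xa060203058940fc1) (nat_lit 1282))
 (.leaf (nat_lit 0xa060203058b45fe1) (nat_lit 1286))
) (.node (nat_lit 0xa060203078b4cfc1) (.leaf (nat_lit 0xa060203078949fe1) (nat_lit 1542))
 (.leaf (nat_lit 0xa060203078b4cfc1) (nat_lit 1025))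
)) (.node (nat_lit 0xa448301008140a43) (.node (nat_lit 0xa448203008040b01) (.leaf (nat_lit 0xa448102008344942) (nat_lit 1797))
 (.leaf (nat_lit 0xa448203008040b01) (nat_lit 1796))
) (.node (nat_lit 0xa45810203834d9e6) (.leaf (nat_lit 0xa448301008140a43) (nat_lit 1540))
 (.node (nat_lit 0xa458203028049b25) (.leaf (nat_lit 0xa45810203834d9e6) (nat_lit 1798))
 (.leaf (nat_lit 0xa458203028049b25) (nat_lit 2306))
)))) (.node (nat_lit 0xa478102008345d66) (.node (nat_lit 0xa468203008040f01) (.node (nat_lit 0xa46810203834cdc2) (.leaf (nat_lit 0xa458301008141a67) (nat_lit 1538))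
 (.leaf (nat_lit 0xa46810203834cdc2) (nat_lit 1541))
) (.node (nat_lit 0xa468301018140ec3) (.leaf (nat_lit 0xa468203008040f01) (nat_lit 1538))
 (.leaf (nat_lit 0xa468301018140ec3) (nat_lit 1282))
)) (.node (nat_lit 0xa478301018141ee7) (.node (nat_lit 0xa478203028049f25) (.leaf (nat_lit 0xa478102008345d66) (nat_lit 1794))
 (.leaf (nat_lit 0xa478203028049f25) (nat_lit 2050))
) (.node (nat_lit 0xb04010204894094a) (.leaf (nat_lit 0xa478301018141ee7) (nat_lit 1542))
 (.node (nat_lit 0xb040102048a4490a) (.leaf (nat_lit 0xb04010204894094a) (nat_lit 1284))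
 (.leaf (nat_lit 0xb040102048a4490a) (nat_lit 1028))
))))) (.node (nat_lit 0xb4581020380499ae) (.node (nat_lit 0xb070102068949d6e) (.node (nat_lit 0xb070102058940dce) (.node (nat_lit 0xb040102078a4d9aa) (.leaf (nat_lit 0xb0401020789499ea) (nat_lit 1286))
 (.leaf (nat_lit 0xb040102078a4d9aa) (nat_lit 1537))
) (.node (nat_lit 0xb070102058a45dae) (.leaf (nat_lit 0xb070102058940dce) (nat_lit 1026))
 (.leaf (nat_lit 0xb070102058a45dae) (nat_lit 1536))
)) (.node (nat_lit 0xb44810200804090a) (.node (nat_lit 0xb070102068a4cd0e) (.leaf (nat_lit 0xb070102068949d6e) (nat_lit 1542))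
 (.leaf (nat_lit 0xb070102068a4cd0e) (nat_lit 769))
) (.node (nat_lit 0xb448203008244b09) (.leaf (nat_lit 0xb44810200804090a) (nat_lit 1540))
 (.node (nat_lit 0xb448301008140a4b) (.leaf (nat_lit 0xb448203008244b09) (nat_lit 2052))
 (.leaf (nat_lit 0xb448301008140a4b) (nat_lit 1284))
)))) (.node (nat_lit 0xb468203008245f29) (.node (nat_lit 0xb458301008141a6f) (.node (nat_lit 0xb45820302824db2d) (.leaf (nat_lit 0xb4581020380499ae) (nat_lit 2049))
 (.leaf (nat_lit 0xb45820302824db2d) (nat_lit 2050))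
) (.node (nat_lit 0xb468102038049daa) (.leaf (nat_lit 0xb458301008141a6f) (nat_lit 1542))
 (.leaf (nat_lit 0xb468102038049daa) (nat_lit 1793))
)) (.node (nat_lit 0xb478102008040d0e) (.node (nat_lit 0xb468301018141eeb) (.leaf (nat_lit 0xb468203008245f29) (nat_lit 2050))
 (.leaf (nat_lit 0xb468301018141eeb) (nat_lit 1286))
) (.node (nat_lit 0xb47820302824cf0d) (.leaf (nat_lit 0xb478102008040d0e) (nat_lit 1281))
 (.node (nat_lit 0xb478301018140ecf) (.leaf (nat_lit 0xb47820302824cf0d) (nat_lit 1795))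
 (.leaf (nat_lit 0xb478301018140ecf) (nat_lit 1026))
))))))))

theorem I12_ok : orbOK B8.A [(nat_lit 0x8040301008040203), (nat_lit 0xc0402010080c0201), (nat_lit 0x8040201048840201), (nat_lit 0x8040203008040301), (nat_lit 0x80c020100c040201), (nat_lit 0x8448201008040201), (nat_lit 0x8060201008040601)] (nat_lit 0x8040301048840203) I12_t (nat_lit 144) = true := by decide +kernel

noncomputable def I13_t : ST :=
(.node (nat_lit 0x90e030100c04060b) (.node (nat_lit 0x7090203004080b0d) (.node (nat_lit 0x50a010202418854a) (.node (nat_lit 0x40803010141802c3) (.node (nat_lit 0x4080203004080301) (.node (nat_lit 0x4080102024188142) (.node (nat_lit 0x4080102014284182) (.leaf (nat_lit 0x4080102004080102) (nat_lit 516))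
 (.leaf (nat_lit 0x4080102014284182) (nat_lit 1285))
) (.node (nat_lit 0x408010203438c1c2) (.leaf (nat_lit 0x4080102024188142) (nat_lit 1541))
 (.leaf (nat_lit 0x408010203438c1c2) (nat_lit 1797))
)) (.node (nat_lit 0x408020302428c301) (.node (nat_lit 0x40802030143843c1) (.leaf (nat_lit 0x4080203004080301) (nat_lit 772))
 (.leaf (nat_lit 0x40802030143843c1) (nat_lit 1541))
) (.node (nat_lit 0x40802030341883c1) (.leaf (nat_lit 0x408020302428c301) (nat_lit 1541))
 (.node (nat_lit 0x4080301004080203) (.leaf (nat_lit 0x40802030341883c1) (nat_lit 1797))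
 (.leaf (nat_lit 0x4080301004080203) (nat_lit 260))
)))) (.node (nat_lit 0x50903010141802cf) (.node (nat_lit 0x408030103428c283) (.node (nat_lit 0x408030102438c243) (.leaf (nat_lit 0x40803010141802c3) (nat_lit 1541))
 (.leaf (nat_lit 0x408030102438c243) (nat_lit 1285))
) (.node (nat_lit 0x509030100408020f) (.leaf (nat_lit 0x408030103428c283) (nat_lit 1029))
 (.leaf (nat_lit 0x509030100408020f) (nat_lit 1025))
)) (.node (nat_lit 0x509030103428d2af) (.node (nat_lit 0x509030102438d26f) (.leaf (nat_lit 0x50903010141802cf) (nat_lit 1282))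
 (.leaf (nat_lit 0x509030102438d26f) (nat_lit 1286))
) (.node (nat_lit 0x50a010200408050a) (.leaf (nat_lit 0x509030103428d2af) (nat_lit 1536))
 (.node (nat_lit 0x50a01020142855aa) (.leaf (nat_lit 0x50a010200408050a) (nat_lit 1028))
 (.leaf (nat_lit 0x50a01020142855aa) (nat_lit 1792))
))))) (.node (nat_lit 0x609010203438d9e6) (.node (nat_lit 0x50b020302428d72d) (.node (nat_lit 0x50b020300408070d) (.node (nat_lit 0x50a010203438d5ea) (.leaf (nat_lit 0x50a010202418854a) (nat_lit 1284))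
 (.leaf (nat_lit 0x50a010203438d5ea) (nat_lit 1798))
) (.node (nat_lit 0x50b02030143857ed) (.leaf (nat_lit 0x50b020300408070d) (nat_lit 1283))
 (.leaf (nat_lit 0x50b02030143857ed) (nat_lit 1542))
)) (.node (nat_lit 0x6090102004080906) (.node (nat_lit 0x50b02030341887cd) (.leaf (nat_lit 0x50b020302428d72d) (nat_lit 1794))
 (.leaf (nat_lit 0x50b02030341887cd) (nat_lit 1539))
) (.node (nat_lit 0x6090102014284986) (.leaf (nat_lit 0x6090102004080906) (nat_lit 774))
 (.node (nat_lit 0x6090102024189966) (.leaf (nat_lit 0x6090102014284986) (nat_lit 1026))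
 (.leaf (nat_lit 0x6090102024189966) (nat_lit 1798))
)))) (.node (nat_lit 0x60a0203034189fe1) (.node (nat_lit 0x60a0203014385fe1) (.node (nat_lit 0x60a0203004080f01) (.leaf (nat_lit 0x609010203438d9e6) (nat_lit 2054))
 (.leaf (nat_lit 0x60a0203004080f01) (nat_lit 1030))
) (.node (nat_lit 0x60a020302428cf01) (.leaf (nat_lit 0x60a0203014385fe1) (nat_lit 1798))
 (.leaf (nat_lit 0x60a020302428cf01) (nat_lit 1282))
)) (.node (nat_lit 0x60b0301014181ee7) (.node (nat_lit 0x60b0301004080e07) (.leaf (nat_lit 0x60a0203034189fe1) (nat_lit 1792))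
 (.leaf (nat_lit 0x60b0301004080e07) (nat_lit 518))
) (.node (nat_lit 0x60b030102438de67) (.leaf (nat_lit 0x60b0301014181ee7) (nat_lit 1798))
 (.node (nat_lit 0x60b030103428ce87) (.leaf (nat_lit 0x60b030102438de67) (nat_lit 1542))
 (.leaf (nat_lit 0x60b030103428ce87) (nat_lit 770))
)))))) (.node (nat_lit 0x80c020302c048301) (.node (nat_lit 0x70b0102014285dae) (.node (nat_lit 0x70a0301004080e0b) (.node (nat_lit 0x709020302428db2d) (.node (nat_lit 0x7090203014384bcd) (.leaf (nat_lit 0x7090203004080b0d) (nat_lit 1024))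
 (.leaf (nat_lit 0x7090203014384bcd) (nat_lit 1282))
) (.node (nat_lit 0x7090203034189bed) (.leaf (nat_lit 0x709020302428db2d) (nat_lit 2050))
 (.leaf (nat_lit 0x7090203034189bed) (nat_lit 1798))
)) (.node (nat_lit 0x70a030102438ce4b) (.node (nat_lit 0x70a0301014181eeb) (.leaf (nat_lit 0x70a0301004080e0b) (nat_lit 768))
 (.leaf (nat_lit 0x70a0301014181eeb) (nat_lit 1542))
) (.node (nat_lit 0x70a030103428deab) (.leaf (nat_lit 0x70a030102438ce4b) (nat_lit 1026))
 (.node (nat_lit 0x70b0102004080d0e) (.leaf (nat_lit 0x70a030103428deab) (nat_lit 1537))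
 (.leaf (nat_lit 0x70b0102004080d0e) (nat_lit 1280))
)))) (.node (nat_lit 0x80c010201c3441c2) (.node (nat_lit 0x70b010203438cdce) (.node (nat_lit 0x70b0102024189d6e) (.leaf (nat_lit 0x70b0102014285dae) (nat_lit 1794))
 (.leaf (nat_lit 0x70b0102024189d6e) (nat_lit 1542))
) (.node (nat_lit 0x80c010200c040102) (.leaf (nat_lit 0x70b010203438cdce) (nat_lit 1538))
 (.leaf (nat_lit 0x80c010200c040102) (nat_lit 769))
)) (.node (nat_lit 0x80c010203c048182) (.node (nat_lit 0x80c010202c34c142) (.leaf (nat_lit 0x80c010201c3441c2) (nat_lit 1541))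
 (.leaf (nat_lit 0x80c010202c34c142) (nat_lit 1797))
) (.node (nat_lit 0x80c020300c040301) (.leaf (nat_lit 0x80c010203c048182) (nat_lit 1541))
 (.node (nat_lit 0x80c020301c244381) (.leaf (nat_lit 0x80c020300c040301) (nat_lit 1025))
 (.leaf (nat_lit 0x80c020301c244381) (nat_lit 1797))
))))) (.node (nat_lit 0x80d030103c1492e7) (.node (nat_lit 0x80c030102c148243) (.node (nat_lit 0x80c030100c040203) (.node (nat_lit 0x80c020303c24c381) (.leaf (nat_lit 0x80c020302c048301) (nat_lit 1797))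
 (.leaf (nat_lit 0x80c020303c24c381) (nat_lit 2053))
) (.node (nat_lit 0x80c030101c040283) (.leaf (nat_lit 0x80c030100c040203) (nat_lit 513))
 (.leaf (nat_lit 0x80c030101c040283) (nat_lit 1285))
)) (.node (nat_lit 0x80d030100c040207) (.node (nat_lit 0x80c030103c1482c3) (.leaf (nat_lit 0x80c030102c148243) (nat_lit 1541))
 (.leaf (nat_lit 0x80c030103c1482c3) (nat_lit 1285))
) (.node (nat_lit 0x80d030101c040287) (.leaf (nat_lit 0x80d030100c040207) (nat_lit 774))
 (.node (nat_lit 0x80d030102c149267) (.leaf (nat_lit 0x80d030101c040287) (nat_lit 1026))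
 (.leaf (nat_lit 0x80d030102c149267) (nat_lit 1537))
)))) (.node (nat_lit 0x80e020303c24d7a1) (.node (nat_lit 0x80e020301c2457a1) (.node (nat_lit 0x80e020300c040701) (.leaf (nat_lit 0x80d030103c1492e7) (nat_lit 1542))
 (.leaf (nat_lit 0x80e020300c040701) (nat_lit 1281))
) (.node (nat_lit 0x80e020302c048701) (.leaf (nat_lit 0x80e020301c2457a1) (nat_lit 2049))
 (.leaf (nat_lit 0x80e020302c048701) (nat_lit 1538))
)) (.node (nat_lit 0x80f010201c3455e6) (.node (nat_lit 0x80f010200c040506) (.leaf (nat_lit 0x80e020303c24d7a1) (nat_lit 2049))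
 (.leaf (nat_lit 0x80f010200c040506) (nat_lit 1030))
) (.node (nat_lit 0x80f010202c34d566) (.leaf (nat_lit 0x80f010201c3455e6) (nat_lit 1798))
 (.node (nat_lit 0x80f010203c048586) (.leaf (nat_lit 0x80f010202c34d566) (nat_lit 1793))
 (.leaf (nat_lit 0x80f010203c048586) (nat_lit 1282))
))))))) (.node (nat_lit 0xd0403010080c020b) (.node (nat_lit 0xb0d010202c34d96e) (.node (nat_lit 0xa0d020301c244b85) (.node (nat_lit 0x90f030100c04060f) (.node (nat_lit 0x90e030102c14864b) (.node (nat_lit 0x90e030101c0416ab) (.leaf (nat_lit 0x90e030100c04060b) (nat_lit 1025))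
 (.leaf (nat_lit 0x90e030101c0416ab) (nat_lit 1538))
) (.node (nat_lit 0x90e030103c1496eb) (.leaf (nat_lit 0x90e030102c14864b) (nat_lit 1282))
 (.leaf (nat_lit 0x90e030103c1496eb) (nat_lit 1286))
)) (.node (nat_lit 0x90f030102c14966f) (.node (nat_lit 0x90f030101c0416af) (.leaf (nat_lit 0x90f030100c04060f) (nat_lit 769))
 (.leaf (nat_lit 0x90f030101c0416af) (nat_lit 1794))
) (.node (nat_lit 0x90f030103c1486cf) (.leaf (nat_lit 0x90f030102c14966f) (nat_lit 1542))
 (.node (nat_lit 0xa0d020300c040b05) (.leaf (nat_lit 0x90f030103c1486cf) (nat_lit 1026))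
 (.leaf (nat_lit 0xa0d020300c040b05) (nat_lit 1281))
)))) (.node (nat_lit 0xa0f020301c245fa5) (.node (nat_lit 0xa0d020303c24dba5) (.node (nat_lit 0xa0d020302c049b25) (.leaf (nat_lit 0xa0d020301c244b85) (nat_lit 1538))
 (.leaf (nat_lit 0xa0d020302c049b25) (nat_lit 2306))
) (.node (nat_lit 0xa0f020300c040f05) (.leaf (nat_lit 0xa0d020303c24dba5) (nat_lit 2049))
 (.leaf (nat_lit 0xa0f020300c040f05) (nat_lit 1539))
)) (.node (nat_lit 0xa0f020303c24cf85) (.node (nat_lit 0xa0f020302c049f25) (.leaf (nat_lit 0xa0f020301c245fa5) (nat_lit 1793))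
 (.leaf (nat_lit 0xa0f020302c049f25) (nat_lit 2050))
) (.node (nat_lit 0xb0d010200c04090e) (.leaf (nat_lit 0xa0f020303c24cf85) (nat_lit 1795))
 (.node (nat_lit 0xb0d010201c3449ce) (.leaf (nat_lit 0xb0d010200c04090e) (nat_lit 1025))
 (.leaf (nat_lit 0xb0d010201c3449ce) (nat_lit 1282))
))))) (.node (nat_lit 0xc0401020382cc182) (.node (nat_lit 0xb0e010202c34cd4a) (.node (nat_lit 0xb0e010200c040d0a) (.node (nat_lit 0xb0d010203c0499ae) (.leaf (nat_lit 0xb0d010202c34d96e) (nat_lit 1798))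
 (.leaf (nat_lit 0xb0d010203c0499ae) (nat_lit 2050))
) (.node (nat_lit 0xb0e010201c345dea) (.leaf (nat_lit 0xb0e010200c040d0a) (nat_lit 1284))
 (.leaf (nat_lit 0xb0e010201c345dea) (nat_lit 1542))
)) (.node (nat_lit 0xc0401020080c0102) (.node (nat_lit 0xb0e010203c049daa) (.leaf (nat_lit 0xb0e010202c34cd4a) (nat_lit 1540))
 (.leaf (nat_lit 0xb0e010203c049daa) (nat_lit 1794))
) (.node (nat_lit 0xc0401020083c4142) (.leaf (nat_lit 0xc0401020080c0102) (nat_lit 259))
 (.node (nat_lit 0xc0401020381c81c2) (.leaf (nat_lit 0xc0401020083c4142) (nat_lit 1541))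
 (.leaf (nat_lit 0xc0401020381c81c2) (nat_lit 1285))
)))) (.node (nat_lit 0xc0402030283cc341) (.node (nat_lit 0xc0402030082c4301) (.node (nat_lit 0xc0402030080c0301) (.leaf (nat_lit 0xc0401020382cc182) (nat_lit 1029))
 (.leaf (nat_lit 0xc0402030080c0301) (nat_lit 512))
) (.node (nat_lit 0xc0402030281c8341) (.leaf (nat_lit 0xc0402030082c4301) (nat_lit 1285))
 (.leaf (nat_lit 0xc0402030281c8341) (nat_lit 1541))
)) (.node (nat_lit 0xc0403010081c0243) (.node (nat_lit 0xc0403010080c0203) (.leaf (nat_lit 0xc0402030283cc341) (nat_lit 1285))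
 (.leaf (nat_lit 0xc0403010080c0203) (nat_lit 0))
) (.node (nat_lit 0xc0403010182c4283) (.leaf (nat_lit 0xc0403010081c0243) (nat_lit 1285))
 (.node (nat_lit 0xc0403010183c42c3) (.leaf (nat_lit 0xc0403010182c4283) (nat_lit 773))
 (.leaf (nat_lit 0xc0403010183c42c3) (nat_lit 1029))
)))))) (.node (nat_lit 0xe0503010182c4a87) (.node (nat_lit 0xd0701020083c556e) (.node (nat_lit 0xd0602030080c0709) (.node (nat_lit 0xd0403010182c52ab) (.node (nat_lit 0xd0403010081c024b) (.leaf (nat_lit 0xd0403010080c020b) (nat_lit 774))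
 (.leaf (nat_lit 0xd0403010081c024b) (nat_lit 1026))
) (.node (nat_lit 0xd0403010183c52eb) (.leaf (nat_lit 0xd0403010182c52ab) (nat_lit 1280))
 (.leaf (nat_lit 0xd0403010183c52eb) (nat_lit 1030))
)) (.node (nat_lit 0xd0602030281c8749) (.node (nat_lit 0xd0602030082c5729) (.leaf (nat_lit 0xd0602030080c0709) (nat_lit 1025))
 (.leaf (nat_lit 0xd0602030082c5729) (nat_lit 1538))
) (.node (nat_lit 0xd0602030283cd769) (.leaf (nat_lit 0xd0602030281c8749) (nat_lit 1282))
 (.node (nat_lit 0xd0701020080c050e) (.leaf (nat_lit 0xd0602030283cd769) (nat_lit 1286))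
 (.leaf (nat_lit 0xd0701020080c050e) (nat_lit 769))
)))) (.node (nat_lit 0xe0402030082c4b01) (.node (nat_lit 0xd0701020382cd5ae) (.node (nat_lit 0xd0701020381c85ce) (.leaf (nat_lit 0xd0701020083c556e) (nat_lit 1542))
 (.leaf (nat_lit 0xd0701020381c85ce) (nat_lit 1026))
) (.node (nat_lit 0xe0402030080c0b01) (.leaf (nat_lit 0xd0701020382cd5ae) (nat_lit 1536))
 (.leaf (nat_lit 0xe0402030080c0b01) (nat_lit 774))
)) (.node (nat_lit 0xe0402030283cdb61) (.node (nat_lit 0xe0402030281c9b61) (.leaf (nat_lit 0xe0402030082c4b01) (nat_lit 1026))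
 (.leaf (nat_lit 0xe0402030281c9b61) (nat_lit 1536))
) (.node (nat_lit 0xe0503010080c0a07) (.leaf (nat_lit 0xe0402030283cdb61) (nat_lit 1542))
 (.node (nat_lit 0xe0503010081c1a67) (.leaf (nat_lit 0xe0503010080c0a07) (nat_lit 262))
 (.leaf (nat_lit 0xe0503010081c1a67) (nat_lit 1538))
))))) (.node (nat_lit 0xf0401020382cd9aa) (.node (nat_lit 0xe0701020381c9de6) (.node (nat_lit 0xe0701020080c0d06) (.node (nat_lit 0xe0503010183c5ae7) (.leaf (nat_lit 0xe0503010182c4a87) (nat_lit 514))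
 (.leaf (nat_lit 0xe0503010183c5ae7) (nat_lit 1286))
) (.node (nat_lit 0xe0701020083c5d66) (.leaf (nat_lit 0xe0701020080c0d06) (nat_lit 518))
 (.leaf (nat_lit 0xe0701020083c5d66) (nat_lit 1798))
)) (.node (nat_lit 0xf0401020080c090a) (.node (nat_lit 0xe0701020382ccd86) (.leaf (nat_lit 0xe0701020381c9de6) (nat_lit 1542))
 (.leaf (nat_lit 0xe0701020382ccd86) (nat_lit 770))
) (.node (nat_lit 0xf0401020083c494a) (.leaf (nat_lit 0xf0401020080c090a) (nat_lit 1024))
 (.node (nat_lit 0xf0401020381c99ea) (.leaf (nat_lit 0xf0401020083c494a) (nat_lit 1282))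
 (.leaf (nat_lit 0xf0401020381c99ea) (nat_lit 1286))
)))) (.node (nat_lit 0xf0503010183c4acf) (.node (nat_lit 0xf0503010081c1a6f) (.node (nat_lit 0xf0503010080c0a0f) (.leaf (nat_lit 0xf0401020382cd9aa) (nat_lit 1537))
 (.leaf (nat_lit 0xf0503010080c0a0f) (nat_lit 512))
) (.node (nat_lit 0xf0503010182c5aaf) (.leaf (nat_lit 0xf0503010081c1a6f) (nat_lit 1286))
 (.leaf (nat_lit 0xf0503010182c5aaf) (nat_lit 1536))
)) (.node (nat_lit 0xf0602030082c5f29) (.node (nat_lit 0xf0602030080c0f09) (.leaf (nat_lit 0xf0503010183c4acf) (nat_lit 770))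
 (.leaf (nat_lit 0xf0602030080c0f09) (nat_lit 768))
) (.node (nat_lit 0xf0602030281c9f69) (.leaf (nat_lit 0xf0602030082c5f29) (nat_lit 1794))
 (.node (nat_lit 0xf0602030283ccf49) (.leaf (nat_lit 0xf0602030281c9f69) (nat_lit 1542))
 (.leaf (nat_lit 0xf0602030283ccf49) (nat_lit 1026))
))))))))

theorem I13_ok : orbOK B8.A [(nat_lit 0x8040301008040203), (nat_lit 0xc0402010080c0201), (nat_lit 0x8040201048840201), (nat_lit 0x8040203008040301), (nat_lit 0x80c020100c040201), (nat_lit 0x8448201008040201), (nat_lit 0x8060201008040601)] (nat_lit 0xc0403010080c0203) I13_t (nat_lit 144) = true := by decide +kernel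

noncomputable def I14_t : ST :=
(.node (nat_lit 0x70b0201084786e5d) (.node (nat_lit 0x340c2010f0b0ead9) (.node (nat_lit 0x18242010906076b9) (.node (nat_lit 0xc18201050d012f5) (.node (nat_lit 0x804201080401221) (.node (nat_lit 0x42c2010e0809621) (.node (nat_lit 0x41c2010d08012a5) (.leaf (nat_lit 0x40c2010c0801221) (nat_lit 773))
 (.leaf (nat_lit 0x41c2010d08012a5) (nat_lit 1539))
) (.node (nat_lit 0x43c2010f08096a5) (.leaf (nat_lit 0x42c2010e0809621) (nat_lit 1030))
 (.leaf (nat_lit 0x43c2010f08096a5) (nat_lit 1280))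
)) (.node (nat_lit 0x824201080607621) (.node (nat_lit 0x814201080501275) (.leaf (nat_lit 0x804201080401221) (nat_lit 517))
 (.leaf (nat_lit 0x814201080501275) (nat_lit 1283))
) (.node (nat_lit 0x834201080706655) (.leaf (nat_lit 0x824201080607621) (nat_lit 774))
 (.node (nat_lit 0xc08201040c01221) (.leaf (nat_lit 0x834201080706655) (nat_lit 1024))
 (.leaf (nat_lit 0xc08201040c01221) (nat_lit 261))
)))) (.node (nat_lit 0x141c2010c090127d) (.node (nat_lit 0xc38201070f0e6d5) (.node (nat_lit 0xc28201060e0f621) (.leaf (nat_lit 0xc18201050d012f5) (nat_lit 1027))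
 (.leaf (nat_lit 0xc28201060e0f621) (nat_lit 518))
) (.node (nat_lit 0x140c2010d09012f9) (.leaf (nat_lit 0xc38201070f0e6d5) (nat_lit 768))
 (.leaf (nat_lit 0x140c2010d09012f9) (nat_lit 1796))
)) (.node (nat_lit 0x143c2010e090865d) (.node (nat_lit 0x142c2010f09086d9) (.leaf (nat_lit 0x141c2010c090127d) (nat_lit 1539))
 (.leaf (nat_lit 0x142c2010f09086d9) (nat_lit 1793))
) (.node (nat_lit 0x18042010904012b9) (.leaf (nat_lit 0x143c2010e090865d) (nat_lit 1798))
 (.node (nat_lit 0x18142010905012ed) (.leaf (nat_lit 0x18042010904012b9) (nat_lit 1541))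
 (.leaf (nat_lit 0x18142010905012ed) (nat_lit 1795))
))))) (.node (nat_lit 0x243c2010d0a06e85) (.node (nat_lit 0x1c28201060f0e649) (.node (nat_lit 0x1c08201040d01269) (.node (nat_lit 0x18342010907066cd) (.leaf (nat_lit 0x18242010906076b9) (nat_lit 1798))
 (.leaf (nat_lit 0x18342010907066cd) (nat_lit 2054))
) (.node (nat_lit 0x1c18201050c012bd) (.leaf (nat_lit 0x1c08201040d01269) (nat_lit 1539))
 (.leaf (nat_lit 0x1c18201050c012bd) (nat_lit 1283))
)) (.node (nat_lit 0x240c2010e0a0fa21) (.node (nat_lit 0x1c38201070e0f6bd) (.leaf (nat_lit 0x1c28201060f0e649) (nat_lit 1798))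
 (.leaf (nat_lit 0x1c38201070e0f6bd) (nat_lit 1542))
) (.node (nat_lit 0x241c2010f0a0ea85) (.leaf (nat_lit 0x240c2010e0a0fa21) (nat_lit 1284))
 (.node (nat_lit 0x242c2010c0a07e21) (.leaf (nat_lit 0x241c2010f0a0ea85) (nat_lit 1792))
 (.leaf (nat_lit 0x242c2010c0a07e21) (nat_lit 1025))
)))) (.node (nat_lit 0x28342010a070ce55) (.node (nat_lit 0x28142010a050ba75) (.node (nat_lit 0x28042010a040ba21) (.leaf (nat_lit 0x243c2010d0a06e85) (nat_lit 2048))
 (.leaf (nat_lit 0x28042010a040ba21) (nat_lit 1029))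
) (.node (nat_lit 0x28242010a060de21) (.leaf (nat_lit 0x28142010a050ba75) (nat_lit 1793))
 (.leaf (nat_lit 0x28242010a060de21) (nat_lit 1281))
)) (.node (nat_lit 0x2c18201050f04ad5) (.node (nat_lit 0x2c08201040e05a21) (.leaf (nat_lit 0x28342010a070ce55) (nat_lit 1792))
 (.leaf (nat_lit 0x2c08201040e05a21) (nat_lit 1026))
) (.node (nat_lit 0x2c28201060c0be21) (.leaf (nat_lit 0x2c18201050f04ad5) (nat_lit 1536))
 (.node (nat_lit 0x2c38201070d0bef5) (.leaf (nat_lit 0x2c28201060c0be21) (nat_lit 769))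
 (.leaf (nat_lit 0x2c38201070d0bef5) (nat_lit 1538))
)))))) (.node (nat_lit 0x48a420102428f621) (.node (nat_lit 0x3c18201050e04a9d) (.node (nat_lit 0x38042010b040aa99) (.node (nat_lit 0x342c2010d0b07ef9) (.node (nat_lit 0x341c2010e0b0fa7d) (.leaf (nat_lit 0x340c2010f0b0ead9) (nat_lit 1540))
 (.leaf (nat_lit 0x341c2010e0b0fa7d) (nat_lit 1542))
) (.node (nat_lit 0x343c2010c0b06e5d) (.leaf (nat_lit 0x342c2010d0b07ef9) (nat_lit 1798))
 (.leaf (nat_lit 0x343c2010c0b06e5d) (nat_lit 1281))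
)) (.node (nat_lit 0x38242010b060ce99) (.node (nat_lit 0x38142010b050aacd) (.leaf (nat_lit 0x38042010b040aa99) (nat_lit 1285))
 (.leaf (nat_lit 0x38142010b050aacd) (nat_lit 1798))
) (.node (nat_lit 0x38342010b070deed) (.leaf (nat_lit 0x38242010b060ce99) (nat_lit 1542))
 (.node (nat_lit 0x3c08201040f05a69) (.leaf (nat_lit 0x38342010b070deed) (nat_lit 1537))
 (.leaf (nat_lit 0x3c08201040f05a69) (nat_lit 1282))
)))) (.node (nat_lit 0x40802010945812e1) (.node (nat_lit 0x3c38201070c0ae9d) (.node (nat_lit 0x3c28201060d0ae49) (.leaf (nat_lit 0x3c18201050e04a9d) (nat_lit 1286))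
 (.leaf (nat_lit 0x3c28201060d0ae49) (nat_lit 1542))
) (.node (nat_lit 0x4080201084481221) (.leaf (nat_lit 0x3c38201070c0ae9d) (nat_lit 1025))
 (.leaf (nat_lit 0x4080201084481221) (nat_lit 260))
)) (.node (nat_lit 0x40802010b478d2e1) (.node (nat_lit 0x40802010a468d221) (.leaf (nat_lit 0x40802010945812e1) (nat_lit 1539))
 (.leaf (nat_lit 0x40802010a468d221) (nat_lit 1025))
) (.node (nat_lit 0x4884201004081221) (.leaf (nat_lit 0x40802010b478d2e1) (nat_lit 1281))
 (.node (nat_lit 0x48942010141812f5) (.leaf (nat_lit 0x4884201004081221) (nat_lit 770))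
 (.leaf (nat_lit 0x48942010141812f5) (nat_lit 1539))
))))) (.node (nat_lit 0x58b420102428e60d) (.node (nat_lit 0x50902010a478c25d) (.node (nat_lit 0x509020108458127d) (.node (nat_lit 0x48b420103438e6d5) (.leaf (nat_lit 0x48a420102428f621) (nat_lit 1026))
 (.leaf (nat_lit 0x48b420103438e6d5) (nat_lit 1282))
) (.node (nat_lit 0x50902010944812bd) (.leaf (nat_lit 0x509020108458127d) (nat_lit 1027))
 (.leaf (nat_lit 0x50902010944812bd) (nat_lit 1283))
)) (.node (nat_lit 0x58842010141812f9) (.node (nat_lit 0x50902010b468c29d) (.leaf (nat_lit 0x50902010a478c25d) (nat_lit 1536))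
 (.leaf (nat_lit 0x50902010b468c29d) (nat_lit 1286))
) (.node (nat_lit 0x589420100408122d) (.leaf (nat_lit 0x58842010141812f9) (nat_lit 1797))
 (.node (nat_lit 0x58a420103438f6f9) (.leaf (nat_lit 0x589420100408122d) (nat_lit 1539))
 (.leaf (nat_lit 0x58a420103438f6f9) (nat_lit 1798))
)))) (.node (nat_lit 0x60a02010b458aec1) (.node (nat_lit 0x60a0201094786ec1) (.node (nat_lit 0x60a0201084687e21) (.leaf (nat_lit 0x58b420102428e60d) (nat_lit 2048))
 (.leaf (nat_lit 0x60a0201084687e21) (nat_lit 518))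
) (.node (nat_lit 0x60a02010a448be21) (.leaf (nat_lit 0x60a0201094786ec1) (nat_lit 1798))
 (.leaf (nat_lit 0x60a02010a448be21) (nat_lit 770))
)) (.node (nat_lit 0x689420103438faf5) (.node (nat_lit 0x688420102428fa21) (.leaf (nat_lit 0x60a02010b458aec1) (nat_lit 1542))
 (.leaf (nat_lit 0x688420102428fa21) (nat_lit 1285))
) (.node (nat_lit 0x68a4201004081e21) (.leaf (nat_lit 0x689420103438faf5) (nat_lit 1542))
 (.node (nat_lit 0x68b4201014180ed5) (.leaf (nat_lit 0x68a4201004081e21) (nat_lit 1030))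
 (.leaf (nat_lit 0x68b4201014180ed5) (nat_lit 1798))
))))))) (.node (nat_lit 0xb4cc20103c04aa99) (.node (nat_lit 0x80e02010eca4f621) (.node (nat_lit 0x80c02010dc8412a1) (.node (nat_lit 0x788420103438ead9) (.node (nat_lit 0x70b02010a458be7d) (.node (nat_lit 0x70b0201094687ebd) (.leaf (nat_lit 0x70b0201084786e5d) (nat_lit 768))
 (.leaf (nat_lit 0x70b0201094687ebd) (nat_lit 1542))
) (.node (nat_lit 0x70b02010b448ae9d) (.leaf (nat_lit 0x70b02010a458be7d) (nat_lit 1537))
 (.leaf (nat_lit 0x70b02010b448ae9d) (nat_lit 1026))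
)) (.node (nat_lit 0x78a4201014180ed9) (.node (nat_lit 0x789420102428ea0d) (.leaf (nat_lit 0x788420103438ead9) (nat_lit 1541))
 (.leaf (nat_lit 0x789420102428ea0d) (nat_lit 1792))
) (.node (nat_lit 0x78b4201004081e2d) (.leaf (nat_lit 0x78a4201014180ed9) (nat_lit 1794))
 (.node (nat_lit 0x80c02010cc841221) (.leaf (nat_lit 0x78b4201004081e2d) (nat_lit 1280))
 (.leaf (nat_lit 0x80c02010cc841221) (nat_lit 513))
)))) (.node (nat_lit 0x80d02010dc9412f5) (.node (nat_lit 0x80c02010fc8492a1) (.node (nat_lit 0x80c02010ec849221) (.leaf (nat_lit 0x80c02010dc8412a1) (nat_lit 1283))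
 (.leaf (nat_lit 0x80c02010ec849221) (nat_lit 774))
) (.node (nat_lit 0x80d02010cc941275) (.leaf (nat_lit 0x80c02010fc8492a1) (nat_lit 1024))
 (.leaf (nat_lit 0x80d02010cc941275) (nat_lit 1283))
)) (.node (nat_lit 0x80d02010fc9482d5) (.node (nat_lit 0x80d02010ec948255) (.leaf (nat_lit 0x80d02010dc9412f5) (nat_lit 1539))
 (.leaf (nat_lit 0x80d02010ec948255) (nat_lit 1542))
) (.node (nat_lit 0x80e02010cca47621) (.leaf (nat_lit 0x80d02010fc9482d5) (nat_lit 1537))
 (.node (nat_lit 0x80e02010dca46681) (.leaf (nat_lit 0x80e02010cca47621) (nat_lit 769))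
 (.leaf (nat_lit 0x80e02010dca46681) (nat_lit 1792))
))))) (.node (nat_lit 0x84fc20100c041625) (.node (nat_lit 0x80f02010ecb4f675) (.node (nat_lit 0x80f02010ccb46655) (.node (nat_lit 0x80e02010fca4e681) (.leaf (nat_lit 0x80e02010eca4f621) (nat_lit 1026))
 (.leaf (nat_lit 0x80e02010fca4e681) (nat_lit 1536))
) (.node (nat_lit 0x80f02010dcb476f5) (.leaf (nat_lit 0x80f02010ccb46655) (nat_lit 1025))
 (.leaf (nat_lit 0x80f02010dcb476f5) (nat_lit 1542))
)) (.node (nat_lit 0x84cc20100c041221) (.node (nat_lit 0x80f02010fcb4e6d5) (.leaf (nat_lit 0x80f02010ecb4f675) (nat_lit 1286))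
 (.leaf (nat_lit 0x80f02010fcb4e6d5) (nat_lit 1282))
) (.node (nat_lit 0x84dc20100c041225) (.leaf (nat_lit 0x84cc20100c041221) (nat_lit 1026))
 (.node (nat_lit 0x84ec20100c041621) (.leaf (nat_lit 0x84dc20100c041225) (nat_lit 1795))
 (.leaf (nat_lit 0x84ec20100c041621) (nat_lit 1282))
)))) (.node (nat_lit 0x94fc20101c04069d) (.node (nat_lit 0x94dc20101c0412bd) (.node (nat_lit 0x94cc20101c0412b9) (.leaf (nat_lit 0x84fc20100c041625) (nat_lit 1538))
 (.leaf (nat_lit 0x94cc20101c0412b9) (nat_lit 2052))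
) (.node (nat_lit 0x94ec20101c040699) (.leaf (nat_lit 0x94dc20101c0412bd) (nat_lit 1795))
 (.leaf (nat_lit 0x94ec20101c040699) (nat_lit 2050))
)) (.node (nat_lit 0xa4dc20102c04aa05) (.node (nat_lit 0xa4cc20102c04ba21) (.leaf (nat_lit 0x94fc20101c04069d) (nat_lit 2050))
 (.leaf (nat_lit 0xa4cc20102c04ba21) (nat_lit 1540))
) (.node (nat_lit 0xa4ec20102c04be21) (.leaf (nat_lit 0xa4dc20102c04aa05) (nat_lit 2050))
 (.node (nat_lit 0xa4fc20102c04ae05) (.leaf (nat_lit 0xa4ec20102c04be21) (nat_lit 1282))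
 (.leaf (nat_lit 0xa4fc20102c04ae05) (nat_lit 2306))
)))))) (.node (nat_lit 0xdc682010082c6609) (.node (nat_lit 0xcc582010081c1275) (.node (nat_lit 0xc040201048cc1221) (.node (nat_lit 0xb4ec20103c04beb9) (.node (nat_lit 0xb4dc20103c04babd) (.leaf (nat_lit 0xb4cc20103c04aa99) (nat_lit 1796))
 (.leaf (nat_lit 0xb4dc20103c04babd) (nat_lit 1794))
) (.node (nat_lit 0xb4fc20103c04ae9d) (.leaf (nat_lit 0xb4ec20103c04beb9) (nat_lit 2050))
 (.leaf (nat_lit 0xb4fc20103c04ae9d) (nat_lit 1538))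
)) (.node (nat_lit 0xc040201048ec5221) (.node (nat_lit 0xc040201048dc1261) (.leaf (nat_lit 0xc040201048cc1221) (nat_lit 0))
 (.leaf (nat_lit 0xc040201048dc1261) (nat_lit 1283))
) (.node (nat_lit 0xc040201048fc5261) (.leaf (nat_lit 0xc040201048ec5221) (nat_lit 774))
 (.node (nat_lit 0xcc482010080c1221) (.leaf (nat_lit 0xc040201048fc5261) (nat_lit 1024))
 (.leaf (nat_lit 0xcc482010080c1221) (nat_lit 514))
)))) (.node (nat_lit 0xd040201058dc12f9) (.node (nat_lit 0xcc782010083c6655) (.node (nat_lit 0xcc682010082c7621) (.leaf (nat_lit 0xcc582010081c1275) (nat_lit 1283))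
 (.leaf (nat_lit 0xcc682010082c7621) (nat_lit 770))
) (.node (nat_lit 0xd040201058cc12b9) (.leaf (nat_lit 0xcc782010083c6655) (nat_lit 1026))
 (.leaf (nat_lit 0xd040201058cc12b9) (nat_lit 1027))
)) (.node (nat_lit 0xd040201058fc42d9) (.node (nat_lit 0xd040201058ec4299) (.leaf (nat_lit 0xd040201058dc12f9) (nat_lit 771))
 (.leaf (nat_lit 0xd040201058ec4299) (nat_lit 1030))
) (.node (nat_lit 0xdc482010080c1229) (.leaf (nat_lit 0xd040201058fc42d9) (nat_lit 1280))
 (.node (nat_lit 0xdc582010081c127d) (.leaf (nat_lit 0xdc482010080c1229) (nat_lit 1283))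
 (.leaf (nat_lit 0xdc582010081c127d) (nat_lit 1539))
))))) (.node (nat_lit 0xec782010083c7e75) (.node (nat_lit 0xe040201068ecfa21) (.node (nat_lit 0xe040201068ccba21) (.node (nat_lit 0xdc782010083c767d) (.leaf (nat_lit 0xdc682010082c6609) (nat_lit 1792))
 (.leaf (nat_lit 0xdc782010083c767d) (nat_lit 1542))
) (.node (nat_lit 0xe040201068dcaa41) (.leaf (nat_lit 0xe040201068ccba21) (nat_lit 513))
 (.leaf (nat_lit 0xe040201068dcaa41) (nat_lit 1286))
)) (.node (nat_lit 0xec482010080c1a21) (.node (nat_lit 0xe040201068fcea41) (.leaf (nat_lit 0xe040201068ecfa21) (nat_lit 262))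
 (.leaf (nat_lit 0xe040201068fcea41) (nat_lit 1536))
) (.node (nat_lit 0xec582010081c0a55) (.leaf (nat_lit 0xec482010080c1a21) (nat_lit 774))
 (.node (nat_lit 0xec682010082c7e21) (.leaf (nat_lit 0xec582010081c0a55) (nat_lit 1542))
 (.leaf (nat_lit 0xec682010082c7e21) (nat_lit 1026))
)))) (.node (nat_lit 0xf040201078fcead9) (.node (nat_lit 0xf040201078dcbaf9) (.node (nat_lit 0xf040201078ccaa99) (.leaf (nat_lit 0xec782010083c7e75) (nat_lit 1286))
 (.leaf (nat_lit 0xf040201078ccaa99) (nat_lit 769))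
) (.node (nat_lit 0xf040201078ecfab9) (.leaf (nat_lit 0xf040201078dcbaf9) (nat_lit 1537))
 (.leaf (nat_lit 0xf040201078ecfab9) (nat_lit 1286))
)) (.node (nat_lit 0xfc582010081c0a5d) (.node (nat_lit 0xfc482010080c1a29) (.leaf (nat_lit 0xf040201078fcead9) (nat_lit 512))
 (.leaf (nat_lit 0xfc482010080c1a29) (nat_lit 1024))
) (.node (nat_lit 0xfc682010082c6e09) (.leaf (nat_lit 0xfc582010081c0a5d) (nat_lit 1538))
 (.node (nat_lit 0xfc782010083c6e5d) (.leaf (nat_lit 0xfc682010082c6e09) (nat_lit 1536))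
 (.leaf (nat_lit 0xfc782010083c6e5d) (nat_lit 1282))
))))))))

theorem I14_ok : orbOK B8.A [(nat_lit 0x8040301008040203), (nat_lit 0xc0402010080c0201), (nat_lit 0x8040201048840201), (nat_lit 0x8040203008040301), (nat_lit 0x80c020100c040201), (nat_lit 0x8448201008040201), (nat_lit 0x8060201008040601)] (nat_lit 0xc040201048cc1221) I14_t (nat_lit 144) = true := by decide +kernel

noncomputable def I15_t : ST :=
(.node (nat_lit 0x8448102008042112) (.node (nat_lit 0x3408102040b0695a) (.node (nat_lit 0x1428102050a075ba) (.node (nat_lit 0x43810207080a596) (.node (nat_lit 0x41820307080b3a5) (.node (nat_lit 0x408301040801233) (.node (nat_lit 0x408203040803321) (.leaf (nat_lit 0x408102040802112) (nat_lit 517))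
 (.leaf (nat_lit 0x408203040803321) (nat_lit 773))
) (.node (nat_lit 0x41810206080a116) (.leaf (nat_lit 0x408301040801233) (nat_lit 261))
 (.leaf (nat_lit 0x41810206080a116) (nat_lit 774))
)) (.node (nat_lit 0x428102050802592) (.node (nat_lit 0x4183010508012b7) (.leaf (nat_lit 0x41820307080b3a5) (nat_lit 1024))
 (.leaf (nat_lit 0x4183010508012b7) (nat_lit 1026))
) (.node (nat_lit 0x42820306080b721) (.leaf (nat_lit 0x428102050802592) (nat_lit 1029))
 (.node (nat_lit 0x4283010708096b3) (.leaf (nat_lit 0x42820306080b721) (nat_lit 1030))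
 (.leaf (nat_lit 0x4283010708096b3) (nat_lit 768))
)))) (.node (nat_lit 0x1408203040b07369) (.node (nat_lit 0x438301060809637) (.node (nat_lit 0x4382030508037a5) (.leaf (nat_lit 0x43810207080a596) (nat_lit 1280))
 (.leaf (nat_lit 0x4382030508037a5) (nat_lit 1283))
) (.node (nat_lit 0x1408102040a0611a) (.leaf (nat_lit 0x438301060809637) (nat_lit 518))
 (.leaf (nat_lit 0x1408102040a0611a) (nat_lit 1284))
)) (.node (nat_lit 0x1418102060a0e11e) (.node (nat_lit 0x140830104090127b) (.leaf (nat_lit 0x1408203040b07369) (nat_lit 1540))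
 (.leaf (nat_lit 0x140830104090127b) (nat_lit 1540))
) (.node (nat_lit 0x1418203070b0f3ed) (.leaf (nat_lit 0x1418102060a0e11e) (nat_lit 1025))
 (.node (nat_lit 0x14183010509012ff) (.leaf (nat_lit 0x1418203070b0f3ed) (nat_lit 1281))
 (.leaf (nat_lit 0x14183010509012ff) (nat_lit 1282))
))))) (.node (nat_lit 0x241810206090b976) (.node (nat_lit 0x1438203050b067cd) (.node (nat_lit 0x14283010709086db) (.node (nat_lit 0x1428203060b0e749) (.leaf (nat_lit 0x1428102050a075ba) (nat_lit 1792))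
 (.leaf (nat_lit 0x1428203060b0e749) (nat_lit 1798))
) (.node (nat_lit 0x1438102070a0f5be) (.leaf (nat_lit 0x14283010709086db) (nat_lit 1542))
 (.leaf (nat_lit 0x1438102070a0f5be) (nat_lit 1793))
)) (.node (nat_lit 0x2408102040902952) (.node (nat_lit 0x143830106090865f) (.leaf (nat_lit 0x1438203050b067cd) (nat_lit 1542))
 (.leaf (nat_lit 0x143830106090865f) (nat_lit 1798))
) (.node (nat_lit 0x2408203040a07b21) (.leaf (nat_lit 0x2408102040902952) (nat_lit 1541))
 (.node (nat_lit 0x2408301040b05a73) (.leaf (nat_lit 0x2408203040a07b21) (nat_lit 1540))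
 (.leaf (nat_lit 0x2408301040b05a73) (nat_lit 1284))
)))) (.node (nat_lit 0x2428203060a0ff21) (.node (nat_lit 0x2418301050b04ad7) (.node (nat_lit 0x2418203070a0eb85) (.leaf (nat_lit 0x241810206090b976) (nat_lit 1798))
 (.leaf (nat_lit 0x2418203070a0eb85) (nat_lit 2049))
) (.node (nat_lit 0x2428102050902dd2) (.leaf (nat_lit 0x2418301050b04ad7) (nat_lit 1286))
 (.leaf (nat_lit 0x2428102050902dd2) (nat_lit 1285))
)) (.node (nat_lit 0x243810207090bdf6) (.node (nat_lit 0x2428301070b0def3) (.leaf (nat_lit 0x2428203060a0ff21) (nat_lit 1281))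
 (.leaf (nat_lit 0x2428301070b0def3) (nat_lit 1025))
) (.node (nat_lit 0x2438203050a06f85) (.leaf (nat_lit 0x243810207090bdf6) (nat_lit 1542))
 (.node (nat_lit 0x2438301060b0ce57) (.leaf (nat_lit 0x2438203050a06f85) (nat_lit 1793))
 (.leaf (nat_lit 0x2438301060b0ce57) (nat_lit 1542))
)))))) (.node (nat_lit 0x804020306884b321) (.node (nat_lit 0x3438102070b0edde) (.node (nat_lit 0x341820307090abcd) (.node (nat_lit 0x3408301040a05a3b) (.node (nat_lit 0x3408203040903b69) (.leaf (nat_lit 0x3408102040b0695a) (nat_lit 1796))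
 (.leaf (nat_lit 0x3408203040903b69) (nat_lit 1796))
) (.node (nat_lit 0x3418102060b0f97e) (.leaf (nat_lit 0x3408301040a05a3b) (nat_lit 1028))
 (.leaf (nat_lit 0x3418102060b0f97e) (nat_lit 2054))
)) (.node (nat_lit 0x3428102050b07dfa) (.node (nat_lit 0x3418301050a04a9f) (.leaf (nat_lit 0x341820307090abcd) (nat_lit 1798))
 (.leaf (nat_lit 0x3418301050a04a9f) (nat_lit 1536))
) (.node (nat_lit 0x342820306090af49) (.leaf (nat_lit 0x3428102050b07dfa) (nat_lit 1798))
 (.node (nat_lit 0x3428301070a0ce9b) (.leaf (nat_lit 0x342820306090af49) (nat_lit 1792))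
 (.leaf (nat_lit 0x3428301070a0ce9b) (nat_lit 1538))
)))) (.node (nat_lit 0x8040102048b46152) (.node (nat_lit 0x3438301060a0de3f) (.node (nat_lit 0x3438203050903fed) (.leaf (nat_lit 0x3438102070b0edde) (nat_lit 1537))
 (.leaf (nat_lit 0x3438203050903fed) (nat_lit 1539))
) (.node (nat_lit 0x8040102048842112) (.leaf (nat_lit 0x3438301060a0de3f) (nat_lit 769))
 (.leaf (nat_lit 0x8040102048842112) (nat_lit 259))
)) (.node (nat_lit 0x8040102078b4e1d2) (.node (nat_lit 0x804010207884a192) (.leaf (nat_lit 0x8040102048b46152) (nat_lit 1540))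
 (.leaf (nat_lit 0x804010207884a192) (nat_lit 1024))
) (.node (nat_lit 0x8040203048843321) (.leaf (nat_lit 0x8040102078b4e1d2) (nat_lit 1281))
 (.node (nat_lit 0x8040203048a47321) (.leaf (nat_lit 0x8040203048843321) (nat_lit 512))
 (.leaf (nat_lit 0x8040203048a47321) (nat_lit 1284))
))))) (.node (nat_lit 0x80503010789482d7) (.node (nat_lit 0x80403010588412b3) (.node (nat_lit 0x8040301048841233) (.node (nat_lit 0x8040203068a4f321) (.leaf (nat_lit 0x804020306884b321) (nat_lit 774))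
 (.leaf (nat_lit 0x8040203068a4f321) (nat_lit 1025))
) (.node (nat_lit 0x8040301048941273) (.leaf (nat_lit 0x8040301048841233) (nat_lit 0))
 (.leaf (nat_lit 0x8040301048941273) (nat_lit 1284))
)) (.node (nat_lit 0x8050301068849237) (.node (nat_lit 0x80403010589412f3) (.leaf (nat_lit 0x80403010588412b3) (nat_lit 774))
 (.leaf (nat_lit 0x80403010589412f3) (nat_lit 1025))
) (.node (nat_lit 0x8050301068948257) (.leaf (nat_lit 0x8050301068849237) (nat_lit 262))
 (.node (nat_lit 0x80503010788492b7) (.leaf (nat_lit 0x8050301068948257) (nat_lit 1537))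
 (.leaf (nat_lit 0x80503010788492b7) (nat_lit 512))
)))) (.node (nat_lit 0x8060203078a4e781) (.node (nat_lit 0x8060203058a46781) (.node (nat_lit 0x80602030588437a1) (.leaf (nat_lit 0x80503010789482d7) (nat_lit 1286))
 (.leaf (nat_lit 0x80602030588437a1) (nat_lit 1026))
) (.node (nat_lit 0x806020307884b7a1) (.leaf (nat_lit 0x8060203058a46781) (nat_lit 1537))
 (.leaf (nat_lit 0x806020307884b7a1) (nat_lit 768))
)) (.node (nat_lit 0x8070102058b475f6) (.node (nat_lit 0x8070102058842596) (.leaf (nat_lit 0x8060203078a4e781) (nat_lit 1793))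
 (.leaf (nat_lit 0x8070102058842596) (nat_lit 770))
) (.node (nat_lit 0x807010206884a516) (.leaf (nat_lit 0x8070102058b475f6) (nat_lit 1542))
 (.node (nat_lit 0x8070102068b4f576) (.leaf (nat_lit 0x807010206884a516) (nat_lit 518))
 (.leaf (nat_lit 0x8070102068b4f576) (nat_lit 1798))
))))))) (.node (nat_lit 0xa060203058943fe1) (.node (nat_lit 0x9050301078a4c29f) (.node (nat_lit 0x8478102008042516) (.node (nat_lit 0x845820302804b325) (.node (nat_lit 0x8448301008041233) (.node (nat_lit 0x8448203008043321) (.leaf (nat_lit 0x8448102008042112) (nat_lit 770))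
 (.leaf (nat_lit 0x8448203008043321) (nat_lit 1026))
) (.node (nat_lit 0x845810203804a196) (.leaf (nat_lit 0x8448301008041233) (nat_lit 514))
 (.leaf (nat_lit 0x845810203804a196) (nat_lit 1026))
)) (.node (nat_lit 0x846810203804a592) (.node (nat_lit 0x8458301008041237) (.leaf (nat_lit 0x845820302804b325) (nat_lit 1282))
 (.leaf (nat_lit 0x8458301008041237) (nat_lit 774))
) (.node (nat_lit 0x8468203008043721) (.leaf (nat_lit 0x846810203804a592) (nat_lit 1285))
 (.node (nat_lit 0x84683010180416b3) (.leaf (nat_lit 0x8468203008043721) (nat_lit 1282))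
 (.leaf (nat_lit 0x84683010180416b3) (nat_lit 1026))
)))) (.node (nat_lit 0x9040301048b4527b) (.node (nat_lit 0x84783010180416b7) (.node (nat_lit 0x847820302804b725) (.leaf (nat_lit 0x8478102008042516) (nat_lit 1030))
 (.leaf (nat_lit 0x847820302804b725) (nat_lit 1539))
) (.node (nat_lit 0x9040301048a4523b) (.leaf (nat_lit 0x84783010180416b7) (nat_lit 770))
 (.leaf (nat_lit 0x9040301048a4523b) (nat_lit 772))
)) (.node (nat_lit 0x9040301058b442db) (.node (nat_lit 0x9040301058a4429b) (.leaf (nat_lit 0x9040301048b4527b) (nat_lit 1028))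
 (.leaf (nat_lit 0x9040301058a4429b) (nat_lit 1280))
) (.node (nat_lit 0x9050301068a4d23f) (.leaf (nat_lit 0x9040301058b442db) (nat_lit 1030))
 (.node (nat_lit 0x9050301068b4c25f) (.leaf (nat_lit 0x9050301068a4d23f) (nat_lit 513))
 (.leaf (nat_lit 0x9050301068b4c25f) (nat_lit 1286))
))))) (.node (nat_lit 0x9468203008246709) (.node (nat_lit 0x944830100804123b) (.node (nat_lit 0x944810200834615a) (.node (nat_lit 0x9050301078b4d2ff) (.leaf (nat_lit 0x9050301078a4c29f) (nat_lit 1536))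
 (.leaf (nat_lit 0x9050301078b4d2ff) (nat_lit 769))
) (.node (nat_lit 0x9448203008247329) (.leaf (nat_lit 0x944810200834615a) (nat_lit 1540))
 (.leaf (nat_lit 0x9448203008247329) (nat_lit 1796))
)) (.node (nat_lit 0x945820302824f32d) (.node (nat_lit 0x945810203834e1de) (.leaf (nat_lit 0x944830100804123b) (nat_lit 1284))
 (.leaf (nat_lit 0x945810203834e1de) (nat_lit 1282))
) (.node (nat_lit 0x945830100804123f) (.leaf (nat_lit 0x945820302824f32d) (nat_lit 1538))
 (.node (nat_lit 0x946810203834f5fa) (.leaf (nat_lit 0x945830100804123f) (nat_lit 1025))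
 (.leaf (nat_lit 0x946810203834f5fa) (nat_lit 1542))
)))) (.node (nat_lit 0x947830101804069f) (.node (nat_lit 0x947810200834757e) (.node (nat_lit 0x946830101804069b) (.leaf (nat_lit 0x9468203008246709) (nat_lit 2050))
 (.leaf (nat_lit 0x946830101804069b) (nat_lit 1537))
) (.node (nat_lit 0x947820302824e70d) (.leaf (nat_lit 0x947810200834757e) (nat_lit 1798))
 (.leaf (nat_lit 0x947820302824e70d) (nat_lit 1794))
)) (.node (nat_lit 0xa040203048b47b61) (.node (nat_lit 0xa040203048943b61) (.leaf (nat_lit 0x947830101804069f) (nat_lit 1793))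
 (.leaf (nat_lit 0xa040203048943b61) (nat_lit 1540))
) (.node (nat_lit 0xa04020306894ab41) (.leaf (nat_lit 0xa040203048b47b61) (nat_lit 1284))
 (.node (nat_lit 0xa040203068b4eb41) (.leaf (nat_lit 0xa04020306894ab41) (nat_lit 1536))
 (.leaf (nat_lit 0xa040203068b4eb41) (nat_lit 1542))
)))))) (.node (nat_lit 0xb04010207894b9fa) (.node (nat_lit 0xa458301008140a57) (.node (nat_lit 0xa448102008346952) (.node (nat_lit 0xa06020307894afc1) (.node (nat_lit 0xa060203058b46fc1) (.leaf (nat_lit 0xa060203058943fe1) (nat_lit 1282))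
 (.leaf (nat_lit 0xa060203058b46fc1) (nat_lit 1286))
) (.node (nat_lit 0xa060203078b4ffe1) (.leaf (nat_lit 0xa06020307894afc1) (nat_lit 1542))
 (.leaf (nat_lit 0xa060203078b4ffe1) (nat_lit 1025))
)) (.node (nat_lit 0xa448301008141a73) (.node (nat_lit 0xa448203008043b21) (.leaf (nat_lit 0xa448102008346952) (nat_lit 1797))
 (.leaf (nat_lit 0xa448203008043b21) (nat_lit 1796))
) (.node (nat_lit 0xa45810203834f9f6) (.leaf (nat_lit 0xa448301008141a73) (nat_lit 1540))
 (.node (nat_lit 0xa45820302804ab05) (.leaf (nat_lit 0xa45810203834f9f6) (nat_lit 1798))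
 (.leaf (nat_lit 0xa45820302804ab05) (nat_lit 2306))
)))) (.node (nat_lit 0xa478102008347d76) (.node (nat_lit 0xa468203008043f21) (.node (nat_lit 0xa46810203834edd2) (.leaf (nat_lit 0xa458301008140a57) (nat_lit 1538))
 (.leaf (nat_lit 0xa46810203834edd2) (nat_lit 1541))
) (.node (nat_lit 0xa468301018141ef3) (.leaf (nat_lit 0xa468203008043f21) (nat_lit 1538))
 (.leaf (nat_lit 0xa468301018141ef3) (nat_lit 1282))
)) (.node (nat_lit 0xa478301018140ed7) (.node (nat_lit 0xa47820302804af05) (.leaf (nat_lit 0xa478102008347d76) (nat_lit 1794))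
 (.leaf (nat_lit 0xa47820302804af05) (nat_lit 2050))
) (.node (nat_lit 0xb04010204894295a) (.leaf (nat_lit 0xa478301018140ed7) (nat_lit 1542))
 (.node (nat_lit 0xb040102048a4691a) (.leaf (nat_lit 0xb04010204894295a) (nat_lit 1284))
 (.leaf (nat_lit 0xb040102048a4691a) (nat_lit 1028))
))))) (.node (nat_lit 0xb45810203804b9be) (.node (nat_lit 0xb07010206894bd7e) (.node (nat_lit 0xb070102058942dde) (.node (nat_lit 0xb040102078a4f9ba) (.leaf (nat_lit 0xb04010207894b9fa) (nat_lit 1286))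
 (.leaf (nat_lit 0xb040102078a4f9ba) (nat_lit 1537))
) (.node (nat_lit 0xb070102058a47dbe) (.leaf (nat_lit 0xb070102058942dde) (nat_lit 1026))
 (.leaf (nat_lit 0xb070102058a47dbe) (nat_lit 1536))
)) (.node (nat_lit 0xb44810200804291a) (.node (nat_lit 0xb070102068a4ed1e) (.leaf (nat_lit 0xb07010206894bd7e) (nat_lit 1542))
 (.leaf (nat_lit 0xb070102068a4ed1e) (nat_lit 769))
) (.node (nat_lit 0xb448203008247b29) (.leaf (nat_lit 0xb44810200804291a) (nat_lit 1540))
 (.node (nat_lit 0xb448301008141a7b) (.leaf (nat_lit 0xb448203008247b29) (nat_lit 2052))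
 (.leaf (nat_lit 0xb448301008141a7b) (nat_lit 1284))
)))) (.node (nat_lit 0xb468203008246f09) (.node (nat_lit 0xb458301008140a5f) (.node (nat_lit 0xb45820302824eb0d) (.leaf (nat_lit 0xb45810203804b9be) (nat_lit 2049))
 (.leaf (nat_lit 0xb45820302824eb0d) (nat_lit 2050))
) (.node (nat_lit 0xb46810203804bdba) (.leaf (nat_lit 0xb458301008140a5f) (nat_lit 1542))
 (.leaf (nat_lit 0xb46810203804bdba) (nat_lit 1793))
)) (.node (nat_lit 0xb478102008042d1e) (.node (nat_lit 0xb468301018140edb) (.leaf (nat_lit 0xb468203008246f09) (nat_lit 2050))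
 (.leaf (nat_lit 0xb468301018140edb) (nat_lit 1286))
) (.node (nat_lit 0xb47820302824ff2d) (.leaf (nat_lit 0xb478102008042d1e) (nat_lit 1281))
 (.node (nat_lit 0xb478301018141eff) (.leaf (nat_lit 0xb47820302824ff2d) (nat_lit 1795))
 (.leaf (nat_lit 0xb478301018141eff) (nat_lit 1026))
))))))))

theorem I15_ok : orbOK B8.A [(nat_lit 0x8040301008040203), (nat_lit 0xc0402010080c0201), (nat_lit 0x8040201048840201), (nat_lit 0x8040203008040301), (nat_lit 0x80c020100c040201), (nat_lit 0x8448201008040201), (nat_lit 0x8060201008040601)] (nat_lit 0x8040301048841233) I15_t (nat_lit 144) = true := by decide +kernel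

noncomputable def I16_t : ST :=
(.node (nat_lit 0x90e030100c04163b) (.node (nat_lit 0x7090203004083b2d) (.node (nat_lit 0x50a010202418a55a) (.node (nat_lit 0x40803010141812f3) (.node (nat_lit 0x4080203004083321) (.node (nat_lit 0x408010202418a152) (.node (nat_lit 0x4080102014286192) (.leaf (nat_lit 0x4080102004082112) (nat_lit 516))
 (.leaf (nat_lit 0x4080102014286192) (nat_lit 1285))
) (.node (nat_lit 0x408010203438e1d2) (.leaf (nat_lit 0x408010202418a152) (nat_lit 1541))
 (.leaf (nat_lit 0x408010203438e1d2) (nat_lit 1797))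
)) (.node (nat_lit 0x408020302428f321) (.node (nat_lit 0x40802030143873e1) (.leaf (nat_lit 0x4080203004083321) (nat_lit 772))
 (.leaf (nat_lit 0x40802030143873e1) (nat_lit 1541))
) (.node (nat_lit 0x408020303418b3e1) (.leaf (nat_lit 0x408020302428f321) (nat_lit 1541))
 (.node (nat_lit 0x4080301004081233) (.leaf (nat_lit 0x408020303418b3e1) (nat_lit 1797))
 (.leaf (nat_lit 0x4080301004081233) (nat_lit 260))
)))) (.node (nat_lit 0x50903010141812ff) (.node (nat_lit 0x408030103428d2b3) (.node (nat_lit 0x408030102438d273) (.leaf (nat_lit 0x40803010141812f3) (nat_lit 1541))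
 (.leaf (nat_lit 0x408030102438d273) (nat_lit 1285))
) (.node (nat_lit 0x509030100408123f) (.leaf (nat_lit 0x408030103428d2b3) (nat_lit 1029))
 (.leaf (nat_lit 0x509030100408123f) (nat_lit 1025))
)) (.node (nat_lit 0x509030103428c29f) (.node (nat_lit 0x509030102438c25f) (.leaf (nat_lit 0x50903010141812ff) (nat_lit 1282))
 (.leaf (nat_lit 0x509030102438c25f) (nat_lit 1286))
) (.node (nat_lit 0x50a010200408251a) (.leaf (nat_lit 0x509030103428c29f) (nat_lit 1536))
 (.node (nat_lit 0x50a01020142875ba) (.leaf (nat_lit 0x50a010200408251a) (nat_lit 1028))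
 (.leaf (nat_lit 0x50a01020142875ba) (nat_lit 1792))
))))) (.node (nat_lit 0x609010203438f9f6) (.node (nat_lit 0x50b020302428e70d) (.node (nat_lit 0x50b020300408372d) (.node (nat_lit 0x50a010203438f5fa) (.leaf (nat_lit 0x50a010202418a55a) (nat_lit 1284))
 (.leaf (nat_lit 0x50a010203438f5fa) (nat_lit 1798))
) (.node (nat_lit 0x50b02030143867cd) (.leaf (nat_lit 0x50b020300408372d) (nat_lit 1283))
 (.leaf (nat_lit 0x50b02030143867cd) (nat_lit 1542))
)) (.node (nat_lit 0x6090102004082916) (.node (nat_lit 0x50b020303418b7ed) (.leaf (nat_lit 0x50b020302428e70d) (nat_lit 1794))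
 (.leaf (nat_lit 0x50b020303418b7ed) (nat_lit 1539))
) (.node (nat_lit 0x6090102014286996) (.leaf (nat_lit 0x6090102004082916) (nat_lit 774))
 (.node (nat_lit 0x609010202418b976) (.leaf (nat_lit 0x6090102014286996) (nat_lit 1026))
 (.leaf (nat_lit 0x609010202418b976) (nat_lit 1798))
)))) (.node (nat_lit 0x60a020303418afc1) (.node (nat_lit 0x60a0203014386fc1) (.node (nat_lit 0x60a0203004083f21) (.leaf (nat_lit 0x609010203438f9f6) (nat_lit 2054))
 (.leaf (nat_lit 0x60a0203004083f21) (nat_lit 1030))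
) (.node (nat_lit 0x60a020302428ff21) (.leaf (nat_lit 0x60a0203014386fc1) (nat_lit 1798))
 (.leaf (nat_lit 0x60a020302428ff21) (nat_lit 1282))
)) (.node (nat_lit 0x60b0301014180ed7) (.node (nat_lit 0x60b0301004081e37) (.leaf (nat_lit 0x60a020303418afc1) (nat_lit 1792))
 (.leaf (nat_lit 0x60b0301004081e37) (nat_lit 518))
) (.node (nat_lit 0x60b030102438ce57) (.leaf (nat_lit 0x60b0301014180ed7) (nat_lit 1798))
 (.node (nat_lit 0x60b030103428deb7) (.leaf (nat_lit 0x60b030102438ce57) (nat_lit 1542))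
 (.leaf (nat_lit 0x60b030103428deb7) (nat_lit 770))
)))))) (.node (nat_lit 0x80c020302c04b321) (.node (nat_lit 0x70b0102014287dbe) (.node (nat_lit 0x70a0301004081e3b) (.node (nat_lit 0x709020302428eb0d) (.node (nat_lit 0x7090203014387bed) (.leaf (nat_lit 0x7090203004083b2d) (nat_lit 1024))
 (.leaf (nat_lit 0x7090203014387bed) (nat_lit 1282))
) (.node (nat_lit 0x709020303418abcd) (.leaf (nat_lit 0x709020302428eb0d) (nat_lit 2050))
 (.leaf (nat_lit 0x709020303418abcd) (nat_lit 1798))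
)) (.node (nat_lit 0x70a030102438de7b) (.node (nat_lit 0x70a0301014180edb) (.leaf (nat_lit 0x70a0301004081e3b) (nat_lit 768))
 (.leaf (nat_lit 0x70a0301014180edb) (nat_lit 1542))
) (.node (nat_lit 0x70a030103428ce9b) (.leaf (nat_lit 0x70a030102438de7b) (nat_lit 1026))
 (.node (nat_lit 0x70b0102004082d1e) (.leaf (nat_lit 0x70a030103428ce9b) (nat_lit 1537))
 (.leaf (nat_lit 0x70b0102004082d1e) (nat_lit 1280))
)))) (.node (nat_lit 0x80c010201c3461d2) (.node (nat_lit 0x70b010203438edde) (.node (nat_lit 0x70b010202418bd7e) (.leaf (nat_lit 0x70b0102014287dbe) (nat_lit 1794))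
 (.leaf (nat_lit 0x70b010202418bd7e) (nat_lit 1542))
) (.node (nat_lit 0x80c010200c042112) (.leaf (nat_lit 0x70b010203438edde) (nat_lit 1538))
 (.leaf (nat_lit 0x80c010200c042112) (nat_lit 769))
)) (.node (nat_lit 0x80c010203c04a192) (.node (nat_lit 0x80c010202c34e152) (.leaf (nat_lit 0x80c010201c3461d2) (nat_lit 1541))
 (.leaf (nat_lit 0x80c010202c34e152) (nat_lit 1797))
) (.node (nat_lit 0x80c020300c043321) (.leaf (nat_lit 0x80c010203c04a192) (nat_lit 1541))
 (.node (nat_lit 0x80c020301c2473a1) (.leaf (nat_lit 0x80c020300c043321) (nat_lit 1025))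
 (.leaf (nat_lit 0x80c020301c2473a1) (nat_lit 1797))
))))) (.node (nat_lit 0x80d030103c1482d7) (.node (nat_lit 0x80c030102c149273) (.node (nat_lit 0x80c030100c041233) (.node (nat_lit 0x80c020303c24f3a1) (.leaf (nat_lit 0x80c020302c04b321) (nat_lit 1797))
 (.leaf (nat_lit 0x80c020303c24f3a1) (nat_lit 2053))
) (.node (nat_lit 0x80c030101c0412b3) (.leaf (nat_lit 0x80c030100c041233) (nat_lit 513))
 (.leaf (nat_lit 0x80c030101c0412b3) (nat_lit 1285))
)) (.node (nat_lit 0x80d030100c041237) (.node (nat_lit 0x80c030103c1492f3) (.leaf (nat_lit 0x80c030102c149273) (nat_lit 1541))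
 (.leaf (nat_lit 0x80c030103c1492f3) (nat_lit 1285))
) (.node (nat_lit 0x80d030101c0412b7) (.leaf (nat_lit 0x80d030100c041237) (nat_lit 774))
 (.node (nat_lit 0x80d030102c148257) (.leaf (nat_lit 0x80d030101c0412b7) (nat_lit 1026))
 (.leaf (nat_lit 0x80d030102c148257) (nat_lit 1537))
)))) (.node (nat_lit 0x80e020303c24e781) (.node (nat_lit 0x80e020301c246781) (.node (nat_lit 0x80e020300c043721) (.leaf (nat_lit 0x80d030103c1482d7) (nat_lit 1542))
 (.leaf (nat_lit 0x80e020300c043721) (nat_lit 1281))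
) (.node (nat_lit 0x80e020302c04b721) (.leaf (nat_lit 0x80e020301c246781) (nat_lit 2049))
 (.leaf (nat_lit 0x80e020302c04b721) (nat_lit 1538))
)) (.node (nat_lit 0x80f010201c3475f6) (.node (nat_lit 0x80f010200c042516) (.leaf (nat_lit 0x80e020303c24e781) (nat_lit 2049))
 (.leaf (nat_lit 0x80f010200c042516) (nat_lit 1030))
) (.node (nat_lit 0x80f010202c34f576) (.leaf (nat_lit 0x80f010201c3475f6) (nat_lit 1798))
 (.node (nat_lit 0x80f010203c04a596) (.leaf (nat_lit 0x80f010202c34f576) (nat_lit 1793))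
 (.leaf (nat_lit 0x80f010203c04a596) (nat_lit 1282))
))))))) (.node (nat_lit 0xd0403010080c123b) (.node (nat_lit 0xb0d010202c34f97e) (.node (nat_lit 0xa0d020301c247ba5) (.node (nat_lit 0x90f030100c04163f) (.node (nat_lit 0x90e030102c14967b) (.node (nat_lit 0x90e030101c04069b) (.leaf (nat_lit 0x90e030100c04163b) (nat_lit 1025))
 (.leaf (nat_lit 0x90e030101c04069b) (nat_lit 1538))
) (.node (nat_lit 0x90e030103c1486db) (.leaf (nat_lit 0x90e030102c14967b) (nat_lit 1282))
 (.leaf (nat_lit 0x90e030103c1486db) (nat_lit 1286))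
)) (.node (nat_lit 0x90f030102c14865f) (.node (nat_lit 0x90f030101c04069f) (.leaf (nat_lit 0x90f030100c04163f) (nat_lit 769))
 (.leaf (nat_lit 0x90f030101c04069f) (nat_lit 1794))
) (.node (nat_lit 0x90f030103c1496ff) (.leaf (nat_lit 0x90f030102c14865f) (nat_lit 1542))
 (.node (nat_lit 0xa0d020300c043b25) (.leaf (nat_lit 0x90f030103c1496ff) (nat_lit 1026))
 (.leaf (nat_lit 0xa0d020300c043b25) (nat_lit 1281))
)))) (.node (nat_lit 0xa0f020301c246f85) (.node (nat_lit 0xa0d020303c24eb85) (.node (nat_lit 0xa0d020302c04ab05) (.leaf (nat_lit 0xa0d020301c247ba5) (nat_lit 1538))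
 (.leaf (nat_lit 0xa0d020302c04ab05) (nat_lit 2306))
) (.node (nat_lit 0xa0f020300c043f25) (.leaf (nat_lit 0xa0d020303c24eb85) (nat_lit 2049))
 (.leaf (nat_lit 0xa0f020300c043f25) (nat_lit 1539))
)) (.node (nat_lit 0xa0f020303c24ffa5) (.node (nat_lit 0xa0f020302c04af05) (.leaf (nat_lit 0xa0f020301c246f85) (nat_lit 1793))
 (.leaf (nat_lit 0xa0f020302c04af05) (nat_lit 2050))
) (.node (nat_lit 0xb0d010200c04291e) (.leaf (nat_lit 0xa0f020303c24ffa5) (nat_lit 1795))
 (.node (nat_lit 0xb0d010201c3469de) (.leaf (nat_lit 0xb0d010200c04291e) (nat_lit 1025))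
 (.leaf (nat_lit 0xb0d010201c3469de) (nat_lit 1282))
))))) (.node (nat_lit 0xc0401020382ce192) (.node (nat_lit 0xb0e010202c34ed5a) (.node (nat_lit 0xb0e010200c042d1a) (.node (nat_lit 0xb0d010203c04b9be) (.leaf (nat_lit 0xb0d010202c34f97e) (nat_lit 1798))
 (.leaf (nat_lit 0xb0d010203c04b9be) (nat_lit 2050))
) (.node (nat_lit 0xb0e010201c347dfa) (.leaf (nat_lit 0xb0e010200c042d1a) (nat_lit 1284))
 (.leaf (nat_lit 0xb0e010201c347dfa) (nat_lit 1542))
)) (.node (nat_lit 0xc0401020080c2112) (.node (nat_lit 0xb0e010203c04bdba) (.leaf (nat_lit 0xb0e010202c34ed5a) (nat_lit 1540))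
 (.leaf (nat_lit 0xb0e010203c04bdba) (nat_lit 1794))
) (.node (nat_lit 0xc0401020083c6152) (.leaf (nat_lit 0xc0401020080c2112) (nat_lit 259))
 (.node (nat_lit 0xc0401020381ca1d2) (.leaf (nat_lit 0xc0401020083c6152) (nat_lit 1541))
 (.leaf (nat_lit 0xc0401020381ca1d2) (nat_lit 1285))
)))) (.node (nat_lit 0xc0402030283cf361) (.node (nat_lit 0xc0402030082c7321) (.node (nat_lit 0xc0402030080c3321) (.leaf (nat_lit 0xc0401020382ce192) (nat_lit 1029))
 (.leaf (nat_lit 0xc0402030080c3321) (nat_lit 512))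
) (.node (nat_lit 0xc0402030281cb361) (.leaf (nat_lit 0xc0402030082c7321) (nat_lit 1285))
 (.leaf (nat_lit 0xc0402030281cb361) (nat_lit 1541))
)) (.node (nat_lit 0xc0403010081c1273) (.node (nat_lit 0xc0403010080c1233) (.leaf (nat_lit 0xc0402030283cf361) (nat_lit 1285))
 (.leaf (nat_lit 0xc0403010080c1233) (nat_lit 0))
) (.node (nat_lit 0xc0403010182c52b3) (.leaf (nat_lit 0xc0403010081c1273) (nat_lit 1285))
 (.node (nat_lit 0xc0403010183c52f3) (.leaf (nat_lit 0xc0403010182c52b3) (nat_lit 773))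
 (.leaf (nat_lit 0xc0403010183c52f3) (nat_lit 1029))
)))))) (.node (nat_lit 0xe0503010182c5ab7) (.node (nat_lit 0xd0701020083c757e) (.node (nat_lit 0xd0602030080c3729) (.node (nat_lit 0xd0403010182c429b) (.node (nat_lit 0xd0403010081c127b) (.leaf (nat_lit 0xd0403010080c123b) (nat_lit 774))
 (.leaf (nat_lit 0xd0403010081c127b) (nat_lit 1026))
) (.node (nat_lit 0xd0403010183c42db) (.leaf (nat_lit 0xd0403010182c429b) (nat_lit 1280))
 (.leaf (nat_lit 0xd0403010183c42db) (nat_lit 1030))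
)) (.node (nat_lit 0xd0602030281cb769) (.node (nat_lit 0xd0602030082c6709) (.leaf (nat_lit 0xd0602030080c3729) (nat_lit 1025))
 (.leaf (nat_lit 0xd0602030082c6709) (nat_lit 1538))
) (.node (nat_lit 0xd0602030283ce749) (.leaf (nat_lit 0xd0602030281cb769) (nat_lit 1282))
 (.node (nat_lit 0xd0701020080c251e) (.leaf (nat_lit 0xd0602030283ce749) (nat_lit 1286))
 (.leaf (nat_lit 0xd0701020080c251e) (nat_lit 769))
)))) (.node (nat_lit 0xe0402030082c7b21) (.node (nat_lit 0xd0701020382cf5be) (.node (nat_lit 0xd0701020381ca5de) (.leaf (nat_lit 0xd0701020083c757e) (nat_lit 1542))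
 (.leaf (nat_lit 0xd0701020381ca5de) (nat_lit 1026))
) (.node (nat_lit 0xe0402030080c3b21) (.leaf (nat_lit 0xd0701020382cf5be) (nat_lit 1536))
 (.leaf (nat_lit 0xe0402030080c3b21) (nat_lit 774))
)) (.node (nat_lit 0xe0402030283ceb41) (.node (nat_lit 0xe0402030281cab41) (.leaf (nat_lit 0xe0402030082c7b21) (nat_lit 1026))
 (.leaf (nat_lit 0xe0402030281cab41) (nat_lit 1536))
) (.node (nat_lit 0xe0503010080c1a37) (.leaf (nat_lit 0xe0402030283ceb41) (nat_lit 1542))
 (.node (nat_lit 0xe0503010081c0a57) (.leaf (nat_lit 0xe0503010080c1a37) (nat_lit 262))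
 (.leaf (nat_lit 0xe0503010081c0a57) (nat_lit 1538))
))))) (.node (nat_lit 0xf0401020382cf9ba) (.node (nat_lit 0xe0701020381cbdf6) (.node (nat_lit 0xe0701020080c2d16) (.node (nat_lit 0xe0503010183c4ad7) (.leaf (nat_lit 0xe0503010182c5ab7) (nat_lit 514))
 (.leaf (nat_lit 0xe0503010183c4ad7) (nat_lit 1286))
) (.node (nat_lit 0xe0701020083c7d76) (.leaf (nat_lit 0xe0701020080c2d16) (nat_lit 518))
 (.leaf (nat_lit 0xe0701020083c7d76) (nat_lit 1798))
)) (.node (nat_lit 0xf0401020080c291a) (.node (nat_lit 0xe0701020382ced96) (.leaf (nat_lit 0xe0701020381cbdf6) (nat_lit 1542))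
 (.leaf (nat_lit 0xe0701020382ced96) (nat_lit 770))
) (.node (nat_lit 0xf0401020083c695a) (.leaf (nat_lit 0xf0401020080c291a) (nat_lit 1024))
 (.node (nat_lit 0xf0401020381cb9fa) (.leaf (nat_lit 0xf0401020083c695a) (nat_lit 1282))
 (.leaf (nat_lit 0xf0401020381cb9fa) (nat_lit 1286))
)))) (.node (nat_lit 0xf0503010183c5aff) (.node (nat_lit 0xf0503010081c0a5f) (.node (nat_lit 0xf0503010080c1a3f) (.leaf (nat_lit 0xf0401020382cf9ba) (nat_lit 1537))
 (.leaf (nat_lit 0xf0503010080c1a3f) (nat_lit 512))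
) (.node (nat_lit 0xf0503010182c4a9f) (.leaf (nat_lit 0xf0503010081c0a5f) (nat_lit 1286))
 (.leaf (nat_lit 0xf0503010182c4a9f) (nat_lit 1536))
)) (.node (nat_lit 0xf0602030082c6f09) (.node (nat_lit 0xf0602030080c3f29) (.leaf (nat_lit 0xf0503010183c5aff) (nat_lit 770))
 (.leaf (nat_lit 0xf0602030080c3f29) (nat_lit 768))
) (.node (nat_lit 0xf0602030281caf49) (.leaf (nat_lit 0xf0602030082c6f09) (nat_lit 1794))
 (.node (nat_lit 0xf0602030283cff69) (.leaf (nat_lit 0xf0602030281caf49) (nat_lit 1542))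
 (.leaf (nat_lit 0xf0602030283cff69) (nat_lit 1026))
))))))))

theorem I16_ok : orbOK B8.A [(nat_lit 0x8040301008040203), (nat_lit 0xc0402010080c0201), (nat_lit 0x8040201048840201), (nat_lit 0x8040203008040301), (nat_lit 0x80c020100c040201), (nat_lit 0x8448201008040201), (nat_lit 0x8060201008040601)] (nat_lit 0xc0403010080c1233) I16_t (nat_lit 144) = true := by decide +kernel

noncomputable def I17_t : ST :=
(.node (nat_lit 0xa05020102814aa55) (.node (nat_lit 0x906020102834f669) (.node (nat_lit 0x90402010182452b9) (.node (nat_lit 0x806020103824e681) (.node (nat_lit 0x80502010381492f5) (.node (nat_lit 0x8050201028149275) (.leaf (nat_lit 0x8050201028148255) (nat_lit 1025))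
 (.node (nat_lit 0x80502010381482d5) (.leaf (nat_lit 0x8050201028149275) (nat_lit 1286))
 (.leaf (nat_lit 0x80502010381482d5) (nat_lit 1281))
)) (.node (nat_lit 0x8060201018246681) (.leaf (nat_lit 0x80502010381492f5) (nat_lit 1542))
 (.node (nat_lit 0x80602010182476a1) (.leaf (nat_lit 0x8060201018246681) (nat_lit 769))
 (.leaf (nat_lit 0x80602010182476a1) (nat_lit 1025))
))) (.node (nat_lit 0x80702010183476f5) (.node (nat_lit 0x806020103824f6a1) (.leaf (nat_lit 0x806020103824e681) (nat_lit 513))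
 (.node (nat_lit 0x80702010183466d5) (.leaf (nat_lit 0x806020103824f6a1) (nat_lit 769))
 (.leaf (nat_lit 0x80702010183466d5) (nat_lit 1286))
)) (.node (nat_lit 0x807020102834f675) (.node (nat_lit 0x807020102834e655) (.leaf (nat_lit 0x80702010183476f5) (nat_lit 1025))
 (.leaf (nat_lit 0x807020102834e655) (nat_lit 1030))
) (.node (nat_lit 0x9040201018244299) (.leaf (nat_lit 0x807020102834f675) (nat_lit 769))
 (.leaf (nat_lit 0x9040201018244299) (nat_lit 771))
)))) (.node (nat_lit 0x9060201008246609) (.node (nat_lit 0x905020102834c25d) (.node (nat_lit 0x90402010183442d9) (.leaf (nat_lit 0x90402010182452b9) (nat_lit 1024))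
 (.node (nat_lit 0x90402010183452f9) (.leaf (nat_lit 0x90402010183442d9) (nat_lit 515))
 (.leaf (nat_lit 0x90402010183452f9) (nat_lit 774))
)) (.node (nat_lit 0x905020103824c29d) (.node (nat_lit 0x905020102834d27d) (.leaf (nat_lit 0x905020102834c25d) (nat_lit 772))
 (.leaf (nat_lit 0x905020102834d27d) (nat_lit 1030))
) (.node (nat_lit 0x905020103824d2bd) (.leaf (nat_lit 0x905020103824c29d) (nat_lit 1028))
 (.leaf (nat_lit 0x905020103824d2bd) (nat_lit 1280))
))) (.node (nat_lit 0x90602010180416b9) (.node (nat_lit 0x9060201008247629) (.leaf (nat_lit 0x9060201008246609) (nat_lit 770))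
 (.node (nat_lit 0x9060201018040699) (.leaf (nat_lit 0x9060201008247629) (nat_lit 1026))
 (.leaf (nat_lit 0x9060201018040699) (nat_lit 1794))
)) (.node (nat_lit 0x90602010182476b9) (.node (nat_lit 0x9060201018246699) (.leaf (nat_lit 0x90602010180416b9) (nat_lit 2050))
 (.leaf (nat_lit 0x9060201018246699) (nat_lit 1285))
) (.node (nat_lit 0x906020102834e649) (.leaf (nat_lit 0x90602010182476b9) (nat_lit 1029))
 (.leaf (nat_lit 0x906020102834e649) (nat_lit 517))
))))) (.node (nat_lit 0x907020102824e60d) (.node (nat_lit 0x907020100834767d) (.node (nat_lit 0x906020103834e6d9) (.node (nat_lit 0x90602010381486d9) (.leaf (nat_lit 0x906020102834f669) (nat_lit 774))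
 (.node (nat_lit 0x90602010381496f9) (.leaf (nat_lit 0x90602010381486d9) (nat_lit 1541))
 (.leaf (nat_lit 0x90602010381496f9) (nat_lit 1798))
)) (.node (nat_lit 0x906020103834f6f9) (.leaf (nat_lit 0x906020103834e6d9) (nat_lit 1542))
 (.node (nat_lit 0x907020100834665d) (.leaf (nat_lit 0x906020103834f6f9) (nat_lit 1282))
 (.leaf (nat_lit 0x907020100834665d) (nat_lit 1286))
))) (.node (nat_lit 0x90702010183466cd) (.node (nat_lit 0x907020101804069d) (.leaf (nat_lit 0x907020100834767d) (nat_lit 1026))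
 (.node (nat_lit 0x90702010180416bd) (.leaf (nat_lit 0x907020101804069d) (nat_lit 1538))
 (.leaf (nat_lit 0x90702010180416bd) (nat_lit 1794))
)) (.node (nat_lit 0x907020102814865d) (.node (nat_lit 0x90702010183476ed) (.leaf (nat_lit 0x90702010183466cd) (nat_lit 773))
 (.leaf (nat_lit 0x90702010183476ed) (nat_lit 1030))
) (.node (nat_lit 0x907020102814967d) (.leaf (nat_lit 0x907020102814865d) (nat_lit 1285))
 (.leaf (nat_lit 0x907020102814967d) (nat_lit 1542))
)))) (.node (nat_lit 0xa04020102834fa61) (.node (nat_lit 0x907020103824f6bd) (.node (nat_lit 0x907020102824f62d) (.leaf (nat_lit 0x907020102824e60d) (nat_lit 1026))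
 (.node (nat_lit 0x907020103824e69d) (.leaf (nat_lit 0x907020102824f62d) (nat_lit 1282))
 (.leaf (nat_lit 0x907020103824e69d) (nat_lit 1025))
)) (.node (nat_lit 0xa04020102814ba61) (.node (nat_lit 0xa04020102814aa41) (.leaf (nat_lit 0x907020103824f6bd) (nat_lit 773))
 (.leaf (nat_lit 0xa04020102814aa41) (nat_lit 0))
) (.node (nat_lit 0xa04020102834ea41) (.leaf (nat_lit 0xa04020102814ba61) (nat_lit 262))
 (.leaf (nat_lit 0xa04020102834ea41) (nat_lit 257))
))) (.node (nat_lit 0xa050201018344ad5) (.node (nat_lit 0xa050201008140a55) (.leaf (nat_lit 0xa04020102834fa61) (nat_lit 518))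
 (.node (nat_lit 0xa050201008141a75) (.leaf (nat_lit 0xa050201008140a55) (nat_lit 1026))
 (.leaf (nat_lit 0xa050201008141a75) (nat_lit 1286))
)) (.node (nat_lit 0xa05020102804aa05) (.node (nat_lit 0xa050201018345af5) (.leaf (nat_lit 0xa050201018344ad5) (nat_lit 773))
 (.leaf (nat_lit 0xa050201018345af5) (nat_lit 1030))
) (.node (nat_lit 0xa05020102804ba25) (.leaf (nat_lit 0xa05020102804aa05) (nat_lit 1026))
 (.leaf (nat_lit 0xa05020102804ba25) (nat_lit 1282))
)))))) (.node (nat_lit 0xb050201008141a7d) (.node (nat_lit 0xa070201018141ef5) (.node (nat_lit 0xa060201018346ec1) (.node (nat_lit 0xa05020103824faa5) (.node (nat_lit 0xa05020102814ba75) (.leaf (nat_lit 0xa05020102814aa55) (nat_lit 1030))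
 (.node (nat_lit 0xa05020103824ea85) (.leaf (nat_lit 0xa05020102814ba75) (nat_lit 773))
 (.leaf (nat_lit 0xa05020103824ea85) (nat_lit 773))
)) (.node (nat_lit 0xa05020103834ead5) (.leaf (nat_lit 0xa05020103824faa5) (nat_lit 1025))
 (.node (nat_lit 0xa05020103834faf5) (.leaf (nat_lit 0xa05020103834ead5) (nat_lit 1286))
 (.leaf (nat_lit 0xa05020103834faf5) (nat_lit 1026))
))) (.node (nat_lit 0xa06020103814bee1) (.node (nat_lit 0xa060201018347ee1) (.leaf (nat_lit 0xa060201018346ec1) (nat_lit 516))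
 (.node (nat_lit 0xa06020103814aec1) (.leaf (nat_lit 0xa060201018347ee1) (nat_lit 774))
 (.leaf (nat_lit 0xa06020103814aec1) (nat_lit 260))
)) (.node (nat_lit 0xa070201008347e75) (.node (nat_lit 0xa070201008346e55) (.leaf (nat_lit 0xa06020103814bee1) (nat_lit 518))
 (.leaf (nat_lit 0xa070201008346e55) (nat_lit 1030))
) (.node (nat_lit 0xa070201018140ed5) (.leaf (nat_lit 0xa070201008347e75) (nat_lit 770))
 (.leaf (nat_lit 0xa070201018140ed5) (nat_lit 1282))
)))) (.node (nat_lit 0xa07020103814aed5) (.node (nat_lit 0xa07020102804ae05) (.node (nat_lit 0xa070201018246e85) (.leaf (nat_lit 0xa070201018141ef5) (nat_lit 1542))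
 (.node (nat_lit 0xa070201018247ea5) (.leaf (nat_lit 0xa070201018246e85) (nat_lit 1029))
 (.leaf (nat_lit 0xa070201018247ea5) (nat_lit 1281))
)) (.node (nat_lit 0xa07020102834ce55) (.node (nat_lit 0xa07020102804be25) (.leaf (nat_lit 0xa07020102804ae05) (nat_lit 1282))
 (.leaf (nat_lit 0xa07020102804be25) (nat_lit 1538))
) (.node (nat_lit 0xa07020102834de75) (.leaf (nat_lit 0xa07020102834ce55) (nat_lit 1029))
 (.leaf (nat_lit 0xa07020102834de75) (nat_lit 1286))
))) (.node (nat_lit 0xb04020103814baf9) (.node (nat_lit 0xa07020103814bef5) (.leaf (nat_lit 0xa07020103814aed5) (nat_lit 774))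
 (.node (nat_lit 0xb04020103814aad9) (.leaf (nat_lit 0xa07020103814bef5) (nat_lit 517))
 (.leaf (nat_lit 0xb04020103814aad9) (nat_lit 518))
)) (.node (nat_lit 0xb04020103824fab9) (.node (nat_lit 0xb04020103824ea99) (.leaf (nat_lit 0xb04020103814baf9) (nat_lit 256))
 (.leaf (nat_lit 0xb04020103824ea99) (nat_lit 769))
) (.node (nat_lit 0xb050201008140a5d) (.leaf (nat_lit 0xb04020103824fab9) (nat_lit 513))
 (.leaf (nat_lit 0xb050201008140a5d) (nat_lit 1282))
))))) (.node (nat_lit 0xb060201018140ed9) (.node (nat_lit 0xb05020102834fa7d) (.node (nat_lit 0xb05020102824ea0d) (.node (nat_lit 0xb050201018244a9d) (.leaf (nat_lit 0xb050201008141a7d) (nat_lit 1542))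
 (.node (nat_lit 0xb050201018245abd) (.leaf (nat_lit 0xb050201018244a9d) (nat_lit 1029))
 (.leaf (nat_lit 0xb050201018245abd) (nat_lit 1280))
)) (.node (nat_lit 0xb05020102824fa2d) (.leaf (nat_lit 0xb05020102824ea0d) (nat_lit 770))
 (.node (nat_lit 0xb05020102834ea5d) (.leaf (nat_lit 0xb05020102824fa2d) (nat_lit 1026))
 (.leaf (nat_lit 0xb05020102834ea5d) (nat_lit 1286))
))) (.node (nat_lit 0xb05020103814aacd) (.node (nat_lit 0xb05020103804aa9d) (.leaf (nat_lit 0xb05020102834fa7d) (nat_lit 1029))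
 (.node (nat_lit 0xb05020103804babd) (.leaf (nat_lit 0xb05020103804aa9d) (nat_lit 1538))
 (.leaf (nat_lit 0xb05020103804babd) (nat_lit 1282))
)) (.node (nat_lit 0xb060201008246e09) (.node (nat_lit 0xb05020103814baed) (.leaf (nat_lit 0xb05020103814aacd) (nat_lit 517))
 (.leaf (nat_lit 0xb05020103814baed) (nat_lit 774))
) (.node (nat_lit 0xb060201008247e29) (.leaf (nat_lit 0xb060201008246e09) (nat_lit 514))
 (.leaf (nat_lit 0xb060201008247e29) (nat_lit 770))
)))) (.node (nat_lit 0xb06020103804beb9) (.node (nat_lit 0xb060201018347ef9) (.node (nat_lit 0xb060201018141ef9) (.leaf (nat_lit 0xb060201018140ed9) (nat_lit 1538))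
 (.node (nat_lit 0xb060201018346ed9) (.leaf (nat_lit 0xb060201018141ef9) (nat_lit 1798))
 (.leaf (nat_lit 0xb060201018346ed9) (nat_lit 1542))
)) (.node (nat_lit 0xb06020102814be69) (.node (nat_lit 0xb06020102814ae49) (.leaf (nat_lit 0xb060201018347ef9) (nat_lit 1285))
 (.leaf (nat_lit 0xb06020102814ae49) (nat_lit 261))
) (.node (nat_lit 0xb06020103804ae99) (.leaf (nat_lit 0xb06020102814be69) (nat_lit 518))
 (.leaf (nat_lit 0xb06020103804ae99) (nat_lit 1794))
))) (.node (nat_lit 0xb070201018246e9d) (.node (nat_lit 0xb06020103824ce99) (.leaf (nat_lit 0xb06020103804beb9) (nat_lit 1538))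
 (.node (nat_lit 0xb06020103824deb9) (.leaf (nat_lit 0xb06020103824ce99) (nat_lit 1285))
 (.leaf (nat_lit 0xb06020103824deb9) (nat_lit 1536))
)) (.node (nat_lit 0xb07020102814ae5d) (.node (nat_lit 0xb070201018247ebd) (.leaf (nat_lit 0xb070201018246e9d) (nat_lit 1026))
 (.leaf (nat_lit 0xb070201018247ebd) (nat_lit 772))
) (.node (nat_lit 0xb07020102814be7d) (.leaf (nat_lit 0xb07020102814ae5d) (nat_lit 774))
 (.leaf (nat_lit 0xb07020102814be7d) (nat_lit 516))
)))))))

theorem I17_ok : orbOK B8.A [(nat_lit 0x8040301008040203), (nat_lit 0xc0402010080c0201), (nat_lit 0x8040201048840201), (nat_lit 0x8040203008040301), (nat_lit 0x80c020100c040201), (nat_lit 0x8448201008040201), (nat_lit 0x8060201008040601)] (nat_lit 0xa04020102814aa41) I17_t (nat_lit 108) = true := by decide +kernel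

noncomputable def I18_t : ST :=
(.node (nat_lit 0x7090203084784b5d) (.node (nat_lit 0x340c1020f0b0d9ea) (.node (nat_lit 0x18241020a050854a) (.node (nat_lit 0xc18102060e0c116) (.node (nat_lit 0x804203080403321) (.node (nat_lit 0x42c1020d0802592) (.node (nat_lit 0x41c1020e0808106) (.node (nat_lit 0x40c2030c0803321) (.node (nat_lit 0x40c1020c0802112) (.leaf (nat_lit 0x40c1020c0800102) (nat_lit 1029))
 (.node (nat_lit 0x40c2030c0800301) (.leaf (nat_lit 0x40c1020c0802112) (nat_lit 2310))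
 (.leaf (nat_lit 0x40c2030c0800301) (nat_lit 1285))
)) (.node (nat_lit 0x40c3010c0800203) (.leaf (nat_lit 0x40c2030c0803321) (nat_lit 2561))
 (.node (nat_lit 0x40c3010c0801233) (.leaf (nat_lit 0x40c3010c0800203) (nat_lit 773))
 (.leaf (nat_lit 0x40c3010c0801233) (nat_lit 2054))
))) (.node (nat_lit 0x41c2030f080b3a5) (.node (nat_lit 0x41c1020e080a116) (.leaf (nat_lit 0x41c1020e0808106) (nat_lit 1286))
 (.node (nat_lit 0x41c2030f0808385) (.leaf (nat_lit 0x41c1020e080a116) (nat_lit 2049))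
 (.leaf (nat_lit 0x41c2030f0808385) (nat_lit 1536))
)) (.node (nat_lit 0x41c3010d08012b7) (.node (nat_lit 0x41c3010d0800287) (.leaf (nat_lit 0x41c2030f080b3a5) (nat_lit 2305))
 (.leaf (nat_lit 0x41c3010d0800287) (nat_lit 1538))
) (.node (nat_lit 0x42c1020d0800582) (.leaf (nat_lit 0x41c3010d08012b7) (nat_lit 2310))
 (.leaf (nat_lit 0x42c1020d0800582) (nat_lit 1541))
)))) (.node (nat_lit 0x43c2030d0800785) (.node (nat_lit 0x42c3010f0808683) (.node (nat_lit 0x42c2030e0808701) (.leaf (nat_lit 0x42c1020d0802592) (nat_lit 2309))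
 (.node (nat_lit 0x42c2030e080b721) (.leaf (nat_lit 0x42c2030e0808701) (nat_lit 1542))
 (.leaf (nat_lit 0x42c2030e080b721) (nat_lit 2822))
)) (.node (nat_lit 0x43c1020f0808586) (.node (nat_lit 0x42c3010f08096b3) (.leaf (nat_lit 0x42c3010f0808683) (nat_lit 1280))
 (.leaf (nat_lit 0x42c3010f08096b3) (nat_lit 2049))
) (.node (nat_lit 0x43c1020f080a596) (.leaf (nat_lit 0x43c1020f0808586) (nat_lit 1792))
 (.leaf (nat_lit 0x43c1020f080a596) (nat_lit 2566))
))) (.node (nat_lit 0x43c3010e0809637) (.node (nat_lit 0x43c2030d08037a5) (.leaf (nat_lit 0x43c2030d0800785) (nat_lit 1795))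
 (.node (nat_lit 0x43c3010e0808607) (.leaf (nat_lit 0x43c2030d08037a5) (nat_lit 2305))
 (.leaf (nat_lit 0x43c3010e0808607) (nat_lit 1030))
)) (.node (nat_lit 0x804102080402112) (.node (nat_lit 0x804102080400102) (.leaf (nat_lit 0x43c3010e0809637) (nat_lit 1793))
 (.leaf (nat_lit 0x804102080400102) (nat_lit 773))
) (.node (nat_lit 0x804203080400301) (.leaf (nat_lit 0x804102080402112) (nat_lit 2054))
 (.leaf (nat_lit 0x804203080400301) (nat_lit 1029))
))))) (.node (nat_lit 0x824301080706643) (.node (nat_lit 0x814203080707375) (.node (nat_lit 0x814102080604116) (.node (nat_lit 0x804301080400203) (.leaf (nat_lit 0x804203080403321) (nat_lit 2310))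
 (.node (nat_lit 0x804301080401233) (.leaf (nat_lit 0x804301080400203) (nat_lit 517))
 (.leaf (nat_lit 0x804301080401233) (nat_lit 1798))
)) (.node (nat_lit 0x814102080606106) (.leaf (nat_lit 0x814102080604116) (nat_lit 1797))
 (.node (nat_lit 0x814203080704355) (.leaf (nat_lit 0x814102080606106) (nat_lit 1030))
 (.leaf (nat_lit 0x814203080704355) (nat_lit 2053))
))) (.node (nat_lit 0x824102080500552) (.node (nat_lit 0x814301080500257) (.leaf (nat_lit 0x814203080707375) (nat_lit 1280))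
 (.node (nat_lit 0x814301080501267) (.leaf (nat_lit 0x814301080500257) (nat_lit 1286))
 (.leaf (nat_lit 0x814301080501267) (nat_lit 1542))
)) (.node (nat_lit 0x824203080605721) (.node (nat_lit 0x824102080502542) (.leaf (nat_lit 0x824102080500552) (nat_lit 1283))
 (.leaf (nat_lit 0x824102080502542) (nat_lit 1541))
) (.node (nat_lit 0x824203080606701) (.leaf (nat_lit 0x824203080605721) (nat_lit 2048))
 (.leaf (nat_lit 0x824203080606701) (nat_lit 1286))
)))) (.node (nat_lit 0x834301080607637) (.node (nat_lit 0x834102080707576) (.node (nat_lit 0x824301080707673) (.leaf (nat_lit 0x824301080706643) (nat_lit 1285))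
 (.node (nat_lit 0x834102080705566) (.leaf (nat_lit 0x824301080707673) (nat_lit 1024))
 (.leaf (nat_lit 0x834102080705566) (nat_lit 1798))
)) (.node (nat_lit 0x834203080503775) (.node (nat_lit 0x834203080500755) (.leaf (nat_lit 0x834102080707576) (nat_lit 1536))
 (.leaf (nat_lit 0x834203080500755) (nat_lit 1539))
) (.node (nat_lit 0x834301080606607) (.leaf (nat_lit 0x834203080503775) (nat_lit 1797))
 (.leaf (nat_lit 0x834301080606607) (nat_lit 774))
))) (.node (nat_lit 0xc08203040c00301) (.node (nat_lit 0xc08102040c00102) (.leaf (nat_lit 0x834301080607637) (nat_lit 1541))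
 (.node (nat_lit 0xc08102040c02112) (.leaf (nat_lit 0xc08102040c00102) (nat_lit 517))
 (.leaf (nat_lit 0xc08102040c02112) (nat_lit 1798))
)) (.node (nat_lit 0xc08301040c00203) (.node (nat_lit 0xc08203040c03321) (.leaf (nat_lit 0xc08203040c00301) (nat_lit 773))
 (.leaf (nat_lit 0xc08203040c03321) (nat_lit 2054))
) (.node (nat_lit 0xc08301040c01233) (.leaf (nat_lit 0xc08301040c00203) (nat_lit 261))
 (.leaf (nat_lit 0xc08301040c01233) (nat_lit 1542))
)))))) (.node (nat_lit 0x141c2030c0b0737d) (.node (nat_lit 0xc38102070f0f5f6) (.node (nat_lit 0xc28102050d005d2) (.node (nat_lit 0xc18203070f0f3f5) (.node (nat_lit 0xc18102060e0e106) (.leaf (nat_lit 0xc18102060e0c116) (nat_lit 1541))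
 (.node (nat_lit 0xc18203070f0c3d5) (.leaf (nat_lit 0xc18102060e0e106) (nat_lit 774))
 (.leaf (nat_lit 0xc18203070f0c3d5) (nat_lit 1797))
)) (.node (nat_lit 0xc18301050d002d7) (.leaf (nat_lit 0xc18203070f0f3f5) (nat_lit 1024))
 (.node (nat_lit 0xc18301050d012e7) (.leaf (nat_lit 0xc18301050d002d7) (nat_lit 1030))
 (.leaf (nat_lit 0xc18301050d012e7) (nat_lit 1286))
))) (.node (nat_lit 0xc28203060e0e701) (.node (nat_lit 0xc28102050d025c2) (.leaf (nat_lit 0xc28102050d005d2) (nat_lit 1027))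
 (.node (nat_lit 0xc28203060e0d721) (.leaf (nat_lit 0xc28102050d025c2) (nat_lit 1285))
 (.leaf (nat_lit 0xc28203060e0d721) (nat_lit 1792))
)) (.node (nat_lit 0xc28301070f0f6f3) (.node (nat_lit 0xc28301070f0e6c3) (.leaf (nat_lit 0xc28203060e0e701) (nat_lit 1030))
 (.leaf (nat_lit 0xc28301070f0e6c3) (nat_lit 1029))
) (.node (nat_lit 0xc38102070f0d5e6) (.leaf (nat_lit 0xc28301070f0f6f3) (nat_lit 768))
 (.leaf (nat_lit 0xc38102070f0d5e6) (nat_lit 1542))
)))) (.node (nat_lit 0x140c2030f0b0c3d9) (.node (nat_lit 0xc38301060e0e607) (.node (nat_lit 0xc38203050d007d5) (.leaf (nat_lit 0xc38102070f0f5f6) (nat_lit 1280))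
 (.node (nat_lit 0xc38203050d037f5) (.leaf (nat_lit 0xc38203050d007d5) (nat_lit 1283))
 (.leaf (nat_lit 0xc38203050d037f5) (nat_lit 1541))
)) (.node (nat_lit 0x140c1020e0a0c11a) (.node (nat_lit 0xc38301060e0f637) (.leaf (nat_lit 0xc38301060e0e607) (nat_lit 518))
 (.leaf (nat_lit 0xc38301060e0f637) (nat_lit 1285))
) (.node (nat_lit 0x140c1020e0a0e10a) (.leaf (nat_lit 0x140c1020e0a0c11a) (nat_lit 1797))
 (.leaf (nat_lit 0x140c1020e0a0e10a) (nat_lit 1540))
))) (.node (nat_lit 0x140c3010d09012eb) (.node (nat_lit 0x140c2030f0b0f3f9) (.leaf (nat_lit 0x140c2030f0b0c3d9) (nat_lit 2053))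
 (.node (nat_lit 0x140c3010d09002db) (.leaf (nat_lit 0x140c2030f0b0f3f9) (nat_lit 1796))
 (.leaf (nat_lit 0x140c3010d09002db) (nat_lit 1796))
)) (.node (nat_lit 0x141c1020c0a0610e) (.node (nat_lit 0x141c1020c0a0411e) (.leaf (nat_lit 0x140c3010d09012eb) (nat_lit 1798))
 (.leaf (nat_lit 0x141c1020c0a0411e) (nat_lit 2053))
) (.node (nat_lit 0x141c2030c0b0435d) (.leaf (nat_lit 0x141c1020c0a0610e) (nat_lit 1281))
 (.leaf (nat_lit 0x141c2030c0b0435d) (nat_lit 2309))
))))) (.node (nat_lit 0x143c3010f09086cf) (.node (nat_lit 0x142c2030d0b067d9) (.node (nat_lit 0x142c1020f0a0d5ba) (.node (nat_lit 0x141c3010c090025f) (.leaf (nat_lit 0x141c2030c0b0737d) (nat_lit 1537))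
 (.node (nat_lit 0x141c3010c090126f) (.leaf (nat_lit 0x141c3010c090025f) (nat_lit 1537))
 (.leaf (nat_lit 0x141c3010c090126f) (nat_lit 1793))
)) (.node (nat_lit 0x142c1020f0a0f5aa) (.leaf (nat_lit 0x142c1020f0a0d5ba) (nat_lit 2053))
 (.node (nat_lit 0x142c2030d0b057f9) (.leaf (nat_lit 0x142c1020f0a0f5aa) (nat_lit 2048))
 (.leaf (nat_lit 0x142c2030d0b057f9) (nat_lit 2049))
))) (.node (nat_lit 0x143c1020d0a055be) (.node (nat_lit 0x142c3010e090864b) (.leaf (nat_lit 0x142c2030d0b067d9) (nat_lit 2054))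
 (.node (nat_lit 0x142c3010e090967b) (.leaf (nat_lit 0x142c3010e090864b) (nat_lit 1794))
 (.leaf (nat_lit 0x142c3010e090967b) (nat_lit 1798))
)) (.node (nat_lit 0x143c2030e0b0d77d) (.node (nat_lit 0x143c1020d0a075ae) (.leaf (nat_lit 0x143c1020d0a055be) (nat_lit 2305))
 (.leaf (nat_lit 0x143c1020d0a075ae) (nat_lit 2053))
) (.node (nat_lit 0x143c2030e0b0e75d) (.leaf (nat_lit 0x143c2030e0b0d77d) (nat_lit 2308))
 (.leaf (nat_lit 0x143c2030e0b0e75d) (nat_lit 1798))
)))) (.node (nat_lit 0x18043010904012ab) (.node (nat_lit 0x18041020a040a10a) (.node (nat_lit 0x143c3010f09096ff) (.leaf (nat_lit 0x143c3010f09086cf) (nat_lit 1538))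
 (.node (nat_lit 0x18041020a040811a) (.leaf (nat_lit 0x143c3010f09096ff) (nat_lit 1793))
 (.leaf (nat_lit 0x18041020a040811a) (nat_lit 1541))
)) (.node (nat_lit 0x18042030b040b3b9) (.node (nat_lit 0x18042030b0408399) (.leaf (nat_lit 0x18041020a040a10a) (nat_lit 1284))
 (.leaf (nat_lit 0x18042030b0408399) (nat_lit 1797))
) (.node (nat_lit 0x180430109040029b) (.leaf (nat_lit 0x18042030b040b3b9) (nat_lit 1540))
 (.leaf (nat_lit 0x180430109040029b) (nat_lit 1541))
))) (.node (nat_lit 0x18142030b070c3cd) (.node (nat_lit 0x18141020a060c10e) (.leaf (nat_lit 0x18043010904012ab) (nat_lit 1797))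
 (.node (nat_lit 0x18141020a060e11e) (.leaf (nat_lit 0x18141020a060c10e) (nat_lit 1537))
 (.leaf (nat_lit 0x18141020a060e11e) (nat_lit 1798))
)) (.node (nat_lit 0x18143010905002cf) (.node (nat_lit 0x18142030b070f3ed) (.leaf (nat_lit 0x18142030b070c3cd) (nat_lit 1793))
 (.leaf (nat_lit 0x18142030b070f3ed) (nat_lit 2048))
) (.node (nat_lit 0x18143010905012ff) (.leaf (nat_lit 0x18143010905002cf) (nat_lit 1794))
 (.leaf (nat_lit 0x18143010905012ff) (nat_lit 2310))
))))))) (.node (nat_lit 0x243c1020e0909d76) (.node (nat_lit 0x1c28203060d0b769) (.node (nat_lit 0x1c08102040e0611a) (.node (nat_lit 0x18341020a070d57e) (.node (nat_lit 0x18242030b060e799) (.node (nat_lit 0x18241020a050a55a) (.leaf (nat_lit 0x18241020a050854a) (nat_lit 1796))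
 (.node (nat_lit 0x18242030b060d7b9) (.leaf (nat_lit 0x18241020a050a55a) (nat_lit 2052))
 (.leaf (nat_lit 0x18242030b060d7b9) (nat_lit 1798))
)) (.node (nat_lit 0x18243010907066db) (.leaf (nat_lit 0x18242030b060e799) (nat_lit 2054))
 (.node (nat_lit 0x18243010907076eb) (.leaf (nat_lit 0x18243010907066db) (nat_lit 2053))
 (.leaf (nat_lit 0x18243010907076eb) (nat_lit 2054))
))) (.node (nat_lit 0x18342030b050b7ed) (.node (nat_lit 0x18341020a070f56e) (.leaf (nat_lit 0x18341020a070d57e) (nat_lit 2048))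
 (.node (nat_lit 0x18342030b05087cd) (.leaf (nat_lit 0x18341020a070f56e) (nat_lit 2054))
 (.leaf (nat_lit 0x18342030b05087cd) (nat_lit 2051))
)) (.node (nat_lit 0x18343010906076af) (.node (nat_lit 0x183430109060669f) (.leaf (nat_lit 0x18342030b050b7ed) (nat_lit 2054))
 (.leaf (nat_lit 0x183430109060669f) (nat_lit 1798))
) (.node (nat_lit 0x1c08102040e0410a) (.leaf (nat_lit 0x18343010906076af) (nat_lit 1793))
 (.leaf (nat_lit 0x1c08102040e0410a) (nat_lit 1286))
)))) (.node (nat_lit 0x1c18203070c0839d) (.node (nat_lit 0x1c08301040d0024b) (.node (nat_lit 0x1c08203040f04349) (.leaf (nat_lit 0x1c08102040e0611a) (nat_lit 1542))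
 (.node (nat_lit 0x1c08203040f07369) (.leaf (nat_lit 0x1c08203040f04349) (nat_lit 1536))
 (.leaf (nat_lit 0x1c08203040f07369) (nat_lit 1792))
)) (.node (nat_lit 0x1c18102060c0811e) (.node (nat_lit 0x1c08301040d0127b) (.leaf (nat_lit 0x1c08301040d0024b) (nat_lit 1538))
 (.leaf (nat_lit 0x1c08301040d0127b) (nat_lit 2054))
) (.node (nat_lit 0x1c18102060c0a10e) (.leaf (nat_lit 0x1c18102060c0811e) (nat_lit 1285))
 (.leaf (nat_lit 0x1c18102060c0a10e) (nat_lit 1025))
))) (.node (nat_lit 0x1c18301050c012af) (.node (nat_lit 0x1c18203070c0b3bd) (.leaf (nat_lit 0x1c18203070c0839d) (nat_lit 1541))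
 (.node (nat_lit 0x1c18301050c0029f) (.leaf (nat_lit 0x1c18203070c0b3bd) (nat_lit 1281))
 (.leaf (nat_lit 0x1c18301050c0029f) (nat_lit 1281))
)) (.node (nat_lit 0x1c28102050f075ea) (.node (nat_lit 0x1c28102050f055fa) (.leaf (nat_lit 0x1c18301050c012af) (nat_lit 1537))
 (.leaf (nat_lit 0x1c28102050f055fa) (nat_lit 1792))
) (.node (nat_lit 0x1c28203060d08749) (.leaf (nat_lit 0x1c28102050f075ea) (nat_lit 1798))
 (.leaf (nat_lit 0x1c28203060d08749) (nat_lit 1794))
))))) (.node (nat_lit 0x240c3010f0b0eac3) (.node (nat_lit 0x1c38203050e0679d) (.node (nat_lit 0x1c38102070d085ce) (.node (nat_lit 0x1c28301070e0e69b) (.leaf (nat_lit 0x1c28203060d0b769) (nat_lit 1798))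
 (.node (nat_lit 0x1c28301070e0f6ab) (.leaf (nat_lit 0x1c28301070e0e69b) (nat_lit 1542))
 (.leaf (nat_lit 0x1c28301070e0f6ab) (nat_lit 1538))
)) (.node (nat_lit 0x1c38102070d0a5de) (.leaf (nat_lit 0x1c38102070d085ce) (nat_lit 1538))
 (.node (nat_lit 0x1c38203050e057bd) (.leaf (nat_lit 0x1c38102070d0a5de) (nat_lit 1793))
 (.leaf (nat_lit 0x1c38203050e057bd) (nat_lit 1542))
))) (.node (nat_lit 0x240c1020d09009d2) (.node (nat_lit 0x1c38301060f0e65f) (.leaf (nat_lit 0x1c38203050e0679d) (nat_lit 1798))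
 (.node (nat_lit 0x1c38301060f0f66f) (.leaf (nat_lit 0x1c38301060f0e65f) (nat_lit 1794))
 (.leaf (nat_lit 0x1c38301060f0f66f) (nat_lit 1798))
)) (.node (nat_lit 0x240c2030e0a0db21) (.node (nat_lit 0x240c1020d09029c2) (.leaf (nat_lit 0x240c1020d09009d2) (nat_lit 1796))
 (.leaf (nat_lit 0x240c1020d09029c2) (nat_lit 1541))
) (.node (nat_lit 0x240c2030e0a0eb01) (.leaf (nat_lit 0x240c2030e0a0db21) (nat_lit 2304))
 (.leaf (nat_lit 0x240c2030e0a0eb01) (nat_lit 1796))
)))) (.node (nat_lit 0x241c3010e0b0fa67) (.node (nat_lit 0x241c1020f090b9e6) (.node (nat_lit 0x240c3010f0b0faf3) (.leaf (nat_lit 0x240c3010f0b0eac3) (nat_lit 1285))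
 (.node (nat_lit 0x241c1020f09099f6) (.leaf (nat_lit 0x240c3010f0b0faf3) (nat_lit 1540))
 (.leaf (nat_lit 0x241c1020f09099f6) (nat_lit 2054))
)) (.node (nat_lit 0x241c2030d0a07ba5) (.node (nat_lit 0x241c2030d0a04b85) (.leaf (nat_lit 0x241c1020f090b9e6) (nat_lit 1798))
 (.leaf (nat_lit 0x241c2030d0a04b85) (nat_lit 2050))
) (.node (nat_lit 0x241c3010e0b0ea57) (.leaf (nat_lit 0x241c2030d0a07ba5) (nat_lit 2305))
 (.leaf (nat_lit 0x241c3010e0b0ea57) (nat_lit 1542))
))) (.node (nat_lit 0x242c2030c0a05f21) (.node (nat_lit 0x242c1020c0900d52) (.leaf (nat_lit 0x241c3010e0b0fa67) (nat_lit 1798))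
 (.node (nat_lit 0x242c1020c0902d42) (.leaf (nat_lit 0x242c1020c0900d52) (nat_lit 1539))
 (.leaf (nat_lit 0x242c1020c0902d42) (nat_lit 1797))
)) (.node (nat_lit 0x242c3010c0b06e43) (.node (nat_lit 0x242c2030c0a06f01) (.leaf (nat_lit 0x242c2030c0a05f21) (nat_lit 2305))
 (.leaf (nat_lit 0x242c2030c0a06f01) (nat_lit 1537))
) (.node (nat_lit 0x242c3010c0b07e73) (.leaf (nat_lit 0x242c3010c0b06e43) (nat_lit 1541))
 (.leaf (nat_lit 0x242c3010c0b07e73) (nat_lit 1281))
)))))) (.node (nat_lit 0x28342030a050af55) (.node (nat_lit 0x2814102090606996) (.node (nat_lit 0x2804102090400992) (.node (nat_lit 0x243c2030f0a0ffa5) (.node (nat_lit 0x243c1020e090bd66) (.leaf (nat_lit 0x243c1020e0909d76) (nat_lit 1798))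
 (.node (nat_lit 0x243c2030f0a0cf85) (.leaf (nat_lit 0x243c1020e090bd66) (nat_lit 2054))
 (.leaf (nat_lit 0x243c2030f0a0cf85) (nat_lit 2307))
)) (.node (nat_lit 0x243c3010d0b06ed7) (.leaf (nat_lit 0x243c2030f0a0ffa5) (nat_lit 2304))
 (.node (nat_lit 0x243c3010d0b07ee7) (.leaf (nat_lit 0x243c3010d0b06ed7) (nat_lit 1798))
 (.leaf (nat_lit 0x243c3010d0b07ee7) (nat_lit 1542))
))) (.node (nat_lit 0x28042030a040ab01) (.node (nat_lit 0x2804102090402982) (.leaf (nat_lit 0x2804102090400992) (nat_lit 1540))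
 (.node (nat_lit 0x28042030a0409b21) (.leaf (nat_lit 0x2804102090402982) (nat_lit 1285))
 (.leaf (nat_lit 0x28042030a0409b21) (nat_lit 2309))
)) (.node (nat_lit 0x28043010b040bab3) (.node (nat_lit 0x28043010b040aa83) (.leaf (nat_lit 0x28042030a040ab01) (nat_lit 1541))
 (.leaf (nat_lit 0x28043010b040aa83) (nat_lit 1029))
) (.node (nat_lit 0x2814102090604986) (.leaf (nat_lit 0x28043010b040bab3) (nat_lit 1284))
 (.leaf (nat_lit 0x2814102090604986) (nat_lit 1538))
)))) (.node (nat_lit 0x28242030a060cf01) (.node (nat_lit 0x28143010b050aad7) (.node (nat_lit 0x28142030a070db75) (.leaf (nat_lit 0x2814102090606996) (nat_lit 1798))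
 (.node (nat_lit 0x28142030a070eb55) (.leaf (nat_lit 0x28142030a070db75) (nat_lit 2053))
 (.leaf (nat_lit 0x28142030a070eb55) (nat_lit 2305))
)) (.node (nat_lit 0x2824102090500dc2) (.node (nat_lit 0x28143010b050bae7) (.leaf (nat_lit 0x28143010b050aad7) (nat_lit 1794))
 (.leaf (nat_lit 0x28143010b050bae7) (nat_lit 1798))
) (.node (nat_lit 0x2824102090502dd2) (.leaf (nat_lit 0x2824102090500dc2) (nat_lit 1797))
 (.leaf (nat_lit 0x2824102090502dd2) (nat_lit 2053))
))) (.node (nat_lit 0x28243010b070def3) (.node (nat_lit 0x28242030a060ff21) (.leaf (nat_lit 0x28242030a060cf01) (nat_lit 1793))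
 (.node (nat_lit 0x28243010b070cec3) (.leaf (nat_lit 0x28242030a060ff21) (nat_lit 2566))
 (.leaf (nat_lit 0x28243010b070cec3) (nat_lit 1537))
)) (.node (nat_lit 0x2834102090707de6) (.node (nat_lit 0x2834102090705df6) (.leaf (nat_lit 0x28243010b070def3) (nat_lit 1792))
 (.leaf (nat_lit 0x2834102090705df6) (nat_lit 2048))
) (.node (nat_lit 0x28342030a0509f75) (.leaf (nat_lit 0x2834102090707de6) (nat_lit 2054))
 (.leaf (nat_lit 0x28342030a0509f75) (nat_lit 2053))
))))) (.node (nat_lit 0x2c18301050e04a87) (.node (nat_lit 0x2c08203040e07b21) (.node (nat_lit 0x2c08102040d00942) (.node (nat_lit 0x28343010b060ce87) (.leaf (nat_lit 0x28342030a050af55) (nat_lit 2049))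
 (.node (nat_lit 0x28343010b060deb7) (.leaf (nat_lit 0x28343010b060ce87) (nat_lit 1282))
 (.leaf (nat_lit 0x28343010b060deb7) (nat_lit 1542))
)) (.node (nat_lit 0x2c08102040d02952) (.leaf (nat_lit 0x2c08102040d00942) (nat_lit 1541))
 (.node (nat_lit 0x2c08203040e04b01) (.leaf (nat_lit 0x2c08102040d02952) (nat_lit 1797))
 (.leaf (nat_lit 0x2c08203040e04b01) (nat_lit 1538))
))) (.node (nat_lit 0x2c18102060f0d976) (.node (nat_lit 0x2c08301040f04a43) (.leaf (nat_lit 0x2c08203040e07b21) (nat_lit 2310))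
 (.node (nat_lit 0x2c08301040f05a73) (.leaf (nat_lit 0x2c08301040f04a43) (nat_lit 1280))
 (.leaf (nat_lit 0x2c08301040f05a73) (nat_lit 1536))
)) (.node (nat_lit 0x2c18203070d09bf5) (.node (nat_lit 0x2c18102060f0f966) (.leaf (nat_lit 0x2c18102060f0d976) (nat_lit 1792))
 (.leaf (nat_lit 0x2c18102060f0f966) (nat_lit 1798))
) (.node (nat_lit 0x2c18203070d0abd5) (.leaf (nat_lit 0x2c18203070d09bf5) (nat_lit 1797))
 (.leaf (nat_lit 0x2c18203070d0abd5) (nat_lit 1794))
)))) (.node (nat_lit 0x2c28301070c0beb3) (.node (nat_lit 0x2c28102050c02d82) (.node (nat_lit 0x2c18301050e05ab7) (.leaf (nat_lit 0x2c18301050e04a87) (nat_lit 1026))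
 (.node (nat_lit 0x2c28102050c00d92) (.leaf (nat_lit 0x2c18301050e05ab7) (nat_lit 1286))
 (.leaf (nat_lit 0x2c28102050c00d92) (nat_lit 1283))
)) (.node (nat_lit 0x2c28203060c0af01) (.node (nat_lit 0x2c28203060c09f21) (.leaf (nat_lit 0x2c28102050c02d82) (nat_lit 1029))
 (.leaf (nat_lit 0x2c28203060c09f21) (nat_lit 2049))
) (.node (nat_lit 0x2c28301070c0ae83) (.leaf (nat_lit 0x2c28203060c0af01) (nat_lit 1281))
 (.leaf (nat_lit 0x2c28301070c0ae83) (nat_lit 773))
))) (.node (nat_lit 0x2c38203050f05ff5) (.node (nat_lit 0x2c38102070e0cd86) (.leaf (nat_lit 0x2c28301070c0beb3) (nat_lit 1025))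
 (.node (nat_lit 0x2c38102070e0ed96) (.leaf (nat_lit 0x2c38102070e0cd86) (nat_lit 1282))
 (.leaf (nat_lit 0x2c38102070e0ed96) (nat_lit 1542))
)) (.node (nat_lit 0x2c38301060d0ae57) (.node (nat_lit 0x2c38203050f06fd5) (.leaf (nat_lit 0x2c38203050f05ff5) (nat_lit 1793))
 (.leaf (nat_lit 0x2c38203050f06fd5) (nat_lit 2050))
) (.node (nat_lit 0x2c38301060d0be67) (.leaf (nat_lit 0x2c38301060d0ae57) (nat_lit 1538))
 (.leaf (nat_lit 0x2c38301060d0be67) (nat_lit 1542))
)))))))) (.node (nat_lit 0x48a4102024188552) (.node (nat_lit 0x3c18102060d0997e) (.node (nat_lit 0x3804203090403bb9) (.node (nat_lit 0x342c1020e0b0ed5a) (.node (nat_lit 0x341c1020d0b049ce) (.node (nat_lit 0x340c2030d0903bf9) (.node (nat_lit 0x340c1020f0b0f9fa) (.leaf (nat_lit 0x340c1020f0b0d9ea) (nat_lit 2054))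
 (.node (nat_lit 0x340c2030d0900bd9) (.leaf (nat_lit 0x340c1020f0b0f9fa) (nat_lit 2052))
 (.leaf (nat_lit 0x340c2030d0900bd9) (nat_lit 2052))
)) (.node (nat_lit 0x340c3010e0a0ea0b) (.leaf (nat_lit 0x340c2030d0903bf9) (nat_lit 1797))
 (.node (nat_lit 0x340c3010e0a0fa3b) (.leaf (nat_lit 0x340c3010e0a0ea0b) (nat_lit 1284))
 (.leaf (nat_lit 0x340c3010e0a0fa3b) (nat_lit 1541))
))) (.node (nat_lit 0x341c2030e090ab5d) (.node (nat_lit 0x341c1020d0b069de) (.leaf (nat_lit 0x341c1020d0b049ce) (nat_lit 1794))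
 (.node (nat_lit 0x341c2030e0909b7d) (.leaf (nat_lit 0x341c1020d0b069de) (nat_lit 2049))
 (.leaf (nat_lit 0x341c2030e0909b7d) (nat_lit 2054))
)) (.node (nat_lit 0x341c3010f0a0faaf) (.node (nat_lit 0x341c3010f0a0ea9f) (.leaf (nat_lit 0x341c2030e090ab5d) (nat_lit 2048))
 (.leaf (nat_lit 0x341c3010f0a0ea9f) (nat_lit 2050))
) (.node (nat_lit 0x342c1020e0b0cd4a) (.leaf (nat_lit 0x341c3010f0a0faaf) (nat_lit 1792))
 (.leaf (nat_lit 0x342c1020e0b0cd4a) (nat_lit 2052))
)))) (.node (nat_lit 0x343c2030c0900f5d) (.node (nat_lit 0x342c3010d0a06e9b) (.node (nat_lit 0x342c2030f0909ff9) (.leaf (nat_lit 0x342c1020e0b0ed5a) (nat_lit 2054))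
 (.node (nat_lit 0x342c2030f090afd9) (.leaf (nat_lit 0x342c2030f0909ff9) (nat_lit 2049))
 (.leaf (nat_lit 0x342c2030f090afd9) (nat_lit 2054))
)) (.node (nat_lit 0x343c1020c0b05d6e) (.node (nat_lit 0x342c3010d0a07eab) (.leaf (nat_lit 0x342c3010d0a06e9b) (nat_lit 1797))
 (.leaf (nat_lit 0x342c3010d0a07eab) (nat_lit 1794))
) (.node (nat_lit 0x343c1020c0b07d7e) (.leaf (nat_lit 0x343c1020c0b05d6e) (nat_lit 2049))
 (.leaf (nat_lit 0x343c1020c0b07d7e) (nat_lit 1793))
))) (.node (nat_lit 0x343c3010c0a07e3f) (.node (nat_lit 0x343c2030c0903f7d) (.leaf (nat_lit 0x343c2030c0900f5d) (nat_lit 1795))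
 (.node (nat_lit 0x343c3010c0a06e0f) (.leaf (nat_lit 0x343c2030c0903f7d) (nat_lit 2053))
 (.leaf (nat_lit 0x343c3010c0a06e0f) (nat_lit 1025))
)) (.node (nat_lit 0x38041020b040b9ba) (.node (nat_lit 0x38041020b04099aa) (.leaf (nat_lit 0x343c3010c0a07e3f) (nat_lit 1797))
 (.leaf (nat_lit 0x38041020b04099aa) (nat_lit 2053))
) (.node (nat_lit 0x3804203090400b99) (.leaf (nat_lit 0x38041020b040b9ba) (nat_lit 1797))
 (.leaf (nat_lit 0x3804203090400b99) (nat_lit 1796))
))))) (.node (nat_lit 0x38243010a070ce4b) (.node (nat_lit 0x3814203090707bed) (.node (nat_lit 0x38141020b060d9be) (.node (nat_lit 0x38043010a040aa0b) (.leaf (nat_lit 0x3804203090403bb9) (nat_lit 1541))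
 (.node (nat_lit 0x38043010a040ba3b) (.leaf (nat_lit 0x38043010a040aa0b) (nat_lit 1028))
 (.leaf (nat_lit 0x38043010a040ba3b) (nat_lit 1285))
)) (.node (nat_lit 0x38141020b060f9ae) (.leaf (nat_lit 0x38141020b060d9be) (nat_lit 2054))
 (.node (nat_lit 0x3814203090704bcd) (.leaf (nat_lit 0x38141020b060f9ae) (nat_lit 2049))
 (.leaf (nat_lit 0x3814203090704bcd) (nat_lit 1794))
))) (.node (nat_lit 0x38241020b0509dfa) (.node (nat_lit 0x38143010a050aa5f) (.leaf (nat_lit 0x3814203090707bed) (nat_lit 2048))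
 (.node (nat_lit 0x38143010a050ba6f) (.leaf (nat_lit 0x38143010a050aa5f) (nat_lit 1793))
 (.leaf (nat_lit 0x38143010a050ba6f) (nat_lit 1798))
)) (.node (nat_lit 0x3824203090605fb9) (.node (nat_lit 0x38241020b050bdea) (.leaf (nat_lit 0x38241020b0509dfa) (nat_lit 2309))
 (.leaf (nat_lit 0x38241020b050bdea) (nat_lit 2310))
) (.node (nat_lit 0x3824203090606f99) (.leaf (nat_lit 0x3824203090605fb9) (nat_lit 1798))
 (.leaf (nat_lit 0x3824203090606f99) (nat_lit 2054))
)))) (.node (nat_lit 0x38343010a060de3f) (.node (nat_lit 0x38341020b070edde) (.node (nat_lit 0x38243010a070de7b) (.leaf (nat_lit 0x38243010a070ce4b) (nat_lit 1538))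
 (.node (nat_lit 0x38341020b070cdce) (.leaf (nat_lit 0x38243010a070de7b) (nat_lit 1792))
 (.leaf (nat_lit 0x38341020b070cdce) (nat_lit 2049))
)) (.node (nat_lit 0x3834203090503fed) (.node (nat_lit 0x3834203090500fcd) (.leaf (nat_lit 0x38341020b070edde) (nat_lit 2566))
 (.leaf (nat_lit 0x3834203090500fcd) (nat_lit 2051))
) (.node (nat_lit 0x38343010a060ce0f) (.leaf (nat_lit 0x3834203090503fed) (nat_lit 2054))
 (.leaf (nat_lit 0x38343010a060ce0f) (nat_lit 1281))
))) (.node (nat_lit 0x3c08203040d00b49) (.node (nat_lit 0x3c08102040f0494a) (.leaf (nat_lit 0x38343010a060de3f) (nat_lit 1542))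
 (.node (nat_lit 0x3c08102040f0695a) (.leaf (nat_lit 0x3c08102040f0494a) (nat_lit 1794))
 (.leaf (nat_lit 0x3c08102040f0695a) (nat_lit 2310))
)) (.node (nat_lit 0x3c08301040e04a0b) (.node (nat_lit 0x3c08203040d03b69) (.leaf (nat_lit 0x3c08203040d00b49) (nat_lit 1795))
 (.leaf (nat_lit 0x3c08203040d03b69) (nat_lit 1798))
) (.node (nat_lit 0x3c08301040e05a3b) (.leaf (nat_lit 0x3c08301040e04a0b) (nat_lit 1030))
 (.leaf (nat_lit 0x3c08301040e05a3b) (nat_lit 1286))
)))))) (.node (nat_lit 0x4080203084483321) (.node (nat_lit 0x3c38102070c0bdbe) (.node (nat_lit 0x3c28102050e05dba) (.node (nat_lit 0x3c18203070e0eb9d) (.node (nat_lit 0x3c18102060d0b96e) (.leaf (nat_lit 0x3c18102060d0997e) (nat_lit 2053))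
 (.node (nat_lit 0x3c18203070e0dbbd) (.leaf (nat_lit 0x3c18102060d0b96e) (nat_lit 2054))
 (.leaf (nat_lit 0x3c18203070e0dbbd) (nat_lit 1542))
)) (.node (nat_lit 0x3c18301050f04acf) (.leaf (nat_lit 0x3c18203070e0eb9d) (nat_lit 1798))
 (.node (nat_lit 0x3c18301050f05aff) (.leaf (nat_lit 0x3c18301050f04acf) (nat_lit 1282))
 (.leaf (nat_lit 0x3c18301050f05aff) (nat_lit 1536))
))) (.node (nat_lit 0x3c28203060f0ff69) (.node (nat_lit 0x3c28102050e07daa) (.leaf (nat_lit 0x3c28102050e05dba) (nat_lit 1798))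
 (.node (nat_lit 0x3c28203060f0cf49) (.leaf (nat_lit 0x3c28102050e07daa) (nat_lit 1794))
 (.leaf (nat_lit 0x3c28203060f0cf49) (nat_lit 1538))
)) (.node (nat_lit 0x3c28301070d0beeb) (.node (nat_lit 0x3c28301070d0aedb) (.leaf (nat_lit 0x3c28203060f0ff69) (nat_lit 1792))
 (.leaf (nat_lit 0x3c28301070d0aedb) (nat_lit 1798))
) (.node (nat_lit 0x3c38102070c09dae) (.leaf (nat_lit 0x3c28301070d0beeb) (nat_lit 1542))
 (.leaf (nat_lit 0x3c38102070c09dae) (nat_lit 1793))
)))) (.node (nat_lit 0x4080102094684182) (.node (nat_lit 0x3c38301060c0ae0f) (.node (nat_lit 0x3c38203050c00f9d) (.leaf (nat_lit 0x3c38102070c0bdbe) (nat_lit 1537))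
 (.node (nat_lit 0x3c38203050c03fbd) (.leaf (nat_lit 0x3c38203050c00f9d) (nat_lit 1539))
 (.leaf (nat_lit 0x3c38203050c03fbd) (nat_lit 1285))
)) (.node (nat_lit 0x4080102084480102) (.node (nat_lit 0x3c38301060c0be3f) (.leaf (nat_lit 0x3c38301060c0ae0f) (nat_lit 769))
 (.leaf (nat_lit 0x3c38301060c0be3f) (nat_lit 1029))
) (.node (nat_lit 0x4080102084482112) (.leaf (nat_lit 0x4080102084480102) (nat_lit 516))
 (.leaf (nat_lit 0x4080102084482112) (nat_lit 1798))
))) (.node (nat_lit 0x40801020a458a152) (.node (nat_lit 0x4080102094686192) (.leaf (nat_lit 0x4080102094684182) (nat_lit 1286))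
 (.node (nat_lit 0x40801020a4588142) (.leaf (nat_lit 0x4080102094686192) (nat_lit 1542))
 (.leaf (nat_lit 0x40801020a4588142) (nat_lit 1540))
)) (.node (nat_lit 0x40801020b478e1d2) (.node (nat_lit 0x40801020b478c1c2) (.leaf (nat_lit 0x40801020a458a152) (nat_lit 1796))
 (.leaf (nat_lit 0x40801020b478c1c2) (nat_lit 1793))
) (.node (nat_lit 0x4080203084480301) (.leaf (nat_lit 0x40801020b478e1d2) (nat_lit 2310))
 (.leaf (nat_lit 0x4080203084480301) (nat_lit 772))
))))) (.node (nat_lit 0x40803010b468c283) (.node (nat_lit 0x40802030b458b3e1) (.node (nat_lit 0x40802030a468c301) (.node (nat_lit 0x40802030947843c1) (.leaf (nat_lit 0x4080203084483321) (nat_lit 2054))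
 (.node (nat_lit 0x40802030947873e1) (.leaf (nat_lit 0x40802030947843c1) (nat_lit 1536))
 (.leaf (nat_lit 0x40802030947873e1) (nat_lit 1792))
)) (.node (nat_lit 0x40802030a468f321) (.leaf (nat_lit 0x40802030a468c301) (nat_lit 1537))
 (.node (nat_lit 0x40802030b45883c1) (.leaf (nat_lit 0x40802030a468f321) (nat_lit 2310))
 (.leaf (nat_lit 0x40802030b45883c1) (nat_lit 1795))
))) (.node (nat_lit 0x40803010945802c3) (.node (nat_lit 0x4080301084480203) (.leaf (nat_lit 0x40802030b458b3e1) (nat_lit 1798))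
 (.node (nat_lit 0x4080301084481233) (.leaf (nat_lit 0x4080301084480203) (nat_lit 260))
 (.leaf (nat_lit 0x4080301084481233) (nat_lit 1542))
)) (.node (nat_lit 0x40803010a478c243) (.node (nat_lit 0x40803010945812f3) (.leaf (nat_lit 0x40803010945802c3) (nat_lit 1537))
 (.leaf (nat_lit 0x40803010945812f3) (nat_lit 2054))
) (.node (nat_lit 0x40803010a478d273) (.leaf (nat_lit 0x40803010a478c243) (nat_lit 1280))
 (.leaf (nat_lit 0x40803010a478d273) (nat_lit 1536))
)))) (.node (nat_lit 0x4884301004081233) (.node (nat_lit 0x4884102004082112) (.node (nat_lit 0x40803010b468d2b3) (.leaf (nat_lit 0x40803010b468c283) (nat_lit 1030))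
 (.node (nat_lit 0x4884102004080102) (.leaf (nat_lit 0x40803010b468d2b3) (nat_lit 1286))
 (.leaf (nat_lit 0x4884102004080102) (nat_lit 1026))
)) (.node (nat_lit 0x4884203004083321) (.node (nat_lit 0x4884203004080301) (.leaf (nat_lit 0x4884102004082112) (nat_lit 2310))
 (.leaf (nat_lit 0x4884203004080301) (nat_lit 1282))
) (.node (nat_lit 0x4884301004080203) (.leaf (nat_lit 0x4884203004083321) (nat_lit 2562))
 (.leaf (nat_lit 0x4884301004080203) (nat_lit 770))
))) (.node (nat_lit 0x48942030143843d5) (.node (nat_lit 0x4894102014284196) (.leaf (nat_lit 0x4884301004081233) (nat_lit 2054))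
 (.node (nat_lit 0x4894102014286186) (.leaf (nat_lit 0x4894102014284196) (nat_lit 2053))
 (.leaf (nat_lit 0x4894102014286186) (nat_lit 1282))
)) (.node (nat_lit 0x48943010141802d7) (.node (nat_lit 0x48942030143873f5) (.leaf (nat_lit 0x48942030143843d5) (nat_lit 2309))
 (.leaf (nat_lit 0x48942030143873f5) (nat_lit 1538))
) (.node (nat_lit 0x48943010141812e7) (.leaf (nat_lit 0x48943010141802d7) (nat_lit 1538))
 (.leaf (nat_lit 0x48943010141812e7) (nat_lit 1794))
))))))) (.node (nat_lit 0x58b41020142855be) (.node (nat_lit 0x50a01020b468f5aa) (.node (nat_lit 0x509030108458126f) (.node (nat_lit 0x48b410203438d5e6) (.node (nat_lit 0x48a420302428e701) (.node (nat_lit 0x48a410202418a542) (.leaf (nat_lit 0x48a4102024188552) (nat_lit 1539))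
 (.node (nat_lit 0x48a420302428d721) (.leaf (nat_lit 0x48a410202418a542) (nat_lit 1797))
 (.leaf (nat_lit 0x48a420302428d721) (nat_lit 2306))
)) (.node (nat_lit 0x48a430102438e643) (.leaf (nat_lit 0x48a420302428e701) (nat_lit 1538))
 (.node (nat_lit 0x48a430102438f673) (.leaf (nat_lit 0x48a430102438e643) (nat_lit 1541))
 (.leaf (nat_lit 0x48a430102438f673) (nat_lit 1282))
))) (.node (nat_lit 0x48b420303418b7f5) (.node (nat_lit 0x48b410203438f5f6) (.leaf (nat_lit 0x48b410203438d5e6) (nat_lit 2050))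
 (.node (nat_lit 0x48b42030341887d5) (.leaf (nat_lit 0x48b410203438f5f6) (nat_lit 1794))
 (.leaf (nat_lit 0x48b42030341887d5) (nat_lit 1795))
)) (.node (nat_lit 0x48b430103428f6b7) (.node (nat_lit 0x48b430103428e687) (.leaf (nat_lit 0x48b420303418b7f5) (nat_lit 2053))
 (.leaf (nat_lit 0x48b430103428e687) (nat_lit 1026))
) (.node (nat_lit 0x509030108458025f) (.leaf (nat_lit 0x48b430103428f6b7) (nat_lit 1797))
 (.leaf (nat_lit 0x509030108458025f) (nat_lit 1030))
)))) (.node (nat_lit 0x50a010208458055a) (.node (nat_lit 0x50903010a468c20f) (.node (nat_lit 0x509030109448029f) (.leaf (nat_lit 0x509030108458126f) (nat_lit 1286))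
 (.node (nat_lit 0x50903010944812af) (.leaf (nat_lit 0x509030109448029f) (nat_lit 1282))
 (.leaf (nat_lit 0x50903010944812af) (nat_lit 1538))
)) (.node (nat_lit 0x50903010b478c2cf) (.node (nat_lit 0x50903010a468d23f) (.leaf (nat_lit 0x50903010a468c20f) (nat_lit 1025))
 (.leaf (nat_lit 0x50903010a468d23f) (nat_lit 1286))
) (.node (nat_lit 0x50903010b478d2ff) (.leaf (nat_lit 0x50903010b478c2cf) (nat_lit 1281))
 (.leaf (nat_lit 0x50903010b478d2ff) (nat_lit 1536))
))) (.node (nat_lit 0x50a01020947875ea) (.node (nat_lit 0x50a010208458254a) (.leaf (nat_lit 0x50a010208458055a) (nat_lit 1027))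
 (.node (nat_lit 0x50a01020947855fa) (.leaf (nat_lit 0x50a010208458254a) (nat_lit 1284))
 (.leaf (nat_lit 0x50a01020947855fa) (nat_lit 1792))
)) (.node (nat_lit 0x50a01020a448a50a) (.node (nat_lit 0x50a01020a448851a) (.leaf (nat_lit 0x50a01020947875ea) (nat_lit 1798))
 (.leaf (nat_lit 0x50a01020a448851a) (nat_lit 1283))
) (.node (nat_lit 0x50a01020b468d5ba) (.leaf (nat_lit 0x50a01020a448a50a) (nat_lit 1028))
 (.leaf (nat_lit 0x50a01020b468d5ba) (nat_lit 1798))
))))) (.node (nat_lit 0x58843010141802db) (.node (nat_lit 0x50b02030a478e75d) (.node (nat_lit 0x50b02030946857bd) (.node (nat_lit 0x50b020308458075d) (.leaf (nat_lit 0x50a01020b468f5aa) (nat_lit 1793))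
 (.node (nat_lit 0x50b020308458377d) (.leaf (nat_lit 0x50b020308458075d) (nat_lit 1283))
 (.leaf (nat_lit 0x50b020308458377d) (nat_lit 1540))
)) (.node (nat_lit 0x50b020309468679d) (.leaf (nat_lit 0x50b02030946857bd) (nat_lit 1542))
 (.node (nat_lit 0x50b02030a478d77d) (.leaf (nat_lit 0x50b020309468679d) (nat_lit 1798))
 (.leaf (nat_lit 0x50b02030a478d77d) (nat_lit 1794))
))) (.node (nat_lit 0x588410202418815a) (.node (nat_lit 0x50b02030b448879d) (.leaf (nat_lit 0x50b02030a478e75d) (nat_lit 2049))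
 (.node (nat_lit 0x50b02030b448b7bd) (.leaf (nat_lit 0x50b02030b448879d) (nat_lit 1539))
 (.leaf (nat_lit 0x50b02030b448b7bd) (nat_lit 1284))
)) (.node (nat_lit 0x58842030341883d9) (.node (nat_lit 0x588410202418a14a) (.leaf (nat_lit 0x588410202418815a) (nat_lit 1797))
 (.leaf (nat_lit 0x588410202418a14a) (nat_lit 1540))
) (.node (nat_lit 0x588420303418b3f9) (.leaf (nat_lit 0x58842030341883d9) (nat_lit 2053))
 (.leaf (nat_lit 0x588420303418b3f9) (nat_lit 1796))
)))) (.node (nat_lit 0x589430100408123f) (.node (nat_lit 0x589410203438e1de) (.node (nat_lit 0x58843010141812eb) (.leaf (nat_lit 0x58843010141802db) (nat_lit 1797))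
 (.node (nat_lit 0x589410203438c1ce) (.leaf (nat_lit 0x58843010141812eb) (nat_lit 1798))
 (.leaf (nat_lit 0x589410203438c1ce) (nat_lit 1794))
)) (.node (nat_lit 0x589420302428f32d) (.node (nat_lit 0x589420302428c30d) (.leaf (nat_lit 0x589410203438e1de) (nat_lit 2050))
 (.leaf (nat_lit 0x589420302428c30d) (nat_lit 2050))
) (.node (nat_lit 0x589430100408020f) (.leaf (nat_lit 0x589420302428f32d) (nat_lit 2306))
 (.leaf (nat_lit 0x589430100408020f) (nat_lit 1537))
))) (.node (nat_lit 0x58a42030143857f9) (.node (nat_lit 0x58a410200408050a) (.leaf (nat_lit 0x589430100408123f) (nat_lit 2310))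
 (.node (nat_lit 0x58a410200408251a) (.leaf (nat_lit 0x58a410200408050a) (nat_lit 1540))
 (.leaf (nat_lit 0x58a410200408251a) (nat_lit 2308))
)) (.node (nat_lit 0x58a430103428e69b) (.node (nat_lit 0x58a42030143867d9) (.leaf (nat_lit 0x58a42030143857f9) (nat_lit 2050))
 (.leaf (nat_lit 0x58a42030143867d9) (nat_lit 2054))
) (.node (nat_lit 0x58a430103428f6ab) (.leaf (nat_lit 0x58a430103428e69b) (nat_lit 1796))
 (.leaf (nat_lit 0x58a430103428f6ab) (nat_lit 1793))
)))))) (.node (nat_lit 0x60b03010a458be67) (.node (nat_lit 0x60901020b458b9e6) (.node (nat_lit 0x6090102084684916) (.node (nat_lit 0x58b420300408372d) (.node (nat_lit 0x58b41020142875ae) (.leaf (nat_lit 0x58b41020142855be) (nat_lit 2306))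
 (.node (nat_lit 0x58b420300408070d) (.leaf (nat_lit 0x58b41020142875ae) (nat_lit 2052))
 (.leaf (nat_lit 0x58b420300408070d) (nat_lit 1795))
)) (.node (nat_lit 0x58b430102438e65f) (.leaf (nat_lit 0x58b420300408372d) (nat_lit 2306))
 (.node (nat_lit 0x58b430102438f66f) (.leaf (nat_lit 0x58b430102438e65f) (nat_lit 1798))
 (.leaf (nat_lit 0x58b430102438f66f) (nat_lit 1542))
))) (.node (nat_lit 0x6090102094482986) (.node (nat_lit 0x6090102084686906) (.leaf (nat_lit 0x6090102084684916) (nat_lit 1540))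
 (.node (nat_lit 0x6090102094480996) (.leaf (nat_lit 0x6090102084686906) (nat_lit 774))
 (.leaf (nat_lit 0x6090102094480996) (nat_lit 1284))
)) (.node (nat_lit 0x60901020a478f966) (.node (nat_lit 0x60901020a478d976) (.leaf (nat_lit 0x6090102094482986) (nat_lit 1026))
 (.leaf (nat_lit 0x60901020a478d976) (nat_lit 1792))
) (.node (nat_lit 0x60901020b45899f6) (.leaf (nat_lit 0x60901020a478f966) (nat_lit 1798))
 (.leaf (nat_lit 0x60901020b45899f6) (nat_lit 2050))
)))) (.node (nat_lit 0x60a02030b478cfc1) (.node (nat_lit 0x60a0203094580fc1) (.node (nat_lit 0x60a0203084685f21) (.leaf (nat_lit 0x60901020b458b9e6) (nat_lit 2054))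
 (.node (nat_lit 0x60a0203084686f01) (.leaf (nat_lit 0x60a0203084685f21) (nat_lit 1792))
 (.leaf (nat_lit 0x60a0203084686f01) (nat_lit 1030))
)) (.node (nat_lit 0x60a02030a4489f21) (.node (nat_lit 0x60a0203094583fe1) (.leaf (nat_lit 0x60a0203094580fc1) (nat_lit 1794))
 (.leaf (nat_lit 0x60a0203094583fe1) (nat_lit 1798))
) (.node (nat_lit 0x60a02030a448af01) (.leaf (nat_lit 0x60a02030a4489f21) (nat_lit 2050))
 (.leaf (nat_lit 0x60a02030a448af01) (nat_lit 1282))
))) (.node (nat_lit 0x60b0301084687e37) (.node (nat_lit 0x60a02030b478ffe1) (.leaf (nat_lit 0x60a02030b478cfc1) (nat_lit 1537))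
 (.node (nat_lit 0x60b0301084686e07) (.leaf (nat_lit 0x60a02030b478ffe1) (nat_lit 1792))
 (.leaf (nat_lit 0x60b0301084686e07) (nat_lit 518))
)) (.node (nat_lit 0x60b0301094787ee7) (.node (nat_lit 0x60b0301094786ed7) (.leaf (nat_lit 0x60b0301084687e37) (nat_lit 1284))
 (.leaf (nat_lit 0x60b0301094786ed7) (nat_lit 1794))
) (.node (nat_lit 0x60b03010a458ae57) (.leaf (nat_lit 0x60b0301094787ee7) (nat_lit 1798))
 (.leaf (nat_lit 0x60b03010a458ae57) (nat_lit 1537))
))))) (.node (nat_lit 0x689430102438ea57) (.node (nat_lit 0x688420302428eb01) (.node (nat_lit 0x6884102014284992) (.node (nat_lit 0x60b03010b448ae87) (.leaf (nat_lit 0x60b03010a458be67) (nat_lit 1542))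
 (.node (nat_lit 0x60b03010b448beb7) (.leaf (nat_lit 0x60b03010b448ae87) (nat_lit 770))
 (.leaf (nat_lit 0x60b03010b448beb7) (nat_lit 1028))
)) (.node (nat_lit 0x6884102014286982) (.leaf (nat_lit 0x6884102014284992) (nat_lit 1796))
 (.node (nat_lit 0x688420302428db21) (.leaf (nat_lit 0x6884102014286982) (nat_lit 1541))
 (.leaf (nat_lit 0x688420302428db21) (nat_lit 2304))
))) (.node (nat_lit 0x6894102004080906) (.node (nat_lit 0x688430103428ea83) (.leaf (nat_lit 0x688420302428eb01) (nat_lit 1797))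
 (.node (nat_lit 0x688430103428fab3) (.leaf (nat_lit 0x688430103428ea83) (nat_lit 1285))
 (.leaf (nat_lit 0x688430103428fab3) (nat_lit 1540))
)) (.node (nat_lit 0x6894203034189bf5) (.node (nat_lit 0x6894102004082916) (.leaf (nat_lit 0x6894102004080906) (nat_lit 1286))
 (.leaf (nat_lit 0x6894102004082916) (nat_lit 2050))
) (.node (nat_lit 0x689420303418abd5) (.leaf (nat_lit 0x6894203034189bf5) (nat_lit 2054))
 (.leaf (nat_lit 0x689420303418abd5) (nat_lit 2048))
)))) (.node (nat_lit 0x68a4301014181ef3) (.node (nat_lit 0x68a410203438edd2) (.node (nat_lit 0x689430102438fa67) (.leaf (nat_lit 0x689430102438ea57) (nat_lit 1542))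
 (.node (nat_lit 0x68a410203438cdc2) (.leaf (nat_lit 0x689430102438fa67) (nat_lit 1798))
 (.leaf (nat_lit 0x68a410203438cdc2) (nat_lit 2053))
)) (.node (nat_lit 0x68a4203004083f21) (.node (nat_lit 0x68a4203004080f01) (.leaf (nat_lit 0x68a410203438edd2) (nat_lit 2054))
 (.leaf (nat_lit 0x68a4203004080f01) (nat_lit 1542))
) (.node (nat_lit 0x68a4301014180ec3) (.leaf (nat_lit 0x68a4203004083f21) (nat_lit 2822))
 (.leaf (nat_lit 0x68a4301014180ec3) (nat_lit 1794))
))) (.node (nat_lit 0x68b4203014385ff5) (.node (nat_lit 0x68b4102024189d76) (.leaf (nat_lit 0x68a4301014181ef3) (nat_lit 1798))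
 (.node (nat_lit 0x68b410202418bd66) (.leaf (nat_lit 0x68b4102024189d76) (nat_lit 1798))
 (.leaf (nat_lit 0x68b410202418bd66) (nat_lit 2054))
)) (.node (nat_lit 0x68b4301004080e07) (.node (nat_lit 0x68b4203014386fd5) (.leaf (nat_lit 0x68b4203014385ff5) (nat_lit 2309))
 (.leaf (nat_lit 0x68b4203014386fd5) (nat_lit 1798))
) (.node (nat_lit 0x68b4301004081e37) (.leaf (nat_lit 0x68b4301004080e07) (nat_lit 1030))
 (.leaf (nat_lit 0x68b4301004081e37) (nat_lit 1794))
))))))))) (.node (nat_lit 0xb4cc10203c0499aa) (.node (nat_lit 0x84ec10203c048582) (.node (nat_lit 0x80c01020fc848182) (.node (nat_lit 0x7884203014387bf9) (.node (nat_lit 0x70a03010a448be3b) (.node (nat_lit 0x70902030b468dbbd) (.node (nat_lit 0x7090203094483bbd) (.node (nat_lit 0x7090203084787b7d) (.leaf (nat_lit 0x7090203084784b5d) (nat_lit 1796))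
 (.node (nat_lit 0x7090203094480b9d) (.leaf (nat_lit 0x7090203084787b7d) (nat_lit 1024))
 (.leaf (nat_lit 0x7090203094480b9d) (nat_lit 1540))
)) (.node (nat_lit 0x70902030a4589b7d) (.leaf (nat_lit 0x7090203094483bbd) (nat_lit 1282))
 (.node (nat_lit 0x70902030a458ab5d) (.leaf (nat_lit 0x70902030a4589b7d) (nat_lit 1794))
 (.leaf (nat_lit 0x70902030a458ab5d) (nat_lit 1793))
))) (.node (nat_lit 0x70a0301084787e7b) (.node (nat_lit 0x70902030b468eb9d) (.leaf (nat_lit 0x70902030b468dbbd) (nat_lit 1542))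
 (.node (nat_lit 0x70a0301084786e4b) (.leaf (nat_lit 0x70902030b468eb9d) (nat_lit 1798))
 (.leaf (nat_lit 0x70a0301084786e4b) (nat_lit 1028))
)) (.node (nat_lit 0x70a0301094687eab) (.node (nat_lit 0x70a0301094686e9b) (.leaf (nat_lit 0x70a0301084787e7b) (nat_lit 768))
 (.leaf (nat_lit 0x70a0301094686e9b) (nat_lit 1542))
) (.node (nat_lit 0x70a03010a448ae0b) (.leaf (nat_lit 0x70a0301094687eab) (nat_lit 1537))
 (.leaf (nat_lit 0x70a03010a448ae0b) (nat_lit 772))
)))) (.node (nat_lit 0x70b01020a468cd0e) (.node (nat_lit 0x70b0102084785d6e) (.node (nat_lit 0x70a03010b458aedb) (.leaf (nat_lit 0x70a03010a448be3b) (nat_lit 1026))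
 (.node (nat_lit 0x70a03010b458beeb) (.leaf (nat_lit 0x70a03010b458aedb) (nat_lit 1798))
 (.leaf (nat_lit 0x70a03010b458beeb) (nat_lit 1542))
)) (.node (nat_lit 0x70b0102094580dce) (.node (nat_lit 0x70b0102084787d7e) (.leaf (nat_lit 0x70b0102084785d6e) (nat_lit 1542))
 (.leaf (nat_lit 0x70b0102084787d7e) (nat_lit 1280))
) (.node (nat_lit 0x70b0102094582dde) (.leaf (nat_lit 0x70b0102094580dce) (nat_lit 1538))
 (.leaf (nat_lit 0x70b0102094582dde) (nat_lit 1794))
))) (.node (nat_lit 0x70b01020b448bdbe) (.node (nat_lit 0x70b01020a468ed1e) (.leaf (nat_lit 0x70b01020a468cd0e) (nat_lit 1281))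
 (.node (nat_lit 0x70b01020b4489dae) (.leaf (nat_lit 0x70b01020a468ed1e) (nat_lit 1542))
 (.leaf (nat_lit 0x70b01020b4489dae) (nat_lit 1794))
)) (.node (nat_lit 0x788410203438f9fa) (.node (nat_lit 0x788410203438d9ea) (.leaf (nat_lit 0x70b01020b448bdbe) (nat_lit 1538))
 (.leaf (nat_lit 0x788410203438d9ea) (nat_lit 2054))
) (.node (nat_lit 0x7884203014384bd9) (.leaf (nat_lit 0x788410203438f9fa) (nat_lit 2053))
 (.leaf (nat_lit 0x7884203014384bd9) (nat_lit 2052))
))))) (.node (nat_lit 0x78a4301004080e0b) (.node (nat_lit 0x7894203004083b2d) (.node (nat_lit 0x789410202418997e) (.node (nat_lit 0x788430102438ea4b) (.leaf (nat_lit 0x7884203014387bf9) (nat_lit 1797))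
 (.node (nat_lit 0x788430102438fa7b) (.leaf (nat_lit 0x788430102438ea4b) (nat_lit 1284))
 (.leaf (nat_lit 0x788430102438fa7b) (nat_lit 1541))
)) (.node (nat_lit 0x789410202418b96e) (.leaf (nat_lit 0x789410202418997e) (nat_lit 2054))
 (.node (nat_lit 0x7894203004080b0d) (.leaf (nat_lit 0x789410202418b96e) (nat_lit 1798))
 (.leaf (nat_lit 0x7894203004080b0d) (nat_lit 1536))
))) (.node (nat_lit 0x78a4102014285dba) (.node (nat_lit 0x789430103428ea9f) (.leaf (nat_lit 0x7894203004083b2d) (nat_lit 2306))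
 (.node (nat_lit 0x789430103428faaf) (.leaf (nat_lit 0x789430103428ea9f) (nat_lit 2050))
 (.leaf (nat_lit 0x789430103428faaf) (nat_lit 1792))
)) (.node (nat_lit 0x78a4203034189ff9) (.node (nat_lit 0x78a4102014287daa) (.leaf (nat_lit 0x78a4102014285dba) (nat_lit 2052))
 (.leaf (nat_lit 0x78a4102014287daa) (nat_lit 2048))
) (.node (nat_lit 0x78a420303418afd9) (.leaf (nat_lit 0x78a4203034189ff9) (nat_lit 2050))
 (.leaf (nat_lit 0x78a420303418afd9) (nat_lit 2054))
)))) (.node (nat_lit 0x78b4301014181eff) (.node (nat_lit 0x78b4102004082d1e) (.node (nat_lit 0x78a4301004081e3b) (.leaf (nat_lit 0x78a4301004080e0b) (nat_lit 1280))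
 (.node (nat_lit 0x78b4102004080d0e) (.leaf (nat_lit 0x78a4301004081e3b) (nat_lit 2050))
 (.leaf (nat_lit 0x78b4102004080d0e) (nat_lit 1792))
)) (.node (nat_lit 0x78b420302428ff2d) (.node (nat_lit 0x78b420302428cf0d) (.leaf (nat_lit 0x78b4102004082d1e) (nat_lit 2566))
 (.leaf (nat_lit 0x78b420302428cf0d) (nat_lit 2307))
) (.node (nat_lit 0x78b4301014180ecf) (.leaf (nat_lit 0x78b420302428ff2d) (nat_lit 2304))
 (.leaf (nat_lit 0x78b4301014180ecf) (nat_lit 1538))
))) (.node (nat_lit 0x80c01020dcb441c2) (.node (nat_lit 0x80c01020cc840102) (.leaf (nat_lit 0x78b4301014181eff) (nat_lit 1794))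
 (.node (nat_lit 0x80c01020cc842112) (.leaf (nat_lit 0x80c01020cc840102) (nat_lit 769))
 (.leaf (nat_lit 0x80c01020cc842112) (nat_lit 2054))
)) (.node (nat_lit 0x80c01020ecb4c142) (.node (nat_lit 0x80c01020dcb461d2) (.leaf (nat_lit 0x80c01020dcb441c2) (nat_lit 1537))
 (.leaf (nat_lit 0x80c01020dcb461d2) (nat_lit 1793))
) (.node (nat_lit 0x80c01020ecb4e152) (.leaf (nat_lit 0x80c01020ecb4c142) (nat_lit 1796))
 (.leaf (nat_lit 0x80c01020ecb4e152) (nat_lit 1798))
)))))) (.node (nat_lit 0x80e02030cca46701) (.node (nat_lit 0x80c03010dc8412b3) (.node (nat_lit 0x80c02030ec848301) (.node (nat_lit 0x80c02030cc843321) (.node (nat_lit 0x80c01020fc84a192) (.leaf (nat_lit 0x80c01020fc848182) (nat_lit 1536))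
 (.node (nat_lit 0x80c02030cc840301) (.leaf (nat_lit 0x80c01020fc84a192) (nat_lit 2310))
 (.leaf (nat_lit 0x80c02030cc840301) (nat_lit 1025))
)) (.node (nat_lit 0x80c02030dca44381) (.leaf (nat_lit 0x80c02030cc843321) (nat_lit 2305))
 (.node (nat_lit 0x80c02030dca473a1) (.leaf (nat_lit 0x80c02030dca44381) (nat_lit 1793))
 (.leaf (nat_lit 0x80c02030dca473a1) (nat_lit 2049))
))) (.node (nat_lit 0x80c02030fca4f3a1) (.node (nat_lit 0x80c02030ec84b321) (.leaf (nat_lit 0x80c02030ec848301) (nat_lit 1286))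
 (.node (nat_lit 0x80c02030fca4c381) (.leaf (nat_lit 0x80c02030ec84b321) (nat_lit 2561))
 (.leaf (nat_lit 0x80c02030fca4c381) (nat_lit 2051))
)) (.node (nat_lit 0x80c03010cc841233) (.node (nat_lit 0x80c03010cc840203) (.leaf (nat_lit 0x80c02030fca4f3a1) (nat_lit 2048))
 (.leaf (nat_lit 0x80c03010cc840203) (nat_lit 513))
) (.node (nat_lit 0x80c03010dc840283) (.leaf (nat_lit 0x80c03010cc841233) (nat_lit 1798))
 (.leaf (nat_lit 0x80c03010dc840283) (nat_lit 1286))
)))) (.node (nat_lit 0x80d03010dc9402d7) (.node (nat_lit 0x80c03010fc9482c3) (.node (nat_lit 0x80c03010ec948243) (.leaf (nat_lit 0x80c03010dc8412b3) (nat_lit 2054))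
 (.node (nat_lit 0x80c03010ec949273) (.leaf (nat_lit 0x80c03010ec948243) (nat_lit 1537))
 (.leaf (nat_lit 0x80c03010ec949273) (nat_lit 1542))
)) (.node (nat_lit 0x80d03010cc940257) (.node (nat_lit 0x80c03010fc9492f3) (.leaf (nat_lit 0x80c03010fc9482c3) (nat_lit 1281))
 (.leaf (nat_lit 0x80c03010fc9492f3) (nat_lit 1537))
) (.node (nat_lit 0x80d03010cc941267) (.leaf (nat_lit 0x80d03010cc940257) (nat_lit 1281))
 (.leaf (nat_lit 0x80d03010cc941267) (nat_lit 1537))
))) (.node (nat_lit 0x80d03010ec849237) (.node (nat_lit 0x80d03010dc9412e7) (.leaf (nat_lit 0x80d03010dc9402d7) (nat_lit 1538))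
 (.node (nat_lit 0x80d03010ec848207) (.leaf (nat_lit 0x80d03010dc9412e7) (nat_lit 1542))
 (.leaf (nat_lit 0x80d03010ec848207) (nat_lit 774))
)) (.node (nat_lit 0x80d03010fc8492b7) (.node (nat_lit 0x80d03010fc848287) (.leaf (nat_lit 0x80d03010ec849237) (nat_lit 1537))
 (.leaf (nat_lit 0x80d03010fc848287) (nat_lit 1024))
) (.node (nat_lit 0x80e02030cca45721) (.leaf (nat_lit 0x80d03010fc8492b7) (nat_lit 1793))
 (.leaf (nat_lit 0x80e02030cca45721) (nat_lit 2049))
))))) (.node (nat_lit 0x80f01020fcb4d5e6) (.node (nat_lit 0x80e02030fc84b7a1) (.node (nat_lit 0x80e02030eca4d721) (.node (nat_lit 0x80e02030dc840781) (.leaf (nat_lit 0x80e02030cca46701) (nat_lit 1281))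
 (.node (nat_lit 0x80e02030dc8437a1) (.leaf (nat_lit 0x80e02030dc840781) (nat_lit 1538))
 (.leaf (nat_lit 0x80e02030dc8437a1) (nat_lit 2049))
)) (.node (nat_lit 0x80e02030eca4e701) (.leaf (nat_lit 0x80e02030eca4d721) (nat_lit 2048))
 (.node (nat_lit 0x80e02030fc848781) (.leaf (nat_lit 0x80e02030eca4e701) (nat_lit 1538))
 (.leaf (nat_lit 0x80e02030fc848781) (nat_lit 1280))
))) (.node (nat_lit 0x80f01020dc840586) (.node (nat_lit 0x80f01020ccb45566) (.leaf (nat_lit 0x80e02030fc84b7a1) (nat_lit 2049))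
 (.node (nat_lit 0x80f01020ccb47576) (.leaf (nat_lit 0x80f01020ccb45566) (nat_lit 1793))
 (.leaf (nat_lit 0x80f01020ccb47576) (nat_lit 1537))
)) (.node (nat_lit 0x80f01020ec848506) (.node (nat_lit 0x80f01020dc842596) (.leaf (nat_lit 0x80f01020dc840586) (nat_lit 1282))
 (.leaf (nat_lit 0x80f01020dc842596) (nat_lit 2050))
) (.node (nat_lit 0x80f01020ec84a516) (.leaf (nat_lit 0x80f01020ec848506) (nat_lit 1030))
 (.leaf (nat_lit 0x80f01020ec84a516) (nat_lit 1793))
)))) (.node (nat_lit 0x84cc30100c041233) (.node (nat_lit 0x84cc10200c042112) (.node (nat_lit 0x80f01020fcb4f5f6) (.leaf (nat_lit 0x80f01020fcb4d5e6) (nat_lit 1798))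
 (.node (nat_lit 0x84cc10200c040102) (.leaf (nat_lit 0x80f01020fcb4f5f6) (nat_lit 1794))
 (.leaf (nat_lit 0x84cc10200c040102) (nat_lit 1282))
)) (.node (nat_lit 0x84cc20300c043321) (.node (nat_lit 0x84cc20300c040301) (.leaf (nat_lit 0x84cc10200c042112) (nat_lit 2562))
 (.leaf (nat_lit 0x84cc20300c040301) (nat_lit 1538))
) (.node (nat_lit 0x84cc30100c040203) (.leaf (nat_lit 0x84cc20300c043321) (nat_lit 2818))
 (.leaf (nat_lit 0x84cc30100c040203) (nat_lit 1026))
))) (.node (nat_lit 0x84dc20302c048305) (.node (nat_lit 0x84dc10203c048186) (.leaf (nat_lit 0x84cc30100c041233) (nat_lit 2306))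
 (.node (nat_lit 0x84dc10203c04a196) (.leaf (nat_lit 0x84dc10203c048186) (nat_lit 1538))
 (.leaf (nat_lit 0x84dc10203c04a196) (nat_lit 2306))
)) (.node (nat_lit 0x84dc30100c040207) (.node (nat_lit 0x84dc20302c04b325) (.leaf (nat_lit 0x84dc20302c048305) (nat_lit 1794))
 (.leaf (nat_lit 0x84dc20302c04b325) (nat_lit 2562))
) (.node (nat_lit 0x84dc30100c041237) (.leaf (nat_lit 0x84dc30100c040207) (nat_lit 1286))
 (.leaf (nat_lit 0x84dc30100c041237) (nat_lit 2562))
))))))) (.node (nat_lit 0xa0d02030dc940bd5) (.node (nat_lit 0x90f03010fcb4f6ff) (.node (nat_lit 0x90e03010ccb4767b) (.node (nat_lit 0x84fc10200c040506) (.node (nat_lit 0x84ec20300c043721) (.node (nat_lit 0x84ec10203c04a592) (.leaf (nat_lit 0x84ec10203c048582) (nat_lit 1797))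
 (.node (nat_lit 0x84ec20300c040701) (.leaf (nat_lit 0x84ec10203c04a592) (nat_lit 2305))
 (.leaf (nat_lit 0x84ec20300c040701) (nat_lit 1794))
)) (.node (nat_lit 0x84ec30101c040683) (.leaf (nat_lit 0x84ec20300c043721) (nat_lit 3074))
 (.node (nat_lit 0x84ec30101c0416b3) (.leaf (nat_lit 0x84ec30101c040683) (nat_lit 1538))
 (.leaf (nat_lit 0x84ec30101c0416b3) (nat_lit 2049))
))) (.node (nat_lit 0x84fc20302c04b725) (.node (nat_lit 0x84fc10200c042516) (.leaf (nat_lit 0x84fc10200c040506) (nat_lit 1542))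
 (.node (nat_lit 0x84fc20302c048705) (.leaf (nat_lit 0x84fc10200c042516) (nat_lit 2822))
 (.leaf (nat_lit 0x84fc20302c048705) (nat_lit 2051))
)) (.node (nat_lit 0x84fc30101c0416b7) (.node (nat_lit 0x84fc30101c040687) (.leaf (nat_lit 0x84fc20302c04b725) (nat_lit 2561))
 (.leaf (nat_lit 0x84fc30101c040687) (nat_lit 1282))
) (.node (nat_lit 0x90e03010ccb4664b) (.leaf (nat_lit 0x84fc30101c0416b7) (nat_lit 2050))
 (.leaf (nat_lit 0x90e03010ccb4664b) (nat_lit 1284))
)))) (.node (nat_lit 0x90f03010cca4660f) (.node (nat_lit 0x90e03010eca4e60b) (.node (nat_lit 0x90e03010dcb466db) (.leaf (nat_lit 0x90e03010ccb4767b) (nat_lit 1025))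
 (.node (nat_lit 0x90e03010dcb476eb) (.leaf (nat_lit 0x90e03010dcb466db) (nat_lit 1542))
 (.leaf (nat_lit 0x90e03010dcb476eb) (nat_lit 1286))
)) (.node (nat_lit 0x90e03010fca4e69b) (.node (nat_lit 0x90e03010eca4f63b) (.leaf (nat_lit 0x90e03010eca4e60b) (nat_lit 1028))
 (.leaf (nat_lit 0x90e03010eca4f63b) (nat_lit 1282))
) (.node (nat_lit 0x90e03010fca4f6ab) (.leaf (nat_lit 0x90e03010fca4e69b) (nat_lit 1794))
 (.leaf (nat_lit 0x90e03010fca4f6ab) (nat_lit 1536))
))) (.node (nat_lit 0x90f03010dca476af) (.node (nat_lit 0x90f03010cca4763f) (.leaf (nat_lit 0x90f03010cca4660f) (nat_lit 769))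
 (.node (nat_lit 0x90f03010dca4669f) (.leaf (nat_lit 0x90f03010cca4763f) (nat_lit 1540))
 (.leaf (nat_lit 0x90f03010dca4669f) (nat_lit 1538))
)) (.node (nat_lit 0x90f03010ecb4f66f) (.node (nat_lit 0x90f03010ecb4e65f) (.leaf (nat_lit 0x90f03010dca476af) (nat_lit 1792))
 (.leaf (nat_lit 0x90f03010ecb4e65f) (nat_lit 1286))
) (.node (nat_lit 0x90f03010fcb4e6cf) (.leaf (nat_lit 0x90f03010ecb4f66f) (nat_lit 1542))
 (.leaf (nat_lit 0x90f03010fcb4e6cf) (nat_lit 1026))
))))) (.node (nat_lit 0x94ec10201c3455fa) (.node (nat_lit 0x94cc30101c0412ab) (.node (nat_lit 0x94cc20303c24c399) (.node (nat_lit 0x94cc10202c34c15a) (.leaf (nat_lit 0x90f03010fcb4f6ff) (nat_lit 1284))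
 (.node (nat_lit 0x94cc10202c34e14a) (.leaf (nat_lit 0x94cc10202c34c15a) (nat_lit 2053))
 (.leaf (nat_lit 0x94cc10202c34e14a) (nat_lit 1796))
)) (.node (nat_lit 0x94cc20303c24f3b9) (.leaf (nat_lit 0x94cc20303c24c399) (nat_lit 2309))
 (.node (nat_lit 0x94cc30101c04029b) (.leaf (nat_lit 0x94cc20303c24f3b9) (nat_lit 2052))
 (.leaf (nat_lit 0x94cc30101c04029b) (nat_lit 2052))
))) (.node (nat_lit 0x94dc20301c24439d) (.node (nat_lit 0x94dc10201c3441de) (.leaf (nat_lit 0x94cc30101c0412ab) (nat_lit 2049))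
 (.node (nat_lit 0x94dc10201c3461ce) (.leaf (nat_lit 0x94dc10201c3441de) (nat_lit 2309))
 (.leaf (nat_lit 0x94dc10201c3461ce) (nat_lit 1538))
)) (.node (nat_lit 0x94dc30101c04029f) (.node (nat_lit 0x94dc20301c2473bd) (.leaf (nat_lit 0x94dc20301c24439d) (nat_lit 2565))
 (.leaf (nat_lit 0x94dc20301c2473bd) (nat_lit 1794))
) (.node (nat_lit 0x94dc30101c0412af) (.leaf (nat_lit 0x94dc30101c04029f) (nat_lit 1794))
 (.leaf (nat_lit 0x94dc30101c0412af) (nat_lit 2050))
)))) (.node (nat_lit 0x94fc10202c34f56e) (.node (nat_lit 0x94ec20303c24e799) (.node (nat_lit 0x94ec10201c3475ea) (.leaf (nat_lit 0x94ec10201c3455fa) (nat_lit 2309))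
 (.node (nat_lit 0x94ec20303c24d7b9) (.leaf (nat_lit 0x94ec10201c3475ea) (nat_lit 1798))
 (.leaf (nat_lit 0x94ec20303c24d7b9) (nat_lit 2306))
)) (.node (nat_lit 0x94ec30100c04163b) (.node (nat_lit 0x94ec30100c04060b) (.leaf (nat_lit 0x94ec20303c24e799) (nat_lit 2306))
 (.leaf (nat_lit 0x94ec30100c04060b) (nat_lit 1537))
) (.node (nat_lit 0x94fc10202c34d57e) (.leaf (nat_lit 0x94ec30100c04163b) (nat_lit 2050))
 (.leaf (nat_lit 0x94fc10202c34d57e) (nat_lit 2049))
))) (.node (nat_lit 0x94fc30100c04060f) (.node (nat_lit 0x94fc20301c2457bd) (.leaf (nat_lit 0x94fc10202c34f56e) (nat_lit 2054))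
 (.node (nat_lit 0x94fc20301c24679d) (.leaf (nat_lit 0x94fc20301c2457bd) (nat_lit 2564))
 (.leaf (nat_lit 0x94fc20301c24679d) (nat_lit 2050))
)) (.node (nat_lit 0xa0d02030ccb44b55) (.node (nat_lit 0x94fc30100c04163f) (.leaf (nat_lit 0x94fc30100c04060f) (nat_lit 1281))
 (.leaf (nat_lit 0x94fc30100c04163f) (nat_lit 2050))
) (.node (nat_lit 0xa0d02030ccb47b75) (.leaf (nat_lit 0xa0d02030ccb44b55) (nat_lit 2052))
 (.leaf (nat_lit 0xa0d02030ccb47b75) (nat_lit 1281))
)))))) (.node (nat_lit 0xa4ec10202c34ed42) (.node (nat_lit 0xa0f02030fcb4fff5) (.node (nat_lit 0xa0f02030cc940f55) (.node (nat_lit 0xa0d02030ecb4eb55) (.node (nat_lit 0xa0d02030dc943bf5) (.leaf (nat_lit 0xa0d02030dc940bd5) (nat_lit 1796))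
 (.node (nat_lit 0xa0d02030ecb4db75) (.leaf (nat_lit 0xa0d02030dc943bf5) (nat_lit 1538))
 (.leaf (nat_lit 0xa0d02030ecb4db75) (nat_lit 2052))
)) (.node (nat_lit 0xa0d02030fc949bf5) (.leaf (nat_lit 0xa0d02030ecb4eb55) (nat_lit 1542))
 (.node (nat_lit 0xa0d02030fc94abd5) (.leaf (nat_lit 0xa0d02030fc949bf5) (nat_lit 1793))
 (.leaf (nat_lit 0xa0d02030fc94abd5) (nat_lit 1798))
))) (.node (nat_lit 0xa0f02030dcb46fd5) (.node (nat_lit 0xa0f02030cc943f75) (.leaf (nat_lit 0xa0f02030cc940f55) (nat_lit 1539))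
 (.node (nat_lit 0xa0f02030dcb45ff5) (.leaf (nat_lit 0xa0f02030cc943f75) (nat_lit 1796))
 (.leaf (nat_lit 0xa0f02030dcb45ff5) (nat_lit 1793))
)) (.node (nat_lit 0xa0f02030ec94af55) (.node (nat_lit 0xa0f02030ec949f75) (.leaf (nat_lit 0xa0f02030dcb46fd5) (nat_lit 1798))
 (.leaf (nat_lit 0xa0f02030ec949f75) (nat_lit 1798))
) (.node (nat_lit 0xa0f02030fcb4cfd5) (.leaf (nat_lit 0xa0f02030ec94af55) (nat_lit 1792))
 (.leaf (nat_lit 0xa0f02030fcb4cfd5) (nat_lit 1795))
)))) (.node (nat_lit 0xa4dc10202c34d976) (.node (nat_lit 0xa4cc20302c049b21) (.node (nat_lit 0xa4cc10201c3449d2) (.leaf (nat_lit 0xa0f02030fcb4fff5) (nat_lit 1540))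
 (.node (nat_lit 0xa4cc10201c3469c2) (.leaf (nat_lit 0xa4cc10201c3449d2) (nat_lit 2052))
 (.leaf (nat_lit 0xa4cc10201c3469c2) (nat_lit 1797))
)) (.node (nat_lit 0xa4cc30103c14aac3) (.node (nat_lit 0xa4cc20302c04ab01) (.leaf (nat_lit 0xa4cc20302c049b21) (nat_lit 2561))
 (.leaf (nat_lit 0xa4cc20302c04ab01) (nat_lit 2052))
) (.node (nat_lit 0xa4cc30103c14baf3) (.leaf (nat_lit 0xa4cc30103c14aac3) (nat_lit 1541))
 (.leaf (nat_lit 0xa4cc30103c14baf3) (nat_lit 1796))
))) (.node (nat_lit 0xa4dc20300c043b25) (.node (nat_lit 0xa4dc10202c34f966) (.leaf (nat_lit 0xa4dc10202c34d976) (nat_lit 2054))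
 (.node (nat_lit 0xa4dc20300c040b05) (.leaf (nat_lit 0xa4dc10202c34f966) (nat_lit 2050))
 (.leaf (nat_lit 0xa4dc20300c040b05) (nat_lit 1793))
)) (.node (nat_lit 0xa4dc30103c14bae7) (.node (nat_lit 0xa4dc30103c14aad7) (.leaf (nat_lit 0xa4dc20300c043b25) (nat_lit 2562))
 (.leaf (nat_lit 0xa4dc30103c14aad7) (nat_lit 1794))
) (.node (nat_lit 0xa4ec10202c34cd52) (.leaf (nat_lit 0xa4dc30103c14bae7) (nat_lit 1798))
 (.leaf (nat_lit 0xa4ec10202c34cd52) (nat_lit 1795))
))))) (.node (nat_lit 0xb0d01020dc9409de) (.node (nat_lit 0xa4fc10201c347de6) (.node (nat_lit 0xa4ec30102c14ae43) (.node (nat_lit 0xa4ec20302c049f21) (.leaf (nat_lit 0xa4ec10202c34ed42) (nat_lit 2053))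
 (.node (nat_lit 0xa4ec20302c04af01) (.leaf (nat_lit 0xa4ec20302c049f21) (nat_lit 2562))
 (.leaf (nat_lit 0xa4ec20302c04af01) (nat_lit 1794))
)) (.node (nat_lit 0xa4ec30102c14be73) (.leaf (nat_lit 0xa4ec30102c14ae43) (nat_lit 1797))
 (.node (nat_lit 0xa4fc10201c345df6) (.leaf (nat_lit 0xa4ec30102c14be73) (nat_lit 1538))
 (.leaf (nat_lit 0xa4fc10201c345df6) (nat_lit 2050))
))) (.node (nat_lit 0xa4fc30102c14ae57) (.node (nat_lit 0xa4fc20300c040f05) (.leaf (nat_lit 0xa4fc10201c347de6) (nat_lit 2054))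
 (.node (nat_lit 0xa4fc20300c043f25) (.leaf (nat_lit 0xa4fc20300c040f05) (nat_lit 2051))
 (.leaf (nat_lit 0xa4fc20300c043f25) (nat_lit 2562))
)) (.node (nat_lit 0xb0d01020cca4491e) (.node (nat_lit 0xa4fc30102c14be67) (.leaf (nat_lit 0xa4fc30102c14ae57) (nat_lit 1798))
 (.leaf (nat_lit 0xa4fc30102c14be67) (nat_lit 1794))
) (.node (nat_lit 0xb0d01020cca4690e) (.leaf (nat_lit 0xb0d01020cca4491e) (nat_lit 1796))
 (.leaf (nat_lit 0xb0d01020cca4690e) (nat_lit 1025))
)))) (.node (nat_lit 0xb0e01020cc942d4a) (.node (nat_lit 0xb0d01020ec94b96e) (.node (nat_lit 0xb0d01020dc9429ce) (.leaf (nat_lit 0xb0d01020dc9409de) (nat_lit 1540))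
 (.node (nat_lit 0xb0d01020ec94997e) (.leaf (nat_lit 0xb0d01020dc9429ce) (nat_lit 1282))
 (.leaf (nat_lit 0xb0d01020ec94997e) (nat_lit 1542))
)) (.node (nat_lit 0xb0d01020fca4f9ae) (.node (nat_lit 0xb0d01020fca4d9be) (.leaf (nat_lit 0xb0d01020ec94b96e) (nat_lit 1798))
 (.leaf (nat_lit 0xb0d01020fca4d9be) (nat_lit 1794))
) (.node (nat_lit 0xb0e01020cc940d5a) (.leaf (nat_lit 0xb0d01020fca4f9ae) (nat_lit 1792))
 (.leaf (nat_lit 0xb0e01020cc940d5a) (nat_lit 1283))
))) (.node (nat_lit 0xb0e01020eca4cd1a) (.node (nat_lit 0xb0e01020dca45dba) (.leaf (nat_lit 0xb0e01020cc942d4a) (nat_lit 1540))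
 (.node (nat_lit 0xb0e01020dca47daa) (.leaf (nat_lit 0xb0e01020dca45dba) (nat_lit 2049))
 (.leaf (nat_lit 0xb0e01020dca47daa) (nat_lit 1794))
)) (.node (nat_lit 0xb0e01020fc949dfa) (.node (nat_lit 0xb0e01020eca4ed0a) (.leaf (nat_lit 0xb0e01020eca4cd1a) (nat_lit 1539))
 (.leaf (nat_lit 0xb0e01020eca4ed0a) (nat_lit 1284))
) (.node (nat_lit 0xb0e01020fc94bdea) (.leaf (nat_lit 0xb0e01020fc949dfa) (nat_lit 1798))
 (.leaf (nat_lit 0xb0e01020fc94bdea) (nat_lit 1542))
)))))))) (.node (nat_lit 0xdc681020382cd5ba) (.node (nat_lit 0xcc581020382cc196) (.node (nat_lit 0xc040102048fc6152) (.node (nat_lit 0xb4ec10200c042d1a) (.node (nat_lit 0xb4dc10200c04090e) (.node (nat_lit 0xb4cc20301c247bb9) (.node (nat_lit 0xb4cc10203c04b9ba) (.leaf (nat_lit 0xb4cc10203c0499aa) (nat_lit 2305))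
 (.node (nat_lit 0xb4cc20301c244b99) (.leaf (nat_lit 0xb4cc10203c04b9ba) (nat_lit 2308))
 (.leaf (nat_lit 0xb4cc20301c244b99) (nat_lit 2308))
)) (.node (nat_lit 0xb4cc30102c14aa4b) (.leaf (nat_lit 0xb4cc20301c247bb9) (nat_lit 2053))
 (.node (nat_lit 0xb4cc30102c14ba7b) (.leaf (nat_lit 0xb4cc30102c14aa4b) (nat_lit 1540))
 (.leaf (nat_lit 0xb4cc30102c14ba7b) (nat_lit 1797))
))) (.node (nat_lit 0xb4dc20303c24eb9d) (.node (nat_lit 0xb4dc10200c04291e) (.leaf (nat_lit 0xb4dc10200c04090e) (nat_lit 1537))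
 (.node (nat_lit 0xb4dc20303c24dbbd) (.leaf (nat_lit 0xb4dc10200c04291e) (nat_lit 2306))
 (.leaf (nat_lit 0xb4dc20303c24dbbd) (nat_lit 2306))
)) (.node (nat_lit 0xb4dc30102c14ba6f) (.node (nat_lit 0xb4dc30102c14aa5f) (.leaf (nat_lit 0xb4dc20303c24eb9d) (nat_lit 2306))
 (.leaf (nat_lit 0xb4dc30102c14aa5f) (nat_lit 1793))
) (.node (nat_lit 0xb4ec10200c040d0a) (.leaf (nat_lit 0xb4dc30102c14ba6f) (nat_lit 1798))
 (.leaf (nat_lit 0xb4ec10200c040d0a) (nat_lit 1796))
)))) (.node (nat_lit 0xb4fc20303c24cf9d) (.node (nat_lit 0xb4ec30103c14aedb) (.node (nat_lit 0xb4ec20301c245fb9) (.leaf (nat_lit 0xb4ec10200c042d1a) (nat_lit 2306))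
 (.node (nat_lit 0xb4ec20301c246f99) (.leaf (nat_lit 0xb4ec20301c245fb9) (nat_lit 2306))
 (.leaf (nat_lit 0xb4ec20301c246f99) (nat_lit 2309))
)) (.node (nat_lit 0xb4fc10203c049dae) (.node (nat_lit 0xb4ec30103c14beeb) (.leaf (nat_lit 0xb4ec30103c14aedb) (nat_lit 2053))
 (.leaf (nat_lit 0xb4ec30103c14beeb) (nat_lit 1542))
) (.node (nat_lit 0xb4fc10203c04bdbe) (.leaf (nat_lit 0xb4fc10203c049dae) (nat_lit 2306))
 (.leaf (nat_lit 0xb4fc10203c04bdbe) (nat_lit 2050))
))) (.node (nat_lit 0xb4fc30103c14beff) (.node (nat_lit 0xb4fc20303c24ffbd) (.leaf (nat_lit 0xb4fc20303c24cf9d) (nat_lit 2051))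
 (.node (nat_lit 0xb4fc30103c14aecf) (.leaf (nat_lit 0xb4fc20303c24ffbd) (nat_lit 2309))
 (.leaf (nat_lit 0xb4fc30103c14aecf) (nat_lit 1282))
)) (.node (nat_lit 0xc040102048cc2112) (.node (nat_lit 0xc040102048cc0102) (.leaf (nat_lit 0xb4fc30103c14beff) (nat_lit 2053))
 (.leaf (nat_lit 0xc040102048cc0102) (nat_lit 259))
) (.node (nat_lit 0xc040102048fc4142) (.leaf (nat_lit 0xc040102048cc2112) (nat_lit 1542))
 (.leaf (nat_lit 0xc040102048fc4142) (nat_lit 1536))
))))) (.node (nat_lit 0xc040301048cc0203) (.node (nat_lit 0xc040203048cc3321) (.node (nat_lit 0xc040102078ecc182) (.node (nat_lit 0xc040102078dc81c2) (.leaf (nat_lit 0xc040102048fc6152) (nat_lit 2054))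
 (.node (nat_lit 0xc040102078dca1d2) (.leaf (nat_lit 0xc040102078dc81c2) (nat_lit 1281))
 (.leaf (nat_lit 0xc040102078dca1d2) (nat_lit 1537))
)) (.node (nat_lit 0xc040102078ece192) (.leaf (nat_lit 0xc040102078ecc182) (nat_lit 1030))
 (.node (nat_lit 0xc040203048cc0301) (.leaf (nat_lit 0xc040102078ece192) (nat_lit 1286))
 (.leaf (nat_lit 0xc040203048cc0301) (nat_lit 512))
))) (.node (nat_lit 0xc040203068dc8341) (.node (nat_lit 0xc040203048ec4301) (.leaf (nat_lit 0xc040203048cc3321) (nat_lit 1798))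
 (.node (nat_lit 0xc040203048ec7321) (.leaf (nat_lit 0xc040203048ec4301) (nat_lit 1286))
 (.leaf (nat_lit 0xc040203048ec7321) (nat_lit 2054))
)) (.node (nat_lit 0xc040203068fcc341) (.node (nat_lit 0xc040203068dcb361) (.leaf (nat_lit 0xc040203068dc8341) (nat_lit 1537))
 (.leaf (nat_lit 0xc040203068dcb361) (nat_lit 1542))
) (.node (nat_lit 0xc040203068fcf361) (.leaf (nat_lit 0xc040203068fcc341) (nat_lit 1280))
 (.leaf (nat_lit 0xc040203068fcf361) (nat_lit 1536))
)))) (.node (nat_lit 0xc040301058fc52f3) (.node (nat_lit 0xc040301048dc1273) (.node (nat_lit 0xc040301048cc1233) (.leaf (nat_lit 0xc040301048cc0203) (nat_lit 0))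
 (.node (nat_lit 0xc040301048dc0243) (.leaf (nat_lit 0xc040301048cc1233) (nat_lit 1286))
 (.leaf (nat_lit 0xc040301048dc0243) (nat_lit 1795))
)) (.node (nat_lit 0xc040301058ec52b3) (.node (nat_lit 0xc040301058ec4283) (.leaf (nat_lit 0xc040301048dc1273) (nat_lit 2054))
 (.leaf (nat_lit 0xc040301058ec4283) (nat_lit 774))
) (.node (nat_lit 0xc040301058fc42c3) (.leaf (nat_lit 0xc040301058ec52b3) (nat_lit 1030))
 (.leaf (nat_lit 0xc040301058fc42c3) (nat_lit 1024))
))) (.node (nat_lit 0xcc482030080c0301) (.node (nat_lit 0xcc481020080c0102) (.leaf (nat_lit 0xc040301058fc52f3) (nat_lit 1280))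
 (.node (nat_lit 0xcc481020080c2112) (.leaf (nat_lit 0xcc481020080c0102) (nat_lit 770))
 (.leaf (nat_lit 0xcc481020080c2112) (nat_lit 2054))
)) (.node (nat_lit 0xcc483010080c0203) (.node (nat_lit 0xcc482030080c3321) (.leaf (nat_lit 0xcc482030080c0301) (nat_lit 1026))
 (.leaf (nat_lit 0xcc482030080c3321) (nat_lit 2306))
) (.node (nat_lit 0xcc483010080c1233) (.leaf (nat_lit 0xcc483010080c0203) (nat_lit 514))
 (.leaf (nat_lit 0xcc483010080c1233) (nat_lit 1798))
)))))) (.node (nat_lit 0xd060203058dc37f9) (.node (nat_lit 0xcc781020083c7576) (.node (nat_lit 0xcc681020381c85d2) (.node (nat_lit 0xcc582030283cf375) (.node (nat_lit 0xcc581020382ce186) (.leaf (nat_lit 0xcc581020382cc196) (nat_lit 1797))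
 (.node (nat_lit 0xcc582030283cc355) (.leaf (nat_lit 0xcc581020382ce186) (nat_lit 1026))
 (.leaf (nat_lit 0xcc582030283cc355) (nat_lit 2053))
)) (.node (nat_lit 0xcc583010081c0257) (.leaf (nat_lit 0xcc582030283cf375) (nat_lit 1282))
 (.node (nat_lit 0xcc583010081c1267) (.leaf (nat_lit 0xcc583010081c0257) (nat_lit 1282))
 (.leaf (nat_lit 0xcc583010081c1267) (nat_lit 1538))
))) (.node (nat_lit 0xcc682030082c6701) (.node (nat_lit 0xcc681020381ca5c2) (.leaf (nat_lit 0xcc681020381c85d2) (nat_lit 1283))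
 (.node (nat_lit 0xcc682030082c5721) (.leaf (nat_lit 0xcc681020381ca5c2) (nat_lit 1541))
 (.leaf (nat_lit 0xcc682030082c5721) (nat_lit 2050))
)) (.node (nat_lit 0xcc683010183c76f3) (.node (nat_lit 0xcc683010183c66c3) (.leaf (nat_lit 0xcc682030082c6701) (nat_lit 1282))
 (.leaf (nat_lit 0xcc683010183c66c3) (nat_lit 1285))
) (.node (nat_lit 0xcc781020083c5566) (.leaf (nat_lit 0xcc683010183c76f3) (nat_lit 1026))
 (.leaf (nat_lit 0xcc781020083c5566) (nat_lit 1794))
)))) (.node (nat_lit 0xd040301048fc424b) (.node (nat_lit 0xcc783010182c6687) (.node (nat_lit 0xcc782030281c8755) (.leaf (nat_lit 0xcc781020083c7576) (nat_lit 1538))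
 (.node (nat_lit 0xcc782030281cb775) (.leaf (nat_lit 0xcc782030281c8755) (nat_lit 1539))
 (.leaf (nat_lit 0xcc782030281cb775) (nat_lit 1797))
)) (.node (nat_lit 0xd040301048ec420b) (.node (nat_lit 0xcc783010182c76b7) (.leaf (nat_lit 0xcc783010182c6687) (nat_lit 770))
 (.leaf (nat_lit 0xcc783010182c76b7) (nat_lit 1541))
) (.node (nat_lit 0xd040301048ec523b) (.leaf (nat_lit 0xd040301048ec420b) (nat_lit 774))
 (.leaf (nat_lit 0xd040301048ec523b) (nat_lit 1030))
))) (.node (nat_lit 0xd040301058cc12ab) (.node (nat_lit 0xd040301048fc527b) (.leaf (nat_lit 0xd040301048fc424b) (nat_lit 1024))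
 (.node (nat_lit 0xd040301058cc029b) (.leaf (nat_lit 0xd040301048fc527b) (nat_lit 1280))
 (.leaf (nat_lit 0xd040301058cc029b) (nat_lit 1025))
)) (.node (nat_lit 0xd040301058dc12eb) (.node (nat_lit 0xd040301058dc02db) (.leaf (nat_lit 0xd040301058cc12ab) (nat_lit 1281))
 (.leaf (nat_lit 0xd040301058dc02db) (nat_lit 774))
) (.node (nat_lit 0xd060203058dc07d9) (.leaf (nat_lit 0xd040301058dc12eb) (nat_lit 1030))
 (.leaf (nat_lit 0xd060203058dc07d9) (nat_lit 1027))
))))) (.node (nat_lit 0xd070102068fcd57e) (.node (nat_lit 0xd060203078ece799) (.node (nat_lit 0xd060203078cc8799) (.node (nat_lit 0xd060203058fc57f9) (.leaf (nat_lit 0xd060203058dc37f9) (nat_lit 1282))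
 (.node (nat_lit 0xd060203058fc67d9) (.leaf (nat_lit 0xd060203058fc57f9) (nat_lit 1537))
 (.leaf (nat_lit 0xd060203058fc67d9) (nat_lit 1794))
)) (.node (nat_lit 0xd060203078ccb7b9) (.leaf (nat_lit 0xd060203078cc8799) (nat_lit 1283))
 (.node (nat_lit 0xd060203078ecd7b9) (.leaf (nat_lit 0xd060203078ccb7b9) (nat_lit 1025))
 (.leaf (nat_lit 0xd060203078ecd7b9) (nat_lit 1286))
))) (.node (nat_lit 0xd070102058ec55be) (.node (nat_lit 0xd070102058dc05de) (.leaf (nat_lit 0xd060203078ece799) (nat_lit 1542))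
 (.node (nat_lit 0xd070102058dc25ce) (.leaf (nat_lit 0xd070102058dc05de) (nat_lit 771))
 (.leaf (nat_lit 0xd070102058dc25ce) (nat_lit 1026))
)) (.node (nat_lit 0xd070102068cc851e) (.node (nat_lit 0xd070102058ec75ae) (.leaf (nat_lit 0xd070102058ec55be) (nat_lit 1542))
 (.leaf (nat_lit 0xd070102058ec75ae) (nat_lit 1798))
) (.node (nat_lit 0xd070102068cca50e) (.leaf (nat_lit 0xd070102068cc851e) (nat_lit 1027))
 (.leaf (nat_lit 0xd070102068cca50e) (nat_lit 769))
)))) (.node (nat_lit 0xdc483010080c123b) (.node (nat_lit 0xdc481020083c615a) (.node (nat_lit 0xd070102068fcf56e) (.leaf (nat_lit 0xd070102068fcd57e) (nat_lit 1536))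
 (.node (nat_lit 0xdc481020083c414a) (.leaf (nat_lit 0xd070102068fcf56e) (nat_lit 1542))
 (.leaf (nat_lit 0xdc481020083c414a) (nat_lit 1538))
)) (.node (nat_lit 0xdc482030082c7329) (.node (nat_lit 0xdc482030082c4309) (.leaf (nat_lit 0xdc481020083c615a) (nat_lit 1794))
 (.leaf (nat_lit 0xdc482030082c4309) (nat_lit 1794))
) (.node (nat_lit 0xdc483010080c020b) (.leaf (nat_lit 0xdc482030082c7329) (nat_lit 2050))
 (.leaf (nat_lit 0xdc483010080c020b) (nat_lit 1286))
))) (.node (nat_lit 0xdc582030281c835d) (.node (nat_lit 0xdc581020381c81de) (.leaf (nat_lit 0xdc483010080c123b) (nat_lit 2054))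
 (.node (nat_lit 0xdc581020381ca1ce) (.leaf (nat_lit 0xdc581020381c81de) (nat_lit 1541))
 (.leaf (nat_lit 0xdc581020381ca1ce) (nat_lit 1282))
)) (.node (nat_lit 0xdc583010081c025f) (.node (nat_lit 0xdc582030281cb37d) (.leaf (nat_lit 0xdc582030281c835d) (nat_lit 1797))
 (.leaf (nat_lit 0xdc582030281cb37d) (nat_lit 1538))
) (.node (nat_lit 0xdc583010081c126f) (.leaf (nat_lit 0xdc583010081c025f) (nat_lit 1538))
 (.leaf (nat_lit 0xdc583010081c126f) (nat_lit 1542))
))))))) (.node (nat_lit 0xec781020080c0d06) (.node (nat_lit 0xe050301078dcbae7) (.node (nat_lit 0xe040203048dc3b61) (.node (nat_lit 0xdc781020080c050e) (.node (nat_lit 0xdc682030080c3729) (.node (nat_lit 0xdc681020382cf5aa) (.leaf (nat_lit 0xdc681020382cd5ba) (nat_lit 2050))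
 (.node (nat_lit 0xdc682030080c0709) (.leaf (nat_lit 0xdc681020382cf5aa) (nat_lit 1793))
 (.leaf (nat_lit 0xdc682030080c0709) (nat_lit 1537))
)) (.node (nat_lit 0xdc683010183c66db) (.leaf (nat_lit 0xdc682030080c3729) (nat_lit 2050))
 (.node (nat_lit 0xdc683010183c76eb) (.leaf (nat_lit 0xdc683010183c66db) (nat_lit 1542))
 (.leaf (nat_lit 0xdc683010183c76eb) (nat_lit 1286))
))) (.node (nat_lit 0xdc782030283ce75d) (.node (nat_lit 0xdc781020080c251e) (.leaf (nat_lit 0xdc781020080c050e) (nat_lit 1281))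
 (.node (nat_lit 0xdc782030283cd77d) (.leaf (nat_lit 0xdc781020080c251e) (nat_lit 2050))
 (.leaf (nat_lit 0xdc782030283cd77d) (nat_lit 1794))
)) (.node (nat_lit 0xdc783010182c76af) (.node (nat_lit 0xdc783010182c669f) (.leaf (nat_lit 0xdc782030283ce75d) (nat_lit 1798))
 (.leaf (nat_lit 0xdc783010182c669f) (nat_lit 1537))
) (.node (nat_lit 0xe040203048dc0b41) (.leaf (nat_lit 0xdc783010182c76af) (nat_lit 1792))
 (.leaf (nat_lit 0xe040203048dc0b41) (nat_lit 1538))
)))) (.node (nat_lit 0xe050301068ecea07) (.node (nat_lit 0xe040203068cc9b21) (.node (nat_lit 0xe040203048fc4b41) (.leaf (nat_lit 0xe040203048dc3b61) (nat_lit 1542))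
 (.node (nat_lit 0xe040203048fc7b61) (.leaf (nat_lit 0xe040203048fc4b41) (nat_lit 1280))
 (.leaf (nat_lit 0xe040203048fc7b61) (nat_lit 1536))
)) (.node (nat_lit 0xe040203068ecdb21) (.node (nat_lit 0xe040203068ccab01) (.leaf (nat_lit 0xe040203068cc9b21) (nat_lit 1793))
 (.leaf (nat_lit 0xe040203068ccab01) (nat_lit 1025))
) (.node (nat_lit 0xe040203068eceb01) (.leaf (nat_lit 0xe040203068ecdb21) (nat_lit 1536))
 (.leaf (nat_lit 0xe040203068eceb01) (nat_lit 774))
))) (.node (nat_lit 0xe050301068fcfa67) (.node (nat_lit 0xe050301068ecfa37) (.leaf (nat_lit 0xe050301068ecea07) (nat_lit 262))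
 (.node (nat_lit 0xe050301068fcea57) (.leaf (nat_lit 0xe050301068ecfa37) (nat_lit 1026))
 (.leaf (nat_lit 0xe050301068fcea57) (nat_lit 1794))
)) (.node (nat_lit 0xe050301078ccbab7) (.node (nat_lit 0xe050301078ccaa87) (.leaf (nat_lit 0xe050301068fcfa67) (nat_lit 1536))
 (.leaf (nat_lit 0xe050301078ccaa87) (nat_lit 514))
) (.node (nat_lit 0xe050301078dcaad7) (.leaf (nat_lit 0xe050301078ccbab7) (nat_lit 769))
 (.leaf (nat_lit 0xe050301078dcaad7) (nat_lit 1542))
))))) (.node (nat_lit 0xec483010081c0a43) (.node (nat_lit 0xe070102068dcbd66) (.node (nat_lit 0xe070102058fc5df6) (.node (nat_lit 0xe070102058cc0d96) (.leaf (nat_lit 0xe050301078dcbae7) (nat_lit 1286))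
 (.node (nat_lit 0xe070102058cc2d86) (.leaf (nat_lit 0xe070102058cc0d96) (nat_lit 1027))
 (.leaf (nat_lit 0xe070102058cc2d86) (nat_lit 770))
)) (.node (nat_lit 0xe070102058fc7de6) (.leaf (nat_lit 0xe070102058fc5df6) (nat_lit 1536))
 (.node (nat_lit 0xe070102068dc9d76) (.leaf (nat_lit 0xe070102058fc7de6) (nat_lit 1542))
 (.leaf (nat_lit 0xe070102068dc9d76) (nat_lit 1794))
))) (.node (nat_lit 0xec481020083c4942) (.node (nat_lit 0xe070102068eccd16) (.leaf (nat_lit 0xe070102068dcbd66) (nat_lit 1798))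
 (.node (nat_lit 0xe070102068eced06) (.leaf (nat_lit 0xe070102068eccd16) (nat_lit 1283))
 (.leaf (nat_lit 0xe070102068eced06) (nat_lit 518))
)) (.node (nat_lit 0xec482030080c0b01) (.node (nat_lit 0xec481020083c6952) (.leaf (nat_lit 0xec481020083c4942) (nat_lit 1797))
 (.leaf (nat_lit 0xec481020083c6952) (nat_lit 1798))
) (.node (nat_lit 0xec482030080c3b21) (.leaf (nat_lit 0xec482030080c0b01) (nat_lit 1286))
 (.leaf (nat_lit 0xec482030080c3b21) (nat_lit 2562))
)))) (.node (nat_lit 0xec583010080c1a37) (.node (nat_lit 0xec581020381cb9e6) (.node (nat_lit 0xec483010081c1a73) (.leaf (nat_lit 0xec483010081c0a43) (nat_lit 1538))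
 (.node (nat_lit 0xec581020381c99f6) (.leaf (nat_lit 0xec483010081c1a73) (nat_lit 1542))
 (.leaf (nat_lit 0xec581020381c99f6) (nat_lit 1542))
)) (.node (nat_lit 0xec582030283ceb55) (.node (nat_lit 0xec582030283cdb75) (.leaf (nat_lit 0xec581020381cb9e6) (nat_lit 1798))
 (.leaf (nat_lit 0xec582030283cdb75) (nat_lit 2053))
) (.node (nat_lit 0xec583010080c0a07) (.leaf (nat_lit 0xec582030283ceb55) (nat_lit 1542))
 (.leaf (nat_lit 0xec583010080c0a07) (nat_lit 774))
))) (.node (nat_lit 0xec682030082c5f21) (.node (nat_lit 0xec681020382ccd92) (.leaf (nat_lit 0xec583010080c1a37) (nat_lit 1538))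
 (.node (nat_lit 0xec681020382ced82) (.leaf (nat_lit 0xec681020382ccd92) (nat_lit 1539))
 (.leaf (nat_lit 0xec681020382ced82) (nat_lit 1285))
)) (.node (nat_lit 0xec683010182c6e83) (.node (nat_lit 0xec682030082c6f01) (.leaf (nat_lit 0xec682030082c5f21) (nat_lit 2048))
 (.leaf (nat_lit 0xec682030082c6f01) (nat_lit 1538))
) (.node (nat_lit 0xec683010182c7eb3) (.leaf (nat_lit 0xec683010182c6e83) (nat_lit 1029))
 (.leaf (nat_lit 0xec683010182c7eb3) (nat_lit 1282))
)))))) (.node (nat_lit 0xf060203078dcafd9) (.node (nat_lit 0xf040102078fcf9fa) (.node (nat_lit 0xf040102048dc094a) (.node (nat_lit 0xec782030281caf55) (.node (nat_lit 0xec781020080c2d16) (.leaf (nat_lit 0xec781020080c0d06) (nat_lit 1030))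
 (.node (nat_lit 0xec782030281c9f75) (.leaf (nat_lit 0xec781020080c2d16) (nat_lit 1794))
 (.leaf (nat_lit 0xec782030281c9f75) (nat_lit 1798))
)) (.node (nat_lit 0xec783010183c6ed7) (.leaf (nat_lit 0xec782030281caf55) (nat_lit 1792))
 (.node (nat_lit 0xec783010183c7ee7) (.leaf (nat_lit 0xec783010183c6ed7) (nat_lit 1286))
 (.leaf (nat_lit 0xec783010183c7ee7) (nat_lit 1542))
))) (.node (nat_lit 0xf040102048ec691a) (.node (nat_lit 0xf040102048dc295a) (.leaf (nat_lit 0xf040102048dc094a) (nat_lit 1282))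
 (.node (nat_lit 0xf040102048ec490a) (.leaf (nat_lit 0xf040102048dc295a) (nat_lit 1538))
 (.leaf (nat_lit 0xf040102048ec490a) (nat_lit 1030))
)) (.node (nat_lit 0xf040102078ccb9ba) (.node (nat_lit 0xf040102078cc99aa) (.leaf (nat_lit 0xf040102048ec691a) (nat_lit 1286))
 (.leaf (nat_lit 0xf040102078cc99aa) (nat_lit 1537))
) (.node (nat_lit 0xf040102078fcd9ea) (.leaf (nat_lit 0xf040102078ccb9ba) (nat_lit 1281))
 (.leaf (nat_lit 0xf040102078fcd9ea) (nat_lit 1286))
)))) (.node (nat_lit 0xf050301078fceacf) (.node (nat_lit 0xf050301068dcaa5f) (.node (nat_lit 0xf050301068ccaa0f) (.leaf (nat_lit 0xf040102078fcf9fa) (nat_lit 1024))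
 (.node (nat_lit 0xf050301068ccba3f) (.leaf (nat_lit 0xf050301068ccaa0f) (nat_lit 513))
 (.leaf (nat_lit 0xf050301068ccba3f) (nat_lit 770))
)) (.node (nat_lit 0xf050301078ecea9f) (.node (nat_lit 0xf050301068dcba6f) (.leaf (nat_lit 0xf050301068dcaa5f) (nat_lit 1542))
 (.leaf (nat_lit 0xf050301068dcba6f) (nat_lit 1286))
) (.node (nat_lit 0xf050301078ecfaaf) (.leaf (nat_lit 0xf050301078ecea9f) (nat_lit 1286))
 (.leaf (nat_lit 0xf050301078ecfaaf) (nat_lit 1542))
))) (.node (nat_lit 0xf060203058cc3fb9) (.node (nat_lit 0xf050301078fcfaff) (.leaf (nat_lit 0xf050301078fceacf) (nat_lit 770))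
 (.node (nat_lit 0xf060203058cc0f99) (.leaf (nat_lit 0xf050301078fcfaff) (nat_lit 512))
 (.leaf (nat_lit 0xf060203058cc0f99) (nat_lit 1283))
)) (.node (nat_lit 0xf060203058ec6f99) (.node (nat_lit 0xf060203058ec5fb9) (.leaf (nat_lit 0xf060203058cc3fb9) (nat_lit 1026))
 (.leaf (nat_lit 0xf060203058ec5fb9) (nat_lit 1286))
) (.node (nat_lit 0xf060203078dc9ff9) (.leaf (nat_lit 0xf060203058ec6f99) (nat_lit 1542))
 (.leaf (nat_lit 0xf060203078dc9ff9) (nat_lit 1538))
))))) (.node (nat_lit 0xfc583010080c0a0f) (.node (nat_lit 0xfc482030082c7b29) (.node (nat_lit 0xfc481020080c090a) (.node (nat_lit 0xf060203078fccfd9) (.leaf (nat_lit 0xf060203078dcafd9) (nat_lit 1793))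
 (.node (nat_lit 0xf060203078fcfff9) (.leaf (nat_lit 0xf060203078fccfd9) (nat_lit 1539))
 (.leaf (nat_lit 0xf060203078fcfff9) (nat_lit 768))
)) (.node (nat_lit 0xfc481020080c291a) (.leaf (nat_lit 0xfc481020080c090a) (nat_lit 1536))
 (.node (nat_lit 0xfc482030082c4b09) (.leaf (nat_lit 0xfc481020080c291a) (nat_lit 2310))
 (.leaf (nat_lit 0xfc482030082c4b09) (nat_lit 2051))
))) (.node (nat_lit 0xfc581020382cd9be) (.node (nat_lit 0xfc483010081c0a4b) (.leaf (nat_lit 0xfc482030082c7b29) (nat_lit 2048))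
 (.node (nat_lit 0xfc483010081c1a7b) (.leaf (nat_lit 0xfc483010081c0a4b) (nat_lit 1282))
 (.leaf (nat_lit 0xfc483010081c1a7b) (nat_lit 1538))
)) (.node (nat_lit 0xfc582030281c9b7d) (.node (nat_lit 0xfc581020382cf9ae) (.leaf (nat_lit 0xfc581020382cd9be) (nat_lit 1793))
 (.leaf (nat_lit 0xfc581020382cf9ae) (nat_lit 1792))
) (.node (nat_lit 0xfc582030281cab5d) (.leaf (nat_lit 0xfc582030281c9b7d) (nat_lit 1794))
 (.leaf (nat_lit 0xfc582030281cab5d) (nat_lit 1798))
)))) (.node (nat_lit 0xfc683010182c7eab) (.node (nat_lit 0xfc681020381cbdea) (.node (nat_lit 0xfc583010080c1a3f) (.leaf (nat_lit 0xfc583010080c0a0f) (nat_lit 1024))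
 (.node (nat_lit 0xfc681020381c9dfa) (.leaf (nat_lit 0xfc583010080c1a3f) (nat_lit 1794))
 (.leaf (nat_lit 0xfc681020381c9dfa) (nat_lit 1798))
)) (.node (nat_lit 0xfc682030080c3f29) (.node (nat_lit 0xfc682030080c0f09) (.leaf (nat_lit 0xfc681020381cbdea) (nat_lit 1542))
 (.leaf (nat_lit 0xfc682030080c0f09) (nat_lit 1280))
) (.node (nat_lit 0xfc683010182c6e9b) (.leaf (nat_lit 0xfc682030080c3f29) (nat_lit 2050))
 (.leaf (nat_lit 0xfc683010182c6e9b) (nat_lit 1793))
))) (.node (nat_lit 0xfc782030283ccf5d) (.node (nat_lit 0xfc781020083c5d6e) (.leaf (nat_lit 0xfc683010182c7eab) (nat_lit 1536))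
 (.node (nat_lit 0xfc781020083c7d7e) (.leaf (nat_lit 0xfc781020083c5d6e) (nat_lit 1798))
 (.leaf (nat_lit 0xfc781020083c7d7e) (nat_lit 1794))
)) (.node (nat_lit 0xfc783010183c6ecf) (.node (nat_lit 0xfc782030283cff7d) (.leaf (nat_lit 0xfc782030283ccf5d) (nat_lit 1795))
 (.leaf (nat_lit 0xfc782030283cff7d) (nat_lit 1541))
) (.node (nat_lit 0xfc783010183c7eff) (.leaf (nat_lit 0xfc783010183c6ecf) (nat_lit 1026))
 (.leaf (nat_lit 0xfc783010183c7eff) (nat_lit 1285))
))))))))))

theorem I18_ok : orbOK B8.A [(nat_lit 0x8040301008040203), (nat_lit 0xc0402010080c0201), (nat_lit 0x8040201048840201), (nat_lit 0x8040203008040301), (nat_lit 0x80c020100c040201), (nat_lit 0x8448201008040201), (nat_lit 0x8060201008040601)] (nat_lit 0xc040301048cc0203) I18_t (nat_lit 864) = true := by decide +kernel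

noncomputable def J0_t : ST :=
(.node (nat_lit 0x48402010c0cc0201) (.node (nat_lit 0x28402010a004aa01) (.node (nat_lit 0x1840201090040299) (.leaf (nat_lit 0x840201080040201) (nat_lit 0))
 (.leaf (nat_lit 0x1840201090040299) (nat_lit 1281))
) (.node (nat_lit 0x38402010b004bab9) (.leaf (nat_lit 0x28402010a004aa01) (nat_lit 769))
 (.leaf (nat_lit 0x38402010b004bab9) (nat_lit 1025))
)) (.node (nat_lit 0x68402010e0ecea01) (.node (nat_lit 0x58402010d0dc02d9) (.leaf (nat_lit 0x48402010c0cc0201) (nat_lit 257))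
 (.leaf (nat_lit 0x58402010d0dc02d9) (nat_lit 1027))
) (.node (nat_lit 0x78402010f0fcfaf9) (.leaf (nat_lit 0x68402010e0ecea01) (nat_lit 515))
 (.leaf (nat_lit 0x78402010f0fcfaf9) (nat_lit 768))
)))

theorem J0_ok : orbOK B8.A [(nat_lit 0x8040301008040203), (nat_lit 0xc0402010080c0201), (nat_lit 0x8040201048840201), (nat_lit 0x8060201008040601)] (nat_lit 0x840201080040201) J0_t (nat_lit 8) = true := by decide +kernel

noncomputable def J1_t : ST :=
(.node (nat_lit 0x48402010c0cc1221) (.node (nat_lit 0x28402010a004ba21) (.node (nat_lit 0x18402010900412b9) (.leaf (nat_lit 0x840201080041221) (nat_lit 0))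
 (.leaf (nat_lit 0x18402010900412b9) (nat_lit 1281))
) (.node (nat_lit 0x38402010b004aa99) (.leaf (nat_lit 0x28402010a004ba21) (nat_lit 769))
 (.leaf (nat_lit 0x38402010b004aa99) (nat_lit 1025))
)) (.node (nat_lit 0x68402010e0ecfa21) (.node (nat_lit 0x58402010d0dc12f9) (.leaf (nat_lit 0x48402010c0cc1221) (nat_lit 257))
 (.leaf (nat_lit 0x58402010d0dc12f9) (nat_lit 1027))
) (.node (nat_lit 0x78402010f0fcead9) (.leaf (nat_lit 0x68402010e0ecfa21) (nat_lit 515))
 (.leaf (nat_lit 0x78402010f0fcead9) (nat_lit 768))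
)))

theorem J1_ok : orbOK B8.A [(nat_lit 0x8040301008040203), (nat_lit 0xc0402010080c0201), (nat_lit 0x8040201048840201), (nat_lit 0x8060201008040601)] (nat_lit 0x840201080041221) J1_t (nat_lit 8) = true := by decide +kernel

noncomputable def J2_t : ST :=
(.node (nat_lit 0x48402010c0dc0241) (.node (nat_lit 0x28402010a014aa41) (.node (nat_lit 0x18402010901402d9) (.node (nat_lit 0x840201080141261) (.leaf (nat_lit 0x840201080140241) (nat_lit 0))
 (.leaf (nat_lit 0x840201080141261) (nat_lit 259))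
) (.node (nat_lit 0x18402010901412f9) (.leaf (nat_lit 0x18402010901402d9) (nat_lit 1281))
 (.leaf (nat_lit 0x18402010901412f9) (nat_lit 1539))
)) (.node (nat_lit 0x38402010b014aad9) (.node (nat_lit 0x28402010a014ba61) (.leaf (nat_lit 0x28402010a014aa41) (nat_lit 1027))
 (.leaf (nat_lit 0x28402010a014ba61) (nat_lit 769))
) (.node (nat_lit 0x38402010b014baf9) (.leaf (nat_lit 0x38402010b014aad9) (nat_lit 1025))
 (.leaf (nat_lit 0x38402010b014baf9) (nat_lit 1283))
))) (.node (nat_lit 0x68402010e0fcea41) (.node (nat_lit 0x58402010d0cc0299) (.node (nat_lit 0x48402010c0dc1261) (.leaf (nat_lit 0x48402010c0dc0241) (nat_lit 257))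
 (.leaf (nat_lit 0x48402010c0dc1261) (nat_lit 513))
) (.node (nat_lit 0x58402010d0cc12b9) (.leaf (nat_lit 0x58402010d0cc0299) (nat_lit 1027))
 (.leaf (nat_lit 0x58402010d0cc12b9) (nat_lit 1283))
)) (.node (nat_lit 0x78402010f0ecea99) (.node (nat_lit 0x68402010e0fcfa61) (.leaf (nat_lit 0x68402010e0fcea41) (nat_lit 771))
 (.leaf (nat_lit 0x68402010e0fcfa61) (nat_lit 515))
) (.node (nat_lit 0x78402010f0ecfab9) (.leaf (nat_lit 0x78402010f0ecea99) (nat_lit 768))
 (.leaf (nat_lit 0x78402010f0ecfab9) (nat_lit 1024))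
))))

theorem J2_ok : orbOK B8.A [(nat_lit 0x8040301008040203), (nat_lit 0xc0402010080c0201), (nat_lit 0x8040201048840201), (nat_lit 0x8060201008040601)] (nat_lit 0x840201080140241) J2_t (nat_lit 16) = true := by decide +kernel

noncomputable def J3_t : ST :=
(.node (nat_lit 0x48602010e0cc8601) (.node (nat_lit 0x28602010a004ae01) (.node (nat_lit 0x1860201090040699) (.node (nat_lit 0x870201080040605) (.node (nat_lit 0x860201080246601) (.node (nat_lit 0x860201080041621) (.leaf (nat_lit 0x860201080040601) (nat_lit 0))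
 (.leaf (nat_lit 0x860201080041621) (nat_lit 1794))
) (.node (nat_lit 0x860201080247621) (.leaf (nat_lit 0x860201080246601) (nat_lit 770))
 (.leaf (nat_lit 0x860201080247621) (nat_lit 1536))
)) (.node (nat_lit 0x870201080346655) (.node (nat_lit 0x870201080041625) (.leaf (nat_lit 0x870201080040605) (nat_lit 256))
 (.leaf (nat_lit 0x870201080041625) (nat_lit 1538))
) (.node (nat_lit 0x870201080347675) (.leaf (nat_lit 0x870201080346655) (nat_lit 1283))
 (.leaf (nat_lit 0x870201080347675) (nat_lit 1026))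
))) (.node (nat_lit 0x187020109004069d) (.node (nat_lit 0x1860201090246699) (.node (nat_lit 0x18602010900416b9) (.leaf (nat_lit 0x1860201090040699) (nat_lit 1537))
 (.leaf (nat_lit 0x18602010900416b9) (nat_lit 2306))
) (.node (nat_lit 0x18602010902476b9) (.leaf (nat_lit 0x1860201090246699) (nat_lit 1536))
 (.leaf (nat_lit 0x18602010902476b9) (nat_lit 1282))
)) (.node (nat_lit 0x18702010903466cd) (.node (nat_lit 0x18702010900416bd) (.leaf (nat_lit 0x187020109004069d) (nat_lit 1281))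
 (.leaf (nat_lit 0x18702010900416bd) (nat_lit 2050))
) (.node (nat_lit 0x18702010903476ed) (.leaf (nat_lit 0x18702010903466cd) (nat_lit 1026))
 (.leaf (nat_lit 0x18702010903476ed) (nat_lit 1283))
)))) (.node (nat_lit 0x38602010b004ae99) (.node (nat_lit 0x28702010a004ae05) (.node (nat_lit 0x28602010a024ce01) (.node (nat_lit 0x28602010a004be21) (.leaf (nat_lit 0x28602010a004ae01) (nat_lit 769))
 (.leaf (nat_lit 0x28602010a004be21) (nat_lit 2050))
) (.node (nat_lit 0x28602010a024de21) (.leaf (nat_lit 0x28602010a024ce01) (nat_lit 514))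
 (.leaf (nat_lit 0x28602010a024de21) (nat_lit 1280))
)) (.node (nat_lit 0x28702010a034ce55) (.node (nat_lit 0x28702010a004be25) (.leaf (nat_lit 0x28702010a004ae05) (nat_lit 1025))
 (.leaf (nat_lit 0x28702010a004be25) (nat_lit 1794))
) (.node (nat_lit 0x28702010a034de75) (.leaf (nat_lit 0x28702010a034ce55) (nat_lit 1282))
 (.leaf (nat_lit 0x28702010a034de75) (nat_lit 1539))
))) (.node (nat_lit 0x38702010b004ae9d) (.node (nat_lit 0x38602010b024ce99) (.node (nat_lit 0x38602010b004beb9) (.leaf (nat_lit 0x38602010b004ae99) (nat_lit 2050))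
 (.leaf (nat_lit 0x38602010b004beb9) (nat_lit 1281))
) (.node (nat_lit 0x38602010b024deb9) (.leaf (nat_lit 0x38602010b024ce99) (nat_lit 1538))
 (.leaf (nat_lit 0x38602010b024deb9) (nat_lit 1792))
)) (.node (nat_lit 0x38702010b034cecd) (.node (nat_lit 0x38702010b004bebd) (.leaf (nat_lit 0x38702010b004ae9d) (nat_lit 1794))
 (.leaf (nat_lit 0x38702010b004bebd) (nat_lit 1025))
) (.node (nat_lit 0x38702010b034deed) (.leaf (nat_lit 0x38702010b034cecd) (nat_lit 770))
 (.leaf (nat_lit 0x38702010b034deed) (nat_lit 1027))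
))))) (.node (nat_lit 0x68602010c0cc0e01) (.node (nat_lit 0x58602010f0dc86d9) (.node (nat_lit 0x48702010f0cc8685) (.node (nat_lit 0x48602010e0ece601) (.node (nat_lit 0x48602010e0cc9621) (.leaf (nat_lit 0x48602010e0cc8601) (nat_lit 258))
 (.leaf (nat_lit 0x48602010e0cc9621) (nat_lit 1537))
) (.node (nat_lit 0x48602010e0ecf621) (.leaf (nat_lit 0x48602010e0ece601) (nat_lit 515))
 (.leaf (nat_lit 0x48602010e0ecf621) (nat_lit 1795))
)) (.node (nat_lit 0x48702010f0fce6d5) (.node (nat_lit 0x48702010f0cc96a5) (.leaf (nat_lit 0x48702010f0cc8685) (nat_lit 514))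
 (.leaf (nat_lit 0x48702010f0cc96a5) (nat_lit 1281))
) (.node (nat_lit 0x48702010f0fcf6f5) (.leaf (nat_lit 0x48702010f0fce6d5) (nat_lit 1538))
 (.leaf (nat_lit 0x48702010f0fcf6f5) (nat_lit 768))
))) (.node (nat_lit 0x58702010e0dc865d) (.node (nat_lit 0x58602010f0fce6d9) (.node (nat_lit 0x58602010f0dc96f9) (.leaf (nat_lit 0x58602010f0dc86d9) (nat_lit 1283))
 (.leaf (nat_lit 0x58602010f0dc96f9) (nat_lit 2051))
) (.node (nat_lit 0x58602010f0fcf6f9) (.leaf (nat_lit 0x58602010f0fce6d9) (nat_lit 1792))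
 (.leaf (nat_lit 0x58602010f0fcf6f9) (nat_lit 1024))
)) (.node (nat_lit 0x58702010e0ece60d) (.node (nat_lit 0x58702010e0dc967d) (.leaf (nat_lit 0x58702010e0dc865d) (nat_lit 1027))
 (.leaf (nat_lit 0x58702010e0dc967d) (nat_lit 1795))
) (.node (nat_lit 0x58702010e0ecf62d) (.leaf (nat_lit 0x58702010e0ece60d) (nat_lit 771))
 (.leaf (nat_lit 0x58702010e0ecf62d) (nat_lit 1539))
)))) (.node (nat_lit 0x78602010d0dc0ed9) (.node (nat_lit 0x68702010d0dc0ed5) (.node (nat_lit 0x68602010c0ec6e01) (.node (nat_lit 0x68602010c0cc1e21) (.leaf (nat_lit 0x68602010c0cc0e01) (nat_lit 257))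
 (.leaf (nat_lit 0x68602010c0cc1e21) (nat_lit 1538))
) (.node (nat_lit 0x68602010c0ec7e21) (.leaf (nat_lit 0x68602010c0ec6e01) (nat_lit 515))
 (.leaf (nat_lit 0x68602010c0ec7e21) (nat_lit 1795))
)) (.node (nat_lit 0x68702010d0ec6e85) (.node (nat_lit 0x68702010d0dc1ef5) (.leaf (nat_lit 0x68702010d0dc0ed5) (nat_lit 1027))
 (.leaf (nat_lit 0x68702010d0dc1ef5) (nat_lit 1795))
) (.node (nat_lit 0x68702010d0ec7ea5) (.leaf (nat_lit 0x68702010d0ec6e85) (nat_lit 771))
 (.leaf (nat_lit 0x68702010d0ec7ea5) (nat_lit 1539))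
))) (.node (nat_lit 0x78702010c0cc0e0d) (.node (nat_lit 0x78602010d0fc6ed9) (.node (nat_lit 0x78602010d0dc1ef9) (.leaf (nat_lit 0x78602010d0dc0ed9) (nat_lit 1283))
 (.leaf (nat_lit 0x78602010d0dc1ef9) (nat_lit 2051))
) (.node (nat_lit 0x78602010d0fc7ef9) (.leaf (nat_lit 0x78602010d0fc6ed9) (nat_lit 1792))
 (.leaf (nat_lit 0x78602010d0fc7ef9) (nat_lit 1024))
)) (.node (nat_lit 0x78702010c0fc6e5d) (.node (nat_lit 0x78702010c0cc1e2d) (.leaf (nat_lit 0x78702010c0cc0e0d) (nat_lit 513))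
 (.leaf (nat_lit 0x78702010c0cc1e2d) (nat_lit 1282))
) (.node (nat_lit 0x78702010c0fc7e7d) (.leaf (nat_lit 0x78702010c0fc6e5d) (nat_lit 1537))
 (.leaf (nat_lit 0x78702010c0fc7e7d) (nat_lit 768))
))))))

theorem J3_ok : orbOK B8.A [(nat_lit 0x8040301008040203), (nat_lit 0xc0402010080c0201), (nat_lit 0x8040201048840201), (nat_lit 0x8060201008040601)] (nat_lit 0x860201080040601) J3_t (nat_lit 64) = true := by decide +kernel

noncomputable def J4_t : ST :=
(.node (nat_lit 0x48403010c0cc0203) (.node (nat_lit 0x28403010b004aa83) (.node (nat_lit 0x184030109004029b) (.node (nat_lit 0x850301080040207) (.node (nat_lit 0x840301080140243) (.node (nat_lit 0x840301080041233) (.leaf (nat_lit 0x840301080040203) (nat_lit 0))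
 (.leaf (nat_lit 0x840301080041233) (nat_lit 1793))
) (.node (nat_lit 0x840301080141273) (.leaf (nat_lit 0x840301080140243) (nat_lit 2051))
 (.leaf (nat_lit 0x840301080141273) (nat_lit 1795))
)) (.node (nat_lit 0x850301080140257) (.node (nat_lit 0x850301080041237) (.leaf (nat_lit 0x850301080040207) (nat_lit 259))
 (.leaf (nat_lit 0x850301080041237) (nat_lit 2051))
) (.node (nat_lit 0x850301080141267) (.leaf (nat_lit 0x850301080140257) (nat_lit 1538))
 (.leaf (nat_lit 0x850301080141267) (nat_lit 1793))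
))) (.node (nat_lit 0x185030109004029f) (.node (nat_lit 0x18403010901402db) (.node (nat_lit 0x18403010900412ab) (.leaf (nat_lit 0x184030109004029b) (nat_lit 1281))
 (.leaf (nat_lit 0x18403010900412ab) (nat_lit 1537))
) (.node (nat_lit 0x18403010901412eb) (.leaf (nat_lit 0x18403010901402db) (nat_lit 2307))
 (.leaf (nat_lit 0x18403010901412eb) (nat_lit 1027))
)) (.node (nat_lit 0x18503010901402cf) (.node (nat_lit 0x18503010900412af) (.leaf (nat_lit 0x185030109004029f) (nat_lit 1539))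
 (.leaf (nat_lit 0x18503010900412af) (nat_lit 1795))
) (.node (nat_lit 0x18503010901412ff) (.leaf (nat_lit 0x18503010901402cf) (nat_lit 770))
 (.leaf (nat_lit 0x18503010901412ff) (nat_lit 2049))
)))) (.node (nat_lit 0x38403010a004aa0b) (.node (nat_lit 0x28503010b004aa87) (.node (nat_lit 0x28403010b014aac3) (.node (nat_lit 0x28403010b004bab3) (.leaf (nat_lit 0x28403010b004aa83) (nat_lit 1027))
 (.leaf (nat_lit 0x28403010b004bab3) (nat_lit 1283))
) (.node (nat_lit 0x28403010b014baf3) (.leaf (nat_lit 0x28403010b014aac3) (nat_lit 1025))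
 (.leaf (nat_lit 0x28403010b014baf3) (nat_lit 1282))
)) (.node (nat_lit 0x28503010b014aad7) (.node (nat_lit 0x28503010b004bab7) (.leaf (nat_lit 0x28503010b004aa87) (nat_lit 770))
 (.leaf (nat_lit 0x28503010b004bab7) (nat_lit 1025))
) (.node (nat_lit 0x28503010b014bae7) (.leaf (nat_lit 0x28503010b014aad7) (nat_lit 1539))
 (.leaf (nat_lit 0x28503010b014bae7) (nat_lit 1283))
))) (.node (nat_lit 0x38503010a004aa0f) (.node (nat_lit 0x38403010a014aa4b) (.node (nat_lit 0x38403010a004ba3b) (.leaf (nat_lit 0x38403010a004aa0b) (nat_lit 1027))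
 (.leaf (nat_lit 0x38403010a004ba3b) (nat_lit 1283))
) (.node (nat_lit 0x38403010a014ba7b) (.leaf (nat_lit 0x38403010a014aa4b) (nat_lit 1026))
 (.leaf (nat_lit 0x38403010a014ba7b) (nat_lit 1281))
)) (.node (nat_lit 0x38503010a014aa5f) (.node (nat_lit 0x38503010a004ba3f) (.leaf (nat_lit 0x38503010a004aa0f) (nat_lit 769))
 (.leaf (nat_lit 0x38503010a004ba3f) (nat_lit 1026))
) (.node (nat_lit 0x38503010a014ba6f) (.leaf (nat_lit 0x38503010a014aa5f) (nat_lit 1539))
 (.leaf (nat_lit 0x38503010a014ba6f) (nat_lit 1283))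
))))) (.node (nat_lit 0x68403010f0ecea83) (.node (nat_lit 0x58403010d0cc029b) (.node (nat_lit 0x48503010d0cc0287) (.node (nat_lit 0x48403010c0dc0243) (.node (nat_lit 0x48403010c0cc1233) (.leaf (nat_lit 0x48403010c0cc0203) (nat_lit 257))
 (.leaf (nat_lit 0x48403010c0cc1233) (nat_lit 1539))
) (.node (nat_lit 0x48403010c0dc1273) (.leaf (nat_lit 0x48403010c0dc0243) (nat_lit 1795))
 (.leaf (nat_lit 0x48403010c0dc1273) (nat_lit 2051))
)) (.node (nat_lit 0x48503010d0dc02d7) (.node (nat_lit 0x48503010d0cc12b7) (.leaf (nat_lit 0x48503010d0cc0287) (nat_lit 514))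
 (.leaf (nat_lit 0x48503010d0cc12b7) (nat_lit 1795))
) (.node (nat_lit 0x48503010d0dc12e7) (.leaf (nat_lit 0x48503010d0dc02d7) (nat_lit 1283))
 (.leaf (nat_lit 0x48503010d0dc12e7) (nat_lit 1539))
))) (.node (nat_lit 0x58503010c0cc020f) (.node (nat_lit 0x58403010d0dc02db) (.node (nat_lit 0x58403010d0cc12ab) (.leaf (nat_lit 0x58403010d0cc029b) (nat_lit 2051))
 (.leaf (nat_lit 0x58403010d0cc12ab) (nat_lit 1281))
) (.node (nat_lit 0x58403010d0dc12eb) (.leaf (nat_lit 0x58403010d0dc02db) (nat_lit 1027))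
 (.leaf (nat_lit 0x58403010d0dc12eb) (nat_lit 1283))
)) (.node (nat_lit 0x58503010c0dc025f) (.node (nat_lit 0x58503010c0cc123f) (.leaf (nat_lit 0x58503010c0cc020f) (nat_lit 513))
 (.leaf (nat_lit 0x58503010c0cc123f) (nat_lit 1795))
) (.node (nat_lit 0x58503010c0dc126f) (.leaf (nat_lit 0x58503010c0dc025f) (nat_lit 1283))
 (.leaf (nat_lit 0x58503010c0dc126f) (nat_lit 1539))
)))) (.node (nat_lit 0x78403010e0ecea0b) (.node (nat_lit 0x68503010e0ecea07) (.node (nat_lit 0x68403010f0fceac3) (.node (nat_lit 0x68403010f0ecfab3) (.leaf (nat_lit 0x68403010f0ecea83) (nat_lit 771))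
 (.leaf (nat_lit 0x68403010f0ecfab3) (nat_lit 1538))
) (.node (nat_lit 0x68403010f0fcfaf3) (.leaf (nat_lit 0x68403010f0fceac3) (nat_lit 1281))
 (.leaf (nat_lit 0x68403010f0fcfaf3) (nat_lit 1024))
)) (.node (nat_lit 0x68503010e0fcea57) (.node (nat_lit 0x68503010e0ecfa37) (.leaf (nat_lit 0x68503010e0ecea07) (nat_lit 515))
 (.leaf (nat_lit 0x68503010e0ecfa37) (nat_lit 1282))
) (.node (nat_lit 0x68503010e0fcfa67) (.leaf (nat_lit 0x68503010e0fcea57) (nat_lit 1792))
 (.leaf (nat_lit 0x68503010e0fcfa67) (nat_lit 1537))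
))) (.node (nat_lit 0x78503010f0ecea9f) (.node (nat_lit 0x78403010e0fcea4b) (.node (nat_lit 0x78403010e0ecfa3b) (.leaf (nat_lit 0x78403010e0ecea0b) (nat_lit 771))
 (.leaf (nat_lit 0x78403010e0ecfa3b) (nat_lit 1537))
) (.node (nat_lit 0x78403010e0fcfa7b) (.leaf (nat_lit 0x78403010e0fcea4b) (nat_lit 1282))
 (.leaf (nat_lit 0x78403010e0fcfa7b) (nat_lit 1024))
)) (.node (nat_lit 0x78503010f0fceacf) (.node (nat_lit 0x78503010f0ecfaaf) (.leaf (nat_lit 0x78503010f0ecea9f) (nat_lit 1793))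
 (.leaf (nat_lit 0x78503010f0ecfaaf) (nat_lit 1539))
) (.node (nat_lit 0x78503010f0fcfaff) (.leaf (nat_lit 0x78503010f0fceacf) (nat_lit 1026))
 (.leaf (nat_lit 0x78503010f0fcfaff) (nat_lit 768))
))))))

theorem J4_ok : orbOK B8.A [(nat_lit 0x8040301008040203), (nat_lit 0xc0402010080c0201), (nat_lit 0x8040201048840201), (nat_lit 0x8060201008040601)] (nat_lit 0x840301080040203) J4_t (nat_lit 64) = true := by decide +kernel

noncomputable def J5_t : ST :=
(.node (nat_lit 0x48402010c0ec4201) (.node (nat_lit 0x28402010a024ea01) (.node (nat_lit 0x1840201090244299) (.node (nat_lit 0x840201080344241) (.node (nat_lit 0x840201080245221) (.leaf (nat_lit 0x840201080244201) (nat_lit 0))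
 (.leaf (nat_lit 0x840201080245221) (nat_lit 768))
) (.node (nat_lit 0x840201080345261) (.leaf (nat_lit 0x840201080344241) (nat_lit 256))
 (.leaf (nat_lit 0x840201080345261) (nat_lit 515))
)) (.node (nat_lit 0x18402010903442d9) (.node (nat_lit 0x18402010902452b9) (.leaf (nat_lit 0x1840201090244299) (nat_lit 1793))
 (.leaf (nat_lit 0x18402010902452b9) (nat_lit 1537))
) (.node (nat_lit 0x18402010903452f9) (.leaf (nat_lit 0x18402010903442d9) (nat_lit 1539))
 (.leaf (nat_lit 0x18402010903452f9) (nat_lit 1281))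
))) (.node (nat_lit 0x38402010b024ea99) (.node (nat_lit 0x28402010a034ea41) (.node (nat_lit 0x28402010a024fa21) (.leaf (nat_lit 0x28402010a024ea01) (nat_lit 769))
 (.leaf (nat_lit 0x28402010a024fa21) (nat_lit 1537))
) (.node (nat_lit 0x28402010a034fa61) (.leaf (nat_lit 0x28402010a034ea41) (nat_lit 1283))
 (.leaf (nat_lit 0x28402010a034fa61) (nat_lit 1025))
)) (.node (nat_lit 0x38402010b034ead9) (.node (nat_lit 0x38402010b024fab9) (.leaf (nat_lit 0x38402010b024ea99) (nat_lit 1281))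
 (.leaf (nat_lit 0x38402010b024fab9) (nat_lit 1536))
) (.node (nat_lit 0x38402010b034faf9) (.leaf (nat_lit 0x38402010b034ead9) (nat_lit 1283))
 (.leaf (nat_lit 0x38402010b034faf9) (nat_lit 1025))
)))) (.node (nat_lit 0x68402010e0ccaa01) (.node (nat_lit 0x58402010d0ec4299) (.node (nat_lit 0x48402010c0fc4241) (.node (nat_lit 0x48402010c0ec5221) (.leaf (nat_lit 0x48402010c0ec4201) (nat_lit 257))
 (.leaf (nat_lit 0x48402010c0ec5221) (nat_lit 1025))
) (.node (nat_lit 0x48402010c0fc5261) (.leaf (nat_lit 0x48402010c0fc4241) (nat_lit 513))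
 (.leaf (nat_lit 0x48402010c0fc5261) (nat_lit 769))
)) (.node (nat_lit 0x58402010d0fc42d9) (.node (nat_lit 0x58402010d0ec52b9) (.leaf (nat_lit 0x58402010d0ec4299) (nat_lit 1795))
 (.leaf (nat_lit 0x58402010d0ec52b9) (nat_lit 1027))
) (.node (nat_lit 0x58402010d0fc52f9) (.leaf (nat_lit 0x58402010d0fc42d9) (nat_lit 1539))
 (.leaf (nat_lit 0x58402010d0fc52f9) (nat_lit 1283))
))) (.node (nat_lit 0x78402010f0ccaa99) (.node (nat_lit 0x68402010e0dcaa41) (.node (nat_lit 0x68402010e0ccba21) (.leaf (nat_lit 0x68402010e0ccaa01) (nat_lit 515))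
 (.leaf (nat_lit 0x68402010e0ccba21) (nat_lit 1283))
) (.node (nat_lit 0x68402010e0dcba61) (.leaf (nat_lit 0x68402010e0dcaa41) (nat_lit 1027))
 (.leaf (nat_lit 0x68402010e0dcba61) (nat_lit 771))
)) (.node (nat_lit 0x78402010f0dcaad9) (.node (nat_lit 0x78402010f0ccbab9) (.leaf (nat_lit 0x78402010f0ccaa99) (nat_lit 1536))
 (.leaf (nat_lit 0x78402010f0ccbab9) (nat_lit 768))
) (.node (nat_lit 0x78402010f0dcbaf9) (.leaf (nat_lit 0x78402010f0dcaad9) (nat_lit 1024))
 (.leaf (nat_lit 0x78402010f0dcbaf9) (nat_lit 1280))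
)))))

theorem J5_ok : orbOK B8.A [(nat_lit 0x8040301008040203), (nat_lit 0xc0402010080c0201), (nat_lit 0x8040201048840201), (nat_lit 0x8060201008040601)] (nat_lit 0x840201080244201) J5_t (nat_lit 32) = true := by decide +kernel

noncomputable def J6_t : ST :=
(.node (nat_lit 0x48502010d0cc0285) (.node (nat_lit 0x28502010a004aa05) (.node (nat_lit 0x185020109004029d) (.node (nat_lit 0x850201080140255) (.node (nat_lit 0x850201080041225) (.leaf (nat_lit 0x850201080040205) (nat_lit 0))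
 (.leaf (nat_lit 0x850201080041225) (nat_lit 1282))
) (.node (nat_lit 0x850201080141275) (.leaf (nat_lit 0x850201080140255) (nat_lit 1282))
 (.leaf (nat_lit 0x850201080141275) (nat_lit 1539))
)) (.node (nat_lit 0x18502010901402cd) (.node (nat_lit 0x18502010900412bd) (.leaf (nat_lit 0x185020109004029d) (nat_lit 1281))
 (.leaf (nat_lit 0x18502010900412bd) (nat_lit 2050))
) (.node (nat_lit 0x18502010901412ed) (.leaf (nat_lit 0x18502010901402cd) (nat_lit 514))
 (.leaf (nat_lit 0x18502010901412ed) (nat_lit 771))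
))) (.node (nat_lit 0x38502010b004aa9d) (.node (nat_lit 0x28502010a014aa55) (.node (nat_lit 0x28502010a004ba25) (.leaf (nat_lit 0x28502010a004aa05) (nat_lit 769))
 (.leaf (nat_lit 0x28502010a004ba25) (nat_lit 1538))
) (.node (nat_lit 0x28502010a014ba75) (.leaf (nat_lit 0x28502010a014aa55) (nat_lit 1283))
 (.leaf (nat_lit 0x28502010a014ba75) (nat_lit 1026))
)) (.node (nat_lit 0x38502010b014aacd) (.node (nat_lit 0x38502010b004babd) (.leaf (nat_lit 0x38502010b004aa9d) (nat_lit 1794))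
 (.leaf (nat_lit 0x38502010b004babd) (nat_lit 1025))
) (.node (nat_lit 0x38502010b014baed) (.leaf (nat_lit 0x38502010b014aacd) (nat_lit 770))
 (.leaf (nat_lit 0x38502010b014baed) (nat_lit 1027))
)))) (.node (nat_lit 0x68502010f0ecea85) (.node (nat_lit 0x58502010c0cc020d) (.node (nat_lit 0x48502010d0dc02d5) (.node (nat_lit 0x48502010d0cc12a5) (.leaf (nat_lit 0x48502010d0cc0285) (nat_lit 258))
 (.leaf (nat_lit 0x48502010d0cc12a5) (nat_lit 1025))
) (.node (nat_lit 0x48502010d0dc12f5) (.leaf (nat_lit 0x48502010d0dc02d5) (nat_lit 1027))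
 (.leaf (nat_lit 0x48502010d0dc12f5) (nat_lit 1795))
)) (.node (nat_lit 0x58502010c0dc025d) (.node (nat_lit 0x58502010c0cc122d) (.leaf (nat_lit 0x58502010c0cc020d) (nat_lit 257))
 (.leaf (nat_lit 0x58502010c0cc122d) (nat_lit 1026))
) (.node (nat_lit 0x58502010c0dc127d) (.leaf (nat_lit 0x58502010c0dc025d) (nat_lit 1027))
 (.leaf (nat_lit 0x58502010c0dc127d) (nat_lit 1795))
))) (.node (nat_lit 0x78502010e0ecea0d) (.node (nat_lit 0x68502010f0fcead5) (.node (nat_lit 0x68502010f0ecfaa5) (.leaf (nat_lit 0x68502010f0ecea85) (nat_lit 515))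
 (.leaf (nat_lit 0x68502010f0ecfaa5) (nat_lit 1283))
) (.node (nat_lit 0x68502010f0fcfaf5) (.leaf (nat_lit 0x68502010f0fcead5) (nat_lit 1536))
 (.leaf (nat_lit 0x68502010f0fcfaf5) (nat_lit 768))
)) (.node (nat_lit 0x78502010e0fcea5d) (.node (nat_lit 0x78502010e0ecfa2d) (.leaf (nat_lit 0x78502010e0ecea0d) (nat_lit 515))
 (.leaf (nat_lit 0x78502010e0ecfa2d) (nat_lit 1283))
) (.node (nat_lit 0x78502010e0fcfa7d) (.leaf (nat_lit 0x78502010e0fcea5d) (nat_lit 1536))
 (.leaf (nat_lit 0x78502010e0fcfa7d) (nat_lit 768))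
)))))

theorem J6_ok : orbOK B8.A [(nat_lit 0x8040301008040203), (nat_lit 0xc0402010080c0201), (nat_lit 0x8040201048840201), (nat_lit 0x8060201008040601)] (nat_lit 0x850201080040205) J6_t (nat_lit 32) = true := by decide +kernel

end Cfsg.Agent.Tri8
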