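import Mathlib
import Cfsg.Agent.Tri8.Fact
import Cfsg.Agent.Tri8.DataI

/-! The five classes of involutions of `L`. -/

set_option autoImplicit false
set_option linter.unusedSectionVars false
set_option maxRecDepth 100000
set_option synthInstance.maxSize 100000
set_option synthInstance.maxHeartbeats 1000000

namespace Cfsg.Agent.Tri8

open Cfsg Cfsg.Agent.Rec Cfsg.Agent.Spor Cfsg.Agent.Loc.Mss Subgroup

variable {G : Type*} [Group G] [Finite G]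

namespace Fr

variable (s : Fr G)

/-- Conjugate in `L` to one of the five representatives. -/
def Std (a : G) : Prop := ∃ l ∈ s.L, l * a * l⁻¹ = s.z ∨
    l * a * l⁻¹ = s.h3 * s.h4 ∨ l * a * l⁻¹ = s.h1 * s.h4 ∨ l * a * l⁻¹ = s.h1 * s.h3 ∨
    l * a * l⁻¹ = s.h1 * s.h3 * s.h4

theorem Std.of_conj {s : Fr G} {a g : G} (hg : g ∈ s.L) (h : s.Std (g * a * g⁻¹)) : s.Std a := by
  obtain ⟨l, hl, h⟩ := h
  exact ⟨l * g, mul_mem hl hg, by rwa [show l * g * a * (l * g)⁻¹ = l * (g * a * g⁻¹) * l⁻¹ by group]⟩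

theorem Std.cls {s : Fr G} {r a : G} (h : s.Std r) (ha : a ∈ cls s.gP r) : s.Std a := by
  obtain ⟨g, hg, rfl⟩ := ha
  refine Std.of_conj (inv_mem (s.les.2.2.2.2.2.2.2.2.2.2.2.2.1 hg)) ?_
  rwa [show g⁻¹ * (g * r * g⁻¹) * g⁻¹⁻¹ = r by group]

theorem gmem : s.x1 ∈ s.L ∧ s.x3 ∈ s.L ∧ s.x4 ∈ s.L ∧ s.m1 ∈ s.L ∧ s.m3 ∈ s.L ∧ s.m4 ∈ s.L ∧ s.x2 ∈ s.L ∧
    s.m2 ∈ s.L := by
  refine ⟨?_, ?_, ?_, ?_, ?_, ?_, ?_, ?_⟩ <;> exact s.mem_L _ (by simp)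

/-- A class of involutions of `Pz`. -/
def I0 : Set G := cls s.gP (s.z)
theorem gI0 : s.C1.Lists I0_t.dom s.I0 :=
  ((s.rp.pick [0, 1, 2, 3, 4, 5, 12]).orb (s.rp.term _ (by decide +kernel)) I0_ok).1
theorem std0 : s.Std (s.z) := by
  obtain ⟨h0, h1, h2, h3, h4, h5, h6, h7⟩ := s.gmem
  exact ⟨1,
    (one_mem _),
    Cod.listsL_nil.decide s.rp (by decide +kernel)⟩

/-- A class of involutions of `Pz`. -/
def I1 : Set G := cls s.gP (s.y)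
theorem gI1 : s.C1.Lists I1_t.dom s.I1 :=
  ((s.rp.pick [0, 1, 2, 3, 4, 5, 12]).orb (s.rp.term _ (by decide +kernel)) I1_ok).1
theorem std1 : s.Std (s.y) := by
  obtain ⟨h0, h1, h2, h3, h4, h5, h6, h7⟩ := s.gmem
  exact ⟨s.m2 * s.x2,
    (mul_mem h7 h6),
    Cod.listsL_nil.decide s.rp (by decide +kernel)⟩

/-- A class of involutions of `Pz`. -/
def I2 : Set G := cls s.gP (s.x1)
theorem gI2 : s.C1.Lists I2_t.dom s.I2 :=
  ((s.rp.pick [0, 1, 2, 3, 4, 5, 12]).orb (s.rp.term _ (by decide +kernel)) I2_ok).1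
theorem std2 : s.Std (s.x1) := by
  obtain ⟨h0, h1, h2, h3, h4, h5, h6, h7⟩ := s.gmem
  exact ⟨s.m2 * s.x2 * s.m4 * s.m3 * s.m2 * s.x4 * s.x3 * s.x2,
    (mul_mem (mul_mem (mul_mem (mul_mem (mul_mem (mul_mem (mul_mem h7 h6) h5) h4) h7) h2) h1) h6),
    Cod.listsL_nil.decide s.rp (by decide +kernel)⟩

/-- A class of involutions of `Pz`. -/
def I3 : Set G := cls s.gP (s.x3)
theorem gI3 : s.C1.Lists I3_t.dom s.I3 :=
  ((s.rp.pick [0, 1, 2, 3, 4, 5, 12]).orb (s.rp.term _ (by decide +kernel)) I3_ok).1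
theorem std3 : s.Std (s.x3) := by
  obtain ⟨h0, h1, h2, h3, h4, h5, h6, h7⟩ := s.gmem
  exact ⟨s.m2 * s.x2 * s.m4 * s.m1 * s.m2 * s.x4 * s.x1 * s.x2,
    (mul_mem (mul_mem (mul_mem (mul_mem (mul_mem (mul_mem (mul_mem h7 h6) h5) h3) h7) h2) h0) h6),
    Cod.listsL_nil.decide s.rp (by decide +kernel)⟩

/-- A class of involutions of `Pz`. -/
def I4 : Set G := cls s.gP (s.x4)
theorem gI4 : s.C1.Lists I4_t.dom s.I4 :=
  ((s.rp.pick [0, 1, 2, 3, 4, 5, 12]).orb (s.rp.term _ (by decide +kernel)) I4_ok).1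
theorem std4 : s.Std (s.x4) := by
  obtain ⟨h0, h1, h2, h3, h4, h5, h6, h7⟩ := s.gmem
  exact ⟨s.m2 * s.x2 * s.m3 * s.m1 * s.m2 * s.x3 * s.x1 * s.x2,
    (mul_mem (mul_mem (mul_mem (mul_mem (mul_mem (mul_mem (mul_mem h7 h6) h4) h3) h7) h1) h0) h6),
    Cod.listsL_nil.decide s.rp (by decide +kernel)⟩

/-- A class of involutions of `Pz`. -/
def I5 : Set G := cls s.gP (s.x1 * s.z)
theorem gI5 : s.C1.Lists I5_t.dom s.I5 :=
  ((s.rp.pick [0, 1, 2, 3, 4, 5, 12]).orb (s.rp.term _ (by decide +kernel)) I5_ok).1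
theorem std5 : s.Std (s.x1 * s.z) := by
  obtain ⟨h0, h1, h2, h3, h4, h5, h6, h7⟩ := s.gmem
  exact ⟨s.x3 * s.x2 * s.m3 * s.m2 * s.x3 * s.x2,
    (mul_mem (mul_mem (mul_mem (mul_mem (mul_mem h1 h6) h4) h7) h1) h6),
    Cod.listsL_nil.decide s.rp (by decide +kernel)⟩

/-- A class of involutions of `Pz`. -/
def I6 : Set G := cls s.gP (s.x3 * s.z)
theorem gI6 : s.C1.Lists I6_t.dom s.I6 :=
  ((s.rp.pick [0, 1, 2, 3, 4, 5, 12]).orb (s.rp.term _ (by decide +kernel)) I6_ok).1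
theorem std6 : s.Std (s.x3 * s.z) := by
  obtain ⟨h0, h1, h2, h3, h4, h5, h6, h7⟩ := s.gmem
  exact ⟨s.x1 * s.x2 * s.m1 * s.m2 * s.x1 * s.x2,
    (mul_mem (mul_mem (mul_mem (mul_mem (mul_mem h0 h6) h3) h7) h0) h6),
    Cod.listsL_nil.decide s.rp (by decide +kernel)⟩

/-- A class of involutions of `Pz`. -/
def I7 : Set G := cls s.gP (s.x4 * s.z)
theorem gI7 : s.C1.Lists I7_t.dom s.I7 :=
  ((s.rp.pick [0, 1, 2, 3, 4, 5, 12]).orb (s.rp.term _ (by decide +kernel)) I7_ok).1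
theorem std7 : s.Std (s.x4 * s.z) := by
  obtain ⟨h0, h1, h2, h3, h4, h5, h6, h7⟩ := s.gmem
  exact ⟨s.x1 * s.x2 * s.m1 * s.m2 * s.x1 * s.x2,
    (mul_mem (mul_mem (mul_mem (mul_mem (mul_mem h0 h6) h3) h7) h0) h6),
    Cod.listsL_nil.decide s.rp (by decide +kernel)⟩

/-- A class of involutions of `Pz`. -/
def I8 : Set G := cls s.gP (s.k1 * s.y)
theorem gI8 : s.C1.Lists I8_t.dom s.I8 :=
  ((s.rp.pick [0, 1, 2, 3, 4, 5, 12]).orb (s.rp.term _ (by decide +kernel)) I8_ok).1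
theorem std8 : s.Std (s.k1 * s.y) := by
  obtain ⟨h0, h1, h2, h3, h4, h5, h6, h7⟩ := s.gmem
  exact ⟨s.m3 * s.x4 * s.x3,
    (mul_mem (mul_mem h4 h2) h1),
    Cod.listsL_nil.decide s.rp (by decide +kernel)⟩

/-- A class of involutions of `Pz`. -/
def I9 : Set G := cls s.gP (s.k3 * s.y)
theorem gI9 : s.C1.Lists I9_t.dom s.I9 :=
  ((s.rp.pick [0, 1, 2, 3, 4, 5, 12]).orb (s.rp.term _ (by decide +kernel)) I9_ok).1
theorem std9 : s.Std (s.k3 * s.y) := by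
  obtain ⟨h0, h1, h2, h3, h4, h5, h6, h7⟩ := s.gmem
  exact ⟨s.m1 * s.x4 * s.x1,
    (mul_mem (mul_mem h3 h2) h0),
    Cod.listsL_nil.decide s.rp (by decide +kernel)⟩

/-- A class of involutions of `Pz`. -/
def I10 : Set G := cls s.gP (s.k4 * s.y)
theorem gI10 : s.C1.Lists I10_t.dom s.I10 :=
  ((s.rp.pick [0, 1, 2, 3, 4, 5, 12]).orb (s.rp.term _ (by decide +kernel)) I10_ok).1
theorem std10 : s.Std (s.k4 * s.y) := by
  obtain ⟨h0, h1, h2, h3, h4, h5, h6, h7⟩ := s.gmem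
  exact ⟨s.m1 * s.x3 * s.x1,
    (mul_mem (mul_mem h3 h1) h0),
    Cod.listsL_nil.decide s.rp (by decide +kernel)⟩

/-- A class of involutions of `Pz`. -/
def I11 : Set G := cls s.gP (s.x3 * s.x4)
theorem gI11 : s.C1.Lists I11_t.dom s.I11 :=
  ((s.rp.pick [0, 1, 2, 3, 4, 5, 12]).orb (s.rp.term _ (by decide +kernel)) I11_ok).1
theorem std11 : s.Std (s.x3 * s.x4) := by
  obtain ⟨h0, h1, h2, h3, h4, h5, h6, h7⟩ := s.gmem
  exact ⟨s.m1 * s.m2 * s.x1 * s.x2,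
    (mul_mem (mul_mem (mul_mem h3 h7) h0) h6),
    Cod.listsL_nil.decide s.rp (by decide +kernel)⟩

/-- A class of involutions of `Pz`. -/
def I12 : Set G := cls s.gP (s.x1 * s.x4)
theorem gI12 : s.C1.Lists I12_t.dom s.I12 :=
  ((s.rp.pick [0, 1, 2, 3, 4, 5, 12]).orb (s.rp.term _ (by decide +kernel)) I12_ok).1
theorem std12 : s.Std (s.x1 * s.x4) := by
  obtain ⟨h0, h1, h2, h3, h4, h5, h6, h7⟩ := s.gmem
  exact ⟨s.m3 * s.m2 * s.x3 * s.x2,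
    (mul_mem (mul_mem (mul_mem h4 h7) h1) h6),
    Cod.listsL_nil.decide s.rp (by decide +kernel)⟩

/-- A class of involutions of `Pz`. -/
def I13 : Set G := cls s.gP (s.x1 * s.x3)
theorem gI13 : s.C1.Lists I13_t.dom s.I13 :=
  ((s.rp.pick [0, 1, 2, 3, 4, 5, 12]).orb (s.rp.term _ (by decide +kernel)) I13_ok).1
theorem std13 : s.Std (s.x1 * s.x3) := by
  obtain ⟨h0, h1, h2, h3, h4, h5, h6, h7⟩ := s.gmem
  exact ⟨s.m4 * s.m2 * s.x4 * s.x2,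
    (mul_mem (mul_mem (mul_mem h5 h7) h2) h6),
    Cod.listsL_nil.decide s.rp (by decide +kernel)⟩

/-- A class of involutions of `Pz`. -/
def I14 : Set G := cls s.gP (s.x3 * s.x4 * s.z)
theorem gI14 : s.C1.Lists I14_t.dom s.I14 :=
  ((s.rp.pick [0, 1, 2, 3, 4, 5, 12]).orb (s.rp.term _ (by decide +kernel)) I14_ok).1
theorem std14 : s.Std (s.x3 * s.x4 * s.z) := by
  obtain ⟨h0, h1, h2, h3, h4, h5, h6, h7⟩ := s.gmem
  exact ⟨s.x1 * s.x2 * s.m1 * s.m2 * s.x1 * s.x2,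
    (mul_mem (mul_mem (mul_mem (mul_mem (mul_mem h0 h6) h3) h7) h0) h6),
    Cod.listsL_nil.decide s.rp (by decide +kernel)⟩

/-- A class of involutions of `Pz`. -/
def I15 : Set G := cls s.gP (s.x1 * s.x4 * s.z)
theorem gI15 : s.C1.Lists I15_t.dom s.I15 :=
  ((s.rp.pick [0, 1, 2, 3, 4, 5, 12]).orb (s.rp.term _ (by decide +kernel)) I15_ok).1
theorem std15 : s.Std (s.x1 * s.x4 * s.z) := by
  obtain ⟨h0, h1, h2, h3, h4, h5, h6, h7⟩ := s.gmem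
  exact ⟨s.m3 * s.x3 * s.x2 * s.m2 * s.x1 * s.x2,
    (mul_mem (mul_mem (mul_mem (mul_mem (mul_mem h4 h1) h6) h7) h0) h6),
    Cod.listsL_nil.decide s.rp (by decide +kernel)⟩

/-- A class of involutions of `Pz`. -/
def I16 : Set G := cls s.gP (s.x1 * s.x3 * s.z)
theorem gI16 : s.C1.Lists I16_t.dom s.I16 :=
  ((s.rp.pick [0, 1, 2, 3, 4, 5, 12]).orb (s.rp.term _ (by decide +kernel)) I16_ok).1
theorem std16 : s.Std (s.x1 * s.x3 * s.z) := by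
  obtain ⟨h0, h1, h2, h3, h4, h5, h6, h7⟩ := s.gmem
  exact ⟨s.m4 * s.x4 * s.x2 * s.m2 * s.x1 * s.x2,
    (mul_mem (mul_mem (mul_mem (mul_mem (mul_mem h5 h2) h6) h7) h0) h6),
    Cod.listsL_nil.decide s.rp (by decide +kernel)⟩

/-- A class of involutions of `Pz`. -/
def I17 : Set G := cls s.gP (s.k3 * s.k4 * s.y)
theorem gI17 : s.C1.Lists I17_t.dom s.I17 :=
  ((s.rp.pick [0, 1, 2, 3, 4, 5, 12]).orb (s.rp.term _ (by decide +kernel)) I17_ok).1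
theorem std17 : s.Std (s.k3 * s.k4 * s.y) := by
  obtain ⟨h0, h1, h2, h3, h4, h5, h6, h7⟩ := s.gmem
  exact ⟨s.m1 * s.x3 * s.x1,
    (mul_mem (mul_mem h3 h1) h0),
    Cod.listsL_nil.decide s.rp (by decide +kernel)⟩

/-- A class of involutions of `Pz`. -/
def I18 : Set G := cls s.gP (s.x1 * s.x3 * s.x4)
theorem gI18 : s.C1.Lists I18_t.dom s.I18 :=
  ((s.rp.pick [0, 1, 2, 3, 4, 5, 12]).orb (s.rp.term _ (by decide +kernel)) I18_ok).1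
theorem std18 : s.Std (s.x1 * s.x3 * s.x4) := by
  obtain ⟨h0, h1, h2, h3, h4, h5, h6, h7⟩ := s.gmem
  exact ⟨s.m4 * s.m3 * s.x1 * s.m1 * s.m2 * s.x4 * s.x3 * s.x1 * s.x2,
    (mul_mem (mul_mem (mul_mem (mul_mem (mul_mem (mul_mem (mul_mem (mul_mem h5 h4) h0) h3) h7) h2) h1) h0) h6),
    Cod.listsL_nil.decide s.rp (by decide +kernel)⟩

theorem hI : s.C1.ListsL
    [U_t.dom, I0_t.dom, I1_t.dom, I2_t.dom, I3_t.dom, I4_t.dom, I5_t.dom, I6_t.dom, I7_t.dom, I8_t.dom, I9_t.dom, I10_t.dom, I11_t.dom, I12_t.dom, I13_t.dom, I14_t.dom, I15_t.dom, I16_t.dom, I17_t.dom, I18_t.dom]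
    [s.U, s.I0, s.I1, s.I2, s.I3, s.I4, s.I5, s.I6, s.I7, s.I8, s.I9, s.I10, s.I11, s.I12, s.I13, s.I14, s.I15, s.I16, s.I17, s.I18] :=
  s.gU.1.cons <| s.gI0.cons <| s.gI1.cons <| s.gI2.cons <| s.gI3.cons <| s.gI4.cons <| s.gI5.cons <| s.gI6.cons <| s.gI7.cons <| s.gI8.cons <| s.gI9.cons <| s.gI10.cons <| s.gI11.cons <| s.gI12.cons <| s.gI13.cons <| s.gI14.cons <| s.gI15.cons <| s.gI16.cons <| s.gI17.cons <| s.gI18.cons Cod.listsL_nil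

theorem invol {a : G} (ha : a ∈ s.L) (h : a * a = 1) : a = 1 ∨ ∃ l ∈ s.L, l * a * l⁻¹ = s.z ∨
    l * a * l⁻¹ = s.h3 * s.h4 ∨ l * a * l⁻¹ = s.h1 * s.h4 ∨ l * a * l⁻¹ = s.h1 * s.h3 ∨
    l * a * l⁻¹ = s.h1 * s.h3 * s.h4 := by
  have k : ∀ u ∈ s.U, u * u = 1 → u = 1 ∨ u ∈ s.I0 ∨ u ∈ s.I1 ∨ u ∈ s.I2 ∨ u ∈ s.I3 ∨ u ∈ s.I4 ∨ u ∈ s.I5 ∨ u ∈ s.I6 ∨ u ∈ s.I7 ∨ u ∈ s.I8 ∨ u ∈ s.I9 ∨ u ∈ s.I10 ∨ u ∈ s.I11 ∨ u ∈ s.I12 ∨ u ∈ s.I13 ∨ u ∈ s.I14 ∨ u ∈ s.I15 ∨ u ∈ s.I16 ∨ u ∈ s.I17 ∨ u ∈ s.I18 :=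
    s.hI.decide s.rp (by decide +kernel)
  have hp : IsPGroup 2 (zpowers a) := pg_iff.2 fun x hx => ⟨1, by
    obtain ⟨n, rfl⟩ := mem_zpowers_iff.1 hx
    rw [pow_one, ← zpow_natCast, ← zpow_mul, mul_comm, zpow_mul, zpow_natCast, pow_two, h, one_zpow]⟩
  obtain ⟨g, hg, h3⟩ := s.sylU.conj_le hp (zpowers_le.2 ha)
  rcases k _ (h3 (conj_mem_cj (mem_zpowers a))) (conj_sq h) with e | e | e | e | e | e | e | e | e | e | e | e | e | e | e | e | e | e | e | e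
  · exact Or.inl (conj_eq_one.1 e)
  · exact Or.inr (Std.of_conj hg (s.std0.cls e))
  · exact Or.inr (Std.of_conj hg (s.std1.cls e))
  · exact Or.inr (Std.of_conj hg (s.std2.cls e))
  · exact Or.inr (Std.of_conj hg (s.std3.cls e))
  · exact Or.inr (Std.of_conj hg (s.std4.cls e))
  · exact Or.inr (Std.of_conj hg (s.std5.cls e))
  · exact Or.inr (Std.of_conj hg (s.std6.cls e))
  · exact Or.inr (Std.of_conj hg (s.std7.cls e))
  · exact Or.inr (Std.of_conj hg (s.std8.cls e))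
  · exact Or.inr (Std.of_conj hg (s.std9.cls e))
  · exact Or.inr (Std.of_conj hg (s.std10.cls e))
  · exact Or.inr (Std.of_conj hg (s.std11.cls e))
  · exact Or.inr (Std.of_conj hg (s.std12.cls e))
  · exact Or.inr (Std.of_conj hg (s.std13.cls e))
  · exact Or.inr (Std.of_conj hg (s.std14.cls e))
  · exact Or.inr (Std.of_conj hg (s.std15.cls e))
  · exact Or.inr (Std.of_conj hg (s.std16.cls e))
  · exact Or.inr (Std.of_conj hg (s.std17.cls e))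
  · exact Or.inr (Std.of_conj hg (s.std18.cls e))

end Fr

end Cfsg.Agent.Tri8
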