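import Mathlib
import Cfsg.Agent.Tri8.Defs
import Cfsg.Agent.SF8.Defs
import Cfsg.Agent.S0296

/-! Frames exist. -/

set_option autoImplicit false
set_option linter.unusedSectionVars false
set_option maxRecDepth 100000
set_option synthInstance.maxSize 100000
set_option synthInstance.maxHeartbeats 1000000

namespace Cfsg.Agent.Tri8

open Cfsg Cfsg.Agent.Rec Cfsg.Agent.Spor Cfsg.Agent.Loc.Mss Subgroup Cfsg.Agent.Cl

variable {G : Type*} [Group G] [Finite G]

namespace K0

open SF8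

/-- Positions of the letters among the roots. -/
def idx : List ℕ := [18, 13, 12, 5, 10, 11, 19, 16, 15, 17, 20, 21, 14, 9, 22, 23]
/-- Positions of the letters `x`. -/
def ix : Fin 3 → ℕ := ![18, 13, 12]
/-- Positions of the letters `m`. -/
def im : Fin 3 → ℕ := ![5, 10, 11]
/-- Positions of the letters `k`. -/
def ik : Fin 3 → ℕ := ![19, 16, 15]
/-- Positions of the letters `h`. -/
def ih : Fin 3 → ℕ := ![17, 20, 21]

/-- The positions after a permutation of the three outer nodes. -/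
def pos (σ : Equiv.Perm (Fin 3)) : List ℕ := [ix (σ 0), ix (σ 1), ix (σ 2), im (σ 0), im (σ 1), im (σ 2),
  ik (σ 0), ik (σ 1), ik (σ 2), ih (σ 0), ih (σ 1), ih (σ 2), 14, 9, 22, 23]

theorem to_k : ∀ σ : Equiv.Perm (Fin 3), ∃ k : Fin 6, idx.map (nth 0 (SG k)) = pos σ := by decide +kernel

theorem of_k : ∀ k : Fin 6, ∃ σ : Equiv.Perm (Fin 3), (∀ i, nth 0 (SG k) (ix i) = ix (σ i)) ∧
    (∀ i, nth 0 (SG k) (im i) = im (σ i)) ∧ nth 0 (SG k) 14 = 14 ∧ nth 0 (SG k) 9 = 9 := by decide +kernel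

theorem codes : beqL (idx.map (nth B8.A.one cR)) Tri8.cX = true := by decide +kernel

theorem nth_SG {H : Type*} [Group H] (f : ℕ → H) (k : Fin 6) {i : ℕ} (hi : i < 24) :
    nth 1 ((SG k).map f) i = f (nth 0 (SG k) i) := by
  have hl : (SG k).length = 24 := (by decide : ∀ k : Fin 6, (SG k).length = 24) k
  rw [nth_of_lt 1 (by simpa [hl] using hi), nth_of_lt 0 (by simpa [hl] using hi), List.getElem_map]

omit [Finite G] in
theorem exists_cod (ρ : D4 →* G) (inj : Function.Injective ρ) (σ : Equiv.Perm (Fin 3)) :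
    ∃ C : Cod B8.A G, C.RepL Tri8.cX ((pos σ).map fun r => ρ (nth 1 X0 r)) := by
  obtain ⟨k, hk⟩ := to_k σ
  obtain ⟨α, hα⟩ := exists_gr k
  obtain ⟨C0, h0⟩ := exists_cod0
  obtain ⟨C, h⟩ := Syl.repL_map h0 (ρ.comp α.toMonoidHom) (inj.comp α.injective)
  have h1 := h.pick idx
  rw [eq_of_beqL codes] at h1
  refine ⟨C, ?_⟩
  have e : X0.map (ρ.comp α.toMonoidHom) = (SG k).map fun r => ρ (nth 1 X0 r) := by
    rw [show (fun r => ρ (nth 1 X0 r)) = ρ ∘ nth 1 X0 from rfl, ← List.map_map, ← hα, List.map_map]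
    rfl
  rw [← hk, List.map_map]
  rw [e] at h1
  convert h1 using 1
  exact List.map_congr_left fun i hi =>
    (nth_SG (fun r => ρ (nth 1 X0 r)) k ((by decide : ∀ i ∈ idx, i < 24) i hi)).symm

theorem clos8 : clos ((i8.map (nth 0 (SG 0))).map (nth 1 X0)) = ⊤ := by
  have h0 := X0_words 0
  rw [SG0 (by simp [X0])] at h0
  rw [eq_top_iff, ← clos_X0]
  conv_lhs => rw [← h0]
  exact clos_words_le _ _

end K0

open K0 SF8 in
theorem exists_fr {L : Subgroup G} {F : Type*} [Field F] [Fintype F] (hF : Fintype.card F = 2)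
    (e : L ≃* POmega F (quadFormPlus 4 F)) : ∃ s : Fr G, s.L = L := by
  obtain ⟨φ⟩ := nonempty_d4_equiv_pomega (F := ZMod 2)
  let σ : ZMod 2 ≃+* F := FiniteField.ringEquivOfCardEq (by rw [ZMod.card, hF])
  let ψ : D4 ≃* L := (φ.trans (pomegaMapEquiv σ (quadFormPlus_comp 4 σ))).trans e.symm
  let ρ : D4 →* G := L.subtype.comp ψ.toMonoidHom
  have inj : Function.Injective ρ := Subtype.val_injective.comp ψ.injective
  have hr : ρ.range = L := by
    rw [MonoidHom.range_comp, MonoidHom.range_eq_top.2 ψ.surjective, ← MonoidHom.range_eq_map, range_subtype]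
  choose C hC using exists_cod ρ inj
  let E : ℕ → G := fun r => ρ (nth 1 X0 r)
  have hs : IsSimpleGroup L := by
    have := S0296.result (F := F) 4 le_rfl
    exact e.isSimpleGroup
  refine ⟨⟨fun i => E (ix i), fun i => E (im i), fun i => E (ik i), fun i => E (ih i), E 14, E 9, E 22, E 23, L, C,
    hC, ?_, ?_, hs, fun g hg => ?_⟩, rfl⟩
  · rw [← hr, MonoidHom.range_eq_map, ← clos8, map_clos, clos]
    congr 1
    ext a
    simp only [Set.mem_union, Set.mem_range, Fin.exists_fin_succ, Set.mem_insert_iff, Set.mem_singleton_iff,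
      IsEmpty.exists_iff, or_false, @eq_comm _ _ a]
    change a ∈ [E 18, E 14, E 13, E 12, E 5, E 9, E 10, E 11] ↔
      ((a = E 18 ∨ a = E 13 ∨ a = E 12) ∨ a = E 5 ∨ a = E 10 ∨ a = E 11) ∨ a = E 14 ∨ a = E 9
    simp only [List.mem_cons, List.not_mem_nil, or_false]
    tauto
  · rw [← card_D4]
    exact (Nat.card_congr ψ.toEquiv).symm
  · obtain ⟨x, k, h⟩ := aut0 ((ψ.trans (L.normalizerMonoidHom ⟨g, hg⟩)).trans ψ.symm)
    obtain ⟨π, h1, h2, h3, h4⟩ := of_k k
    have key : ∀ r < 24, g * E r * g⁻¹ = (ρ x)⁻¹ * E (nth 0 (SG k) r) * (ρ x)⁻¹⁻¹ := fun r hr' => by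
      have h5 := congrArg (fun l => ρ (nth 1 l r)) h
      simp only [nth_SG _ k hr'] at h5
      rw [nth_of_lt 1 (by simpa [X0] using hr'), List.getElem_map, ← nth_of_lt 1 (by simpa [X0] using hr')] at h5
      have h6 : ∀ u : L, ρ (ψ.symm u) = u := fun u => congrArg Subtype.val (ψ.apply_symm_apply u)
      simp only [map_mul, map_inv, MulEquiv.trans_apply, h6] at h5
      change ρ x * (g * E r * g⁻¹) * (ρ x)⁻¹ = E _ at h5
      rw [← h5]
      group
    refine ⟨(ρ x)⁻¹, inv_mem (hr ▸ ⟨x, rfl⟩), π, fun i => ?_, fun i => ?_, ?_, ?_⟩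
    · rw [← h1]; exact key _ ((by decide : ∀ i, ix i < 24) i)
    · rw [← h2]; exact key _ ((by decide : ∀ i, im i < 24) i)
    · have := key 14 (by decide); rwa [h3] at this
    · have := key 9 (by decide); rwa [h4] at this

end Cfsg.Agent.Tri8
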