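import Mathlib
import Cfsg.Agent.Tri8.Act
import Cfsg.Agent.Tri8.DataI

/-! Outer involutions. -/

set_option autoImplicit false
set_option linter.unusedSectionVars false
set_option maxRecDepth 100000
set_option synthInstance.maxSize 100000
set_option synthInstance.maxHeartbeats 1000000

namespace Cfsg.Agent.Tri8

open Cfsg Cfsg.Agent.Rec Cfsg.Agent.Spor Cfsg.Agent.Loc.Mss Subgroup

variable {G : Type*} [Group G] [Finite G]

namespace Gam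

omit [Finite G] in
theorem zip_rep {G₀ : Type*} [Group G₀] {A : Ar} {C₀ : Cod A G₀} {C : Cod A G} {c : List ℕ} {e₀ : List G₀}
    {e : List G} (h₀ : C₀.RepL c e₀) (h : C.RepL c e) :
    e₀.length = e.length ∧ ∀ p ∈ e₀.zip e, ∃ b, C₀.Rep b p.1 ∧ C.Rep b p.2 := by
  induction h₀ generalizing e with
  | nil => cases h; simp
  | cons h1 _ ih => cases h with
    | cons h2 h3 =>
      refine ⟨congrArg (· + 1) (ih h3).1, fun p hp => ?_⟩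
      rcases List.mem_cons.1 hp with rfl | hp
      exacts [⟨_, h1, h2⟩, (ih h3).2 p hp]

omit [Finite G] in
/-- Codes for an extension by an involution. -/
theorem cod_ext {G₀ : Type*} [Group G₀] {A : Ar} {C₀ : Cod A G₀} {C : Cod A G} {c : List ℕ} {e₀ : List G₀}
    {e : List G} {a : ℕ} {g₀ : G₀} {g : G} (h₀ : C₀.RepL (a :: c) (g₀ :: e₀)) (h : C.RepL c e)
    (s₀ : g₀ * g₀ = 1) (s : g * g = 1) (hn : ∀ p ∈ e₀.zip e, (g₀, g) * p * (g₀, g)⁻¹ ∈ e₀.zip e)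
    (hg : g ∉ clos e) (hg₀ : ∀ l ∈ clos e, ¬ C.Rep a l) : ∃ C' : Cod A G, C'.RepL (a :: c) (g :: e) := by
  obtain ⟨ha, h₁⟩ := List.forall₂_cons.1 h₀
  obtain ⟨hl, hz⟩ := zip_rep h₁ h
  have hΓ : ∀ p ∈ clos (e₀.zip e), p.2 ∈ clos e ∧ ∃ b, C₀.Rep b p.1 ∧ C.Rep b p.2 := fun p hp => by
    induction hp using closure_induction with
    | mem p hp => exact ⟨mem_clos (List.of_mem_zip hp).2, hz p hp⟩
    | one => exact ⟨one_mem _, _, Cod.rep_one, Cod.rep_one⟩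
    | mul p q _ _ hp hq =>
      obtain ⟨h1, b, h2, h3⟩ := hp
      obtain ⟨h4, b', h5, h6⟩ := hq
      exact ⟨mul_mem h1 h4, _, h2.mul h5, h3.mul h6⟩
    | inv p _ hp =>
      obtain ⟨h1, b, h2, h3⟩ := hp
      exact ⟨inv_mem h1, _, h2.inv, h3.inv⟩
  have hc := conj_clos_mem fun p hp => mem_clos (hn p hp)
  have h2 : (g₀, g) * (g₀, g) = 1 := Prod.ext s₀ s
  refine cod_of_zip h₀ (congrArg (· + 1) hl) fun p hp => ?_
  rw [List.zip_cons_cons] at hp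
  have key : p ∈ clos (e₀.zip e) ∨ p * (g₀, g) ∈ clos (e₀.zip e) := by
    generalize (g₀, g) = γ at hc h2 hp
    have hi : γ⁻¹ = γ := inv_eq_of_mul_eq_one_right h2
    induction hp using closure_induction with
    | mem p hp =>
      rcases List.mem_cons.1 hp with rfl | hp
      exacts [Or.inr (h2 ▸ one_mem _), Or.inl (mem_clos hp)]
    | one => exact Or.inl (one_mem _)
    | mul p q _ _ hp hq =>
      rcases hp with hp | hp <;> rcases hq with hq | hq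
      · exact Or.inl (mul_mem hp hq)
      · exact Or.inr (mul_assoc p q γ ▸ mul_mem hp hq)
      · refine Or.inr ?_
        have := mul_mem hp (hc _ hq)
        rwa [hi, show p * γ * (γ * q * γ) = p * (γ * γ) * q * γ by group, h2, mul_one] at this
      · refine Or.inl ?_
        have := mul_mem hp (hc _ hq)
        rwa [show p * γ * (γ * (q * γ) * γ⁻¹) = p * (γ * γ) * q by group, h2, mul_one] at this
    | inv p _ hp =>
      refine hp.imp inv_mem fun hp => ?_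
      have := hc _ (inv_mem hp)
      rwa [show γ * (p * γ)⁻¹ * γ⁻¹ = p⁻¹ * γ⁻¹ by group, hi] at this
  rcases key with k | k
  · obtain ⟨-, b, h3, h4⟩ := hΓ p k
    exact (h3.eq_iff Cod.rep_one).symm.trans (h4.eq_iff Cod.rep_one)
  · obtain ⟨h3, b, h4, h5⟩ := hΓ _ k
    refine ⟨fun e1 => (hg₀ _ h3 ?_).elim, fun e1 => (hg ?_).elim⟩
    · rwa [← (h4.eq_iff ha).2 (by simp [e1])]
    · simpa [e1] using h3

theorem rel {H : Type*} [Group H] {C : Cod B8.A H} {g x1 x3 x4 m1 m3 m4 k1 k3 k4 h1 h3 h4 x2 m2 y z : H}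
    (h : C.RepL (cG :: cX) [g, x1, x3, x4, m1, m3, m4, k1, k3, k4, h1, h3, h4, x2, m2, y, z]) :
    g * g = 1 ∧ (g * x1 * g⁻¹ = x1 ∧ g * x3 * g⁻¹ = x4 ∧ g * x4 * g⁻¹ = x3) ∧
      (g * m1 * g⁻¹ = m1 ∧ g * m3 * g⁻¹ = m4 ∧ g * m4 * g⁻¹ = m3) ∧
      (g * k1 * g⁻¹ = k1 ∧ g * k3 * g⁻¹ = k4 ∧ g * k4 * g⁻¹ = k3) ∧
      (g * h1 * g⁻¹ = h1 ∧ g * h3 * g⁻¹ = h4 ∧ g * h4 * g⁻¹ = h3) ∧
      g * x2 * g⁻¹ = x2 ∧ g * m2 * g⁻¹ = m2 ∧ g * y * g⁻¹ = y ∧ g * z * g⁻¹ = z :=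
  Cod.listsL_nil.decide h (by decide +kernel)

omit [Finite G] in
theorem fin3 {g : G} {f : Fin 3 → G} :
    (∀ i, g * f i * g⁻¹ = 1 * f (Equiv.swap 1 2 i) * 1⁻¹) ↔
      g * f 0 * g⁻¹ = f 0 ∧ g * f 1 * g⁻¹ = f 2 ∧ g * f 2 * g⁻¹ = f 1 := by
  simp only [one_mul, inv_one, mul_one, Fin.forall_fin_succ, IsEmpty.forall_iff, and_true]
  rfl

theorem not_mem (s : Fr G) {g : G} (h : s.Ac g 1 (Equiv.swap 1 2)) : g ∉ s.L := fun hg =>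
  absurd (h.uniq (Fr.Ac.self s g) (one_mem _) hg).1 (by decide)

theorem exists_cod (s : Fr G) {g : G} (h : s.Ac g 1 (Equiv.swap 1 2)) (g2 : g * g = 1) :
    ∃ C' : Cod B8.A G, C'.RepL (cG :: cX) [g, s.x1, s.x3, s.x4, s.m1, s.m3, s.m4, s.k1, s.k3, s.k4,
      s.h1, s.h3, s.h4, s.x2, s.m2, s.y, s.z] := by
  obtain ⟨g0, x1, x3, x4, m1, m3, m4, k1, k3, k4, h1, h3, h4, x2, m2, y, z, h0⟩ :
      ∃ g x1 x3 x4 m1 m3 m4 k1 k3 k4 h1 h3 h4 x2 m2 y z,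
        B8.C.RepL (cG :: cX) [g, x1, x3, x4, m1, m3, m4, k1, k3, k4, h1, h3, h4, x2, m2, y, z] :=
    ⟨_, _, _, _, _, _, _, _, _, _, _, _, _, _, _, _, _, B8.repL (c := cG :: cX) (by decide +kernel)⟩
  have hL := clos_le.2 s.mem_L
  obtain ⟨r0, ⟨r1, r2, r3⟩, ⟨r4, r5, r6⟩, ⟨r7, r8, r9⟩, ⟨r10, r11, r12⟩, r13, r14, r15, r16⟩ := rel h0
  refine cod_ext h0 s.rp r0 g2 ?_ (fun k => not_mem s h (hL k)) fun l hl k => ?_
  · obtain ⟨a1, a2, a3⟩ : g * s.x1 * g⁻¹ = s.x1 ∧ g * s.x3 * g⁻¹ = s.x4 ∧ g * s.x4 * g⁻¹ = s.x3 := fin3.1 h.x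
    obtain ⟨a4, a5, a6⟩ : g * s.m1 * g⁻¹ = s.m1 ∧ g * s.m3 * g⁻¹ = s.m4 ∧ g * s.m4 * g⁻¹ = s.m3 := fin3.1 h.m
    obtain ⟨a7, a8, a9⟩ : g * s.k1 * g⁻¹ = s.k1 ∧ g * s.k3 * g⁻¹ = s.k4 ∧ g * s.k4 * g⁻¹ = s.k3 := fin3.1 h.k
    obtain ⟨a10, a11, a12⟩ : g * s.h1 * g⁻¹ = s.h1 ∧ g * s.h3 * g⁻¹ = s.h4 ∧ g * s.h4 * g⁻¹ = s.h3 := fin3.1 h.h
    have a13 := h.x2
    have a14 := h.m2
    have a15 := h.y
    have a16 := h.z
    rw [one_mul, inv_one, mul_one] at a13 a14 a15 a16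
    simp only [List.zip_cons_cons, List.zip_nil_right, List.forall_mem_cons]
    simp only [Prod.mk_mul_mk, Prod.inv_mk, List.mem_cons, true_or, or_true, List.not_mem_nil,
      IsEmpty.forall_iff, implies_true, and_self, *]
  · obtain ⟨-, b1, b2, b3, b4, b5, b6, b7, b8⟩ := rel (k.cons s.rp)
    exact not_mem s ⟨fin3.2 b1, fin3.2 b2, fin3.2 b3, fin3.2 b4, by simpa using b5, by simpa using b6,
      by simpa using b7, by simpa using b8⟩ (hL hl)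

/-- The conclusion. -/
def Wit (L : Subgroup G) (u : G) : Prop :=
  ∃ h ∈ L, ∃ p ∈ L, ∃ q ∈ L, p * u = u * p ∧ q * u = u * q ∧ h * u * h⁻¹ * u⁻¹ = p * q * p⁻¹ * q⁻¹ ∧
    p * q * p⁻¹ * q⁻¹ * (p * q * p⁻¹ * q⁻¹) = 1 ∧ p * q * p⁻¹ * q⁻¹ ≠ 1

omit [Finite G] in
theorem Wit.conj {L : Subgroup G} {u v : G} (h : Wit L u) (hv : v ∈ L) : Wit L (v * u * v⁻¹) := by
  obtain ⟨a, ha, p, hp, q, hq, h1, h2, h3, h4, h5⟩ := h
  have e : v * p * v⁻¹ * (v * q * v⁻¹) * (v * p * v⁻¹)⁻¹ * (v * q * v⁻¹)⁻¹ = v * (p * q * p⁻¹ * q⁻¹) * v⁻¹ := by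
    group
  have m : ∀ b ∈ L, v * b * v⁻¹ ∈ L := fun b hb => mul_mem (mul_mem hv hb) (inv_mem hv)
  refine ⟨_, m a ha, _, m p hp, _, m q hq, by rw [conj_mul, conj_mul, h1], by rw [conj_mul, conj_mul, h2],
    by rw [e, ← h3]; group, by rw [e, conj_mul, h4]; group, by rw [e]; simpa using h5⟩

omit [Finite G] in
theorem Wit.mk {L U : Subgroup G} (hU : U ≤ L) {u : G} (h p q : G) (k : h ∈ U ∧ p ∈ U ∧ q ∈ U ∧
    p * u = u * p ∧ q * u = u * q ∧ h * u * h⁻¹ * u⁻¹ = p * q * p⁻¹ * q⁻¹ ∧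
    p * q * p⁻¹ * q⁻¹ * (p * q * p⁻¹ * q⁻¹) = 1 ∧ p * q * p⁻¹ * q⁻¹ ≠ 1) : Wit L u :=
  ⟨h, hU k.1, p, hU k.2.1, q, hU k.2.2.1, k.2.2.2⟩

theorem core (s : Fr G) {u l : G} (hl : l ∈ s.U) (h : s.Ac u l (Equiv.swap 1 2)) (u2 : u * u = 1) :
    Wit s.L u := by
  have hg := h.exact
  obtain ⟨g, rfl⟩ : ∃ g, u = l * g := ⟨l⁻¹ * u, by group⟩
  rw [inv_mul_cancel_left] at hg
  have g2 : g * g = 1 := by
    have h1 : g * g ∈ s.L := by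
      have := mul_mem (inv_mem ((mem_normalizer_iff.1 hg.norm.1 l).1 (s.U_le hl))) (inv_mem (s.U_le hl))
      rwa [show (g * l * g⁻¹)⁻¹ * l⁻¹ = g * g * (l * g * (l * g))⁻¹ by group, u2, inv_one, mul_one] at this
    have h2 := ((hg.mul hg).uniq (Fr.Ac.self s (g * g)) (by simp) h1).2
    simpa using h2.symm
  obtain ⟨C, r⟩ := exists_cod s hg g2
  have rU := r.pick [1, 2, 3, 13]
  have hL : C.ListsL [U_t.dom, J0_t.dom, J1_t.dom, J2_t.dom, J3_t.dom, J4_t.dom, J5_t.dom, J6_t.dom]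
      [s.U, cls s.eU g, cls s.eU (g * s.z), cls s.eU (g * s.y), cls s.eU (g * s.x2), cls s.eU (g * s.x1),
        cls s.eU (g * s.h1), cls s.eU (g * s.k1)] :=
    (rU.gen U_ok).1.cons <| (rU.orb (r.nth 0) J0_ok).1.cons <|
      (rU.orb (r.term _ (by decide +kernel)) J1_ok).1.cons <| (rU.orb (r.term _ (by decide +kernel)) J2_ok).1.cons <|
      (rU.orb (r.term _ (by decide +kernel)) J3_ok).1.cons <| (rU.orb (r.term _ (by decide +kernel)) J4_ok).1.cons <|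
      (rU.orb (r.term _ (by decide +kernel)) J5_ok).1.cons <|
      (rU.orb (r.term _ (by decide +kernel)) J6_ok).1.cons Cod.listsL_nil
  have key : ∀ l ∈ s.U, l * g * (l * g) = 1 → l * g ∈ cls s.eU g ∨ l * g ∈ cls s.eU (g * s.z) ∨
      l * g ∈ cls s.eU (g * s.y) ∨ l * g ∈ cls s.eU (g * s.x2) ∨ l * g ∈ cls s.eU (g * s.x1) ∨
      l * g ∈ cls s.eU (g * s.h1) ∨ l * g ∈ cls s.eU (g * s.k1) := hL.decide r (by decide +kernel)
  have fin : ∀ a, Wit s.L a → l * g ∈ cls s.eU a → Wit s.L (l * g) := fun a ha ⟨v, hv, e⟩ =>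
    e ▸ ha.conj (s.U_le hv)
  rcases key l hl u2 with k | k | k | k | k | k | k <;> refine fin _ ?_ k
  · exact Wit.mk s.U_le s.h3 (s.k1 * s.h1) (s.x1 * s.x3 * s.x4) (hL.decide r (by decide +kernel))
  · exact Wit.mk s.U_le s.h3 (s.k1 * s.h1) (s.x1 * s.x3 * s.x4) (hL.decide r (by decide +kernel))
  · exact Wit.mk s.U_le s.h3 (s.k1 * s.h1) (s.x1 * s.x3 * s.x4) (hL.decide r (by decide +kernel))
  · exact Wit.mk s.U_le s.y s.k1 s.h1 (hL.decide r (by decide +kernel))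
  · exact Wit.mk s.U_le (s.h1 * s.h4) s.k1 (s.x3 * s.x4) (hL.decide r (by decide +kernel))
  · exact Wit.mk s.U_le s.k1 s.y s.x2 (hL.decide r (by decide +kernel))
  · exact Wit.mk s.U_le s.h3 (s.x1 * s.x2) (s.k3 * s.k4 * s.y) (hL.decide r (by decide +kernel))

end Gam

namespace Fr

variable (s : Fr G)

theorem outer_wit {u : G} (hu : u ∈ 𝐍[s.L]) (u2 : u * u = 1) (ho : ¬ ∃ l ∈ s.L, s.Ac u l 1) :
    ∃ h ∈ s.L, ∃ p ∈ s.L, ∃ q ∈ s.L, p * u = u * p ∧ q * u = u * q ∧ h * u * h⁻¹ * u⁻¹ = p * q * p⁻¹ * q⁻¹ ∧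
      p * q * p⁻¹ * q⁻¹ * (p * q * p⁻¹ * q⁻¹) = 1 ∧ p * q * p⁻¹ * q⁻¹ ≠ 1 := by
  have : Fact (Nat.Prime 2) := ⟨Nat.prime_two⟩
  have hp : IsPGroup 2 (zpowers u) := fun ⟨_, k, rfl⟩ => ⟨1, Subtype.ext (by
    change (u ^ k) ^ 2 ^ 1 = 1
    rw [pow_one, ← zpow_natCast, ← zpow_mul, mul_comm, zpow_mul, zpow_natCast, pow_two, u2, one_zpow])⟩
  obtain ⟨T, h1, hT⟩ := Syl.exists_ge hp ((zpowers_le).2 hu)
  have hS := hT.inf le_normalizer hT.le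
  obtain ⟨g, hg, h2⟩ := s.sylU.conj_le hS.pg hS.le
  have h3 : s.U = cj(g, T ⊓ s.L) := (hS.cj_mem hg).eq_of_le s.sylU.pg h2 s.U_le
  have huT : u ∈ 𝐍[T ⊓ s.L] := cj_eq_iff.1 (by rw [cj_inf, cj_of_mem (h1 (mem_zpowers u)), cj_of_norm hu])
  have hU : g * u * g⁻¹ ∈ 𝐍[s.U] := by rw [h3, ← cj_norm]; exact conj_mem_cj huT
  have hN : g * u * g⁻¹ ∈ 𝐍[s.L] := mul_mem (mul_mem (le_normalizer hg) hu) (inv_mem (le_normalizer hg))
  have v2 : g * u * g⁻¹ * (g * u * g⁻¹) = 1 := by rw [conj_mul, u2]; group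
  obtain ⟨l, hl, σ, h⟩ := s.act hN
  have hσ : σ ≠ 1 := by
    rintro rfl
    refine ho ⟨g⁻¹ * l * g, mul_mem (mul_mem (inv_mem hg) hl) hg, Ac.of_inner fun a ha => ?_⟩
    have := h.inner _ (mul_mem (mul_mem hg ha) (inv_mem hg))
    calc _ = g⁻¹ * (g * u * g⁻¹ * (g * a * g⁻¹) * (g * u * g⁻¹)⁻¹) * g := by group
      _ = _ := by rw [this]; group
  obtain ⟨π, hπ⟩ := exists_swap (h.sq hl (n := 1) (by rw [pow_one, pow_two, v2])) hσ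
  have hw := (Gam.core (s.tw π) ((s.tw_eq π).2.2.2.2.2.2.1.symm ▸ h.memU hl hU) (hπ ▸ h.tw π) v2).conj (inv_mem hg)
  rw [show g⁻¹ * (g * u * g⁻¹) * g⁻¹⁻¹ = u by group] at hw
  exact hw

end Fr

end Cfsg.Agent.Tri8
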