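import Mathlib
import Cfsg.Agent.Tri8.Act
import Cfsg.Agent.Tri8.Inv
import Cfsg.Agent.Tri8.Cnt

/-! Four does not divide the order of `C(L^g) ∩ N(L)`. -/

set_option autoImplicit false
set_option linter.unusedSectionVars false
set_option maxRecDepth 100000
set_option synthInstance.maxSize 100000
set_option synthInstance.maxHeartbeats 1000000

namespace Cfsg.Agent.Tri8

open Cfsg Cfsg.Agent.Rec Cfsg.Agent.Spor Cfsg.Agent.Loc.Mss Subgroup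
open scoped commutatorElement

variable {G : Type*} [Group G] [Finite G]

namespace LemA

theorem perm_a : ∀ σ τ : Equiv.Perm (Fin 3), σ * σ = 1 → τ * τ = 1 → σ * τ * (σ * τ) = 1 →
    σ = 1 ∨ τ = 1 ∨ σ * τ = 1 := by decide

theorem perm_b : ∀ σ : Equiv.Perm (Fin 3), σ ≠ 1 → ∃ i, σ i ≠ i := by decide

theorem perm_c : ∀ σ : Equiv.Perm (Fin 3), σ ≠ 1 → σ 0 = 0 → σ = Equiv.swap 1 2 := by decide

theorem perm_d : ∀ σ : Equiv.Perm (Fin 3), σ ≠ 1 → σ * σ = 1 →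
    (σ 0 = 1 ∧ σ 2 = 2) ∨ (σ 1 = 1 ∧ σ 2 = 0) ∨ (σ 0 = 0 ∧ σ 2 = 1) := by decide

theorem perm_e : Equiv.swap (1 : Fin 3) 2 * Equiv.swap 1 2 = 1 ∧ Equiv.swap (1 : Fin 3) 2 ≠ 1 ∧
    Equiv.swap (1 : Fin 3) 2 0 = 0 ∧ Equiv.swap (1 : Fin 3) 2 1 = 2 ∧ Equiv.swap (1 : Fin 3) 2 2 = 1 := by decide

theorem mem_zp {a x : G} (h : a * a = 1) : x ∈ zpowers a ↔ x = 1 ∨ x = a := by
  refine ⟨fun hx => ?_, fun hx => hx.elim (· ▸ one_mem _) (· ▸ mem_zpowers a)⟩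
  obtain ⟨k, rfl⟩ := mem_zpowers_iff.1 hx
  have e : a ^ (2 : ℤ) = 1 := by rw [zpow_two, h]
  rcases Int.even_or_odd' k with ⟨j, rfl | rfl⟩
  · exact .inl (by rw [zpow_mul, e, one_zpow])
  · exact .inr (by rw [zpow_add, zpow_mul, e, one_zpow, one_mul, zpow_one])

/-- `g` acts on `L` as `l`. -/
def In (L : Subgroup G) (g l : G) : Prop := ∀ a ∈ L, g * a * g⁻¹ = l * a * l⁻¹

theorem In.mul {L : Subgroup G} {g l g' l' : G} (h : In L g l) (h' : In L g' l') (hl : l' ∈ L) :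
    In L (g * g') (l * l') := fun a ha => by
  rw [show g * g' * a * (g * g')⁻¹ = g * (g' * a * g'⁻¹) * g⁻¹ by group, h' a ha,
    h _ (mul_mem (mul_mem hl ha) (inv_mem hl))]
  group

theorem In.inv {L : Subgroup G} {g l : G} (h : In L g l) (hl : l ∈ L) : In L g⁻¹ l⁻¹ := fun a ha => by
  have := h _ (mul_mem (mul_mem (inv_mem hl) ha) hl)
  rw [show l * (l⁻¹ * a * l) * l⁻¹ = a by group] at this
  conv_lhs => rw [← this]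
  group

theorem In.conj {L : Subgroup G} {g l c : G} (h : In L g l) (hc : c ∈ 𝐍[L]) :
    In L (c * g * c⁻¹) (c * l * c⁻¹) := fun a ha => by
  rw [show c * g * c⁻¹ * a * (c * g * c⁻¹)⁻¹ = c * (g * (c⁻¹ * a * c) * g⁻¹) * c⁻¹ by group,
    h _ (conj_mem_of_norm' hc ha)]
  group

theorem In.comm {L : Subgroup G} {g : G} (h : In L g 1) : ∀ a ∈ L, g * a = a * g := fun a ha =>
  mul_inv_eq_iff_eq_mul.1 (by rw [h a ha]; group)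

/-- The elements of `U` that are induced by elements of `R`. -/
def X0 (L U R : Subgroup G) : Subgroup G where
  carrier := {b | b ∈ U ∧ b ∈ L ∧ ∃ r ∈ R, In L r b}
  one_mem' := ⟨one_mem _, one_mem _, 1, one_mem _, fun _ _ => rfl⟩
  mul_mem' := fun ⟨a1, a2, r, hr, h⟩ ⟨b1, b2, r', hr', h'⟩ =>
    ⟨mul_mem a1 b1, mul_mem a2 b2, r * r', mul_mem hr hr', h.mul h' b2⟩
  inv_mem' := fun ⟨a1, a2, r, hr, h⟩ => ⟨inv_mem a1, inv_mem a2, r⁻¹, inv_mem hr, h.inv a2⟩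

/-- The elements of `R` that induce inner automorphisms. -/
def R0 (L R : Subgroup G) : Subgroup G where
  carrier := {r | r ∈ R ∧ ∃ b ∈ L, In L r b}
  one_mem' := ⟨one_mem _, 1, one_mem _, fun _ _ => rfl⟩
  mul_mem' := fun ⟨a1, r, hr, h⟩ ⟨b1, r', hr', h'⟩ => ⟨mul_mem a1 b1, r * r', mul_mem hr hr', h.mul h' hr'⟩
  inv_mem' := fun ⟨a1, r, hr, h⟩ => ⟨inv_mem a1, r⁻¹, inv_mem hr, h.inv hr⟩

/-- The hypotheses. -/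
structure Hy (L U S R N : Subgroup G) : Prop where
  pg : IsPGroup 2 S
  nL : S ≤ 𝐍[L]
  nU : S ≤ 𝐍[U]
  TU : S ⊓ L ≤ U
  RS : R ≤ S
  nR : S ≤ 𝐍[R]
  fa : ∀ r ∈ R, (∀ l ∈ L, r * l = l * r) → r = 1
  big : ∀ w, ∃ r ∈ R, r ≠ 1 ∧ r ≠ w
  cen : ∀ r ∈ R, r * r = 1 → r ≠ 1 → ∀ l ∈ L, l * r = r * l → l ∈ N
  max : ∀ P ≤ L, P ≤ N → IsPGroup 2 P → Nat.card P ≤ Nat.card (S ⊓ L : Subgroup G)
  nle : ¬ L ≤ N

/-- A central involution of `S` in `R` and the element it induces. -/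
structure Ct (L U S R : Subgroup G) (w a : G) : Prop where
  mem : w ∈ R
  aU : a ∈ U
  aL : a ∈ L
  act : In L w a
  sq : a * a = 1
  ne : a ≠ 1
  cen : ∀ g ∈ S ⊓ L, g * a = a * g

variable {s : Fr G} {S R N : Subgroup G} {w a : G}

theorem Ct.memX (c : Ct s.L s.U S R w a) : a ∈ X0 s.L s.U R := ⟨c.aU, c.aL, w, c.mem, c.act⟩

namespace Hy

variable (h : Hy s.L s.U S R N)
include h

theorem cenX {b : G} (hb : b ∈ X0 s.L s.U R) (b2 : b * b = 1) (b1 : b ≠ 1) {l : G} (hl : l ∈ s.L)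
    (e : l * b = b * l) : l ∈ N := by
  obtain ⟨-, bL, r, hr, k⟩ := hb
  refine h.cen r hr (h.fa _ (mul_mem hr hr) (b2 ▸ k.mul k bL : In s.L (r * r) 1).comm) (fun r1 => b1 ?_) l hl ?_
  · refine s.cenL bL fun x hx => mul_inv_eq_iff_eq_mul.1 ?_
    rw [← k x hx, r1]; group
  · refine (mul_inv_eq_iff_eq_mul.1 ?_).symm
    rw [k l hl, ← e]; group

theorem commX {u r : G} (hu : u ∈ S ⊓ s.L) (hr : r ∈ R) : r * u * r⁻¹ * u⁻¹ ∈ X0 s.L s.U R := by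
  have h1 : r * u * r⁻¹ * u⁻¹ ∈ R := by
    rw [mul_assoc, mul_assoc, ← mul_assoc u]
    exact mul_mem hr (conj_mem_of_norm (h.nR hu.1) (inv_mem hr))
  have h2 : r * u * r⁻¹ * u⁻¹ ∈ s.L := mul_mem (conj_mem_of_norm (h.nL (h.RS hr)) hu.2) (inv_mem hu.2)
  exact ⟨h.TU ⟨h.RS h1, h2⟩, h2, _, h1, fun _ _ => rfl⟩

theorem normX : S ⊓ s.L ≤ 𝐍[X0 s.L s.U R] := norm_of_forall_cj_le fun _ hu => cj_le_iff.2
  fun _ ⟨b1, b2, _, hr, k⟩ => ⟨conj_mem_of_norm (h.nU hu.1) b1, conj_mem_of_norm (h.nL hu.1) b2, _,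
    conj_mem_of_norm (h.nR hu.1) hr, k.conj (h.nL hu.1)⟩

theorem ac {r : G} (hr : r ∈ S) : ∃ l ∈ s.U, ∃ σ, σ * σ = 1 ∧ s.Ac r l σ := by
  obtain ⟨l, hl, σ, k⟩ := s.act (h.nL hr)
  obtain ⟨n, hn⟩ := pg_iff.1 h.pg r hr
  exact ⟨l, k.memU hl (h.nU hr), σ, k.sq hl hn, k⟩

theorem R0_ne : R0 s.L R ≠ ⊥ := fun e => by
  obtain ⟨r, hr, r1, -⟩ := h.big 1
  obtain ⟨r', hr', r1', r2⟩ := h.big r⁻¹
  obtain ⟨l, hl, σ, s1, k⟩ := h.ac (h.RS hr)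
  obtain ⟨l', hl', τ, s2, k'⟩ := h.ac (h.RS hr')
  have hl'' : r * l' * r⁻¹ * l ∈ s.L :=
    mul_mem (conj_mem_of_norm (h.nL (h.RS hr)) (s.U_le hl')) (s.U_le hl)
  obtain ⟨n, hn⟩ := pg_iff.1 h.pg _ (h.RS (mul_mem hr hr'))
  have key : ∀ x ∈ R, ∀ b ∈ s.L, s.Ac x b 1 → x = 1 := fun x hx b hb k =>
    mem_bot.1 (e ▸ (⟨hx, b, hb, k.inner⟩ : x ∈ R0 s.L R))
  rcases perm_a σ τ s1 s2 ((k.mul k').sq hl'' hn) with e1 | e1 | e1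
  · exact r1 (key r hr l (s.U_le hl) (e1 ▸ k))
  · exact r1' (key r' hr' l' (s.U_le hl') (e1 ▸ k'))
  · exact r2 (eq_inv_of_mul_eq_one_right (key _ (mul_mem hr hr') _ hl'' (e1 ▸ k.mul k')))

theorem exists_ct : ∃ w a, Ct s.L s.U S R w a := by
  have : Fact (Nat.Prime 2) := ⟨Nat.prime_two⟩
  obtain ⟨w, ⟨hw, a, ha, k⟩, w1, w2, -, wc⟩ := GT.PG.exists_step (p := 2) (N := ⊥) (M := R0 s.L R) (H := S)
    (h.pg.to_le fun _ hx => h.RS hx.1) h.pg (norm_of_forall_cj_le fun _ hu => cj_le_iff.2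
      fun _ ⟨hr, _, hb, k⟩ => ⟨conj_mem_of_norm (h.nR hu) hr, _, conj_mem_of_norm (h.nL hu) hb,
        k.conj (h.nL hu)⟩) (norm_normal _ _) (bot_lt_iff_ne_bot.2 h.R0_ne)
  rw [mem_bot] at w1 w2
  rw [pow_two] at w2
  refine ⟨w, a, hw, (Fr.Ac.of_inner k).memU ha (h.nU (h.RS hw)), ha, k,
    s.cenL (mul_mem ha ha) fun x hx => mul_inv_eq_iff_eq_mul.1 ?_, fun e => w1 (h.fa w hw (e ▸ k : In s.L w 1).comm),
    fun g hg => (mul_inv_eq_iff_eq_mul.1 ?_).symm⟩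
  · rw [← k.mul k ha x hx, w2]; group
  · rw [← k g hg.2, commutatorElement_eq_one_iff_mul_comm.1 (mem_bot.1 (wc g hg.1)), mul_inv_cancel_right]

/-- Either a second element of `X0`, or an outer element of `R`. -/
theorem step (c : Ct s.L s.U S R w a) :
    (∃ b ∈ X0 s.L s.U R, b ≠ 1 ∧ b ≠ a ∧ ∀ g ∈ S ⊓ s.L, ⁅b, g⁆ = 1 ∨ ⁅b, g⁆ = a) ∨
    ∃ o ∈ R, ∃ l ∈ s.U, ∃ σ, σ ≠ 1 ∧ σ * σ = 1 ∧ s.Ac o l σ ∧
      ∀ u ∈ S ⊓ s.L, o * u * o⁻¹ * u⁻¹ = 1 ∨ o * u * o⁻¹ * u⁻¹ = a := by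
  have : Fact (Nat.Prime 2) := ⟨Nat.prime_two⟩
  by_cases hx : X0 s.L s.U R ≤ zpowers a
  · right
    obtain ⟨o, ho, o1, ow⟩ := h.big w
    obtain ⟨l, hl, σ, s1, k⟩ := h.ac (h.RS ho)
    refine ⟨o, ho, l, hl, σ, fun e => ?_, s1, k, fun u hu => (mem_zp c.sq).1 (hx (h.commX hu ho))⟩
    subst e
    rcases (mem_zp c.sq).1 (hx ⟨hl, s.U_le hl, o, ho, k.inner⟩) with rfl | rfl
    · exact o1 (h.fa o ho (In.comm k.inner))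
    · refine ow (inv_mul_eq_one.1 (h.fa _ (mul_mem (inv_mem c.mem) ho) (In.comm ?_))).symm
      have := (c.act.inv c.aL).mul k.inner c.aL
      rwa [inv_mul_cancel] at this
  · left
    obtain ⟨b, hb, ba, -, -, k⟩ := GT.PG.exists_step (p := 2) (N := zpowers a) (M := X0 s.L s.U R)
      (H := S ⊓ s.L) (s.sylU.pg.to_le fun _ hx => hx.1) h.pg.to_inf_left h.normX
      (norm_of_cent (cent_comm (zpowers_le.2 (mem_cent.2 c.cen))))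
      (lt_of_le_of_ne (zpowers_le.2 c.memX) fun e => hx e.ge)
    rw [mem_zp c.sq, not_or] at ba
    exact ⟨b, hb, ba.1, ba.2, fun g hg => (mem_zp c.sq).1 (k g hg)⟩

theorem card_le {b : G} (hb : b ∈ X0 s.L s.U R) (b2 : b * b = 1) (b1 : b ≠ 1) {P : Subgroup G} (hP : P ≤ s.L)
    (h2 : IsPGroup 2 P) (hc : ∀ g ∈ P, g * b = b * g) : Nat.card P ≤ Nat.card (S ⊓ s.L : Subgroup G) :=
  h.max P hP (fun g hg => h.cenX hb b2 b1 (hP hg) (hc g hg)) h2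

theorem not_gen (k : ∀ g ∈ s.gL, g ∈ N) : False := h.nle (s.L_eq ▸ clos_le.2 k)

/-- Case I. -/
theorem notKA (c : Ct s.L s.U S R w a) {b : G} (hb : b ∈ X0 s.L s.U R) : b ∉ s.KA := fun hk => by
  have k0 : (s.z * s.z = 1 ∧ s.z ≠ 1 ∧ s.y * s.y = 1 ∧ s.y ≠ 1 ∧ s.z ∈ s.Q) ∧
      (∀ u ∈ s.U, u * s.z = s.z * u) ∧ (s.x1 ∈ s.U ∧ s.x3 ∈ s.U ∧ s.x4 ∈ s.U ∧ s.x2 ∈ s.U) ∧
      (∀ a ∈ s.U, s.x1 * a = a * s.x1 → s.x3 * a = a * s.x3 → s.x4 * a = a * s.x4 → s.x2 * a = a * s.x2 →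
        a = 1 ∨ a = s.z) ∧
      (∀ b ∈ s.U, (⁅b, s.x1⁆ = 1 ∨ ⁅b, s.x1⁆ = s.z) → (⁅b, s.x3⁆ = 1 ∨ ⁅b, s.x3⁆ = s.z) →
        (⁅b, s.x4⁆ = 1 ∨ ⁅b, s.x4⁆ = s.z) → (⁅b, s.x2⁆ = 1 ∨ ⁅b, s.x2⁆ = s.z) → b ≠ 1 → b ≠ s.z →
        b = s.y ∨ b * s.z = s.y) ∧
      s.m1 * s.z = s.z * s.m1 ∧ s.m3 * s.z = s.z * s.m3 ∧ s.m4 * s.z = s.z * s.m4 ∧ s.m2 * s.y = s.y * s.m2 :=
    s.hL.decide s.rp (by decide +kernel)
  obtain ⟨⟨z2, z1, y2, y1, zQ⟩, zc, ⟨u1, u3, u4, u2⟩, k1, k2, c1, c3, c4, c2⟩ := k0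
  obtain ⟨l, hl, rfl⟩ := s.KA_iff.1 hk
  have hc := h.card_le hb (conj_sq z2) (fun e => z1 (conj_eq_one.1 e)) (cj_le_of_mem s.U_le hl)
    (pg_cj s.sylU.pg l) fun g hg => by
      have := zc _ (mem_cj.1 hg)
      rw [show g * (l * s.z * l⁻¹) = l * (l⁻¹ * g * l * s.z) * l⁻¹ by group, this]; group
  rw [card_cj] at hc
  have hT : S ⊓ s.L = s.U := eq_of_le_of_card_ge h.TU hc
  have hU : ∀ {u}, u ∈ s.U → u ∈ S ⊓ s.L := fun hu => hT ▸ hu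
  obtain rfl : a = s.z := (k1 a c.aU (c.cen _ (hU u1)) (c.cen _ (hU u3)) (c.cen _ (hU u4))
    (c.cen _ (hU u2))).resolve_left c.ne
  rcases h.step c with ⟨b, hb, b1, b2, k⟩ | ⟨o, -, l, hl, σ, s1, -, k, k'⟩
  · have hy : s.y ∈ X0 s.L s.U R := (k2 b hb.1 (k _ (hU u1)) (k _ (hU u3)) (k _ (hU u4)) (k _ (hU u2))
      b1 b2).elim (· ▸ hb) (· ▸ mul_mem hb c.memX)
    have m := s.mem_L
    simp only [List.forall_mem_cons] at m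
    obtain ⟨l1, l2, l3, l4, l5, l6, -, -, -, -, -, -, l7, l8, -⟩ := m
    have f := fun {g} (hg : g ∈ s.L) => h.cenX c.memX z2 z1 hg
    refine h.not_gen ?_
    simp only [List.forall_mem_cons, List.not_mem_nil, false_imp_iff, implies_true, and_true]
    exact ⟨f l1 (zc _ u1), f l2 (zc _ u3), f l3 (zc _ u4), f l4 c1, f l5 c3, f l6 c4, f l7 (zc _ u2),
      h.cenX hy y2 y1 l8 c2⟩
  · obtain ⟨i, hi⟩ := perm_b σ s1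
    refine (k.notQ hl hi).2 ?_
    rcases k' _ (hU (s.les.2.2.2.2.2.2.1 (s.les.2.2.2.2.2.2.2.1 (s.mems.1 i)))) with e | e <;> rw [e]
    · exact one_mem _
    · exact zQ

/-- Case II with `a = h1 h3 h4`. -/
theorem not_eta (c : Ct s.L s.U S R w (s.h1 * s.h3 * s.h4)) (hz : s.z ∉ X0 s.L s.U R) : False := by
  have k0 : (∀ u ∈ s.Ce, u ∈ s.U ∧ u * (s.h1 * s.h3 * s.h4) = s.h1 * s.h3 * s.h4 * u) ∧
      (∀ u ∈ s.U, u * (s.h1 * s.h3 * s.h4) = s.h1 * s.h3 * s.h4 * u → u ∈ s.Ce) ∧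
      (s.x2 ∈ s.Ce ∧ s.h1 ∈ s.Ce ∧ s.h3 ∈ s.Ce ∧ s.h4 ∈ s.Ce ∧ s.x3 * s.x4 ∈ s.Ce ∧ s.x1 * s.x4 ∈ s.Ce) ∧
      (∀ b ∈ s.U, (⁅b, s.x2⁆ = 1 ∨ ⁅b, s.x2⁆ = s.h1 * s.h3 * s.h4) →
        (⁅b, s.h1⁆ = 1 ∨ ⁅b, s.h1⁆ = s.h1 * s.h3 * s.h4) → (⁅b, s.h3⁆ = 1 ∨ ⁅b, s.h3⁆ = s.h1 * s.h3 * s.h4) →
        (⁅b, s.h4⁆ = 1 ∨ ⁅b, s.h4⁆ = s.h1 * s.h3 * s.h4) →
        (⁅b, s.x3 * s.x4⁆ = 1 ∨ ⁅b, s.x3 * s.x4⁆ = s.h1 * s.h3 * s.h4) →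
        (⁅b, s.x1 * s.x4⁆ = 1 ∨ ⁅b, s.x1 * s.x4⁆ = s.h1 * s.h3 * s.h4) → b ≠ 1 → b ≠ s.h1 * s.h3 * s.h4 →
        b = s.z ∨ s.h1 * s.h3 * s.h4 * b = s.z) ∧ s.h1 * s.h3 * s.h4 ∈ s.Q ∧
      ∀ l ∈ s.U, l * s.x3 * l⁻¹ * (l * s.x4 * l⁻¹) * (s.x1 * s.x4)⁻¹ ∉ s.Q ∧
        l * s.x3 * l⁻¹ * (l * s.x1 * l⁻¹) * (s.x3 * s.x4)⁻¹ ∉ s.Q ∧
        l * s.x1 * l⁻¹ * (l * s.x3 * l⁻¹) * (s.x1 * s.x4)⁻¹ ∉ s.Q := s.hL.decide s.rp (by decide +kernel)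
  obtain ⟨k1, k2, ⟨m1, m2, m3, m4, m5, m6⟩, k3, eQ, k4⟩ := k0
  have hc := h.card_le c.memX c.sq c.ne (P := s.Ce) (fun u hu => s.U_le (k1 u hu).1)
    (s.sylU.pg.to_le fun u hu => (k1 u hu).1) fun u hu => (k1 u hu).2
  have hT : S ⊓ s.L = s.Ce := eq_of_le_of_card_ge (fun u hu => k2 u (h.TU hu) (c.cen u hu)) hc
  have hU : ∀ {u}, u ∈ s.Ce → u ∈ S ⊓ s.L := fun hu => hT ▸ hu
  rcases h.step c with ⟨b, hb, b1, b2, k⟩ | ⟨o, -, l, hl, σ, s1, s2, k, k'⟩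
  · exact hz ((k3 b hb.1 (k _ (hU m1)) (k _ (hU m2)) (k _ (hU m3)) (k _ (hU m4)) (k _ (hU m5)) (k _ (hU m6))
      b1 b2).elim (· ▸ hb) (· ▸ mul_mem c.memX hb))
  · have hQ : ∀ i j, s.x i * s.x j ∈ s.Ce →
        l * s.x (σ i) * l⁻¹ * (l * s.x (σ j) * l⁻¹) * (s.x i * s.x j)⁻¹ ∈ s.Q := fun i j hu => by
      rw [← k.x, ← k.x, conj_mul]
      rcases k' _ (hU hu) with e | e <;> rw [e]
      · exact one_mem _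
      · exact eQ
    rcases perm_d σ s1 s2 with ⟨e1, e2⟩ | ⟨e1, e2⟩ | ⟨e1, e2⟩
    · have := hQ 0 2 m6
      rw [e1, e2] at this
      exact (k4 l hl).1 this
    · have := hQ 1 2 m5
      rw [e1, e2] at this
      exact (k4 l hl).2.1 this
    · have := hQ 0 2 m6
      rw [e1, e2] at this
      exact (k4 l hl).2.2 this

theorem m1_mem {o l : G} (ho : o ∈ R) (k : s.Ac o l (Equiv.swap 1 2)) (hl : l = 1 ∨ l = s.z) : s.m1 ∈ N := by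
  have k0 : s.z * s.z = 1 ∧ s.z * s.m1 * s.z⁻¹ = s.m1 ∧ s.z ∈ s.U := s.hL.decide s.rp (by decide +kernel)
  obtain ⟨e1, e2, e3, -, -⟩ := perm_e
  have lL : l ∈ s.L := hl.elim (· ▸ one_mem _) (· ▸ s.U_le k0.2.2)
  have k2 := k.mul k
  have k3 : o * l * o⁻¹ * l = 1 := by
    rcases hl with rfl | rfl
    · group
    · rw [k.z, mul_inv_cancel_right, k0.1]
  rw [e1, k3] at k2
  have k4 := k.m 0
  rw [e3] at k4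
  refine h.cen o ho (h.fa _ (mul_mem ho ho) (In.comm k2.inner)) (fun e => e2 ?_) _ (s.mem_L _ (by simp))
    (mul_inv_eq_iff_eq_mul.1 (k4.trans ?_)).symm
  · subst e
    exact (k.uniq (Fr.Ac.self s 1) lL (one_mem _)).1
  · rcases hl with rfl | rfl
    · rw [one_mul, inv_one, mul_one]; rfl
    · exact k0.2.1

/-- Case II with `a = h3 h4`. -/
theorem not_c1 (c : Ct s.L s.U S R w (s.h3 * s.h4)) (hz : s.z ∉ X0 s.L s.U R) : False := by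
  have k0 : (∀ u ∈ s.Cc, u ∈ s.U ∧ u * (s.h3 * s.h4) = s.h3 * s.h4 * u) ∧
      (∀ u ∈ s.U, u * (s.h3 * s.h4) = s.h3 * s.h4 * u → u ∈ s.Cc) ∧
      (s.x1 ∈ s.Cc ∧ s.x2 ∈ s.Cc ∧ s.k1 ∈ s.Cc ∧ s.h1 ∈ s.Cc ∧ s.h3 ∈ s.Cc ∧ s.x3 * s.x4 ∈ s.Cc) ∧
      (∀ b ∈ s.U, (⁅b, s.x1⁆ = 1 ∨ ⁅b, s.x1⁆ = s.h3 * s.h4) → (⁅b, s.x2⁆ = 1 ∨ ⁅b, s.x2⁆ = s.h3 * s.h4) →
        (⁅b, s.k1⁆ = 1 ∨ ⁅b, s.k1⁆ = s.h3 * s.h4) → (⁅b, s.h1⁆ = 1 ∨ ⁅b, s.h1⁆ = s.h3 * s.h4) →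
        (⁅b, s.h3⁆ = 1 ∨ ⁅b, s.h3⁆ = s.h3 * s.h4) →
        (⁅b, s.x3 * s.x4⁆ = 1 ∨ ⁅b, s.x3 * s.x4⁆ = s.h3 * s.h4) → b ≠ 1 → b ≠ s.h3 * s.h4 →
        b = s.z ∨ s.h3 * s.h4 * b = s.z) ∧ s.h3 * s.h4 ∈ s.Q ∧
      (∀ l ∈ s.U, (l * s.x1 * l⁻¹ * s.x1⁻¹ = 1 ∨ l * s.x1 * l⁻¹ * s.x1⁻¹ = s.h3 * s.h4) →
        (l * s.x2 * l⁻¹ * s.x2⁻¹ = 1 ∨ l * s.x2 * l⁻¹ * s.x2⁻¹ = s.h3 * s.h4) →
        (l * s.k1 * l⁻¹ * s.k1⁻¹ = 1 ∨ l * s.k1 * l⁻¹ * s.k1⁻¹ = s.h3 * s.h4) →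
        (l * s.h1 * l⁻¹ * s.h1⁻¹ = 1 ∨ l * s.h1 * l⁻¹ * s.h1⁻¹ = s.h3 * s.h4) →
        (l * s.h4 * l⁻¹ * s.h3⁻¹ = 1 ∨ l * s.h4 * l⁻¹ * s.h3⁻¹ = s.h3 * s.h4) →
        (l * s.x4 * l⁻¹ * (l * s.x3 * l⁻¹) * (s.x3 * s.x4)⁻¹ = 1 ∨
          l * s.x4 * l⁻¹ * (l * s.x3 * l⁻¹) * (s.x3 * s.x4)⁻¹ = s.h3 * s.h4) →
        (l = 1 ∨ l = s.z) ∨ s.h3 * s.h4 * l = 1 ∨ s.h3 * s.h4 * l = s.z) ∧
      (s.m2 * (s.h3 * s.h4) = s.h3 * s.h4 * s.m2 ∧ s.m3 * s.m4 * (s.h3 * s.h4) = s.h3 * s.h4 * (s.m3 * s.m4)) ∧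
      s.x1 * s.m1 * s.x1 * s.h3 * (s.x1 * s.m1 * s.x1)⁻¹ = s.k4 ∧
      s.x2 * s.m2 * s.x2 * s.k4 * (s.x2 * s.m2 * s.x2)⁻¹ = s.x4 ∧ s.x3 * s.x4 * s.x4 = s.x3 ∧
      s.x3 * s.x4 * (s.m3 * s.m4) * (s.x3 * s.x4) * s.x4 * (s.x3 * s.x4 * (s.m3 * s.m4) * (s.x3 * s.x4))⁻¹ = s.m4 ∧
      s.m3 * s.m4 * s.m4 = s.m3 := s.hL.decide s.rp (by decide +kernel)
  obtain ⟨k1, k2, ⟨m1, m2, m3, m4, m5, m6⟩, k3, eQ, k4, ⟨c1, c2⟩, w1, w2, w3, w4, w5⟩ := k0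
  have hN : s.Cc ≤ N := fun u hu => h.cenX c.memX c.sq c.ne (s.U_le (k1 u hu).1) (k1 u hu).2
  have hc := h.max s.Cc (fun u hu => s.U_le (k1 u hu).1) hN (s.sylU.pg.to_le fun u hu => (k1 u hu).1)
  have hT : S ⊓ s.L = s.Cc := eq_of_le_of_card_ge (fun u hu => k2 u (h.TU hu) (c.cen u hu)) hc
  have hU : ∀ {u}, u ∈ s.Cc → u ∈ S ⊓ s.L := fun hu => hT ▸ hu
  rcases h.step c with ⟨b, hb, b1, b2, k⟩ | ⟨o, ho, l, hl, σ, s1, -, k, k'⟩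
  · exact hz ((k3 b hb.1 (k _ (hU m1)) (k _ (hU m2)) (k _ (hU m3)) (k _ (hU m4)) (k _ (hU m5)) (k _ (hU m6))
      b1 b2).elim (· ▸ hb) (· ▸ mul_mem c.memX hb))
  obtain rfl : σ = Equiv.swap 1 2 := perm_c σ s1 (by_contra fun hi => (k.notQ hl hi).2 (by
    rcases k' (s.x 0) (hU m1) with e | e <;> rw [e]
    · exact one_mem _
    · exact eQ))
  obtain ⟨-, -, e3, e4, e5⟩ := perm_e
  have a1 : o * s.x1 * o⁻¹ = l * s.x1 * l⁻¹ := by have := k.x 0; rwa [e3] at this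
  have a2 : o * s.k1 * o⁻¹ = l * s.k1 * l⁻¹ := by have := k.k 0; rwa [e3] at this
  have a3 : o * s.h1 * o⁻¹ = l * s.h1 * l⁻¹ := by have := k.h 0; rwa [e3] at this
  have a4 : o * s.h3 * o⁻¹ = l * s.h4 * l⁻¹ := by have := k.h 1; rwa [e4] at this
  have a5 : o * s.x3 * o⁻¹ = l * s.x4 * l⁻¹ := by have := k.x 1; rwa [e4] at this
  have a6 : o * s.x4 * o⁻¹ = l * s.x3 * l⁻¹ := by have := k.x 2; rwa [e5] at this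
  have hm : s.m1 ∈ N := by
    rcases k4 l hl (a1 ▸ k' _ (hU m1)) (k.x2 ▸ k' _ (hU m2)) (a2 ▸ k' _ (hU m3)) (a3 ▸ k' _ (hU m4))
      (a4 ▸ k' _ (hU m5)) (by rw [← a5, ← a6, conj_mul]; exact k' _ (hU m6)) with e | e
    · exact h.m1_mem ho k e
    · have k5 := (Fr.Ac.of_inner c.act).mul k
      rw [c.act l (s.U_le hl), inv_mul_cancel_right, one_mul] at k5
      exact h.m1_mem (mul_mem c.mem ho) k5 e
  have m := s.mem_L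
  simp only [List.forall_mem_cons] at m
  obtain ⟨-, -, -, -, l5, l6, -, -, -, -, -, -, -, l8, -⟩ := m
  have n2 : s.m2 ∈ N := h.cenX c.memX c.sq c.ne l8 c1
  have n3 : s.m3 * s.m4 ∈ N := h.cenX c.memX c.sq c.ne (mul_mem l5 l6) c2
  have cj : ∀ {g x : G}, g ∈ N → x ∈ N → g * x * g⁻¹ ∈ N := fun hg hx => mul_mem (mul_mem hg hx) (inv_mem hg)
  have n4 : s.k4 ∈ N := w1 ▸ cj (mul_mem (mul_mem (hN m1) hm) (hN m1)) (hN m5)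
  have n5 : s.x4 ∈ N := w2 ▸ cj (mul_mem (mul_mem (hN m2) n2) (hN m2)) n4
  have n6 : s.m4 ∈ N := w4 ▸ cj (mul_mem (mul_mem (hN m6) n3) (hN m6)) n5
  refine h.not_gen ?_
  simp only [List.forall_mem_cons, List.not_mem_nil, false_imp_iff, implies_true, and_true]
  exact ⟨hN m1, w3 ▸ mul_mem (hN m6) n5, n5, hm, w5 ▸ mul_mem n3 n6, n6, hN m2, n2⟩

end Hy

theorem exP (s : Fr G) : (∃ P ≤ s.L, IsPGroup 2 P ∧ Nat.card P = 1024 ∧ ∀ g ∈ P, g * (s.h3 * s.h4) = s.h3 * s.h4 * g) ∧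
    ∃ P ≤ s.L, IsPGroup 2 P ∧ Nat.card P = 1024 ∧ ∀ g ∈ P, g * (s.h1 * s.h3 * s.h4) = s.h1 * s.h3 * s.h4 * g := by
  have k0 : (∀ u ∈ s.Cc, u ∈ s.U ∧ u * (s.h3 * s.h4) = s.h3 * s.h4 * u) ∧
      ∀ u ∈ s.Ce, u ∈ s.U ∧ u * (s.h1 * s.h3 * s.h4) = s.h1 * s.h3 * s.h4 * u := s.hL.decide s.rp (by decide +kernel)
  exact ⟨⟨s.Cc, fun u hu => s.U_le (k0.1 u hu).1, s.sylU.pg.to_le fun u hu => (k0.1 u hu).1, s.gCc.2,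
    fun u hu => (k0.1 u hu).2⟩, s.Ce, fun u hu => s.U_le (k0.2 u hu).1, s.sylU.pg.to_le fun u hu => (k0.2 u hu).1,
    s.gCe.2, fun u hu => (k0.2 u hu).2⟩

/-- The four non-root representatives, in the frame `s`. -/
theorem Hy.not_rep (h : Hy s.L s.U S R N) (c : Ct s.L s.U S R w a) (hz : s.z ∉ X0 s.L s.U R)
    (e : a = s.h3 * s.h4 ∨ a = s.h1 * s.h4 ∨ a = s.h1 * s.h3 ∨ a = s.h1 * s.h3 * s.h4) : False := by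
  have key : ∀ π, a = (s.tw π).h3 * (s.tw π).h4 → False := fun π e => by
    have eU := (s.tw_eq π).2.2.2.2.2.2.1
    refine Hy.not_c1 (s := s.tw π) (S := S) (R := R) (N := N) (w := w) ?_ ?_ ?_
    · rw [eU]; exact h
    · rw [eU, ← e]; exact c
    · rw [eU]; exact hz
  rcases e with rfl | e | e | rfl
  · exact h.not_c1 c hz
  · exact key _ (e.trans s.tw_01.2.2.2.symm)
  · exact key _ (e.trans s.tw_02.2.2.2.symm)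
  · exact h.not_eta c hz

theorem Hy.false (h : Hy s.L s.U S R N) : False := by
  obtain ⟨w, a, c⟩ := h.exists_ct
  have nk := h.notKA c c.memX
  have hc : 1024 ≤ Nat.card (S ⊓ s.L : Subgroup G) := by
    obtain ⟨l, hl, e⟩ := (s.invol c.aL c.sq).resolve_left c.ne
    have key : ∀ v, l * a * l⁻¹ = v → (∃ P ≤ s.L, IsPGroup 2 P ∧ Nat.card P = 1024 ∧ ∀ g ∈ P, g * v = v * g) →
        1024 ≤ Nat.card (S ⊓ s.L : Subgroup G) := fun v e ⟨P, p1, p2, p3, p4⟩ => by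
      have := h.card_le c.memX c.sq c.ne (cj_le_of_mem p1 (inv_mem hl)) (pg_cj p2 _) fun g hg => by
        have := p4 _ (mem_cj.1 hg)
        rw [← e] at this
        rw [show g * a = l⁻¹ * (l⁻¹⁻¹ * g * l⁻¹ * (l * a * l⁻¹)) * l by group, this]; group
      rwa [card_cj, p3] at this
    rcases e with e | e | e | e | e
    · exact absurd (s.KA_iff.2 ⟨l⁻¹, inv_mem hl, by rw [← e]; group⟩) nk
    · exact key _ e (exP s).1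
    · exact key _ e (s.tw_01.2.2.2 ▸ (exP (s.tw (Equiv.swap 0 1))).1)
    · exact key _ e (s.tw_02.2.2.2 ▸ (exP (s.tw (Equiv.swap 0 2))).1)
    · exact key _ e (exP s).2
  have h5 : a ∈ s.H5 := by_contra fun h5 => by
    have h1 := s.cent_small c.aU c.sq h5
    have h2 : Nat.card (S ⊓ s.L : Subgroup G) ≤ Nat.card (s.U ⊓ centralizer {a} : Subgroup G) :=
      card_le_of_le fun g hg => ⟨h.TU hg, mem_cen.2 (c.cen g hg)⟩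
    omega
  have k0 : ∀ a ∈ s.H5, a ≠ 1 → a ∉ s.KA → ∃ u ∈ s.U, u * a * u⁻¹ = s.h3 * s.h4 ∨ u * a * u⁻¹ = s.h1 * s.h4 ∨
      u * a * u⁻¹ = s.h1 * s.h3 ∨ u * a * u⁻¹ = s.h1 * s.h3 * s.h4 := s.hL.decide s.rp (by decide +kernel)
  obtain ⟨u, hu, e⟩ := k0 a h5 c.ne nk
  have eL : (s.cj u⁻¹).L = s.L := cj_of_mem (inv_mem (s.U_le hu))
  have eU : (s.cj u⁻¹).U = s.U := (s.cj_eq u⁻¹).1.trans (cj_of_mem (inv_mem hu))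
  refine Hy.not_rep (s := s.cj u⁻¹) (S := S) (R := R) (N := N) (w := w) (a := a) ?_ ?_ ?_ ?_
  · rw [eL, eU]; exact h
  · rw [eL, eU]; exact c
  · rw [eL, eU]
    exact fun hz => h.notKA c hz (s.KA_iff.2 ⟨u⁻¹, inv_mem (s.U_le hu), rfl⟩)
  · show a = u⁻¹ * s.h3 * u⁻¹⁻¹ * (u⁻¹ * s.h4 * u⁻¹⁻¹) ∨ a = u⁻¹ * s.h1 * u⁻¹⁻¹ * (u⁻¹ * s.h4 * u⁻¹⁻¹) ∨
      a = u⁻¹ * s.h1 * u⁻¹⁻¹ * (u⁻¹ * s.h3 * u⁻¹⁻¹) ∨
      a = u⁻¹ * s.h1 * u⁻¹⁻¹ * (u⁻¹ * s.h3 * u⁻¹⁻¹) * (u⁻¹ * s.h4 * u⁻¹⁻¹)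
    simp only [conj_mul]
    refine e.imp ?_ (Or.imp ?_ (Or.imp ?_ ?_)) <;> intro e <;> rw [← e] <;> group

end LemA

namespace Fr

variable (s : Fr G)

open LemA in
theorem lemA {W : Subgroup G} (h1 : W ≤ 𝐍[s.L]) (h2 : Odd (Nat.card (W ⊓ 𝐂[s.L] : Subgroup G)))
    (h3 : ∀ w ∈ W, w * w = 1 → w ≠ 1 → ∀ l ∈ s.L, l * w = w * l → l ∈ 𝐍[W]) (h4 : ¬ s.L ≤ 𝐍[W]) :
    ¬ 4 ∣ Nat.card W := by
  intro h5
  have : Fact (Nat.Prime 2) := ⟨Nat.prime_two⟩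
  obtain ⟨S, hS⟩ := Syl.exists 2 (𝐍[s.L] ⊓ 𝐍[W])
  have nL : S ≤ 𝐍[s.L] := hS.le.trans inf_le_left
  have nW : S ≤ 𝐍[W] := hS.le.trans inf_le_right
  have hR := hS.inf (M := W) (le_inf h1 le_normalizer) nW
  have hT := hS.inf (M := s.L ⊓ 𝐍[W]) (inf_le_inf_right _ le_normalizer) (norm_inf nL (norm_of_le nW))
  rw [inf_comm s.L, ← inf_assoc, inf_eq_left.2 nW] at hT
  have c4 : 4 ∣ Nat.card (S ⊓ W : Subgroup G) := by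
    have e := Inv.Fz.card_mul_relIndex hR.le
    rw [← e] at h5
    exact (Nat.Coprime.pow_left 2 ((Nat.Prime.coprime_iff_not_dvd Nat.prime_two).2 hR.nd)).dvd_of_dvd_mul_right h5
  obtain ⟨S', h6, hS'⟩ := Syl.exists_ge hS.pg (le_sup_right : S ≤ s.L ⊔ S)
  have nL' : S' ≤ 𝐍[s.L] := hS'.le.trans (sup_le le_normalizer nL)
  obtain ⟨l, hl, e⟩ := s.sylU.conj_eq (hS'.inf le_sup_left nL')
  have eL : (s.cj l).L = s.L := cj_of_mem hl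
  have eU : (s.cj l).U = S' ⊓ s.L := (s.cj_eq l).1.trans e
  refine Hy.false (s := s.cj l) (S := S) (R := S ⊓ W) (N := 𝐍[W]) ?_
  rw [eL, eU]
  refine ⟨hS.pg, nL, norm_inf (norm_of_le h6) nL, inf_le_inf_right _ h6, inf_le_left,
    norm_inf le_normalizer nW, fun r hr k => ?_, fun w => ?_, fun r hr => h3 r hr.2, fun P p1 p2 p3 => ?_, h4⟩
  · obtain ⟨n, hn⟩ := pg_iff.1 hS.pg r hr.1
    exact eq_one_of_odd_of_sq h2 ⟨hr.2, mem_cent.2 fun a ha => (k a ha).symm⟩ hn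
  · by_contra! k
    have h7 := card_le_ncard (F := S ⊓ W) (T := {1, w}) fun x hx => by
      by_cases e1 : x = 1
      · exact .inl e1
      · exact .inr (k x hx e1)
    have h8 := Set.ncard_insert_le (1 : G) {w}
    rw [Set.ncard_singleton] at h8
    have := Nat.le_of_dvd Nat.card_pos c4
    omega
  · obtain ⟨g, -, k⟩ := hT.le_conj p3 (le_inf p2 p1)
    exact (card_le_of_le k).trans (card_cj _ g).le

end Fr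

end Cfsg.Agent.Tri8
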