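import Mathlib
import Cfsg.Agent.Rec.B8
import Cfsg.Agent.Rec.Orb
import Cfsg.Agent.Rec.Misc
import Cfsg.Agent.Rec.Sim

/-! Generated by tools/rec: small subgroups of O8+(2) -/

set_option autoImplicit false
set_option maxRecDepth 100000
set_option linter.unusedVariables false
set_option exponentiation.threshold 100000

namespace Cfsg.Agent.Tri8

open Cfsg.Agent.Spor Cfsg.Agent.Rec

universe u

noncomputable def cX : List ℕ := [(nat_lit 0x8040301008040203), (nat_lit 0xc0402010080c0201), (nat_lit 0x8040201048840201), (nat_lit 0x8040203008040301), (nat_lit 0x80c020100c040201), (nat_lit 0x8448201008040201), (nat_lit 0x8050201008040205), (nat_lit 0xa040201008040a01), (nat_lit 0x8040201028048201), (nat_lit 0x8040201008244201), (nat_lit 0x8040201018040281), (nat_lit 0x9040201008040209), (nat_lit 0x8060201008040601), (nat_lit 0x8040601008060201), (nat_lit 0x8040201008140241), (nat_lit 0x8040201008041221)]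

/-- The code of the reflection interchanging `e4` and `f4`. -/
noncomputable def cG : ℕ := (nat_lit 0x840201080040201)

noncomputable def Z_t : ST :=
(.node (nat_lit 0x8040201008041221) (.leaf (nat_lit 0x8040201008040201) (nat_lit 0))
 (.leaf (nat_lit 0x8040201008041221) (nat_lit 256))
)

theorem Z_ok : genOK B8.A [(nat_lit 0x8040201008041221)] Z_t (nat_lit 2) = true := by decide +kernel

noncomputable def Z2_t : ST :=
(.node (nat_lit 0x8040201008140241) (.node (nat_lit 0x8040201008041221) (.leaf (nat_lit 0x8040201008040201) (nat_lit 0))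
 (.leaf (nat_lit 0x8040201008041221) (nat_lit 257))
) (.node (nat_lit 0x8040201008141261) (.leaf (nat_lit 0x8040201008140241) (nat_lit 256))
 (.leaf (nat_lit 0x8040201008141261) (nat_lit 513))
))

theorem Z2_ok : genOK B8.A [(nat_lit 0x8040201008140241), (nat_lit 0x8040201008041221)] Z2_t (nat_lit 4) = true := by decide +kernel

noncomputable def H5_t : ST :=
(.node (nat_lit 0x9040201008040209) (.node (nat_lit 0x8040201018040281) (.node (nat_lit 0x8040201008244201) (.node (nat_lit 0x8040201008140241) (.node (nat_lit 0x8040201008041221) (.leaf (nat_lit 0x8040201008040201) (nat_lit 0))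
 (.leaf (nat_lit 0x8040201008041221) (nat_lit 260))
) (.node (nat_lit 0x8040201008141261) (.leaf (nat_lit 0x8040201008140241) (nat_lit 259))
 (.leaf (nat_lit 0x8040201008141261) (nat_lit 516))
)) (.node (nat_lit 0x8040201008344241) (.node (nat_lit 0x8040201008245221) (.leaf (nat_lit 0x8040201008244201) (nat_lit 256))
 (.leaf (nat_lit 0x8040201008245221) (nat_lit 516))
) (.node (nat_lit 0x8040201008345261) (.leaf (nat_lit 0x8040201008344241) (nat_lit 515))
 (.leaf (nat_lit 0x8040201008345261) (nat_lit 772))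
))) (.node (nat_lit 0x8040201018244281) (.node (nat_lit 0x80402010181402c1) (.node (nat_lit 0x80402010180412a1) (.leaf (nat_lit 0x8040201018040281) (nat_lit 257))
 (.leaf (nat_lit 0x80402010180412a1) (nat_lit 516))
) (.node (nat_lit 0x80402010181412e1) (.leaf (nat_lit 0x80402010181402c1) (nat_lit 515))
 (.leaf (nat_lit 0x80402010181412e1) (nat_lit 772))
)) (.node (nat_lit 0x80402010183442c1) (.node (nat_lit 0x80402010182452a1) (.leaf (nat_lit 0x8040201018244281) (nat_lit 513))
 (.leaf (nat_lit 0x80402010182452a1) (nat_lit 772))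
) (.node (nat_lit 0x80402010183452e1) (.leaf (nat_lit 0x80402010183442c1) (nat_lit 771))
 (.leaf (nat_lit 0x80402010183452e1) (nat_lit 1028))
)))) (.node (nat_lit 0x9040201018040299) (.node (nat_lit 0x9040201008244209) (.node (nat_lit 0x9040201008140249) (.node (nat_lit 0x9040201008041229) (.leaf (nat_lit 0x9040201008040209) (nat_lit 258))
 (.leaf (nat_lit 0x9040201008041229) (nat_lit 516))
) (.node (nat_lit 0x9040201008141269) (.leaf (nat_lit 0x9040201008140249) (nat_lit 515))
 (.leaf (nat_lit 0x9040201008141269) (nat_lit 772))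
)) (.node (nat_lit 0x9040201008344249) (.node (nat_lit 0x9040201008245229) (.leaf (nat_lit 0x9040201008244209) (nat_lit 514))
 (.leaf (nat_lit 0x9040201008245229) (nat_lit 772))
) (.node (nat_lit 0x9040201008345269) (.leaf (nat_lit 0x9040201008344249) (nat_lit 771))
 (.leaf (nat_lit 0x9040201008345269) (nat_lit 1028))
))) (.node (nat_lit 0x9040201018244299) (.node (nat_lit 0x90402010181402d9) (.node (nat_lit 0x90402010180412b9) (.leaf (nat_lit 0x9040201018040299) (nat_lit 514))
 (.leaf (nat_lit 0x90402010180412b9) (nat_lit 772))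
) (.node (nat_lit 0x90402010181412f9) (.leaf (nat_lit 0x90402010181402d9) (nat_lit 771))
 (.leaf (nat_lit 0x90402010181412f9) (nat_lit 1028))
)) (.node (nat_lit 0x90402010183442d9) (.node (nat_lit 0x90402010182452b9) (.leaf (nat_lit 0x9040201018244299) (nat_lit 770))
 (.leaf (nat_lit 0x90402010182452b9) (nat_lit 1028))
) (.node (nat_lit 0x90402010183452f9) (.leaf (nat_lit 0x90402010183442d9) (nat_lit 1027))
 (.leaf (nat_lit 0x90402010183452f9) (nat_lit 1284))
)))))

theorem H5_ok : genOK B8.A [(nat_lit 0x8040201008244201), (nat_lit 0x8040201018040281), (nat_lit 0x9040201008040209), (nat_lit 0x8040201008140241), (nat_lit 0x8040201008041221)] H5_t (nat_lit 32) = true := by decide +kernel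

noncomputable def Q_t : ST :=
(.node (nat_lit 0xa040201008040a01) (.node (nat_lit 0x9040201008040209) (.node (nat_lit 0x8060201008040601) (.node (nat_lit 0x8050201008040205) (.node (nat_lit 0x8040201028048201) (.node (nat_lit 0x8040201018040281) (.node (nat_lit 0x8040201008244201) (.node (nat_lit 0x8040201008140241) (.node (nat_lit 0x8040201008041221) (.leaf (nat_lit 0x8040201008040201) (nat_lit 0))
 (.leaf (nat_lit 0x8040201008041221) (nat_lit 264))
) (.node (nat_lit 0x8040201008141261) (.leaf (nat_lit 0x8040201008140241) (nat_lit 263))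
 (.leaf (nat_lit 0x8040201008141261) (nat_lit 520))
)) (.node (nat_lit 0x8040201008344241) (.node (nat_lit 0x8040201008245221) (.leaf (nat_lit 0x8040201008244201) (nat_lit 260))
 (.leaf (nat_lit 0x8040201008245221) (nat_lit 520))
) (.node (nat_lit 0x8040201008345261) (.leaf (nat_lit 0x8040201008344241) (nat_lit 519))
 (.leaf (nat_lit 0x8040201008345261) (nat_lit 776))
))) (.node (nat_lit 0x8040201018244281) (.node (nat_lit 0x80402010181402c1) (.node (nat_lit 0x80402010180412a1) (.leaf (nat_lit 0x8040201018040281) (nat_lit 261))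
 (.leaf (nat_lit 0x80402010180412a1) (nat_lit 520))
) (.node (nat_lit 0x80402010181412e1) (.leaf (nat_lit 0x80402010181402c1) (nat_lit 519))
 (.leaf (nat_lit 0x80402010181412e1) (nat_lit 776))
)) (.node (nat_lit 0x80402010183442c1) (.node (nat_lit 0x80402010182452a1) (.leaf (nat_lit 0x8040201018244281) (nat_lit 517))
 (.leaf (nat_lit 0x80402010182452a1) (nat_lit 776))
) (.node (nat_lit 0x80402010183452e1) (.leaf (nat_lit 0x80402010183442c1) (nat_lit 775))
 (.leaf (nat_lit 0x80402010183452e1) (nat_lit 1032))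
)))) (.node (nat_lit 0x8040201038048281) (.node (nat_lit 0x804020102824c201) (.node (nat_lit 0x8040201028148241) (.node (nat_lit 0x8040201028049221) (.leaf (nat_lit 0x8040201028048201) (nat_lit 259))
 (.leaf (nat_lit 0x8040201028049221) (nat_lit 520))
) (.node (nat_lit 0x8040201028149261) (.leaf (nat_lit 0x8040201028148241) (nat_lit 519))
 (.leaf (nat_lit 0x8040201028149261) (nat_lit 776))
)) (.node (nat_lit 0x804020102834c241) (.node (nat_lit 0x804020102824d221) (.leaf (nat_lit 0x804020102824c201) (nat_lit 516))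
 (.leaf (nat_lit 0x804020102824d221) (nat_lit 776))
) (.node (nat_lit 0x804020102834d261) (.leaf (nat_lit 0x804020102834c241) (nat_lit 775))
 (.leaf (nat_lit 0x804020102834d261) (nat_lit 1032))
))) (.node (nat_lit 0x804020103824c281) (.node (nat_lit 0x80402010381482c1) (.node (nat_lit 0x80402010380492a1) (.leaf (nat_lit 0x8040201038048281) (nat_lit 517))
 (.leaf (nat_lit 0x80402010380492a1) (nat_lit 776))
) (.node (nat_lit 0x80402010381492e1) (.leaf (nat_lit 0x80402010381482c1) (nat_lit 775))
 (.leaf (nat_lit 0x80402010381492e1) (nat_lit 1032))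
)) (.node (nat_lit 0x804020103834c2c1) (.node (nat_lit 0x804020103824d2a1) (.leaf (nat_lit 0x804020103824c281) (nat_lit 773))
 (.leaf (nat_lit 0x804020103824d2a1) (nat_lit 1032))
) (.node (nat_lit 0x804020103834d2e1) (.leaf (nat_lit 0x804020103834c2c1) (nat_lit 1031))
 (.leaf (nat_lit 0x804020103834d2e1) (nat_lit 1288))
))))) (.node (nat_lit 0x8050201028048205) (.node (nat_lit 0x8050201018040285) (.node (nat_lit 0x8050201008244225) (.node (nat_lit 0x8050201008140255) (.node (nat_lit 0x8050201008041225) (.leaf (nat_lit 0x8050201008040205) (nat_lit 257))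
 (.leaf (nat_lit 0x8050201008041225) (nat_lit 520))
) (.node (nat_lit 0x8050201008141275) (.leaf (nat_lit 0x8050201008140255) (nat_lit 519))
 (.leaf (nat_lit 0x8050201008141275) (nat_lit 776))
)) (.node (nat_lit 0x8050201008344275) (.node (nat_lit 0x8050201008245205) (.leaf (nat_lit 0x8050201008244225) (nat_lit 513))
 (.leaf (nat_lit 0x8050201008245205) (nat_lit 516))
) (.node (nat_lit 0x8050201008345255) (.leaf (nat_lit 0x8050201008344275) (nat_lit 775))
 (.leaf (nat_lit 0x8050201008345255) (nat_lit 775))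
))) (.node (nat_lit 0x80502010182442a5) (.node (nat_lit 0x80502010181402d5) (.node (nat_lit 0x80502010180412a5) (.leaf (nat_lit 0x8050201018040285) (nat_lit 517))
 (.leaf (nat_lit 0x80502010180412a5) (nat_lit 776))
) (.node (nat_lit 0x80502010181412f5) (.leaf (nat_lit 0x80502010181402d5) (nat_lit 775))
 (.leaf (nat_lit 0x80502010181412f5) (nat_lit 1032))
)) (.node (nat_lit 0x80502010183442f5) (.node (nat_lit 0x8050201018245285) (.leaf (nat_lit 0x80502010182442a5) (nat_lit 773))
 (.leaf (nat_lit 0x8050201018245285) (nat_lit 773))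
) (.node (nat_lit 0x80502010183452d5) (.leaf (nat_lit 0x80502010183442f5) (nat_lit 1031))
 (.leaf (nat_lit 0x80502010183452d5) (nat_lit 1031))
)))) (.node (nat_lit 0x8050201038048285) (.node (nat_lit 0x805020102824c225) (.node (nat_lit 0x8050201028148255) (.node (nat_lit 0x8050201028049225) (.leaf (nat_lit 0x8050201028048205) (nat_lit 515))
 (.leaf (nat_lit 0x8050201028049225) (nat_lit 776))
) (.node (nat_lit 0x8050201028149275) (.leaf (nat_lit 0x8050201028148255) (nat_lit 775))
 (.leaf (nat_lit 0x8050201028149275) (nat_lit 1032))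
)) (.node (nat_lit 0x805020102834c275) (.node (nat_lit 0x805020102824d205) (.leaf (nat_lit 0x805020102824c225) (nat_lit 769))
 (.leaf (nat_lit 0x805020102824d205) (nat_lit 772))
) (.node (nat_lit 0x805020102834d255) (.leaf (nat_lit 0x805020102834c275) (nat_lit 1031))
 (.leaf (nat_lit 0x805020102834d255) (nat_lit 1031))
))) (.node (nat_lit 0x805020103824c2a5) (.node (nat_lit 0x80502010381482d5) (.node (nat_lit 0x80502010380492a5) (.leaf (nat_lit 0x8050201038048285) (nat_lit 773))
 (.leaf (nat_lit 0x80502010380492a5) (nat_lit 1032))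
) (.node (nat_lit 0x80502010381492f5) (.leaf (nat_lit 0x80502010381482d5) (nat_lit 1031))
 (.leaf (nat_lit 0x80502010381492f5) (nat_lit 1288))
)) (.node (nat_lit 0x805020103834c2f5) (.node (nat_lit 0x805020103824d285) (.leaf (nat_lit 0x805020103824c2a5) (nat_lit 1029))
 (.leaf (nat_lit 0x805020103824d285) (nat_lit 1029))
) (.node (nat_lit 0x805020103834d2d5) (.leaf (nat_lit 0x805020103834c2f5) (nat_lit 1287))
 (.leaf (nat_lit 0x805020103834d2d5) (nat_lit 1287))
)))))) (.node (nat_lit 0x8070201008040605) (.node (nat_lit 0x8060201028048601) (.node (nat_lit 0x8060201018040681) (.node (nat_lit 0x8060201008246601) (.node (nat_lit 0x8060201008140661) (.node (nat_lit 0x8060201008041621) (.leaf (nat_lit 0x8060201008040601) (nat_lit 256))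
 (.leaf (nat_lit 0x8060201008041621) (nat_lit 520))
) (.node (nat_lit 0x8060201008141641) (.leaf (nat_lit 0x8060201008140661) (nat_lit 519))
 (.leaf (nat_lit 0x8060201008141641) (nat_lit 512))
)) (.node (nat_lit 0x8060201008346661) (.node (nat_lit 0x8060201008247621) (.leaf (nat_lit 0x8060201008246601) (nat_lit 516))
 (.leaf (nat_lit 0x8060201008247621) (nat_lit 776))
) (.node (nat_lit 0x8060201008347641) (.leaf (nat_lit 0x8060201008346661) (nat_lit 775))
 (.leaf (nat_lit 0x8060201008347641) (nat_lit 768))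
))) (.node (nat_lit 0x8060201018246681) (.node (nat_lit 0x80602010181406e1) (.node (nat_lit 0x80602010180416a1) (.leaf (nat_lit 0x8060201018040681) (nat_lit 517))
 (.leaf (nat_lit 0x80602010180416a1) (nat_lit 776))
) (.node (nat_lit 0x80602010181416c1) (.leaf (nat_lit 0x80602010181406e1) (nat_lit 775))
 (.leaf (nat_lit 0x80602010181416c1) (nat_lit 768))
)) (.node (nat_lit 0x80602010183466e1) (.node (nat_lit 0x80602010182476a1) (.leaf (nat_lit 0x8060201018246681) (nat_lit 773))
 (.leaf (nat_lit 0x80602010182476a1) (nat_lit 1032))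
) (.node (nat_lit 0x80602010183476c1) (.leaf (nat_lit 0x80602010183466e1) (nat_lit 1031))
 (.leaf (nat_lit 0x80602010183476c1) (nat_lit 1024))
)))) (.node (nat_lit 0x8060201038048681) (.node (nat_lit 0x806020102824e601) (.node (nat_lit 0x8060201028148661) (.node (nat_lit 0x8060201028049621) (.leaf (nat_lit 0x8060201028048601) (nat_lit 515))
 (.leaf (nat_lit 0x8060201028049621) (nat_lit 776))
) (.node (nat_lit 0x8060201028149641) (.leaf (nat_lit 0x8060201028148661) (nat_lit 775))
 (.leaf (nat_lit 0x8060201028149641) (nat_lit 768))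
)) (.node (nat_lit 0x806020102834e661) (.node (nat_lit 0x806020102824f621) (.leaf (nat_lit 0x806020102824e601) (nat_lit 772))
 (.leaf (nat_lit 0x806020102824f621) (nat_lit 1032))
) (.node (nat_lit 0x806020102834f641) (.leaf (nat_lit 0x806020102834e661) (nat_lit 1031))
 (.leaf (nat_lit 0x806020102834f641) (nat_lit 1024))
))) (.node (nat_lit 0x806020103824e681) (.node (nat_lit 0x80602010381486e1) (.node (nat_lit 0x80602010380496a1) (.leaf (nat_lit 0x8060201038048681) (nat_lit 773))
 (.leaf (nat_lit 0x80602010380496a1) (nat_lit 1032))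
) (.node (nat_lit 0x80602010381496c1) (.leaf (nat_lit 0x80602010381486e1) (nat_lit 1031))
 (.leaf (nat_lit 0x80602010381496c1) (nat_lit 1024))
)) (.node (nat_lit 0x806020103834e6e1) (.node (nat_lit 0x806020103824f6a1) (.leaf (nat_lit 0x806020103824e681) (nat_lit 1029))
 (.leaf (nat_lit 0x806020103824f6a1) (nat_lit 1288))
) (.node (nat_lit 0x806020103834f6c1) (.leaf (nat_lit 0x806020103834e6e1) (nat_lit 1287))
 (.leaf (nat_lit 0x806020103834f6c1) (nat_lit 1280))
))))) (.node (nat_lit 0x8070201028048605) (.node (nat_lit 0x8070201018040685) (.node (nat_lit 0x8070201008246625) (.node (nat_lit 0x8070201008140675) (.node (nat_lit 0x8070201008041625) (.leaf (nat_lit 0x8070201008040605) (nat_lit 513))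
 (.leaf (nat_lit 0x8070201008041625) (nat_lit 776))
) (.node (nat_lit 0x8070201008141655) (.leaf (nat_lit 0x8070201008140675) (nat_lit 775))
 (.leaf (nat_lit 0x8070201008141655) (nat_lit 768))
)) (.node (nat_lit 0x8070201008346655) (.node (nat_lit 0x8070201008247605) (.leaf (nat_lit 0x8070201008246625) (nat_lit 769))
 (.leaf (nat_lit 0x8070201008247605) (nat_lit 772))
) (.node (nat_lit 0x8070201008347675) (.leaf (nat_lit 0x8070201008346655) (nat_lit 1031))
 (.leaf (nat_lit 0x8070201008347675) (nat_lit 1031))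
))) (.node (nat_lit 0x80702010182466a5) (.node (nat_lit 0x80702010181406f5) (.node (nat_lit 0x80702010180416a5) (.leaf (nat_lit 0x8070201018040685) (nat_lit 773))
 (.leaf (nat_lit 0x80702010180416a5) (nat_lit 1032))
) (.node (nat_lit 0x80702010181416d5) (.leaf (nat_lit 0x80702010181406f5) (nat_lit 1031))
 (.leaf (nat_lit 0x80702010181416d5) (nat_lit 1024))
)) (.node (nat_lit 0x80702010183466d5) (.node (nat_lit 0x8070201018247685) (.leaf (nat_lit 0x80702010182466a5) (nat_lit 1029))
 (.leaf (nat_lit 0x8070201018247685) (nat_lit 1029))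
) (.node (nat_lit 0x80702010183476f5) (.leaf (nat_lit 0x80702010183466d5) (nat_lit 1287))
 (.leaf (nat_lit 0x80702010183476f5) (nat_lit 1287))
)))) (.node (nat_lit 0x8070201038048685) (.node (nat_lit 0x807020102824e625) (.node (nat_lit 0x8070201028148675) (.node (nat_lit 0x8070201028049625) (.leaf (nat_lit 0x8070201028048605) (nat_lit 771))
 (.leaf (nat_lit 0x8070201028049625) (nat_lit 1032))
) (.node (nat_lit 0x8070201028149655) (.leaf (nat_lit 0x8070201028148675) (nat_lit 1031))
 (.leaf (nat_lit 0x8070201028149655) (nat_lit 1024))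
)) (.node (nat_lit 0x807020102834e655) (.node (nat_lit 0x807020102824f605) (.leaf (nat_lit 0x807020102824e625) (nat_lit 1025))
 (.leaf (nat_lit 0x807020102824f605) (nat_lit 1028))
) (.node (nat_lit 0x807020102834f675) (.leaf (nat_lit 0x807020102834e655) (nat_lit 1287))
 (.leaf (nat_lit 0x807020102834f675) (nat_lit 1287))
))) (.node (nat_lit 0x807020103824e6a5) (.node (nat_lit 0x80702010381486f5) (.node (nat_lit 0x80702010380496a5) (.leaf (nat_lit 0x8070201038048685) (nat_lit 1029))
 (.leaf (nat_lit 0x80702010380496a5) (nat_lit 1288))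
) (.node (nat_lit 0x80702010381496d5) (.leaf (nat_lit 0x80702010381486f5) (nat_lit 1287))
 (.leaf (nat_lit 0x80702010381496d5) (nat_lit 1280))
)) (.node (nat_lit 0x807020103834e6d5) (.node (nat_lit 0x807020103824f685) (.leaf (nat_lit 0x807020103824e6a5) (nat_lit 1285))
 (.leaf (nat_lit 0x807020103824f685) (nat_lit 1285))
) (.node (nat_lit 0x807020103834f6f5) (.leaf (nat_lit 0x807020103834e6d5) (nat_lit 1543))
 (.leaf (nat_lit 0x807020103834f6f5) (nat_lit 1543))
))))))) (.node (nat_lit 0x9060201008040609) (.node (nat_lit 0x905020100804020d) (.node (nat_lit 0x9040201028048229) (.node (nat_lit 0x9040201018040299) (.node (nat_lit 0x9040201008244209) (.node (nat_lit 0x9040201008140249) (.node (nat_lit 0x9040201008041229) (.leaf (nat_lit 0x9040201008040209) (nat_lit 262))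
 (.leaf (nat_lit 0x9040201008041229) (nat_lit 520))
) (.node (nat_lit 0x9040201008141269) (.leaf (nat_lit 0x9040201008140249) (nat_lit 519))
 (.leaf (nat_lit 0x9040201008141269) (nat_lit 776))
)) (.node (nat_lit 0x9040201008344249) (.node (nat_lit 0x9040201008245229) (.leaf (nat_lit 0x9040201008244209) (nat_lit 518))
 (.leaf (nat_lit 0x9040201008245229) (nat_lit 776))
) (.node (nat_lit 0x9040201008345269) (.leaf (nat_lit 0x9040201008344249) (nat_lit 775))
 (.leaf (nat_lit 0x9040201008345269) (nat_lit 1032))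
))) (.node (nat_lit 0x9040201018244299) (.node (nat_lit 0x90402010181402d9) (.node (nat_lit 0x90402010180412b9) (.leaf (nat_lit 0x9040201018040299) (nat_lit 518))
 (.leaf (nat_lit 0x90402010180412b9) (nat_lit 776))
) (.node (nat_lit 0x90402010181412f9) (.leaf (nat_lit 0x90402010181402d9) (nat_lit 775))
 (.leaf (nat_lit 0x90402010181412f9) (nat_lit 1032))
)) (.node (nat_lit 0x90402010183442d9) (.node (nat_lit 0x90402010182452b9) (.leaf (nat_lit 0x9040201018244299) (nat_lit 774))
 (.leaf (nat_lit 0x90402010182452b9) (nat_lit 1032))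
) (.node (nat_lit 0x90402010183452f9) (.leaf (nat_lit 0x90402010183442d9) (nat_lit 1031))
 (.leaf (nat_lit 0x90402010183452f9) (nat_lit 1288))
)))) (.node (nat_lit 0x90402010380482b9) (.node (nat_lit 0x904020102824c229) (.node (nat_lit 0x9040201028148269) (.node (nat_lit 0x9040201028049209) (.leaf (nat_lit 0x9040201028048229) (nat_lit 518))
 (.leaf (nat_lit 0x9040201028049209) (nat_lit 515))
) (.node (nat_lit 0x9040201028149249) (.leaf (nat_lit 0x9040201028148269) (nat_lit 775))
 (.leaf (nat_lit 0x9040201028149249) (nat_lit 775))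
)) (.node (nat_lit 0x904020102834c269) (.node (nat_lit 0x904020102824d209) (.leaf (nat_lit 0x904020102824c229) (nat_lit 774))
 (.leaf (nat_lit 0x904020102824d209) (nat_lit 771))
) (.node (nat_lit 0x904020102834d249) (.leaf (nat_lit 0x904020102834c269) (nat_lit 1031))
 (.leaf (nat_lit 0x904020102834d249) (nat_lit 1031))
))) (.node (nat_lit 0x904020103824c2b9) (.node (nat_lit 0x90402010381482f9) (.node (nat_lit 0x9040201038049299) (.leaf (nat_lit 0x90402010380482b9) (nat_lit 774))
 (.leaf (nat_lit 0x9040201038049299) (nat_lit 771))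
) (.node (nat_lit 0x90402010381492d9) (.leaf (nat_lit 0x90402010381482f9) (nat_lit 1031))
 (.leaf (nat_lit 0x90402010381492d9) (nat_lit 1031))
)) (.node (nat_lit 0x904020103834c2f9) (.node (nat_lit 0x904020103824d299) (.leaf (nat_lit 0x904020103824c2b9) (nat_lit 1030))
 (.leaf (nat_lit 0x904020103824d299) (nat_lit 1027))
) (.node (nat_lit 0x904020103834d2d9) (.leaf (nat_lit 0x904020103834c2f9) (nat_lit 1287))
 (.leaf (nat_lit 0x904020103834d2d9) (nat_lit 1287))
))))) (.node (nat_lit 0x905020102804822d) (.node (nat_lit 0x905020101804029d) (.node (nat_lit 0x905020100824422d) (.node (nat_lit 0x905020100814025d) (.node (nat_lit 0x905020100804122d) (.leaf (nat_lit 0x905020100804020d) (nat_lit 518))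
 (.leaf (nat_lit 0x905020100804122d) (nat_lit 776))
) (.node (nat_lit 0x905020100814127d) (.leaf (nat_lit 0x905020100814025d) (nat_lit 775))
 (.leaf (nat_lit 0x905020100814127d) (nat_lit 1032))
)) (.node (nat_lit 0x905020100834427d) (.node (nat_lit 0x905020100824520d) (.leaf (nat_lit 0x905020100824422d) (nat_lit 774))
 (.leaf (nat_lit 0x905020100824520d) (nat_lit 774))
) (.node (nat_lit 0x905020100834525d) (.leaf (nat_lit 0x905020100834427d) (nat_lit 1031))
 (.leaf (nat_lit 0x905020100834525d) (nat_lit 1031))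
))) (.node (nat_lit 0x90502010182442bd) (.node (nat_lit 0x90502010181402cd) (.node (nat_lit 0x90502010180412bd) (.leaf (nat_lit 0x905020101804029d) (nat_lit 774))
 (.leaf (nat_lit 0x90502010180412bd) (nat_lit 1032))
) (.node (nat_lit 0x90502010181412ed) (.leaf (nat_lit 0x90502010181402cd) (nat_lit 1031))
 (.leaf (nat_lit 0x90502010181412ed) (nat_lit 1288))
)) (.node (nat_lit 0x90502010183442ed) (.node (nat_lit 0x905020101824529d) (.leaf (nat_lit 0x90502010182442bd) (nat_lit 1030))
 (.leaf (nat_lit 0x905020101824529d) (nat_lit 1030))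
) (.node (nat_lit 0x90502010183452cd) (.leaf (nat_lit 0x90502010183442ed) (nat_lit 1287))
 (.leaf (nat_lit 0x90502010183452cd) (nat_lit 1287))
)))) (.node (nat_lit 0x90502010380482bd) (.node (nat_lit 0x905020102824c20d) (.node (nat_lit 0x905020102814827d) (.node (nat_lit 0x905020102804920d) (.leaf (nat_lit 0x905020102804822d) (nat_lit 774))
 (.leaf (nat_lit 0x905020102804920d) (nat_lit 771))
) (.node (nat_lit 0x905020102814925d) (.leaf (nat_lit 0x905020102814827d) (nat_lit 1031))
 (.leaf (nat_lit 0x905020102814925d) (nat_lit 1031))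
)) (.node (nat_lit 0x905020102834c25d) (.node (nat_lit 0x905020102824d22d) (.leaf (nat_lit 0x905020102824c20d) (nat_lit 1027))
 (.leaf (nat_lit 0x905020102824d22d) (nat_lit 1030))
) (.node (nat_lit 0x905020102834d27d) (.leaf (nat_lit 0x905020102834c25d) (nat_lit 1287))
 (.leaf (nat_lit 0x905020102834d27d) (nat_lit 1287))
))) (.node (nat_lit 0x905020103824c29d) (.node (nat_lit 0x90502010381482ed) (.node (nat_lit 0x905020103804929d) (.leaf (nat_lit 0x90502010380482bd) (nat_lit 1030))
 (.leaf (nat_lit 0x905020103804929d) (nat_lit 1027))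
) (.node (nat_lit 0x90502010381492cd) (.leaf (nat_lit 0x90502010381482ed) (nat_lit 1287))
 (.leaf (nat_lit 0x90502010381492cd) (nat_lit 1287))
)) (.node (nat_lit 0x905020103834c2cd) (.node (nat_lit 0x905020103824d2bd) (.leaf (nat_lit 0x905020103824c29d) (nat_lit 1283))
 (.leaf (nat_lit 0x905020103824d2bd) (nat_lit 1286))
) (.node (nat_lit 0x905020103834d2ed) (.leaf (nat_lit 0x905020103834c2cd) (nat_lit 1543))
 (.leaf (nat_lit 0x905020103834d2ed) (nat_lit 1543))
)))))) (.node (nat_lit 0x907020100804060d) (.node (nat_lit 0x9060201028048629) (.node (nat_lit 0x9060201018040699) (.node (nat_lit 0x9060201008246609) (.node (nat_lit 0x9060201008140669) (.node (nat_lit 0x9060201008041629) (.leaf (nat_lit 0x9060201008040609) (nat_lit 518))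
 (.leaf (nat_lit 0x9060201008041629) (nat_lit 776))
) (.node (nat_lit 0x9060201008141649) (.leaf (nat_lit 0x9060201008140669) (nat_lit 775))
 (.leaf (nat_lit 0x9060201008141649) (nat_lit 768))
)) (.node (nat_lit 0x9060201008346669) (.node (nat_lit 0x9060201008247629) (.leaf (nat_lit 0x9060201008246609) (nat_lit 774))
 (.leaf (nat_lit 0x9060201008247629) (nat_lit 1032))
) (.node (nat_lit 0x9060201008347649) (.leaf (nat_lit 0x9060201008346669) (nat_lit 1031))
 (.leaf (nat_lit 0x9060201008347649) (nat_lit 1024))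
))) (.node (nat_lit 0x9060201018246699) (.node (nat_lit 0x90602010181406f9) (.node (nat_lit 0x90602010180416b9) (.leaf (nat_lit 0x9060201018040699) (nat_lit 774))
 (.leaf (nat_lit 0x90602010180416b9) (nat_lit 1032))
) (.node (nat_lit 0x90602010181416d9) (.leaf (nat_lit 0x90602010181406f9) (nat_lit 1031))
 (.leaf (nat_lit 0x90602010181416d9) (nat_lit 1024))
)) (.node (nat_lit 0x90602010183466f9) (.node (nat_lit 0x90602010182476b9) (.leaf (nat_lit 0x9060201018246699) (nat_lit 1030))
 (.leaf (nat_lit 0x90602010182476b9) (nat_lit 1288))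
) (.node (nat_lit 0x90602010183476d9) (.leaf (nat_lit 0x90602010183466f9) (nat_lit 1287))
 (.leaf (nat_lit 0x90602010183476d9) (nat_lit 1280))
)))) (.node (nat_lit 0x90602010380486b9) (.node (nat_lit 0x906020102824e629) (.node (nat_lit 0x9060201028148649) (.node (nat_lit 0x9060201028049609) (.leaf (nat_lit 0x9060201028048629) (nat_lit 774))
 (.leaf (nat_lit 0x9060201028049609) (nat_lit 771))
) (.node (nat_lit 0x9060201028149669) (.leaf (nat_lit 0x9060201028148649) (nat_lit 1031))
 (.leaf (nat_lit 0x9060201028149669) (nat_lit 1031))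
)) (.node (nat_lit 0x906020102834e649) (.node (nat_lit 0x906020102824f609) (.leaf (nat_lit 0x906020102824e629) (nat_lit 1030))
 (.leaf (nat_lit 0x906020102824f609) (nat_lit 1027))
) (.node (nat_lit 0x906020102834f669) (.leaf (nat_lit 0x906020102834e649) (nat_lit 1287))
 (.leaf (nat_lit 0x906020102834f669) (nat_lit 1287))
))) (.node (nat_lit 0x906020103824e6b9) (.node (nat_lit 0x90602010381486d9) (.node (nat_lit 0x9060201038049699) (.leaf (nat_lit 0x90602010380486b9) (nat_lit 1030))
 (.leaf (nat_lit 0x9060201038049699) (nat_lit 1027))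
) (.node (nat_lit 0x90602010381496f9) (.leaf (nat_lit 0x90602010381486d9) (nat_lit 1287))
 (.leaf (nat_lit 0x90602010381496f9) (nat_lit 1287))
)) (.node (nat_lit 0x906020103834e6d9) (.node (nat_lit 0x906020103824f699) (.leaf (nat_lit 0x906020103824e6b9) (nat_lit 1286))
 (.leaf (nat_lit 0x906020103824f699) (nat_lit 1283))
) (.node (nat_lit 0x906020103834f6f9) (.leaf (nat_lit 0x906020103834e6d9) (nat_lit 1543))
 (.leaf (nat_lit 0x906020103834f6f9) (nat_lit 1543))
))))) (.node (nat_lit 0x907020102804862d) (.node (nat_lit 0x907020101804069d) (.node (nat_lit 0x907020100824662d) (.node (nat_lit 0x907020100814067d) (.node (nat_lit 0x907020100804162d) (.leaf (nat_lit 0x907020100804060d) (nat_lit 774))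
 (.leaf (nat_lit 0x907020100804162d) (nat_lit 1032))
) (.node (nat_lit 0x907020100814165d) (.leaf (nat_lit 0x907020100814067d) (nat_lit 1031))
 (.leaf (nat_lit 0x907020100814165d) (nat_lit 1024))
)) (.node (nat_lit 0x907020100834665d) (.node (nat_lit 0x907020100824760d) (.leaf (nat_lit 0x907020100824662d) (nat_lit 1030))
 (.leaf (nat_lit 0x907020100824760d) (nat_lit 1030))
) (.node (nat_lit 0x907020100834767d) (.leaf (nat_lit 0x907020100834665d) (nat_lit 1287))
 (.leaf (nat_lit 0x907020100834767d) (nat_lit 1287))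
))) (.node (nat_lit 0x90702010182466bd) (.node (nat_lit 0x90702010181406ed) (.node (nat_lit 0x90702010180416bd) (.leaf (nat_lit 0x907020101804069d) (nat_lit 1030))
 (.leaf (nat_lit 0x90702010180416bd) (nat_lit 1288))
) (.node (nat_lit 0x90702010181416cd) (.leaf (nat_lit 0x90702010181406ed) (nat_lit 1287))
 (.leaf (nat_lit 0x90702010181416cd) (nat_lit 1280))
)) (.node (nat_lit 0x90702010183466cd) (.node (nat_lit 0x907020101824769d) (.leaf (nat_lit 0x90702010182466bd) (nat_lit 1286))
 (.leaf (nat_lit 0x907020101824769d) (nat_lit 1286))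
) (.node (nat_lit 0x90702010183476ed) (.leaf (nat_lit 0x90702010183466cd) (nat_lit 1543))
 (.leaf (nat_lit 0x90702010183476ed) (nat_lit 1543))
)))) (.node (nat_lit 0x90702010380486bd) (.node (nat_lit 0x907020102824e60d) (.node (nat_lit 0x907020102814865d) (.node (nat_lit 0x907020102804960d) (.leaf (nat_lit 0x907020102804862d) (nat_lit 1030))
 (.leaf (nat_lit 0x907020102804960d) (nat_lit 1027))
) (.node (nat_lit 0x907020102814967d) (.leaf (nat_lit 0x907020102814865d) (nat_lit 1287))
 (.leaf (nat_lit 0x907020102814967d) (nat_lit 1287))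
)) (.node (nat_lit 0x907020102834e67d) (.node (nat_lit 0x907020102824f62d) (.leaf (nat_lit 0x907020102824e60d) (nat_lit 1283))
 (.leaf (nat_lit 0x907020102824f62d) (nat_lit 1286))
) (.node (nat_lit 0x907020102834f65d) (.leaf (nat_lit 0x907020102834e67d) (nat_lit 1543))
 (.leaf (nat_lit 0x907020102834f65d) (nat_lit 1543))
))) (.node (nat_lit 0x907020103824e69d) (.node (nat_lit 0x90702010381486cd) (.node (nat_lit 0x907020103804969d) (.leaf (nat_lit 0x90702010380486bd) (nat_lit 1286))
 (.leaf (nat_lit 0x907020103804969d) (nat_lit 1283))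
) (.node (nat_lit 0x90702010381496ed) (.leaf (nat_lit 0x90702010381486cd) (nat_lit 1543))
 (.leaf (nat_lit 0x90702010381496ed) (nat_lit 1543))
)) (.node (nat_lit 0x907020103834e6ed) (.node (nat_lit 0x907020103824f6bd) (.leaf (nat_lit 0x907020103824e69d) (nat_lit 1539))
 (.leaf (nat_lit 0x907020103824f6bd) (nat_lit 1542))
) (.node (nat_lit 0x907020103834f6cd) (.leaf (nat_lit 0x907020103834e6ed) (nat_lit 1799))
 (.leaf (nat_lit 0x907020103834f6cd) (nat_lit 1799))
)))))))) (.node (nat_lit 0xb040201008040a09) (.node (nat_lit 0xa060201008040e01) (.node (nat_lit 0xa050201008040a05) (.node (nat_lit 0xa04020102804aa01) (.node (nat_lit 0xa040201018040aa1) (.node (nat_lit 0xa040201008244a01) (.node (nat_lit 0xa040201008140a41) (.node (nat_lit 0xa040201008041a21) (.leaf (nat_lit 0xa040201008040a01) (nat_lit 258))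
 (.leaf (nat_lit 0xa040201008041a21) (nat_lit 520))
) (.node (nat_lit 0xa040201008141a61) (.leaf (nat_lit 0xa040201008140a41) (nat_lit 519))
 (.leaf (nat_lit 0xa040201008141a61) (nat_lit 776))
)) (.node (nat_lit 0xa040201008344a41) (.node (nat_lit 0xa040201008245a21) (.leaf (nat_lit 0xa040201008244a01) (nat_lit 516))
 (.leaf (nat_lit 0xa040201008245a21) (nat_lit 776))
) (.node (nat_lit 0xa040201008345a61) (.leaf (nat_lit 0xa040201008344a41) (nat_lit 775))
 (.leaf (nat_lit 0xa040201008345a61) (nat_lit 1032))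
))) (.node (nat_lit 0xa040201018244aa1) (.node (nat_lit 0xa040201018140ae1) (.node (nat_lit 0xa040201018041a81) (.leaf (nat_lit 0xa040201018040aa1) (nat_lit 517))
 (.leaf (nat_lit 0xa040201018041a81) (nat_lit 514))
) (.node (nat_lit 0xa040201018141ac1) (.leaf (nat_lit 0xa040201018140ae1) (nat_lit 775))
 (.leaf (nat_lit 0xa040201018141ac1) (nat_lit 775))
)) (.node (nat_lit 0xa040201018344ae1) (.node (nat_lit 0xa040201018245a81) (.leaf (nat_lit 0xa040201018244aa1) (nat_lit 773))
 (.leaf (nat_lit 0xa040201018245a81) (nat_lit 770))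
) (.node (nat_lit 0xa040201018345ac1) (.leaf (nat_lit 0xa040201018344ae1) (nat_lit 1031))
 (.leaf (nat_lit 0xa040201018345ac1) (nat_lit 1031))
)))) (.node (nat_lit 0xa04020103804aaa1) (.node (nat_lit 0xa04020102824ea01) (.node (nat_lit 0xa04020102814aa41) (.node (nat_lit 0xa04020102804ba21) (.leaf (nat_lit 0xa04020102804aa01) (nat_lit 515))
 (.leaf (nat_lit 0xa04020102804ba21) (nat_lit 776))
) (.node (nat_lit 0xa04020102814ba61) (.leaf (nat_lit 0xa04020102814aa41) (nat_lit 775))
 (.leaf (nat_lit 0xa04020102814ba61) (nat_lit 1032))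
)) (.node (nat_lit 0xa04020102834ea41) (.node (nat_lit 0xa04020102824fa21) (.leaf (nat_lit 0xa04020102824ea01) (nat_lit 772))
 (.leaf (nat_lit 0xa04020102824fa21) (nat_lit 1032))
) (.node (nat_lit 0xa04020102834fa61) (.leaf (nat_lit 0xa04020102834ea41) (nat_lit 1031))
 (.leaf (nat_lit 0xa04020102834fa61) (nat_lit 1288))
))) (.node (nat_lit 0xa04020103824eaa1) (.node (nat_lit 0xa04020103814aae1) (.node (nat_lit 0xa04020103804ba81) (.leaf (nat_lit 0xa04020103804aaa1) (nat_lit 773))
 (.leaf (nat_lit 0xa04020103804ba81) (nat_lit 770))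
) (.node (nat_lit 0xa04020103814bac1) (.leaf (nat_lit 0xa04020103814aae1) (nat_lit 1031))
 (.leaf (nat_lit 0xa04020103814bac1) (nat_lit 1031))
)) (.node (nat_lit 0xa04020103834eae1) (.node (nat_lit 0xa04020103824fa81) (.leaf (nat_lit 0xa04020103824eaa1) (nat_lit 1029))
 (.leaf (nat_lit 0xa04020103824fa81) (nat_lit 1026))
) (.node (nat_lit 0xa04020103834fac1) (.leaf (nat_lit 0xa04020103834eae1) (nat_lit 1287))
 (.leaf (nat_lit 0xa04020103834fac1) (nat_lit 1287))
))))) (.node (nat_lit 0xa05020102804aa05) (.node (nat_lit 0xa050201018040aa5) (.node (nat_lit 0xa050201008244a25) (.node (nat_lit 0xa050201008140a55) (.node (nat_lit 0xa050201008041a25) (.leaf (nat_lit 0xa050201008040a05) (nat_lit 514))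
 (.leaf (nat_lit 0xa050201008041a25) (nat_lit 776))
) (.node (nat_lit 0xa050201008141a75) (.leaf (nat_lit 0xa050201008140a55) (nat_lit 775))
 (.leaf (nat_lit 0xa050201008141a75) (nat_lit 1032))
)) (.node (nat_lit 0xa050201008344a75) (.node (nat_lit 0xa050201008245a05) (.leaf (nat_lit 0xa050201008244a25) (nat_lit 769))
 (.leaf (nat_lit 0xa050201008245a05) (nat_lit 772))
) (.node (nat_lit 0xa050201008345a55) (.leaf (nat_lit 0xa050201008344a75) (nat_lit 1031))
 (.leaf (nat_lit 0xa050201008345a55) (nat_lit 1031))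
))) (.node (nat_lit 0xa050201018244a85) (.node (nat_lit 0xa050201018140af5) (.node (nat_lit 0xa050201018041a85) (.leaf (nat_lit 0xa050201018040aa5) (nat_lit 773))
 (.leaf (nat_lit 0xa050201018041a85) (nat_lit 770))
) (.node (nat_lit 0xa050201018141ad5) (.leaf (nat_lit 0xa050201018140af5) (nat_lit 1031))
 (.leaf (nat_lit 0xa050201018141ad5) (nat_lit 1031))
)) (.node (nat_lit 0xa050201018344ad5) (.node (nat_lit 0xa050201018245aa5) (.leaf (nat_lit 0xa050201018244a85) (nat_lit 1026))
 (.leaf (nat_lit 0xa050201018245aa5) (nat_lit 1029))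
) (.node (nat_lit 0xa050201018345af5) (.leaf (nat_lit 0xa050201018344ad5) (nat_lit 1287))
 (.leaf (nat_lit 0xa050201018345af5) (nat_lit 1287))
)))) (.node (nat_lit 0xa05020103804aaa5) (.node (nat_lit 0xa05020102824ea25) (.node (nat_lit 0xa05020102814aa55) (.node (nat_lit 0xa05020102804ba25) (.leaf (nat_lit 0xa05020102804aa05) (nat_lit 771))
 (.leaf (nat_lit 0xa05020102804ba25) (nat_lit 1032))
) (.node (nat_lit 0xa05020102814ba75) (.leaf (nat_lit 0xa05020102814aa55) (nat_lit 1031))
 (.leaf (nat_lit 0xa05020102814ba75) (nat_lit 1288))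
)) (.node (nat_lit 0xa05020102834ea75) (.node (nat_lit 0xa05020102824fa05) (.leaf (nat_lit 0xa05020102824ea25) (nat_lit 1025))
 (.leaf (nat_lit 0xa05020102824fa05) (nat_lit 1028))
) (.node (nat_lit 0xa05020102834fa55) (.leaf (nat_lit 0xa05020102834ea75) (nat_lit 1287))
 (.leaf (nat_lit 0xa05020102834fa55) (nat_lit 1287))
))) (.node (nat_lit 0xa05020103824ea85) (.node (nat_lit 0xa05020103814aaf5) (.node (nat_lit 0xa05020103804ba85) (.leaf (nat_lit 0xa05020103804aaa5) (nat_lit 1029))
 (.leaf (nat_lit 0xa05020103804ba85) (nat_lit 1026))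
) (.node (nat_lit 0xa05020103814bad5) (.leaf (nat_lit 0xa05020103814aaf5) (nat_lit 1287))
 (.leaf (nat_lit 0xa05020103814bad5) (nat_lit 1287))
)) (.node (nat_lit 0xa05020103834ead5) (.node (nat_lit 0xa05020103824faa5) (.leaf (nat_lit 0xa05020103824ea85) (nat_lit 1282))
 (.leaf (nat_lit 0xa05020103824faa5) (nat_lit 1285))
) (.node (nat_lit 0xa05020103834faf5) (.leaf (nat_lit 0xa05020103834ead5) (nat_lit 1543))
 (.leaf (nat_lit 0xa05020103834faf5) (nat_lit 1543))
)))))) (.node (nat_lit 0xa070201008040e05) (.node (nat_lit 0xa06020102804ae01) (.node (nat_lit 0xa060201018040ea1) (.node (nat_lit 0xa060201008246e01) (.node (nat_lit 0xa060201008140e61) (.node (nat_lit 0xa060201008041e21) (.leaf (nat_lit 0xa060201008040e01) (nat_lit 514))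
 (.leaf (nat_lit 0xa060201008041e21) (nat_lit 776))
) (.node (nat_lit 0xa060201008141e41) (.leaf (nat_lit 0xa060201008140e61) (nat_lit 775))
 (.leaf (nat_lit 0xa060201008141e41) (nat_lit 768))
)) (.node (nat_lit 0xa060201008346e61) (.node (nat_lit 0xa060201008247e21) (.leaf (nat_lit 0xa060201008246e01) (nat_lit 772))
 (.leaf (nat_lit 0xa060201008247e21) (nat_lit 1032))
) (.node (nat_lit 0xa060201008347e41) (.leaf (nat_lit 0xa060201008346e61) (nat_lit 1031))
 (.leaf (nat_lit 0xa060201008347e41) (nat_lit 1024))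
))) (.node (nat_lit 0xa060201018246ea1) (.node (nat_lit 0xa060201018140ec1) (.node (nat_lit 0xa060201018041e81) (.leaf (nat_lit 0xa060201018040ea1) (nat_lit 773))
 (.leaf (nat_lit 0xa060201018041e81) (nat_lit 770))
) (.node (nat_lit 0xa060201018141ee1) (.leaf (nat_lit 0xa060201018140ec1) (nat_lit 1031))
 (.leaf (nat_lit 0xa060201018141ee1) (nat_lit 1031))
)) (.node (nat_lit 0xa060201018346ec1) (.node (nat_lit 0xa060201018247e81) (.leaf (nat_lit 0xa060201018246ea1) (nat_lit 1029))
 (.leaf (nat_lit 0xa060201018247e81) (nat_lit 1026))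
) (.node (nat_lit 0xa060201018347ee1) (.leaf (nat_lit 0xa060201018346ec1) (nat_lit 1287))
 (.leaf (nat_lit 0xa060201018347ee1) (nat_lit 1287))
)))) (.node (nat_lit 0xa06020103804aea1) (.node (nat_lit 0xa06020102824ce01) (.node (nat_lit 0xa06020102814ae61) (.node (nat_lit 0xa06020102804be21) (.leaf (nat_lit 0xa06020102804ae01) (nat_lit 771))
 (.leaf (nat_lit 0xa06020102804be21) (nat_lit 1032))
) (.node (nat_lit 0xa06020102814be41) (.leaf (nat_lit 0xa06020102814ae61) (nat_lit 1031))
 (.leaf (nat_lit 0xa06020102814be41) (nat_lit 1024))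
)) (.node (nat_lit 0xa06020102834ce61) (.node (nat_lit 0xa06020102824de21) (.leaf (nat_lit 0xa06020102824ce01) (nat_lit 1028))
 (.leaf (nat_lit 0xa06020102824de21) (nat_lit 1288))
) (.node (nat_lit 0xa06020102834de41) (.leaf (nat_lit 0xa06020102834ce61) (nat_lit 1287))
 (.leaf (nat_lit 0xa06020102834de41) (nat_lit 1280))
))) (.node (nat_lit 0xa06020103824cea1) (.node (nat_lit 0xa06020103814aec1) (.node (nat_lit 0xa06020103804be81) (.leaf (nat_lit 0xa06020103804aea1) (nat_lit 1029))
 (.leaf (nat_lit 0xa06020103804be81) (nat_lit 1026))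
) (.node (nat_lit 0xa06020103814bee1) (.leaf (nat_lit 0xa06020103814aec1) (nat_lit 1287))
 (.leaf (nat_lit 0xa06020103814bee1) (nat_lit 1287))
)) (.node (nat_lit 0xa06020103834cec1) (.node (nat_lit 0xa06020103824de81) (.leaf (nat_lit 0xa06020103824cea1) (nat_lit 1285))
 (.leaf (nat_lit 0xa06020103824de81) (nat_lit 1282))
) (.node (nat_lit 0xa06020103834dee1) (.leaf (nat_lit 0xa06020103834cec1) (nat_lit 1543))
 (.leaf (nat_lit 0xa06020103834dee1) (nat_lit 1543))
))))) (.node (nat_lit 0xa07020102804ae05) (.node (nat_lit 0xa070201018040ea5) (.node (nat_lit 0xa070201008246e25) (.node (nat_lit 0xa070201008140e75) (.node (nat_lit 0xa070201008041e25) (.leaf (nat_lit 0xa070201008040e05) (nat_lit 770))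
 (.leaf (nat_lit 0xa070201008041e25) (nat_lit 1032))
) (.node (nat_lit 0xa070201008141e55) (.leaf (nat_lit 0xa070201008140e75) (nat_lit 1031))
 (.leaf (nat_lit 0xa070201008141e55) (nat_lit 1024))
)) (.node (nat_lit 0xa070201008346e55) (.node (nat_lit 0xa070201008247e05) (.leaf (nat_lit 0xa070201008246e25) (nat_lit 1025))
 (.leaf (nat_lit 0xa070201008247e05) (nat_lit 1028))
) (.node (nat_lit 0xa070201008347e75) (.leaf (nat_lit 0xa070201008346e55) (nat_lit 1287))
 (.leaf (nat_lit 0xa070201008347e75) (nat_lit 1287))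
))) (.node (nat_lit 0xa070201018246e85) (.node (nat_lit 0xa070201018140ed5) (.node (nat_lit 0xa070201018041e85) (.leaf (nat_lit 0xa070201018040ea5) (nat_lit 1029))
 (.leaf (nat_lit 0xa070201018041e85) (nat_lit 1026))
) (.node (nat_lit 0xa070201018141ef5) (.leaf (nat_lit 0xa070201018140ed5) (nat_lit 1287))
 (.leaf (nat_lit 0xa070201018141ef5) (nat_lit 1287))
)) (.node (nat_lit 0xa070201018346ef5) (.node (nat_lit 0xa070201018247ea5) (.leaf (nat_lit 0xa070201018246e85) (nat_lit 1282))
 (.leaf (nat_lit 0xa070201018247ea5) (nat_lit 1285))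
) (.node (nat_lit 0xa070201018347ed5) (.leaf (nat_lit 0xa070201018346ef5) (nat_lit 1543))
 (.leaf (nat_lit 0xa070201018347ed5) (nat_lit 1543))
)))) (.node (nat_lit 0xa07020103804aea5) (.node (nat_lit 0xa07020102824ce25) (.node (nat_lit 0xa07020102814ae75) (.node (nat_lit 0xa07020102804be25) (.leaf (nat_lit 0xa07020102804ae05) (nat_lit 1027))
 (.leaf (nat_lit 0xa07020102804be25) (nat_lit 1288))
) (.node (nat_lit 0xa07020102814be55) (.leaf (nat_lit 0xa07020102814ae75) (nat_lit 1287))
 (.leaf (nat_lit 0xa07020102814be55) (nat_lit 1280))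
)) (.node (nat_lit 0xa07020102834ce55) (.node (nat_lit 0xa07020102824de05) (.leaf (nat_lit 0xa07020102824ce25) (nat_lit 1281))
 (.leaf (nat_lit 0xa07020102824de05) (nat_lit 1284))
) (.node (nat_lit 0xa07020102834de75) (.leaf (nat_lit 0xa07020102834ce55) (nat_lit 1543))
 (.leaf (nat_lit 0xa07020102834de75) (nat_lit 1543))
))) (.node (nat_lit 0xa07020103824ce85) (.node (nat_lit 0xa07020103814aed5) (.node (nat_lit 0xa07020103804be85) (.leaf (nat_lit 0xa07020103804aea5) (nat_lit 1285))
 (.leaf (nat_lit 0xa07020103804be85) (nat_lit 1282))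
) (.node (nat_lit 0xa07020103814bef5) (.leaf (nat_lit 0xa07020103814aed5) (nat_lit 1543))
 (.leaf (nat_lit 0xa07020103814bef5) (nat_lit 1543))
)) (.node (nat_lit 0xa07020103834cef5) (.node (nat_lit 0xa07020103824dea5) (.leaf (nat_lit 0xa07020103824ce85) (nat_lit 1538))
 (.leaf (nat_lit 0xa07020103824dea5) (nat_lit 1541))
) (.node (nat_lit 0xa07020103834ded5) (.leaf (nat_lit 0xa07020103834cef5) (nat_lit 1799))
 (.leaf (nat_lit 0xa07020103834ded5) (nat_lit 1799))
))))))) (.node (nat_lit 0xb060201008040e09) (.node (nat_lit 0xb050201008040a0d) (.node (nat_lit 0xb04020102804aa29) (.node (nat_lit 0xb040201018040ab9) (.node (nat_lit 0xb040201008244a09) (.node (nat_lit 0xb040201008140a49) (.node (nat_lit 0xb040201008041a29) (.leaf (nat_lit 0xb040201008040a09) (nat_lit 518))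
 (.leaf (nat_lit 0xb040201008041a29) (nat_lit 776))
) (.node (nat_lit 0xb040201008141a69) (.leaf (nat_lit 0xb040201008140a49) (nat_lit 775))
 (.leaf (nat_lit 0xb040201008141a69) (nat_lit 1032))
)) (.node (nat_lit 0xb040201008344a49) (.node (nat_lit 0xb040201008245a29) (.leaf (nat_lit 0xb040201008244a09) (nat_lit 774))
 (.leaf (nat_lit 0xb040201008245a29) (nat_lit 1032))
) (.node (nat_lit 0xb040201008345a69) (.leaf (nat_lit 0xb040201008344a49) (nat_lit 1031))
 (.leaf (nat_lit 0xb040201008345a69) (nat_lit 1288))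
))) (.node (nat_lit 0xb040201018244ab9) (.node (nat_lit 0xb040201018140af9) (.node (nat_lit 0xb040201018041a99) (.leaf (nat_lit 0xb040201018040ab9) (nat_lit 774))
 (.leaf (nat_lit 0xb040201018041a99) (nat_lit 774))
) (.node (nat_lit 0xb040201018141ad9) (.leaf (nat_lit 0xb040201018140af9) (nat_lit 1031))
 (.leaf (nat_lit 0xb040201018141ad9) (nat_lit 1031))
)) (.node (nat_lit 0xb040201018344af9) (.node (nat_lit 0xb040201018245a99) (.leaf (nat_lit 0xb040201018244ab9) (nat_lit 1030))
 (.leaf (nat_lit 0xb040201018245a99) (nat_lit 1030))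
) (.node (nat_lit 0xb040201018345ad9) (.leaf (nat_lit 0xb040201018344af9) (nat_lit 1287))
 (.leaf (nat_lit 0xb040201018345ad9) (nat_lit 1287))
)))) (.node (nat_lit 0xb04020103804aa99) (.node (nat_lit 0xb04020102824ea29) (.node (nat_lit 0xb04020102814aa69) (.node (nat_lit 0xb04020102804ba09) (.leaf (nat_lit 0xb04020102804aa29) (nat_lit 774))
 (.leaf (nat_lit 0xb04020102804ba09) (nat_lit 771))
) (.node (nat_lit 0xb04020102814ba49) (.leaf (nat_lit 0xb04020102814aa69) (nat_lit 1031))
 (.leaf (nat_lit 0xb04020102814ba49) (nat_lit 1031))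
)) (.node (nat_lit 0xb04020102834ea69) (.node (nat_lit 0xb04020102824fa09) (.leaf (nat_lit 0xb04020102824ea29) (nat_lit 1030))
 (.leaf (nat_lit 0xb04020102824fa09) (nat_lit 1027))
) (.node (nat_lit 0xb04020102834fa49) (.leaf (nat_lit 0xb04020102834ea69) (nat_lit 1287))
 (.leaf (nat_lit 0xb04020102834fa49) (nat_lit 1287))
))) (.node (nat_lit 0xb04020103824ea99) (.node (nat_lit 0xb04020103814aad9) (.node (nat_lit 0xb04020103804bab9) (.leaf (nat_lit 0xb04020103804aa99) (nat_lit 1030))
 (.leaf (nat_lit 0xb04020103804bab9) (nat_lit 1027))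
) (.node (nat_lit 0xb04020103814baf9) (.leaf (nat_lit 0xb04020103814aad9) (nat_lit 1287))
 (.leaf (nat_lit 0xb04020103814baf9) (nat_lit 1287))
)) (.node (nat_lit 0xb04020103834ead9) (.node (nat_lit 0xb04020103824fab9) (.leaf (nat_lit 0xb04020103824ea99) (nat_lit 1286))
 (.leaf (nat_lit 0xb04020103824fab9) (nat_lit 1283))
) (.node (nat_lit 0xb04020103834faf9) (.leaf (nat_lit 0xb04020103834ead9) (nat_lit 1543))
 (.leaf (nat_lit 0xb04020103834faf9) (nat_lit 1543))
))))) (.node (nat_lit 0xb05020102804aa2d) (.node (nat_lit 0xb050201018040abd) (.node (nat_lit 0xb050201008244a2d) (.node (nat_lit 0xb050201008140a5d) (.node (nat_lit 0xb050201008041a2d) (.leaf (nat_lit 0xb050201008040a0d) (nat_lit 774))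
 (.leaf (nat_lit 0xb050201008041a2d) (nat_lit 1032))
) (.node (nat_lit 0xb050201008141a7d) (.leaf (nat_lit 0xb050201008140a5d) (nat_lit 1031))
 (.leaf (nat_lit 0xb050201008141a7d) (nat_lit 1288))
)) (.node (nat_lit 0xb050201008344a7d) (.node (nat_lit 0xb050201008245a0d) (.leaf (nat_lit 0xb050201008244a2d) (nat_lit 1030))
 (.leaf (nat_lit 0xb050201008245a0d) (nat_lit 1030))
) (.node (nat_lit 0xb050201008345a5d) (.leaf (nat_lit 0xb050201008344a7d) (nat_lit 1287))
 (.leaf (nat_lit 0xb050201008345a5d) (nat_lit 1287))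
))) (.node (nat_lit 0xb050201018244a9d) (.node (nat_lit 0xb050201018140aed) (.node (nat_lit 0xb050201018041a9d) (.leaf (nat_lit 0xb050201018040abd) (nat_lit 1030))
 (.leaf (nat_lit 0xb050201018041a9d) (nat_lit 1030))
) (.node (nat_lit 0xb050201018141acd) (.leaf (nat_lit 0xb050201018140aed) (nat_lit 1287))
 (.leaf (nat_lit 0xb050201018141acd) (nat_lit 1287))
)) (.node (nat_lit 0xb050201018344acd) (.node (nat_lit 0xb050201018245abd) (.leaf (nat_lit 0xb050201018244a9d) (nat_lit 1286))
 (.leaf (nat_lit 0xb050201018245abd) (nat_lit 1286))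
) (.node (nat_lit 0xb050201018345aed) (.leaf (nat_lit 0xb050201018344acd) (nat_lit 1543))
 (.leaf (nat_lit 0xb050201018345aed) (nat_lit 1543))
)))) (.node (nat_lit 0xb05020103804aa9d) (.node (nat_lit 0xb05020102824ea0d) (.node (nat_lit 0xb05020102814aa7d) (.node (nat_lit 0xb05020102804ba0d) (.leaf (nat_lit 0xb05020102804aa2d) (nat_lit 1030))
 (.leaf (nat_lit 0xb05020102804ba0d) (nat_lit 1027))
) (.node (nat_lit 0xb05020102814ba5d) (.leaf (nat_lit 0xb05020102814aa7d) (nat_lit 1287))
 (.leaf (nat_lit 0xb05020102814ba5d) (nat_lit 1287))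
)) (.node (nat_lit 0xb05020102834ea5d) (.node (nat_lit 0xb05020102824fa2d) (.leaf (nat_lit 0xb05020102824ea0d) (nat_lit 1283))
 (.leaf (nat_lit 0xb05020102824fa2d) (nat_lit 1286))
) (.node (nat_lit 0xb05020102834fa7d) (.leaf (nat_lit 0xb05020102834ea5d) (nat_lit 1543))
 (.leaf (nat_lit 0xb05020102834fa7d) (nat_lit 1543))
))) (.node (nat_lit 0xb05020103824eabd) (.node (nat_lit 0xb05020103814aacd) (.node (nat_lit 0xb05020103804babd) (.leaf (nat_lit 0xb05020103804aa9d) (nat_lit 1286))
 (.leaf (nat_lit 0xb05020103804babd) (nat_lit 1283))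
) (.node (nat_lit 0xb05020103814baed) (.leaf (nat_lit 0xb05020103814aacd) (nat_lit 1543))
 (.leaf (nat_lit 0xb05020103814baed) (nat_lit 1543))
)) (.node (nat_lit 0xb05020103834eaed) (.node (nat_lit 0xb05020103824fa9d) (.leaf (nat_lit 0xb05020103824eabd) (nat_lit 1539))
 (.leaf (nat_lit 0xb05020103824fa9d) (nat_lit 1542))
) (.node (nat_lit 0xb05020103834facd) (.leaf (nat_lit 0xb05020103834eaed) (nat_lit 1799))
 (.leaf (nat_lit 0xb05020103834facd) (nat_lit 1799))
)))))) (.node (nat_lit 0xb070201008040e0d) (.node (nat_lit 0xb06020102804ae29) (.node (nat_lit 0xb060201018040eb9) (.node (nat_lit 0xb060201008246e09) (.node (nat_lit 0xb060201008140e69) (.node (nat_lit 0xb060201008041e29) (.leaf (nat_lit 0xb060201008040e09) (nat_lit 774))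
 (.leaf (nat_lit 0xb060201008041e29) (nat_lit 1032))
) (.node (nat_lit 0xb060201008141e49) (.leaf (nat_lit 0xb060201008140e69) (nat_lit 1031))
 (.leaf (nat_lit 0xb060201008141e49) (nat_lit 1024))
)) (.node (nat_lit 0xb060201008346e69) (.node (nat_lit 0xb060201008247e29) (.leaf (nat_lit 0xb060201008246e09) (nat_lit 1030))
 (.leaf (nat_lit 0xb060201008247e29) (nat_lit 1288))
) (.node (nat_lit 0xb060201008347e49) (.leaf (nat_lit 0xb060201008346e69) (nat_lit 1287))
 (.leaf (nat_lit 0xb060201008347e49) (nat_lit 1280))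
))) (.node (nat_lit 0xb060201018246eb9) (.node (nat_lit 0xb060201018140ed9) (.node (nat_lit 0xb060201018041e99) (.leaf (nat_lit 0xb060201018040eb9) (nat_lit 1030))
 (.leaf (nat_lit 0xb060201018041e99) (nat_lit 1030))
) (.node (nat_lit 0xb060201018141ef9) (.leaf (nat_lit 0xb060201018140ed9) (nat_lit 1287))
 (.leaf (nat_lit 0xb060201018141ef9) (nat_lit 1287))
)) (.node (nat_lit 0xb060201018346ed9) (.node (nat_lit 0xb060201018247e99) (.leaf (nat_lit 0xb060201018246eb9) (nat_lit 1286))
 (.leaf (nat_lit 0xb060201018247e99) (nat_lit 1286))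
) (.node (nat_lit 0xb060201018347ef9) (.leaf (nat_lit 0xb060201018346ed9) (nat_lit 1543))
 (.leaf (nat_lit 0xb060201018347ef9) (nat_lit 1543))
)))) (.node (nat_lit 0xb06020103804ae99) (.node (nat_lit 0xb06020102824ce29) (.node (nat_lit 0xb06020102814ae49) (.node (nat_lit 0xb06020102804be09) (.leaf (nat_lit 0xb06020102804ae29) (nat_lit 1030))
 (.leaf (nat_lit 0xb06020102804be09) (nat_lit 1027))
) (.node (nat_lit 0xb06020102814be69) (.leaf (nat_lit 0xb06020102814ae49) (nat_lit 1287))
 (.leaf (nat_lit 0xb06020102814be69) (nat_lit 1287))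
)) (.node (nat_lit 0xb06020102834ce49) (.node (nat_lit 0xb06020102824de09) (.leaf (nat_lit 0xb06020102824ce29) (nat_lit 1286))
 (.leaf (nat_lit 0xb06020102824de09) (nat_lit 1283))
) (.node (nat_lit 0xb06020102834de69) (.leaf (nat_lit 0xb06020102834ce49) (nat_lit 1543))
 (.leaf (nat_lit 0xb06020102834de69) (nat_lit 1543))
))) (.node (nat_lit 0xb06020103824ce99) (.node (nat_lit 0xb06020103814aef9) (.node (nat_lit 0xb06020103804beb9) (.leaf (nat_lit 0xb06020103804ae99) (nat_lit 1286))
 (.leaf (nat_lit 0xb06020103804beb9) (nat_lit 1283))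
) (.node (nat_lit 0xb06020103814bed9) (.leaf (nat_lit 0xb06020103814aef9) (nat_lit 1543))
 (.leaf (nat_lit 0xb06020103814bed9) (nat_lit 1543))
)) (.node (nat_lit 0xb06020103834cef9) (.node (nat_lit 0xb06020103824deb9) (.leaf (nat_lit 0xb06020103824ce99) (nat_lit 1542))
 (.leaf (nat_lit 0xb06020103824deb9) (nat_lit 1539))
) (.node (nat_lit 0xb06020103834ded9) (.leaf (nat_lit 0xb06020103834cef9) (nat_lit 1799))
 (.leaf (nat_lit 0xb06020103834ded9) (nat_lit 1799))
))))) (.node (nat_lit 0xb07020102804ae2d) (.node (nat_lit 0xb070201018040ebd) (.node (nat_lit 0xb070201008246e2d) (.node (nat_lit 0xb070201008140e7d) (.node (nat_lit 0xb070201008041e2d) (.leaf (nat_lit 0xb070201008040e0d) (nat_lit 1030))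
 (.leaf (nat_lit 0xb070201008041e2d) (nat_lit 1288))
) (.node (nat_lit 0xb070201008141e5d) (.leaf (nat_lit 0xb070201008140e7d) (nat_lit 1287))
 (.leaf (nat_lit 0xb070201008141e5d) (nat_lit 1280))
)) (.node (nat_lit 0xb070201008346e5d) (.node (nat_lit 0xb070201008247e0d) (.leaf (nat_lit 0xb070201008246e2d) (nat_lit 1286))
 (.leaf (nat_lit 0xb070201008247e0d) (nat_lit 1286))
) (.node (nat_lit 0xb070201008347e7d) (.leaf (nat_lit 0xb070201008346e5d) (nat_lit 1543))
 (.leaf (nat_lit 0xb070201008347e7d) (nat_lit 1543))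
))) (.node (nat_lit 0xb070201018246e9d) (.node (nat_lit 0xb070201018140ecd) (.node (nat_lit 0xb070201018041e9d) (.leaf (nat_lit 0xb070201018040ebd) (nat_lit 1286))
 (.leaf (nat_lit 0xb070201018041e9d) (nat_lit 1286))
) (.node (nat_lit 0xb070201018141eed) (.leaf (nat_lit 0xb070201018140ecd) (nat_lit 1543))
 (.leaf (nat_lit 0xb070201018141eed) (nat_lit 1543))
)) (.node (nat_lit 0xb070201018346eed) (.node (nat_lit 0xb070201018247ebd) (.leaf (nat_lit 0xb070201018246e9d) (nat_lit 1542))
 (.leaf (nat_lit 0xb070201018247ebd) (nat_lit 1542))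
) (.node (nat_lit 0xb070201018347ecd) (.leaf (nat_lit 0xb070201018346eed) (nat_lit 1799))
 (.leaf (nat_lit 0xb070201018347ecd) (nat_lit 1799))
)))) (.node (nat_lit 0xb07020103804ae9d) (.node (nat_lit 0xb07020102824ce0d) (.node (nat_lit 0xb07020102814ae5d) (.node (nat_lit 0xb07020102804be0d) (.leaf (nat_lit 0xb07020102804ae2d) (nat_lit 1286))
 (.leaf (nat_lit 0xb07020102804be0d) (nat_lit 1283))
) (.node (nat_lit 0xb07020102814be7d) (.leaf (nat_lit 0xb07020102814ae5d) (nat_lit 1543))
 (.leaf (nat_lit 0xb07020102814be7d) (nat_lit 1543))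
)) (.node (nat_lit 0xb07020102834ce7d) (.node (nat_lit 0xb07020102824de2d) (.leaf (nat_lit 0xb07020102824ce0d) (nat_lit 1539))
 (.leaf (nat_lit 0xb07020102824de2d) (nat_lit 1542))
) (.node (nat_lit 0xb07020102834de5d) (.leaf (nat_lit 0xb07020102834ce7d) (nat_lit 1799))
 (.leaf (nat_lit 0xb07020102834de5d) (nat_lit 1799))
))) (.node (nat_lit 0xb07020103824cebd) (.node (nat_lit 0xb07020103814aeed) (.node (nat_lit 0xb07020103804bebd) (.leaf (nat_lit 0xb07020103804ae9d) (nat_lit 1542))
 (.leaf (nat_lit 0xb07020103804bebd) (nat_lit 1539))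
) (.node (nat_lit 0xb07020103814becd) (.leaf (nat_lit 0xb07020103814aeed) (nat_lit 1799))
 (.leaf (nat_lit 0xb07020103814becd) (nat_lit 1799))
)) (.node (nat_lit 0xb07020103834cecd) (.node (nat_lit 0xb07020103824de9d) (.leaf (nat_lit 0xb07020103824cebd) (nat_lit 1795))
 (.leaf (nat_lit 0xb07020103824de9d) (nat_lit 1798))
) (.node (nat_lit 0xb07020103834deed) (.leaf (nat_lit 0xb07020103834cecd) (nat_lit 2055))
 (.leaf (nat_lit 0xb07020103834deed) (nat_lit 2055))
)))))))))

theorem Q_ok : genOK B8.A [(nat_lit 0x8060201008040601), (nat_lit 0x8050201008040205), (nat_lit 0xa040201008040a01), (nat_lit 0x8040201028048201), (nat_lit 0x8040201008244201), (nat_lit 0x8040201018040281), (nat_lit 0x9040201008040209), (nat_lit 0x8040201008140241), (nat_lit 0x8040201008041221)] Q_t (nat_lit 512) = true := by decide +kernel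

noncomputable def U1_t : ST :=
(.node (nat_lit 0xa040201008040a01) (.node (nat_lit 0x9040201008040209) (.node (nat_lit 0x8050201008040205) (.node (nat_lit 0x8040201028048201) (.node (nat_lit 0x8040201018040281) (.node (nat_lit 0x8040201008244201) (.node (nat_lit 0x8040201008140241) (.node (nat_lit 0x8040201008041221) (.leaf (nat_lit 0x8040201008040201) (nat_lit 0))
 (.leaf (nat_lit 0x8040201008041221) (nat_lit 263))
) (.node (nat_lit 0x8040201008141261) (.leaf (nat_lit 0x8040201008140241) (nat_lit 262))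
 (.leaf (nat_lit 0x8040201008141261) (nat_lit 519))
)) (.node (nat_lit 0x8040201008344241) (.node (nat_lit 0x8040201008245221) (.leaf (nat_lit 0x8040201008244201) (nat_lit 259))
 (.leaf (nat_lit 0x8040201008245221) (nat_lit 519))
) (.node (nat_lit 0x8040201008345261) (.leaf (nat_lit 0x8040201008344241) (nat_lit 518))
 (.leaf (nat_lit 0x8040201008345261) (nat_lit 775))
))) (.node (nat_lit 0x8040201018244281) (.node (nat_lit 0x80402010181402c1) (.node (nat_lit 0x80402010180412a1) (.leaf (nat_lit 0x8040201018040281) (nat_lit 260))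
 (.leaf (nat_lit 0x80402010180412a1) (nat_lit 519))
) (.node (nat_lit 0x80402010181412e1) (.leaf (nat_lit 0x80402010181402c1) (nat_lit 518))
 (.leaf (nat_lit 0x80402010181412e1) (nat_lit 775))
)) (.node (nat_lit 0x80402010183442c1) (.node (nat_lit 0x80402010182452a1) (.leaf (nat_lit 0x8040201018244281) (nat_lit 516))
 (.leaf (nat_lit 0x80402010182452a1) (nat_lit 775))
) (.node (nat_lit 0x80402010183452e1) (.leaf (nat_lit 0x80402010183442c1) (nat_lit 774))
 (.leaf (nat_lit 0x80402010183452e1) (nat_lit 1031))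
)))) (.node (nat_lit 0x8040201038048281) (.node (nat_lit 0x804020102824c201) (.node (nat_lit 0x8040201028148241) (.node (nat_lit 0x8040201028049221) (.leaf (nat_lit 0x8040201028048201) (nat_lit 258))
 (.leaf (nat_lit 0x8040201028049221) (nat_lit 519))
) (.node (nat_lit 0x8040201028149261) (.leaf (nat_lit 0x8040201028148241) (nat_lit 518))
 (.leaf (nat_lit 0x8040201028149261) (nat_lit 775))
)) (.node (nat_lit 0x804020102834c241) (.node (nat_lit 0x804020102824d221) (.leaf (nat_lit 0x804020102824c201) (nat_lit 515))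
 (.leaf (nat_lit 0x804020102824d221) (nat_lit 775))
) (.node (nat_lit 0x804020102834d261) (.leaf (nat_lit 0x804020102834c241) (nat_lit 774))
 (.leaf (nat_lit 0x804020102834d261) (nat_lit 1031))
))) (.node (nat_lit 0x804020103824c281) (.node (nat_lit 0x80402010381482c1) (.node (nat_lit 0x80402010380492a1) (.leaf (nat_lit 0x8040201038048281) (nat_lit 516))
 (.leaf (nat_lit 0x80402010380492a1) (nat_lit 775))
) (.node (nat_lit 0x80402010381492e1) (.leaf (nat_lit 0x80402010381482c1) (nat_lit 774))
 (.leaf (nat_lit 0x80402010381492e1) (nat_lit 1031))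
)) (.node (nat_lit 0x804020103834c2c1) (.node (nat_lit 0x804020103824d2a1) (.leaf (nat_lit 0x804020103824c281) (nat_lit 772))
 (.leaf (nat_lit 0x804020103824d2a1) (nat_lit 1031))
) (.node (nat_lit 0x804020103834d2e1) (.leaf (nat_lit 0x804020103834c2c1) (nat_lit 1030))
 (.leaf (nat_lit 0x804020103834d2e1) (nat_lit 1287))
))))) (.node (nat_lit 0x8050201028048205) (.node (nat_lit 0x8050201018040285) (.node (nat_lit 0x8050201008244225) (.node (nat_lit 0x8050201008140255) (.node (nat_lit 0x8050201008041225) (.leaf (nat_lit 0x8050201008040205) (nat_lit 256))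
 (.leaf (nat_lit 0x8050201008041225) (nat_lit 519))
) (.node (nat_lit 0x8050201008141275) (.leaf (nat_lit 0x8050201008140255) (nat_lit 518))
 (.leaf (nat_lit 0x8050201008141275) (nat_lit 775))
)) (.node (nat_lit 0x8050201008344275) (.node (nat_lit 0x8050201008245205) (.leaf (nat_lit 0x8050201008244225) (nat_lit 512))
 (.leaf (nat_lit 0x8050201008245205) (nat_lit 515))
) (.node (nat_lit 0x8050201008345255) (.leaf (nat_lit 0x8050201008344275) (nat_lit 774))
 (.leaf (nat_lit 0x8050201008345255) (nat_lit 774))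
))) (.node (nat_lit 0x80502010182442a5) (.node (nat_lit 0x80502010181402d5) (.node (nat_lit 0x80502010180412a5) (.leaf (nat_lit 0x8050201018040285) (nat_lit 516))
 (.leaf (nat_lit 0x80502010180412a5) (nat_lit 775))
) (.node (nat_lit 0x80502010181412f5) (.leaf (nat_lit 0x80502010181402d5) (nat_lit 774))
 (.leaf (nat_lit 0x80502010181412f5) (nat_lit 1031))
)) (.node (nat_lit 0x80502010183442f5) (.node (nat_lit 0x8050201018245285) (.leaf (nat_lit 0x80502010182442a5) (nat_lit 772))
 (.leaf (nat_lit 0x8050201018245285) (nat_lit 772))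
) (.node (nat_lit 0x80502010183452d5) (.leaf (nat_lit 0x80502010183442f5) (nat_lit 1030))
 (.leaf (nat_lit 0x80502010183452d5) (nat_lit 1030))
)))) (.node (nat_lit 0x8050201038048285) (.node (nat_lit 0x805020102824c225) (.node (nat_lit 0x8050201028148255) (.node (nat_lit 0x8050201028049225) (.leaf (nat_lit 0x8050201028048205) (nat_lit 514))
 (.leaf (nat_lit 0x8050201028049225) (nat_lit 775))
) (.node (nat_lit 0x8050201028149275) (.leaf (nat_lit 0x8050201028148255) (nat_lit 774))
 (.leaf (nat_lit 0x8050201028149275) (nat_lit 1031))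
)) (.node (nat_lit 0x805020102834c275) (.node (nat_lit 0x805020102824d205) (.leaf (nat_lit 0x805020102824c225) (nat_lit 768))
 (.leaf (nat_lit 0x805020102824d205) (nat_lit 771))
) (.node (nat_lit 0x805020102834d255) (.leaf (nat_lit 0x805020102834c275) (nat_lit 1030))
 (.leaf (nat_lit 0x805020102834d255) (nat_lit 1030))
))) (.node (nat_lit 0x805020103824c2a5) (.node (nat_lit 0x80502010381482d5) (.node (nat_lit 0x80502010380492a5) (.leaf (nat_lit 0x8050201038048285) (nat_lit 772))
 (.leaf (nat_lit 0x80502010380492a5) (nat_lit 1031))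
) (.node (nat_lit 0x80502010381492f5) (.leaf (nat_lit 0x80502010381482d5) (nat_lit 1030))
 (.leaf (nat_lit 0x80502010381492f5) (nat_lit 1287))
)) (.node (nat_lit 0x805020103834c2f5) (.node (nat_lit 0x805020103824d285) (.leaf (nat_lit 0x805020103824c2a5) (nat_lit 1028))
 (.leaf (nat_lit 0x805020103824d285) (nat_lit 1028))
) (.node (nat_lit 0x805020103834d2d5) (.leaf (nat_lit 0x805020103834c2f5) (nat_lit 1286))
 (.leaf (nat_lit 0x805020103834d2d5) (nat_lit 1286))
)))))) (.node (nat_lit 0x905020100804020d) (.node (nat_lit 0x9040201028048229) (.node (nat_lit 0x9040201018040299) (.node (nat_lit 0x9040201008244209) (.node (nat_lit 0x9040201008140249) (.node (nat_lit 0x9040201008041229) (.leaf (nat_lit 0x9040201008040209) (nat_lit 261))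
 (.leaf (nat_lit 0x9040201008041229) (nat_lit 519))
) (.node (nat_lit 0x9040201008141269) (.leaf (nat_lit 0x9040201008140249) (nat_lit 518))
 (.leaf (nat_lit 0x9040201008141269) (nat_lit 775))
)) (.node (nat_lit 0x9040201008344249) (.node (nat_lit 0x9040201008245229) (.leaf (nat_lit 0x9040201008244209) (nat_lit 517))
 (.leaf (nat_lit 0x9040201008245229) (nat_lit 775))
) (.node (nat_lit 0x9040201008345269) (.leaf (nat_lit 0x9040201008344249) (nat_lit 774))
 (.leaf (nat_lit 0x9040201008345269) (nat_lit 1031))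
))) (.node (nat_lit 0x9040201018244299) (.node (nat_lit 0x90402010181402d9) (.node (nat_lit 0x90402010180412b9) (.leaf (nat_lit 0x9040201018040299) (nat_lit 517))
 (.leaf (nat_lit 0x90402010180412b9) (nat_lit 775))
) (.node (nat_lit 0x90402010181412f9) (.leaf (nat_lit 0x90402010181402d9) (nat_lit 774))
 (.leaf (nat_lit 0x90402010181412f9) (nat_lit 1031))
)) (.node (nat_lit 0x90402010183442d9) (.node (nat_lit 0x90402010182452b9) (.leaf (nat_lit 0x9040201018244299) (nat_lit 773))
 (.leaf (nat_lit 0x90402010182452b9) (nat_lit 1031))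
) (.node (nat_lit 0x90402010183452f9) (.leaf (nat_lit 0x90402010183442d9) (nat_lit 1030))
 (.leaf (nat_lit 0x90402010183452f9) (nat_lit 1287))
)))) (.node (nat_lit 0x90402010380482b9) (.node (nat_lit 0x904020102824c229) (.node (nat_lit 0x9040201028148269) (.node (nat_lit 0x9040201028049209) (.leaf (nat_lit 0x9040201028048229) (nat_lit 517))
 (.leaf (nat_lit 0x9040201028049209) (nat_lit 514))
) (.node (nat_lit 0x9040201028149249) (.leaf (nat_lit 0x9040201028148269) (nat_lit 774))
 (.leaf (nat_lit 0x9040201028149249) (nat_lit 774))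
)) (.node (nat_lit 0x904020102834c269) (.node (nat_lit 0x904020102824d209) (.leaf (nat_lit 0x904020102824c229) (nat_lit 773))
 (.leaf (nat_lit 0x904020102824d209) (nat_lit 770))
) (.node (nat_lit 0x904020102834d249) (.leaf (nat_lit 0x904020102834c269) (nat_lit 1030))
 (.leaf (nat_lit 0x904020102834d249) (nat_lit 1030))
))) (.node (nat_lit 0x904020103824c2b9) (.node (nat_lit 0x90402010381482f9) (.node (nat_lit 0x9040201038049299) (.leaf (nat_lit 0x90402010380482b9) (nat_lit 773))
 (.leaf (nat_lit 0x9040201038049299) (nat_lit 770))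
) (.node (nat_lit 0x90402010381492d9) (.leaf (nat_lit 0x90402010381482f9) (nat_lit 1030))
 (.leaf (nat_lit 0x90402010381492d9) (nat_lit 1030))
)) (.node (nat_lit 0x904020103834c2f9) (.node (nat_lit 0x904020103824d299) (.leaf (nat_lit 0x904020103824c2b9) (nat_lit 1029))
 (.leaf (nat_lit 0x904020103824d299) (nat_lit 1026))
) (.node (nat_lit 0x904020103834d2d9) (.leaf (nat_lit 0x904020103834c2f9) (nat_lit 1286))
 (.leaf (nat_lit 0x904020103834d2d9) (nat_lit 1286))
))))) (.node (nat_lit 0x905020102804822d) (.node (nat_lit 0x905020101804029d) (.node (nat_lit 0x905020100824422d) (.node (nat_lit 0x905020100814025d) (.node (nat_lit 0x905020100804122d) (.leaf (nat_lit 0x905020100804020d) (nat_lit 517))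
 (.leaf (nat_lit 0x905020100804122d) (nat_lit 775))
) (.node (nat_lit 0x905020100814127d) (.leaf (nat_lit 0x905020100814025d) (nat_lit 774))
 (.leaf (nat_lit 0x905020100814127d) (nat_lit 1031))
)) (.node (nat_lit 0x905020100834427d) (.node (nat_lit 0x905020100824520d) (.leaf (nat_lit 0x905020100824422d) (nat_lit 773))
 (.leaf (nat_lit 0x905020100824520d) (nat_lit 773))
) (.node (nat_lit 0x905020100834525d) (.leaf (nat_lit 0x905020100834427d) (nat_lit 1030))
 (.leaf (nat_lit 0x905020100834525d) (nat_lit 1030))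
))) (.node (nat_lit 0x90502010182442bd) (.node (nat_lit 0x90502010181402cd) (.node (nat_lit 0x90502010180412bd) (.leaf (nat_lit 0x905020101804029d) (nat_lit 773))
 (.leaf (nat_lit 0x90502010180412bd) (nat_lit 1031))
) (.node (nat_lit 0x90502010181412ed) (.leaf (nat_lit 0x90502010181402cd) (nat_lit 1030))
 (.leaf (nat_lit 0x90502010181412ed) (nat_lit 1287))
)) (.node (nat_lit 0x90502010183442ed) (.node (nat_lit 0x905020101824529d) (.leaf (nat_lit 0x90502010182442bd) (nat_lit 1029))
 (.leaf (nat_lit 0x905020101824529d) (nat_lit 1029))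
) (.node (nat_lit 0x90502010183452cd) (.leaf (nat_lit 0x90502010183442ed) (nat_lit 1286))
 (.leaf (nat_lit 0x90502010183452cd) (nat_lit 1286))
)))) (.node (nat_lit 0x90502010380482bd) (.node (nat_lit 0x905020102824c20d) (.node (nat_lit 0x905020102814827d) (.node (nat_lit 0x905020102804920d) (.leaf (nat_lit 0x905020102804822d) (nat_lit 773))
 (.leaf (nat_lit 0x905020102804920d) (nat_lit 770))
) (.node (nat_lit 0x905020102814925d) (.leaf (nat_lit 0x905020102814827d) (nat_lit 1030))
 (.leaf (nat_lit 0x905020102814925d) (nat_lit 1030))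
)) (.node (nat_lit 0x905020102834c25d) (.node (nat_lit 0x905020102824d22d) (.leaf (nat_lit 0x905020102824c20d) (nat_lit 1026))
 (.leaf (nat_lit 0x905020102824d22d) (nat_lit 1029))
) (.node (nat_lit 0x905020102834d27d) (.leaf (nat_lit 0x905020102834c25d) (nat_lit 1286))
 (.leaf (nat_lit 0x905020102834d27d) (nat_lit 1286))
))) (.node (nat_lit 0x905020103824c29d) (.node (nat_lit 0x90502010381482ed) (.node (nat_lit 0x905020103804929d) (.leaf (nat_lit 0x90502010380482bd) (nat_lit 1029))
 (.leaf (nat_lit 0x905020103804929d) (nat_lit 1026))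
) (.node (nat_lit 0x90502010381492cd) (.leaf (nat_lit 0x90502010381482ed) (nat_lit 1286))
 (.leaf (nat_lit 0x90502010381492cd) (nat_lit 1286))
)) (.node (nat_lit 0x905020103834c2cd) (.node (nat_lit 0x905020103824d2bd) (.leaf (nat_lit 0x905020103824c29d) (nat_lit 1282))
 (.leaf (nat_lit 0x905020103824d2bd) (nat_lit 1285))
) (.node (nat_lit 0x905020103834d2ed) (.leaf (nat_lit 0x905020103834c2cd) (nat_lit 1542))
 (.leaf (nat_lit 0x905020103834d2ed) (nat_lit 1542))
))))))) (.node (nat_lit 0xb040201008040a09) (.node (nat_lit 0xa050201008040a05) (.node (nat_lit 0xa04020102804aa01) (.node (nat_lit 0xa040201018040aa1) (.node (nat_lit 0xa040201008244a01) (.node (nat_lit 0xa040201008140a41) (.node (nat_lit 0xa040201008041a21) (.leaf (nat_lit 0xa040201008040a01) (nat_lit 257))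
 (.leaf (nat_lit 0xa040201008041a21) (nat_lit 519))
) (.node (nat_lit 0xa040201008141a61) (.leaf (nat_lit 0xa040201008140a41) (nat_lit 518))
 (.leaf (nat_lit 0xa040201008141a61) (nat_lit 775))
)) (.node (nat_lit 0xa040201008344a41) (.node (nat_lit 0xa040201008245a21) (.leaf (nat_lit 0xa040201008244a01) (nat_lit 515))
 (.leaf (nat_lit 0xa040201008245a21) (nat_lit 775))
) (.node (nat_lit 0xa040201008345a61) (.leaf (nat_lit 0xa040201008344a41) (nat_lit 774))
 (.leaf (nat_lit 0xa040201008345a61) (nat_lit 1031))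
))) (.node (nat_lit 0xa040201018244aa1) (.node (nat_lit 0xa040201018140ae1) (.node (nat_lit 0xa040201018041a81) (.leaf (nat_lit 0xa040201018040aa1) (nat_lit 516))
 (.leaf (nat_lit 0xa040201018041a81) (nat_lit 513))
) (.node (nat_lit 0xa040201018141ac1) (.leaf (nat_lit 0xa040201018140ae1) (nat_lit 774))
 (.leaf (nat_lit 0xa040201018141ac1) (nat_lit 774))
)) (.node (nat_lit 0xa040201018344ae1) (.node (nat_lit 0xa040201018245a81) (.leaf (nat_lit 0xa040201018244aa1) (nat_lit 772))
 (.leaf (nat_lit 0xa040201018245a81) (nat_lit 769))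
) (.node (nat_lit 0xa040201018345ac1) (.leaf (nat_lit 0xa040201018344ae1) (nat_lit 1030))
 (.leaf (nat_lit 0xa040201018345ac1) (nat_lit 1030))
)))) (.node (nat_lit 0xa04020103804aaa1) (.node (nat_lit 0xa04020102824ea01) (.node (nat_lit 0xa04020102814aa41) (.node (nat_lit 0xa04020102804ba21) (.leaf (nat_lit 0xa04020102804aa01) (nat_lit 514))
 (.leaf (nat_lit 0xa04020102804ba21) (nat_lit 775))
) (.node (nat_lit 0xa04020102814ba61) (.leaf (nat_lit 0xa04020102814aa41) (nat_lit 774))
 (.leaf (nat_lit 0xa04020102814ba61) (nat_lit 1031))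
)) (.node (nat_lit 0xa04020102834ea41) (.node (nat_lit 0xa04020102824fa21) (.leaf (nat_lit 0xa04020102824ea01) (nat_lit 771))
 (.leaf (nat_lit 0xa04020102824fa21) (nat_lit 1031))
) (.node (nat_lit 0xa04020102834fa61) (.leaf (nat_lit 0xa04020102834ea41) (nat_lit 1030))
 (.leaf (nat_lit 0xa04020102834fa61) (nat_lit 1287))
))) (.node (nat_lit 0xa04020103824eaa1) (.node (nat_lit 0xa04020103814aae1) (.node (nat_lit 0xa04020103804ba81) (.leaf (nat_lit 0xa04020103804aaa1) (nat_lit 772))
 (.leaf (nat_lit 0xa04020103804ba81) (nat_lit 769))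
) (.node (nat_lit 0xa04020103814bac1) (.leaf (nat_lit 0xa04020103814aae1) (nat_lit 1030))
 (.leaf (nat_lit 0xa04020103814bac1) (nat_lit 1030))
)) (.node (nat_lit 0xa04020103834eae1) (.node (nat_lit 0xa04020103824fa81) (.leaf (nat_lit 0xa04020103824eaa1) (nat_lit 1028))
 (.leaf (nat_lit 0xa04020103824fa81) (nat_lit 1025))
) (.node (nat_lit 0xa04020103834fac1) (.leaf (nat_lit 0xa04020103834eae1) (nat_lit 1286))
 (.leaf (nat_lit 0xa04020103834fac1) (nat_lit 1286))
))))) (.node (nat_lit 0xa05020102804aa05) (.node (nat_lit 0xa050201018040aa5) (.node (nat_lit 0xa050201008244a25) (.node (nat_lit 0xa050201008140a55) (.node (nat_lit 0xa050201008041a25) (.leaf (nat_lit 0xa050201008040a05) (nat_lit 513))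
 (.leaf (nat_lit 0xa050201008041a25) (nat_lit 775))
) (.node (nat_lit 0xa050201008141a75) (.leaf (nat_lit 0xa050201008140a55) (nat_lit 774))
 (.leaf (nat_lit 0xa050201008141a75) (nat_lit 1031))
)) (.node (nat_lit 0xa050201008344a75) (.node (nat_lit 0xa050201008245a05) (.leaf (nat_lit 0xa050201008244a25) (nat_lit 768))
 (.leaf (nat_lit 0xa050201008245a05) (nat_lit 771))
) (.node (nat_lit 0xa050201008345a55) (.leaf (nat_lit 0xa050201008344a75) (nat_lit 1030))
 (.leaf (nat_lit 0xa050201008345a55) (nat_lit 1030))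
))) (.node (nat_lit 0xa050201018244a85) (.node (nat_lit 0xa050201018140af5) (.node (nat_lit 0xa050201018041a85) (.leaf (nat_lit 0xa050201018040aa5) (nat_lit 772))
 (.leaf (nat_lit 0xa050201018041a85) (nat_lit 769))
) (.node (nat_lit 0xa050201018141ad5) (.leaf (nat_lit 0xa050201018140af5) (nat_lit 1030))
 (.leaf (nat_lit 0xa050201018141ad5) (nat_lit 1030))
)) (.node (nat_lit 0xa050201018344ad5) (.node (nat_lit 0xa050201018245aa5) (.leaf (nat_lit 0xa050201018244a85) (nat_lit 1025))
 (.leaf (nat_lit 0xa050201018245aa5) (nat_lit 1028))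
) (.node (nat_lit 0xa050201018345af5) (.leaf (nat_lit 0xa050201018344ad5) (nat_lit 1286))
 (.leaf (nat_lit 0xa050201018345af5) (nat_lit 1286))
)))) (.node (nat_lit 0xa05020103804aaa5) (.node (nat_lit 0xa05020102824ea25) (.node (nat_lit 0xa05020102814aa55) (.node (nat_lit 0xa05020102804ba25) (.leaf (nat_lit 0xa05020102804aa05) (nat_lit 770))
 (.leaf (nat_lit 0xa05020102804ba25) (nat_lit 1031))
) (.node (nat_lit 0xa05020102814ba75) (.leaf (nat_lit 0xa05020102814aa55) (nat_lit 1030))
 (.leaf (nat_lit 0xa05020102814ba75) (nat_lit 1287))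
)) (.node (nat_lit 0xa05020102834ea75) (.node (nat_lit 0xa05020102824fa05) (.leaf (nat_lit 0xa05020102824ea25) (nat_lit 1024))
 (.leaf (nat_lit 0xa05020102824fa05) (nat_lit 1027))
) (.node (nat_lit 0xa05020102834fa55) (.leaf (nat_lit 0xa05020102834ea75) (nat_lit 1286))
 (.leaf (nat_lit 0xa05020102834fa55) (nat_lit 1286))
))) (.node (nat_lit 0xa05020103824ea85) (.node (nat_lit 0xa05020103814aaf5) (.node (nat_lit 0xa05020103804ba85) (.leaf (nat_lit 0xa05020103804aaa5) (nat_lit 1028))
 (.leaf (nat_lit 0xa05020103804ba85) (nat_lit 1025))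
) (.node (nat_lit 0xa05020103814bad5) (.leaf (nat_lit 0xa05020103814aaf5) (nat_lit 1286))
 (.leaf (nat_lit 0xa05020103814bad5) (nat_lit 1286))
)) (.node (nat_lit 0xa05020103834ead5) (.node (nat_lit 0xa05020103824faa5) (.leaf (nat_lit 0xa05020103824ea85) (nat_lit 1281))
 (.leaf (nat_lit 0xa05020103824faa5) (nat_lit 1284))
) (.node (nat_lit 0xa05020103834faf5) (.leaf (nat_lit 0xa05020103834ead5) (nat_lit 1542))
 (.leaf (nat_lit 0xa05020103834faf5) (nat_lit 1542))
)))))) (.node (nat_lit 0xb050201008040a0d) (.node (nat_lit 0xb04020102804aa29) (.node (nat_lit 0xb040201018040ab9) (.node (nat_lit 0xb040201008244a09) (.node (nat_lit 0xb040201008140a49) (.node (nat_lit 0xb040201008041a29) (.leaf (nat_lit 0xb040201008040a09) (nat_lit 517))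
 (.leaf (nat_lit 0xb040201008041a29) (nat_lit 775))
) (.node (nat_lit 0xb040201008141a69) (.leaf (nat_lit 0xb040201008140a49) (nat_lit 774))
 (.leaf (nat_lit 0xb040201008141a69) (nat_lit 1031))
)) (.node (nat_lit 0xb040201008344a49) (.node (nat_lit 0xb040201008245a29) (.leaf (nat_lit 0xb040201008244a09) (nat_lit 773))
 (.leaf (nat_lit 0xb040201008245a29) (nat_lit 1031))
) (.node (nat_lit 0xb040201008345a69) (.leaf (nat_lit 0xb040201008344a49) (nat_lit 1030))
 (.leaf (nat_lit 0xb040201008345a69) (nat_lit 1287))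
))) (.node (nat_lit 0xb040201018244ab9) (.node (nat_lit 0xb040201018140af9) (.node (nat_lit 0xb040201018041a99) (.leaf (nat_lit 0xb040201018040ab9) (nat_lit 773))
 (.leaf (nat_lit 0xb040201018041a99) (nat_lit 773))
) (.node (nat_lit 0xb040201018141ad9) (.leaf (nat_lit 0xb040201018140af9) (nat_lit 1030))
 (.leaf (nat_lit 0xb040201018141ad9) (nat_lit 1030))
)) (.node (nat_lit 0xb040201018344af9) (.node (nat_lit 0xb040201018245a99) (.leaf (nat_lit 0xb040201018244ab9) (nat_lit 1029))
 (.leaf (nat_lit 0xb040201018245a99) (nat_lit 1029))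
) (.node (nat_lit 0xb040201018345ad9) (.leaf (nat_lit 0xb040201018344af9) (nat_lit 1286))
 (.leaf (nat_lit 0xb040201018345ad9) (nat_lit 1286))
)))) (.node (nat_lit 0xb04020103804aa99) (.node (nat_lit 0xb04020102824ea29) (.node (nat_lit 0xb04020102814aa69) (.node (nat_lit 0xb04020102804ba09) (.leaf (nat_lit 0xb04020102804aa29) (nat_lit 773))
 (.leaf (nat_lit 0xb04020102804ba09) (nat_lit 770))
) (.node (nat_lit 0xb04020102814ba49) (.leaf (nat_lit 0xb04020102814aa69) (nat_lit 1030))
 (.leaf (nat_lit 0xb04020102814ba49) (nat_lit 1030))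
)) (.node (nat_lit 0xb04020102834ea69) (.node (nat_lit 0xb04020102824fa09) (.leaf (nat_lit 0xb04020102824ea29) (nat_lit 1029))
 (.leaf (nat_lit 0xb04020102824fa09) (nat_lit 1026))
) (.node (nat_lit 0xb04020102834fa49) (.leaf (nat_lit 0xb04020102834ea69) (nat_lit 1286))
 (.leaf (nat_lit 0xb04020102834fa49) (nat_lit 1286))
))) (.node (nat_lit 0xb04020103824ea99) (.node (nat_lit 0xb04020103814aad9) (.node (nat_lit 0xb04020103804bab9) (.leaf (nat_lit 0xb04020103804aa99) (nat_lit 1029))
 (.leaf (nat_lit 0xb04020103804bab9) (nat_lit 1026))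
) (.node (nat_lit 0xb04020103814baf9) (.leaf (nat_lit 0xb04020103814aad9) (nat_lit 1286))
 (.leaf (nat_lit 0xb04020103814baf9) (nat_lit 1286))
)) (.node (nat_lit 0xb04020103834ead9) (.node (nat_lit 0xb04020103824fab9) (.leaf (nat_lit 0xb04020103824ea99) (nat_lit 1285))
 (.leaf (nat_lit 0xb04020103824fab9) (nat_lit 1282))
) (.node (nat_lit 0xb04020103834faf9) (.leaf (nat_lit 0xb04020103834ead9) (nat_lit 1542))
 (.leaf (nat_lit 0xb04020103834faf9) (nat_lit 1542))
))))) (.node (nat_lit 0xb05020102804aa2d) (.node (nat_lit 0xb050201018040abd) (.node (nat_lit 0xb050201008244a2d) (.node (nat_lit 0xb050201008140a5d) (.node (nat_lit 0xb050201008041a2d) (.leaf (nat_lit 0xb050201008040a0d) (nat_lit 773))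
 (.leaf (nat_lit 0xb050201008041a2d) (nat_lit 1031))
) (.node (nat_lit 0xb050201008141a7d) (.leaf (nat_lit 0xb050201008140a5d) (nat_lit 1030))
 (.leaf (nat_lit 0xb050201008141a7d) (nat_lit 1287))
)) (.node (nat_lit 0xb050201008344a7d) (.node (nat_lit 0xb050201008245a0d) (.leaf (nat_lit 0xb050201008244a2d) (nat_lit 1029))
 (.leaf (nat_lit 0xb050201008245a0d) (nat_lit 1029))
) (.node (nat_lit 0xb050201008345a5d) (.leaf (nat_lit 0xb050201008344a7d) (nat_lit 1286))
 (.leaf (nat_lit 0xb050201008345a5d) (nat_lit 1286))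
))) (.node (nat_lit 0xb050201018244a9d) (.node (nat_lit 0xb050201018140aed) (.node (nat_lit 0xb050201018041a9d) (.leaf (nat_lit 0xb050201018040abd) (nat_lit 1029))
 (.leaf (nat_lit 0xb050201018041a9d) (nat_lit 1029))
) (.node (nat_lit 0xb050201018141acd) (.leaf (nat_lit 0xb050201018140aed) (nat_lit 1286))
 (.leaf (nat_lit 0xb050201018141acd) (nat_lit 1286))
)) (.node (nat_lit 0xb050201018344acd) (.node (nat_lit 0xb050201018245abd) (.leaf (nat_lit 0xb050201018244a9d) (nat_lit 1285))
 (.leaf (nat_lit 0xb050201018245abd) (nat_lit 1285))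
) (.node (nat_lit 0xb050201018345aed) (.leaf (nat_lit 0xb050201018344acd) (nat_lit 1542))
 (.leaf (nat_lit 0xb050201018345aed) (nat_lit 1542))
)))) (.node (nat_lit 0xb05020103804aa9d) (.node (nat_lit 0xb05020102824ea0d) (.node (nat_lit 0xb05020102814aa7d) (.node (nat_lit 0xb05020102804ba0d) (.leaf (nat_lit 0xb05020102804aa2d) (nat_lit 1029))
 (.leaf (nat_lit 0xb05020102804ba0d) (nat_lit 1026))
) (.node (nat_lit 0xb05020102814ba5d) (.leaf (nat_lit 0xb05020102814aa7d) (nat_lit 1286))
 (.leaf (nat_lit 0xb05020102814ba5d) (nat_lit 1286))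
)) (.node (nat_lit 0xb05020102834ea5d) (.node (nat_lit 0xb05020102824fa2d) (.leaf (nat_lit 0xb05020102824ea0d) (nat_lit 1282))
 (.leaf (nat_lit 0xb05020102824fa2d) (nat_lit 1285))
) (.node (nat_lit 0xb05020102834fa7d) (.leaf (nat_lit 0xb05020102834ea5d) (nat_lit 1542))
 (.leaf (nat_lit 0xb05020102834fa7d) (nat_lit 1542))
))) (.node (nat_lit 0xb05020103824eabd) (.node (nat_lit 0xb05020103814aacd) (.node (nat_lit 0xb05020103804babd) (.leaf (nat_lit 0xb05020103804aa9d) (nat_lit 1285))
 (.leaf (nat_lit 0xb05020103804babd) (nat_lit 1282))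
) (.node (nat_lit 0xb05020103814baed) (.leaf (nat_lit 0xb05020103814aacd) (nat_lit 1542))
 (.leaf (nat_lit 0xb05020103814baed) (nat_lit 1542))
)) (.node (nat_lit 0xb05020103834eaed) (.node (nat_lit 0xb05020103824fa9d) (.leaf (nat_lit 0xb05020103824eabd) (nat_lit 1538))
 (.leaf (nat_lit 0xb05020103824fa9d) (nat_lit 1541))
) (.node (nat_lit 0xb05020103834facd) (.leaf (nat_lit 0xb05020103834eaed) (nat_lit 1798))
 (.leaf (nat_lit 0xb05020103834facd) (nat_lit 1798))
))))))))

theorem U1_ok : genOK B8.A [(nat_lit 0x8050201008040205), (nat_lit 0xa040201008040a01), (nat_lit 0x8040201028048201), (nat_lit 0x8040201008244201), (nat_lit 0x8040201018040281), (nat_lit 0x9040201008040209), (nat_lit 0x8040201008140241), (nat_lit 0x8040201008041221)] U1_t (nat_lit 256) = true := by decide +kernel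

noncomputable def Lam_t : ST :=
(.node (nat_lit 0x48cc10200c080102) (.node (nat_lit 0xc04203080c00301) (.node (nat_lit 0x804103084480302) (.node (nat_lit 0x40c1020cc840102) (.node (nat_lit 0x408203040800301) (.node (nat_lit 0x408103048840302) (.node (nat_lit 0x408102048840102) (.leaf (nat_lit 0x408102040800102) (nat_lit 1538))
 (.node (nat_lit 0x408103040800302) (.leaf (nat_lit 0x408102048840102) (nat_lit 1285))
 (.leaf (nat_lit 0x408103040800302) (nat_lit 1282))
)) (.node (nat_lit 0x408201040800201) (.leaf (nat_lit 0x408103048840302) (nat_lit 1029))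
 (.node (nat_lit 0x408201048840201) (.leaf (nat_lit 0x408201040800201) (nat_lit 770))
 (.leaf (nat_lit 0x408201048840201) (nat_lit 517))
))) (.node (nat_lit 0x408301048840203) (.node (nat_lit 0x408203048840301) (.leaf (nat_lit 0x408203040800301) (nat_lit 1026))
 (.node (nat_lit 0x408301040800203) (.leaf (nat_lit 0x408203048840301) (nat_lit 773))
 (.leaf (nat_lit 0x408301040800203) (nat_lit 1026))
)) (.node (nat_lit 0x408302048840103) (.node (nat_lit 0x408302040800103) (.leaf (nat_lit 0x408301048840203) (nat_lit 773))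
 (.leaf (nat_lit 0x408302040800103) (nat_lit 1282))
) (.node (nat_lit 0x40c1020c0800102) (.leaf (nat_lit 0x408302048840103) (nat_lit 1029))
 (.leaf (nat_lit 0x40c1020c0800102) (nat_lit 1794))
)))) (.node (nat_lit 0x40c3010c0800203) (.node (nat_lit 0x40c2010c0800201) (.node (nat_lit 0x40c1030c0800302) (.leaf (nat_lit 0x40c1020cc840102) (nat_lit 1541))
 (.node (nat_lit 0x40c1030cc840302) (.leaf (nat_lit 0x40c1030c0800302) (nat_lit 1538))
 (.leaf (nat_lit 0x40c1030cc840302) (nat_lit 1285))
)) (.node (nat_lit 0x40c2030c0800301) (.node (nat_lit 0x40c2010cc840201) (.leaf (nat_lit 0x40c2010c0800201) (nat_lit 1026))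
 (.leaf (nat_lit 0x40c2010cc840201) (nat_lit 773))
) (.node (nat_lit 0x40c2030cc840301) (.leaf (nat_lit 0x40c2030c0800301) (nat_lit 1282))
 (.leaf (nat_lit 0x40c2030cc840301) (nat_lit 1029))
))) (.node (nat_lit 0x40c3020cc840103) (.node (nat_lit 0x40c3010cc840203) (.leaf (nat_lit 0x40c3010c0800203) (nat_lit 1282))
 (.node (nat_lit 0x40c3020c0800103) (.leaf (nat_lit 0x40c3010cc840203) (nat_lit 1029))
 (.leaf (nat_lit 0x40c3020c0800103) (nat_lit 1538))
)) (.node (nat_lit 0x804102084480102) (.node (nat_lit 0x804102080400102) (.leaf (nat_lit 0x40c3020cc840103) (nat_lit 1285))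
 (.leaf (nat_lit 0x804102080400102) (nat_lit 2306))
) (.node (nat_lit 0x804103080400302) (.leaf (nat_lit 0x804102084480102) (nat_lit 2053))
 (.leaf (nat_lit 0x804103080400302) (nat_lit 2050))
))))) (.node (nat_lit 0x80c2010c0400201) (.node (nat_lit 0x804301084480203) (.node (nat_lit 0x804203080400301) (.node (nat_lit 0x804201080400201) (.leaf (nat_lit 0x804103084480302) (nat_lit 1797))
 (.node (nat_lit 0x804201084480201) (.leaf (nat_lit 0x804201080400201) (nat_lit 1538))
 (.leaf (nat_lit 0x804201084480201) (nat_lit 1285))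
)) (.node (nat_lit 0x804203084480301) (.leaf (nat_lit 0x804203080400301) (nat_lit 1794))
 (.node (nat_lit 0x804301080400203) (.leaf (nat_lit 0x804203084480301) (nat_lit 1541))
 (.leaf (nat_lit 0x804301080400203) (nat_lit 1794))
))) (.node (nat_lit 0x80c1020c0400102) (.node (nat_lit 0x804302080400103) (.leaf (nat_lit 0x804301084480203) (nat_lit 1541))
 (.node (nat_lit 0x804302084480103) (.leaf (nat_lit 0x804302080400103) (nat_lit 2050))
 (.leaf (nat_lit 0x804302084480103) (nat_lit 1797))
)) (.node (nat_lit 0x80c1030c0400302) (.node (nat_lit 0x80c1020cc480102) (.leaf (nat_lit 0x80c1020c0400102) (nat_lit 2050))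
 (.leaf (nat_lit 0x80c1020cc480102) (nat_lit 1797))
) (.node (nat_lit 0x80c1030cc480302) (.leaf (nat_lit 0x80c1030c0400302) (nat_lit 1794))
 (.leaf (nat_lit 0x80c1030cc480302) (nat_lit 1541))
)))) (.node (nat_lit 0x80c3020cc480103) (.node (nat_lit 0x80c2030cc480301) (.node (nat_lit 0x80c2010cc480201) (.leaf (nat_lit 0x80c2010c0400201) (nat_lit 1282))
 (.node (nat_lit 0x80c2030c0400301) (.leaf (nat_lit 0x80c2010cc480201) (nat_lit 1029))
 (.leaf (nat_lit 0x80c2030c0400301) (nat_lit 1538))
)) (.node (nat_lit 0x80c3010cc480203) (.node (nat_lit 0x80c3010c0400203) (.leaf (nat_lit 0x80c2030cc480301) (nat_lit 1285))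
 (.leaf (nat_lit 0x80c3010c0400203) (nat_lit 1538))
) (.node (nat_lit 0x80c3020c0400103) (.leaf (nat_lit 0x80c3010cc480203) (nat_lit 1285))
 (.leaf (nat_lit 0x80c3020c0400103) (nat_lit 1794))
))) (.node (nat_lit 0xc04103080c00302) (.node (nat_lit 0xc04102080c00102) (.leaf (nat_lit 0x80c3020cc480103) (nat_lit 1541))
 (.node (nat_lit 0xc04102084cc0102) (.leaf (nat_lit 0xc04102080c00102) (nat_lit 2050))
 (.leaf (nat_lit 0xc04102084cc0102) (nat_lit 1797))
)) (.node (nat_lit 0xc04201080c00201) (.node (nat_lit 0xc04103084cc0302) (.leaf (nat_lit 0xc04103080c00302) (nat_lit 1794))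
 (.leaf (nat_lit 0xc04103084cc0302) (nat_lit 1541))
) (.node (nat_lit 0xc04201084cc0201) (.leaf (nat_lit 0xc04201080c00201) (nat_lit 1282))
 (.leaf (nat_lit 0xc04201084cc0201) (nat_lit 1029))
)))))) (.node (nat_lit 0x4080301084480203) (.node (nat_lit 0xc08203048cc0301) (.node (nat_lit 0xc08102040c00102) (.node (nat_lit 0xc04301084cc0203) (.node (nat_lit 0xc04203084cc0301) (.leaf (nat_lit 0xc04203080c00301) (nat_lit 1538))
 (.node (nat_lit 0xc04301080c00203) (.leaf (nat_lit 0xc04203084cc0301) (nat_lit 1285))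
 (.leaf (nat_lit 0xc04301080c00203) (nat_lit 1538))
)) (.node (nat_lit 0xc04302080c00103) (.leaf (nat_lit 0xc04301084cc0203) (nat_lit 1285))
 (.node (nat_lit 0xc04302084cc0103) (.leaf (nat_lit 0xc04302080c00103) (nat_lit 1794))
 (.leaf (nat_lit 0xc04302084cc0103) (nat_lit 1541))
))) (.node (nat_lit 0xc08103048cc0302) (.node (nat_lit 0xc08102048cc0102) (.leaf (nat_lit 0xc08102040c00102) (nat_lit 1794))
 (.node (nat_lit 0xc08103040c00302) (.leaf (nat_lit 0xc08102048cc0102) (nat_lit 1541))
 (.leaf (nat_lit 0xc08103040c00302) (nat_lit 1538))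
)) (.node (nat_lit 0xc08201048cc0201) (.node (nat_lit 0xc08201040c00201) (.leaf (nat_lit 0xc08103048cc0302) (nat_lit 1285))
 (.leaf (nat_lit 0xc08201040c00201) (nat_lit 1026))
) (.node (nat_lit 0xc08203040c00301) (.leaf (nat_lit 0xc08201048cc0201) (nat_lit 773))
 (.leaf (nat_lit 0xc08203040c00301) (nat_lit 1282))
)))) (.node (nat_lit 0x4080103004080302) (.node (nat_lit 0xc08302040c00103) (.node (nat_lit 0xc08301040c00203) (.leaf (nat_lit 0xc08203048cc0301) (nat_lit 1029))
 (.node (nat_lit 0xc08301048cc0203) (.leaf (nat_lit 0xc08301040c00203) (nat_lit 1282))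
 (.leaf (nat_lit 0xc08301048cc0203) (nat_lit 1029))
)) (.node (nat_lit 0x4080102004080102) (.node (nat_lit 0xc08302048cc0103) (.leaf (nat_lit 0xc08302040c00103) (nat_lit 1538))
 (.leaf (nat_lit 0xc08302048cc0103) (nat_lit 1285))
) (.node (nat_lit 0x4080102084480102) (.leaf (nat_lit 0x4080102004080102) (nat_lit 1537))
 (.leaf (nat_lit 0x4080102084480102) (nat_lit 1793))
))) (.node (nat_lit 0x4080201084480201) (.node (nat_lit 0x4080103084480302) (.leaf (nat_lit 0x4080103004080302) (nat_lit 1281))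
 (.node (nat_lit 0x4080201004080201) (.leaf (nat_lit 0x4080103084480302) (nat_lit 1537))
 (.leaf (nat_lit 0x4080201004080201) (nat_lit 769))
)) (.node (nat_lit 0x4080203084480301) (.node (nat_lit 0x4080203004080301) (.leaf (nat_lit 0x4080201084480201) (nat_lit 1025))
 (.leaf (nat_lit 0x4080203004080301) (nat_lit 1025))
) (.node (nat_lit 0x4080301004080203) (.leaf (nat_lit 0x4080203084480301) (nat_lit 1281))
 (.leaf (nat_lit 0x4080301004080203) (nat_lit 1025))
))))) (.node (nat_lit 0x40c030200c080103) (.node (nat_lit 0x40c01030cc480302) (.node (nat_lit 0x40c010200c080102) (.node (nat_lit 0x4080302004080103) (.leaf (nat_lit 0x4080301084480203) (nat_lit 1281))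
 (.node (nat_lit 0x4080302084480103) (.leaf (nat_lit 0x4080302004080103) (nat_lit 1281))
 (.leaf (nat_lit 0x4080302084480103) (nat_lit 1537))
)) (.node (nat_lit 0x40c01020cc480102) (.leaf (nat_lit 0x40c010200c080102) (nat_lit 1281))
 (.node (nat_lit 0x40c010300c080302) (.leaf (nat_lit 0x40c01020cc480102) (nat_lit 1537))
 (.leaf (nat_lit 0x40c010300c080302) (nat_lit 1025))
))) (.node (nat_lit 0x40c020300c080301) (.node (nat_lit 0x40c020100c080201) (.leaf (nat_lit 0x40c01030cc480302) (nat_lit 1281))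
 (.node (nat_lit 0x40c02010cc480201) (.leaf (nat_lit 0x40c020100c080201) (nat_lit 513))
 (.leaf (nat_lit 0x40c02010cc480201) (nat_lit 769))
)) (.node (nat_lit 0x40c030100c080203) (.node (nat_lit 0x40c02030cc480301) (.leaf (nat_lit 0x40c020300c080301) (nat_lit 769))
 (.leaf (nat_lit 0x40c02030cc480301) (nat_lit 1025))
) (.node (nat_lit 0x40c03010cc480203) (.leaf (nat_lit 0x40c030100c080203) (nat_lit 769))
 (.leaf (nat_lit 0x40c03010cc480203) (nat_lit 1025))
)))) (.node (nat_lit 0x4884201080400201) (.node (nat_lit 0x4884102080400102) (.node (nat_lit 0x40c03020cc480103) (.leaf (nat_lit 0x40c030200c080103) (nat_lit 1025))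
 (.node (nat_lit 0x4884102004080102) (.leaf (nat_lit 0x40c03020cc480103) (nat_lit 1281))
 (.leaf (nat_lit 0x4884102004080102) (nat_lit 1797))
)) (.node (nat_lit 0x4884103080400302) (.node (nat_lit 0x4884103004080302) (.leaf (nat_lit 0x4884102080400102) (nat_lit 2050))
 (.leaf (nat_lit 0x4884103004080302) (nat_lit 1541))
) (.node (nat_lit 0x4884201004080201) (.leaf (nat_lit 0x4884103080400302) (nat_lit 1794))
 (.leaf (nat_lit 0x4884201004080201) (nat_lit 1029))
))) (.node (nat_lit 0x4884301004080203) (.node (nat_lit 0x4884203004080301) (.leaf (nat_lit 0x4884201080400201) (nat_lit 1282))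
 (.node (nat_lit 0x4884203080400301) (.leaf (nat_lit 0x4884203004080301) (nat_lit 1285))
 (.leaf (nat_lit 0x4884203080400301) (nat_lit 1538))
)) (.node (nat_lit 0x4884302004080103) (.node (nat_lit 0x4884301080400203) (.leaf (nat_lit 0x4884301004080203) (nat_lit 1285))
 (.leaf (nat_lit 0x4884301080400203) (nat_lit 1538))
) (.node (nat_lit 0x4884302080400103) (.leaf (nat_lit 0x4884302004080103) (nat_lit 1541))
 (.leaf (nat_lit 0x4884302080400103) (nat_lit 1794))
))))))) (.node (nat_lit 0x84cc20300c040301) (.node (nat_lit 0x80c01030cc840302) (.node (nat_lit 0x8040102048840102) (.node (nat_lit 0x48cc20300c080301) (.node (nat_lit 0x48cc1030c0400302) (.node (nat_lit 0x48cc1020c0400102) (.leaf (nat_lit 0x48cc10200c080102) (nat_lit 1541))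
 (.node (nat_lit 0x48cc10300c080302) (.leaf (nat_lit 0x48cc1020c0400102) (nat_lit 1794))
 (.leaf (nat_lit 0x48cc10300c080302) (nat_lit 1285))
)) (.node (nat_lit 0x48cc20100c080201) (.leaf (nat_lit 0x48cc1030c0400302) (nat_lit 1538))
 (.node (nat_lit 0x48cc2010c0400201) (.leaf (nat_lit 0x48cc20100c080201) (nat_lit 773))
 (.leaf (nat_lit 0x48cc2010c0400201) (nat_lit 1026))
))) (.node (nat_lit 0x48cc3010c0400203) (.node (nat_lit 0x48cc2030c0400301) (.leaf (nat_lit 0x48cc20300c080301) (nat_lit 1029))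
 (.node (nat_lit 0x48cc30100c080203) (.leaf (nat_lit 0x48cc2030c0400301) (nat_lit 1282))
 (.leaf (nat_lit 0x48cc30100c080203) (nat_lit 1029))
)) (.node (nat_lit 0x48cc3020c0400103) (.node (nat_lit 0x48cc30200c080103) (.leaf (nat_lit 0x48cc3010c0400203) (nat_lit 1282))
 (.leaf (nat_lit 0x48cc30200c080103) (nat_lit 1285))
) (.node (nat_lit 0x8040102008040102) (.leaf (nat_lit 0x48cc3020c0400103) (nat_lit 1538))
 (.leaf (nat_lit 0x8040102008040102) (nat_lit 768))
)))) (.node (nat_lit 0x8040301008040203) (.node (nat_lit 0x8040201008040201) (.node (nat_lit 0x8040103008040302) (.leaf (nat_lit 0x8040102048840102) (nat_lit 1024))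
 (.node (nat_lit 0x8040103048840302) (.leaf (nat_lit 0x8040103008040302) (nat_lit 512))
 (.leaf (nat_lit 0x8040103048840302) (nat_lit 768))
)) (.node (nat_lit 0x8040203008040301) (.node (nat_lit 0x8040201048840201) (.leaf (nat_lit 0x8040201008040201) (nat_lit 0))
 (.leaf (nat_lit 0x8040201048840201) (nat_lit 258))
) (.node (nat_lit 0x8040203048840301) (.leaf (nat_lit 0x8040203008040301) (nat_lit 259))
 (.leaf (nat_lit 0x8040203048840301) (nat_lit 515))
))) (.node (nat_lit 0x8040302048840103) (.node (nat_lit 0x8040301048840203) (.leaf (nat_lit 0x8040301008040203) (nat_lit 256))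
 (.node (nat_lit 0x8040302008040103) (.leaf (nat_lit 0x8040301048840203) (nat_lit 514))
 (.leaf (nat_lit 0x8040302008040103) (nat_lit 515))
)) (.node (nat_lit 0x80c01020cc840102) (.node (nat_lit 0x80c010200c040102) (.leaf (nat_lit 0x8040302048840103) (nat_lit 771))
 (.leaf (nat_lit 0x80c010200c040102) (nat_lit 1028))
) (.node (nat_lit 0x80c010300c040302) (.leaf (nat_lit 0x80c01020cc840102) (nat_lit 1284))
 (.leaf (nat_lit 0x80c010300c040302) (nat_lit 772))
))))) (.node (nat_lit 0x8448201008040201) (.node (nat_lit 0x80c03010cc840203) (.node (nat_lit 0x80c020300c040301) (.node (nat_lit 0x80c020100c040201) (.leaf (nat_lit 0x80c01030cc840302) (nat_lit 1028))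
 (.node (nat_lit 0x80c02010cc840201) (.leaf (nat_lit 0x80c020100c040201) (nat_lit 260))
 (.leaf (nat_lit 0x80c02010cc840201) (nat_lit 516))
)) (.node (nat_lit 0x80c02030cc840301) (.leaf (nat_lit 0x80c020300c040301) (nat_lit 516))
 (.node (nat_lit 0x80c030100c040203) (.leaf (nat_lit 0x80c02030cc840301) (nat_lit 772))
 (.leaf (nat_lit 0x80c030100c040203) (nat_lit 516))
))) (.node (nat_lit 0x8448102008040102) (.node (nat_lit 0x80c030200c040103) (.leaf (nat_lit 0x80c03010cc840203) (nat_lit 772))
 (.node (nat_lit 0x80c03020cc840103) (.leaf (nat_lit 0x80c030200c040103) (nat_lit 772))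
 (.leaf (nat_lit 0x80c03020cc840103) (nat_lit 1028))
)) (.node (nat_lit 0x8448103008040302) (.node (nat_lit 0x8448102040800102) (.leaf (nat_lit 0x8448102008040102) (nat_lit 1029))
 (.leaf (nat_lit 0x8448102040800102) (nat_lit 1282))
) (.node (nat_lit 0x8448103040800302) (.leaf (nat_lit 0x8448103008040302) (nat_lit 773))
 (.leaf (nat_lit 0x8448103040800302) (nat_lit 1026))
)))) (.node (nat_lit 0x8448302040800103) (.node (nat_lit 0x8448203040800301) (.node (nat_lit 0x8448201040800201) (.leaf (nat_lit 0x8448201008040201) (nat_lit 261))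
 (.node (nat_lit 0x8448203008040301) (.leaf (nat_lit 0x8448201040800201) (nat_lit 514))
 (.leaf (nat_lit 0x8448203008040301) (nat_lit 517))
)) (.node (nat_lit 0x8448301040800203) (.node (nat_lit 0x8448301008040203) (.leaf (nat_lit 0x8448203040800301) (nat_lit 770))
 (.leaf (nat_lit 0x8448301008040203) (nat_lit 517))
) (.node (nat_lit 0x8448302008040103) (.leaf (nat_lit 0x8448301040800203) (nat_lit 770))
 (.leaf (nat_lit 0x8448302008040103) (nat_lit 773))
))) (.node (nat_lit 0x84cc10300c040302) (.node (nat_lit 0x84cc10200c040102) (.leaf (nat_lit 0x8448302040800103) (nat_lit 1026))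
 (.node (nat_lit 0x84cc1020c0800102) (.leaf (nat_lit 0x84cc10200c040102) (nat_lit 1285))
 (.leaf (nat_lit 0x84cc1020c0800102) (nat_lit 1538))
)) (.node (nat_lit 0x84cc20100c040201) (.node (nat_lit 0x84cc1030c0800302) (.leaf (nat_lit 0x84cc10300c040302) (nat_lit 1029))
 (.leaf (nat_lit 0x84cc1030c0800302) (nat_lit 1282))
) (.node (nat_lit 0x84cc2010c0800201) (.leaf (nat_lit 0x84cc20100c040201) (nat_lit 517))
 (.leaf (nat_lit 0x84cc2010c0800201) (nat_lit 770))
)))))) (.node (nat_lit 0xc080301084cc0203) (.node (nat_lit 0xc040203048cc0301) (.node (nat_lit 0xc0401020080c0102) (.node (nat_lit 0x84cc3010c0800203) (.node (nat_lit 0x84cc2030c0800301) (.leaf (nat_lit 0x84cc20300c040301) (nat_lit 773))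
 (.node (nat_lit 0x84cc30100c040203) (.leaf (nat_lit 0x84cc2030c0800301) (nat_lit 1026))
 (.leaf (nat_lit 0x84cc30100c040203) (nat_lit 773))
)) (.node (nat_lit 0x84cc30200c040103) (.leaf (nat_lit 0x84cc3010c0800203) (nat_lit 1026))
 (.node (nat_lit 0x84cc3020c0800103) (.leaf (nat_lit 0x84cc30200c040103) (nat_lit 1029))
 (.leaf (nat_lit 0x84cc3020c0800103) (nat_lit 1282))
))) (.node (nat_lit 0xc040103048cc0302) (.node (nat_lit 0xc040102048cc0102) (.leaf (nat_lit 0xc0401020080c0102) (nat_lit 1024))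
 (.node (nat_lit 0xc0401030080c0302) (.leaf (nat_lit 0xc040102048cc0102) (nat_lit 1280))
 (.leaf (nat_lit 0xc0401030080c0302) (nat_lit 768))
)) (.node (nat_lit 0xc040201048cc0201) (.node (nat_lit 0xc0402010080c0201) (.leaf (nat_lit 0xc040103048cc0302) (nat_lit 1024))
 (.leaf (nat_lit 0xc0402010080c0201) (nat_lit 257))
) (.node (nat_lit 0xc0402030080c0301) (.leaf (nat_lit 0xc040201048cc0201) (nat_lit 514))
 (.leaf (nat_lit 0xc0402030080c0301) (nat_lit 515))
)))) (.node (nat_lit 0xc0801030040c0302) (.node (nat_lit 0xc0403020080c0103) (.node (nat_lit 0xc0403010080c0203) (.leaf (nat_lit 0xc040203048cc0301) (nat_lit 771))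
 (.node (nat_lit 0xc040301048cc0203) (.leaf (nat_lit 0xc0403010080c0203) (nat_lit 513))
 (.leaf (nat_lit 0xc040301048cc0203) (nat_lit 770))
)) (.node (nat_lit 0xc0801020040c0102) (.node (nat_lit 0xc040302048cc0103) (.leaf (nat_lit 0xc0403020080c0103) (nat_lit 771))
 (.leaf (nat_lit 0xc040302048cc0103) (nat_lit 1027))
) (.node (nat_lit 0xc080102084cc0102) (.leaf (nat_lit 0xc0801020040c0102) (nat_lit 1284))
 (.leaf (nat_lit 0xc080102084cc0102) (nat_lit 1540))
))) (.node (nat_lit 0xc080201084cc0201) (.node (nat_lit 0xc080103084cc0302) (.leaf (nat_lit 0xc0801030040c0302) (nat_lit 1028))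
 (.node (nat_lit 0xc0802010040c0201) (.leaf (nat_lit 0xc080103084cc0302) (nat_lit 1284))
 (.leaf (nat_lit 0xc0802010040c0201) (nat_lit 516))
)) (.node (nat_lit 0xc080203084cc0301) (.node (nat_lit 0xc0802030040c0301) (.leaf (nat_lit 0xc080201084cc0201) (nat_lit 772))
 (.leaf (nat_lit 0xc0802030040c0301) (nat_lit 772))
) (.node (nat_lit 0xc0803010040c0203) (.leaf (nat_lit 0xc080203084cc0301) (nat_lit 1028))
 (.leaf (nat_lit 0xc0803010040c0203) (nat_lit 772))
))))) (.node (nat_lit 0xcc483020080c0103) (.node (nat_lit 0xcc48103040c00302) (.node (nat_lit 0xcc481020080c0102) (.node (nat_lit 0xc0803020040c0103) (.leaf (nat_lit 0xc080301084cc0203) (nat_lit 1028))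
 (.node (nat_lit 0xc080302084cc0103) (.leaf (nat_lit 0xc0803020040c0103) (nat_lit 1028))
 (.leaf (nat_lit 0xc080302084cc0103) (nat_lit 1284))
)) (.node (nat_lit 0xcc48102040c00102) (.leaf (nat_lit 0xcc481020080c0102) (nat_lit 1285))
 (.node (nat_lit 0xcc481030080c0302) (.leaf (nat_lit 0xcc48102040c00102) (nat_lit 1538))
 (.leaf (nat_lit 0xcc481030080c0302) (nat_lit 1029))
))) (.node (nat_lit 0xcc482030080c0301) (.node (nat_lit 0xcc482010080c0201) (.leaf (nat_lit 0xcc48103040c00302) (nat_lit 1282))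
 (.node (nat_lit 0xcc48201040c00201) (.leaf (nat_lit 0xcc482010080c0201) (nat_lit 517))
 (.leaf (nat_lit 0xcc48201040c00201) (nat_lit 770))
)) (.node (nat_lit 0xcc483010080c0203) (.node (nat_lit 0xcc48203040c00301) (.leaf (nat_lit 0xcc482030080c0301) (nat_lit 773))
 (.leaf (nat_lit 0xcc48203040c00301) (nat_lit 1026))
) (.node (nat_lit 0xcc48301040c00203) (.leaf (nat_lit 0xcc483010080c0203) (nat_lit 773))
 (.leaf (nat_lit 0xcc48301040c00203) (nat_lit 1026))
)))) (.node (nat_lit 0xcc84201080c00201) (.node (nat_lit 0xcc84102080c00102) (.node (nat_lit 0xcc48302040c00103) (.leaf (nat_lit 0xcc483020080c0103) (nat_lit 1029))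
 (.node (nat_lit 0xcc841020040c0102) (.leaf (nat_lit 0xcc48302040c00103) (nat_lit 1282))
 (.leaf (nat_lit 0xcc841020040c0102) (nat_lit 1541))
)) (.node (nat_lit 0xcc84103080c00302) (.node (nat_lit 0xcc841030040c0302) (.leaf (nat_lit 0xcc84102080c00102) (nat_lit 1794))
 (.leaf (nat_lit 0xcc841030040c0302) (nat_lit 1285))
) (.node (nat_lit 0xcc842010040c0201) (.leaf (nat_lit 0xcc84103080c00302) (nat_lit 1538))
 (.leaf (nat_lit 0xcc842010040c0201) (nat_lit 773))
))) (.node (nat_lit 0xcc843010040c0203) (.node (nat_lit 0xcc842030040c0301) (.leaf (nat_lit 0xcc84201080c00201) (nat_lit 1026))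
 (.node (nat_lit 0xcc84203080c00301) (.leaf (nat_lit 0xcc842030040c0301) (nat_lit 1029))
 (.leaf (nat_lit 0xcc84203080c00301) (nat_lit 1282))
)) (.node (nat_lit 0xcc843020040c0103) (.node (nat_lit 0xcc84301080c00203) (.leaf (nat_lit 0xcc843010040c0203) (nat_lit 1029))
 (.leaf (nat_lit 0xcc84301080c00203) (nat_lit 1282))
) (.node (nat_lit 0xcc84302080c00103) (.leaf (nat_lit 0xcc843020040c0103) (nat_lit 1285))
 (.leaf (nat_lit 0xcc84302080c00103) (nat_lit 1538))
))))))))

theorem Lam_ok : genOK B8.A [(nat_lit 0x8040301008040203), (nat_lit 0xc0402010080c0201), (nat_lit 0x8040201048840201), (nat_lit 0x8040203008040301), (nat_lit 0x80c020100c040201), (nat_lit 0x8448201008040201)] Lam_t (nat_lit 216) = true := by decide +kernel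

noncomputable def X8_t : ST :=
(.node (nat_lit 0xc0402010080c0201) (.node (nat_lit 0x8040301008040203) (.node (nat_lit 0x8040201048840201) (.leaf (nat_lit 0x8040201008040201) (nat_lit 0))
 (.leaf (nat_lit 0x8040201048840201) (nat_lit 258))
) (.node (nat_lit 0x8040301048840203) (.leaf (nat_lit 0x8040301008040203) (nat_lit 256))
 (.leaf (nat_lit 0x8040301048840203) (nat_lit 514))
)) (.node (nat_lit 0xc0403010080c0203) (.node (nat_lit 0xc040201048cc0201) (.leaf (nat_lit 0xc0402010080c0201) (nat_lit 257))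
 (.leaf (nat_lit 0xc040201048cc0201) (nat_lit 514))
) (.node (nat_lit 0xc040301048cc0203) (.leaf (nat_lit 0xc0403010080c0203) (nat_lit 513))
 (.leaf (nat_lit 0xc040301048cc0203) (nat_lit 770))
)))

theorem X8_ok : genOK B8.A [(nat_lit 0x8040301008040203), (nat_lit 0xc0402010080c0201), (nat_lit 0x8040201048840201)] X8_t (nat_lit 8) = true := by decide +kernel

noncomputable def E27_t : ST :=
(.node (nat_lit 0x48cc2010c0400201) (.node (nat_lit 0xc04103084cc0302) (.node (nat_lit 0x80c1030cc480302) (.node (nat_lit 0x408201048840201) (.leaf (nat_lit 0x408103048840302) (nat_lit 770))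
 (.node (nat_lit 0x408302048840103) (.leaf (nat_lit 0x408201048840201) (nat_lit 514))
 (.leaf (nat_lit 0x408302048840103) (nat_lit 1026))
)) (.node (nat_lit 0x80c2010cc480201) (.leaf (nat_lit 0x80c1030cc480302) (nat_lit 1026))
 (.node (nat_lit 0x80c3020cc480103) (.leaf (nat_lit 0x80c2010cc480201) (nat_lit 770))
 (.leaf (nat_lit 0x80c3020cc480103) (nat_lit 1282))
))) (.node (nat_lit 0x40c010300c080302) (.node (nat_lit 0xc04201084cc0201) (.leaf (nat_lit 0xc04103084cc0302) (nat_lit 1282))
 (.node (nat_lit 0xc04302084cc0103) (.leaf (nat_lit 0xc04201084cc0201) (nat_lit 1026))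
 (.leaf (nat_lit 0xc04302084cc0103) (nat_lit 1538))
)) (.node (nat_lit 0x40c030200c080103) (.node (nat_lit 0x40c020100c080201) (.leaf (nat_lit 0x40c010300c080302) (nat_lit 513))
 (.leaf (nat_lit 0x40c020100c080201) (nat_lit 257))
) (.node (nat_lit 0x48cc1030c0400302) (.leaf (nat_lit 0x40c030200c080103) (nat_lit 769))
 (.leaf (nat_lit 0x48cc1030c0400302) (nat_lit 770))
)))) (.node (nat_lit 0x8448302040800103) (.node (nat_lit 0x8040201008040201) (.node (nat_lit 0x48cc3020c0400103) (.leaf (nat_lit 0x48cc2010c0400201) (nat_lit 514))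
 (.node (nat_lit 0x8040103008040302) (.leaf (nat_lit 0x48cc3020c0400103) (nat_lit 1026))
 (.leaf (nat_lit 0x8040103008040302) (nat_lit 256))
)) (.node (nat_lit 0x8448103040800302) (.node (nat_lit 0x8040302008040103) (.leaf (nat_lit 0x8040201008040201) (nat_lit 0))
 (.leaf (nat_lit 0x8040302008040103) (nat_lit 512))
) (.node (nat_lit 0x8448201040800201) (.leaf (nat_lit 0x8448103040800302) (nat_lit 514))
 (.leaf (nat_lit 0x8448201040800201) (nat_lit 258))
))) (.node (nat_lit 0xc0803020040c0103) (.node (nat_lit 0xc0801030040c0302) (.leaf (nat_lit 0x8448302040800103) (nat_lit 770))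
 (.node (nat_lit 0xc0802010040c0201) (.leaf (nat_lit 0xc0801030040c0302) (nat_lit 769))
 (.leaf (nat_lit 0xc0802010040c0201) (nat_lit 513))
)) (.node (nat_lit 0xcc84201080c00201) (.node (nat_lit 0xcc84103080c00302) (.leaf (nat_lit 0xc0803020040c0103) (nat_lit 1025))
 (.leaf (nat_lit 0xcc84103080c00302) (nat_lit 1026))
) (.node (nat_lit 0xcc84302080c00103) (.leaf (nat_lit 0xcc84201080c00201) (nat_lit 770))
 (.leaf (nat_lit 0xcc84302080c00103) (nat_lit 1282))
)))))

theorem E27_ok : genOK B8.A [(nat_lit 0x8040103008040302), (nat_lit 0x40c020100c080201), (nat_lit 0x8448201040800201)] E27_t (nat_lit 27) = true := by decide +kernel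

noncomputable def A1_t : ST :=
(.node (nat_lit 0x9040201008040209) (.node (nat_lit 0x8050201008040205) (.node (nat_lit 0x8040301008040203) (.node (nat_lit 0x8040201018040281) (.node (nat_lit 0x8040201008140241) (.node (nat_lit 0x8040201008041221) (.leaf (nat_lit 0x8040201008040201) (nat_lit 0))
 (.leaf (nat_lit 0x8040201008041221) (nat_lit 261))
) (.node (nat_lit 0x8040201008141261) (.leaf (nat_lit 0x8040201008140241) (nat_lit 260))
 (.leaf (nat_lit 0x8040201008141261) (nat_lit 517))
)) (.node (nat_lit 0x80402010181402c1) (.node (nat_lit 0x80402010180412a1) (.leaf (nat_lit 0x8040201018040281) (nat_lit 258))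
 (.leaf (nat_lit 0x80402010180412a1) (nat_lit 517))
) (.node (nat_lit 0x80402010181412e1) (.leaf (nat_lit 0x80402010181402c1) (nat_lit 516))
 (.leaf (nat_lit 0x80402010181412e1) (nat_lit 773))
))) (.node (nat_lit 0x8040301018040283) (.node (nat_lit 0x8040301008140243) (.node (nat_lit 0x8040301008041233) (.leaf (nat_lit 0x8040301008040203) (nat_lit 256))
 (.leaf (nat_lit 0x8040301008041233) (nat_lit 517))
) (.node (nat_lit 0x8040301008141273) (.leaf (nat_lit 0x8040301008140243) (nat_lit 516))
 (.leaf (nat_lit 0x8040301008141273) (nat_lit 773))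
)) (.node (nat_lit 0x80403010181402c3) (.node (nat_lit 0x80403010180412b3) (.leaf (nat_lit 0x8040301018040283) (nat_lit 514))
 (.leaf (nat_lit 0x80403010180412b3) (nat_lit 773))
) (.node (nat_lit 0x80403010181412f3) (.leaf (nat_lit 0x80403010181402c3) (nat_lit 772))
 (.leaf (nat_lit 0x80403010181412f3) (nat_lit 1029))
)))) (.node (nat_lit 0x8050301008040207) (.node (nat_lit 0x8050201018040285) (.node (nat_lit 0x8050201008140255) (.node (nat_lit 0x8050201008041225) (.leaf (nat_lit 0x8050201008040205) (nat_lit 257))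
 (.leaf (nat_lit 0x8050201008041225) (nat_lit 517))
) (.node (nat_lit 0x8050201008141275) (.leaf (nat_lit 0x8050201008140255) (nat_lit 516))
 (.leaf (nat_lit 0x8050201008141275) (nat_lit 773))
)) (.node (nat_lit 0x80502010181402d5) (.node (nat_lit 0x80502010180412a5) (.leaf (nat_lit 0x8050201018040285) (nat_lit 514))
 (.leaf (nat_lit 0x80502010180412a5) (nat_lit 773))
) (.node (nat_lit 0x80502010181412f5) (.leaf (nat_lit 0x80502010181402d5) (nat_lit 772))
 (.leaf (nat_lit 0x80502010181412f5) (nat_lit 1029))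
))) (.node (nat_lit 0x8050301018040287) (.node (nat_lit 0x8050301008140257) (.node (nat_lit 0x8050301008041237) (.leaf (nat_lit 0x8050301008040207) (nat_lit 513))
 (.leaf (nat_lit 0x8050301008041237) (nat_lit 773))
) (.node (nat_lit 0x8050301008141267) (.leaf (nat_lit 0x8050301008140257) (nat_lit 772))
 (.leaf (nat_lit 0x8050301008141267) (nat_lit 1029))
)) (.node (nat_lit 0x80503010181402d7) (.node (nat_lit 0x80503010180412b7) (.leaf (nat_lit 0x8050301018040287) (nat_lit 770))
 (.leaf (nat_lit 0x80503010180412b7) (nat_lit 1029))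
) (.node (nat_lit 0x80503010181412e7) (.leaf (nat_lit 0x80503010181402d7) (nat_lit 1028))
 (.leaf (nat_lit 0x80503010181412e7) (nat_lit 1285))
))))) (.node (nat_lit 0x905020100804020d) (.node (nat_lit 0x904030100804020b) (.node (nat_lit 0x9040201018040299) (.node (nat_lit 0x9040201008140249) (.node (nat_lit 0x9040201008041229) (.leaf (nat_lit 0x9040201008040209) (nat_lit 259))
 (.leaf (nat_lit 0x9040201008041229) (nat_lit 517))
) (.node (nat_lit 0x9040201008141269) (.leaf (nat_lit 0x9040201008140249) (nat_lit 516))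
 (.leaf (nat_lit 0x9040201008141269) (nat_lit 773))
)) (.node (nat_lit 0x90402010181402d9) (.node (nat_lit 0x90402010180412b9) (.leaf (nat_lit 0x9040201018040299) (nat_lit 515))
 (.leaf (nat_lit 0x90402010180412b9) (nat_lit 773))
) (.node (nat_lit 0x90402010181412f9) (.leaf (nat_lit 0x90402010181402d9) (nat_lit 772))
 (.leaf (nat_lit 0x90402010181412f9) (nat_lit 1029))
))) (.node (nat_lit 0x904030101804029b) (.node (nat_lit 0x904030100814024b) (.node (nat_lit 0x904030100804123b) (.leaf (nat_lit 0x904030100804020b) (nat_lit 515))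
 (.leaf (nat_lit 0x904030100804123b) (nat_lit 773))
) (.node (nat_lit 0x904030100814127b) (.leaf (nat_lit 0x904030100814024b) (nat_lit 772))
 (.leaf (nat_lit 0x904030100814127b) (nat_lit 1029))
)) (.node (nat_lit 0x90403010181402db) (.node (nat_lit 0x90403010180412ab) (.leaf (nat_lit 0x904030101804029b) (nat_lit 771))
 (.leaf (nat_lit 0x90403010180412ab) (nat_lit 1029))
) (.node (nat_lit 0x90403010181412eb) (.leaf (nat_lit 0x90403010181402db) (nat_lit 1028))
 (.leaf (nat_lit 0x90403010181412eb) (nat_lit 1285))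
)))) (.node (nat_lit 0x905030100804020f) (.node (nat_lit 0x905020101804029d) (.node (nat_lit 0x905020100814025d) (.node (nat_lit 0x905020100804122d) (.leaf (nat_lit 0x905020100804020d) (nat_lit 515))
 (.leaf (nat_lit 0x905020100804122d) (nat_lit 773))
) (.node (nat_lit 0x905020100814127d) (.leaf (nat_lit 0x905020100814025d) (nat_lit 772))
 (.leaf (nat_lit 0x905020100814127d) (nat_lit 1029))
)) (.node (nat_lit 0x90502010181402cd) (.node (nat_lit 0x90502010180412bd) (.leaf (nat_lit 0x905020101804029d) (nat_lit 771))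
 (.leaf (nat_lit 0x90502010180412bd) (nat_lit 1029))
) (.node (nat_lit 0x90502010181412ed) (.leaf (nat_lit 0x90502010181402cd) (nat_lit 1028))
 (.leaf (nat_lit 0x90502010181412ed) (nat_lit 1285))
))) (.node (nat_lit 0x905030101804029f) (.node (nat_lit 0x905030100814025f) (.node (nat_lit 0x905030100804123f) (.leaf (nat_lit 0x905030100804020f) (nat_lit 771))
 (.leaf (nat_lit 0x905030100804123f) (nat_lit 1029))
) (.node (nat_lit 0x905030100814126f) (.leaf (nat_lit 0x905030100814025f) (nat_lit 1028))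
 (.leaf (nat_lit 0x905030100814126f) (nat_lit 1285))
)) (.node (nat_lit 0x90503010181402cf) (.node (nat_lit 0x90503010180412af) (.leaf (nat_lit 0x905030101804029f) (nat_lit 1027))
 (.leaf (nat_lit 0x90503010180412af) (nat_lit 1285))
) (.node (nat_lit 0x90503010181412ff) (.leaf (nat_lit 0x90503010181402cf) (nat_lit 1284))
 (.leaf (nat_lit 0x90503010181412ff) (nat_lit 1541))
))))))

theorem A1_ok : genOK B8.A [(nat_lit 0x8040301008040203), (nat_lit 0x8050201008040205), (nat_lit 0x8040201018040281), (nat_lit 0x9040201008040209), (nat_lit 0x8040201008140241), (nat_lit 0x8040201008041221)] A1_t (nat_lit 64) = true := by decide +kernel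

noncomputable def A3_t : ST :=
(.node (nat_lit 0xc0402010080c0201) (.node (nat_lit 0xa040201008040a01) (.node (nat_lit 0x9040201008040209) (.node (nat_lit 0x8040201008244201) (.node (nat_lit 0x8040201008140241) (.node (nat_lit 0x8040201008041221) (.leaf (nat_lit 0x8040201008040201) (nat_lit 0))
 (.leaf (nat_lit 0x8040201008041221) (nat_lit 261))
) (.node (nat_lit 0x8040201008141261) (.leaf (nat_lit 0x8040201008140241) (nat_lit 260))
 (.leaf (nat_lit 0x8040201008141261) (nat_lit 517))
)) (.node (nat_lit 0x8040201008344241) (.node (nat_lit 0x8040201008245221) (.leaf (nat_lit 0x8040201008244201) (nat_lit 258))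
 (.leaf (nat_lit 0x8040201008245221) (nat_lit 517))
) (.node (nat_lit 0x8040201008345261) (.leaf (nat_lit 0x8040201008344241) (nat_lit 516))
 (.leaf (nat_lit 0x8040201008345261) (nat_lit 773))
))) (.node (nat_lit 0x9040201008244209) (.node (nat_lit 0x9040201008140249) (.node (nat_lit 0x9040201008041229) (.leaf (nat_lit 0x9040201008040209) (nat_lit 259))
 (.leaf (nat_lit 0x9040201008041229) (nat_lit 517))
) (.node (nat_lit 0x9040201008141269) (.leaf (nat_lit 0x9040201008140249) (nat_lit 516))
 (.leaf (nat_lit 0x9040201008141269) (nat_lit 773))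
)) (.node (nat_lit 0x9040201008344249) (.node (nat_lit 0x9040201008245229) (.leaf (nat_lit 0x9040201008244209) (nat_lit 515))
 (.leaf (nat_lit 0x9040201008245229) (nat_lit 773))
) (.node (nat_lit 0x9040201008345269) (.leaf (nat_lit 0x9040201008344249) (nat_lit 772))
 (.leaf (nat_lit 0x9040201008345269) (nat_lit 1029))
)))) (.node (nat_lit 0xb040201008040a09) (.node (nat_lit 0xa040201008244a01) (.node (nat_lit 0xa040201008140a41) (.node (nat_lit 0xa040201008041a21) (.leaf (nat_lit 0xa040201008040a01) (nat_lit 257))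
 (.leaf (nat_lit 0xa040201008041a21) (nat_lit 517))
) (.node (nat_lit 0xa040201008141a61) (.leaf (nat_lit 0xa040201008140a41) (nat_lit 516))
 (.leaf (nat_lit 0xa040201008141a61) (nat_lit 773))
)) (.node (nat_lit 0xa040201008344a41) (.node (nat_lit 0xa040201008245a21) (.leaf (nat_lit 0xa040201008244a01) (nat_lit 514))
 (.leaf (nat_lit 0xa040201008245a21) (nat_lit 773))
) (.node (nat_lit 0xa040201008345a61) (.leaf (nat_lit 0xa040201008344a41) (nat_lit 772))
 (.leaf (nat_lit 0xa040201008345a61) (nat_lit 1029))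
))) (.node (nat_lit 0xb040201008244a09) (.node (nat_lit 0xb040201008140a49) (.node (nat_lit 0xb040201008041a29) (.leaf (nat_lit 0xb040201008040a09) (nat_lit 515))
 (.leaf (nat_lit 0xb040201008041a29) (nat_lit 773))
) (.node (nat_lit 0xb040201008141a69) (.leaf (nat_lit 0xb040201008140a49) (nat_lit 772))
 (.leaf (nat_lit 0xb040201008141a69) (nat_lit 1029))
)) (.node (nat_lit 0xb040201008344a49) (.node (nat_lit 0xb040201008245a29) (.leaf (nat_lit 0xb040201008244a09) (nat_lit 771))
 (.leaf (nat_lit 0xb040201008245a29) (nat_lit 1029))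
) (.node (nat_lit 0xb040201008345a69) (.leaf (nat_lit 0xb040201008344a49) (nat_lit 1028))
 (.leaf (nat_lit 0xb040201008345a69) (nat_lit 1285))
))))) (.node (nat_lit 0xe0402010080c0a01) (.node (nat_lit 0xd0402010080c0209) (.node (nat_lit 0xc0402010082c4201) (.node (nat_lit 0xc0402010081c0241) (.node (nat_lit 0xc0402010080c1221) (.leaf (nat_lit 0xc0402010080c0201) (nat_lit 256))
 (.leaf (nat_lit 0xc0402010080c1221) (nat_lit 517))
) (.node (nat_lit 0xc0402010081c1261) (.leaf (nat_lit 0xc0402010081c0241) (nat_lit 516))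
 (.leaf (nat_lit 0xc0402010081c1261) (nat_lit 773))
)) (.node (nat_lit 0xc0402010083c4241) (.node (nat_lit 0xc0402010082c5221) (.leaf (nat_lit 0xc0402010082c4201) (nat_lit 514))
 (.leaf (nat_lit 0xc0402010082c5221) (nat_lit 773))
) (.node (nat_lit 0xc0402010083c5261) (.leaf (nat_lit 0xc0402010083c4241) (nat_lit 772))
 (.leaf (nat_lit 0xc0402010083c5261) (nat_lit 1029))
))) (.node (nat_lit 0xd0402010082c4209) (.node (nat_lit 0xd0402010081c0249) (.node (nat_lit 0xd0402010080c1229) (.leaf (nat_lit 0xd0402010080c0209) (nat_lit 515))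
 (.leaf (nat_lit 0xd0402010080c1229) (nat_lit 773))
) (.node (nat_lit 0xd0402010081c1269) (.leaf (nat_lit 0xd0402010081c0249) (nat_lit 772))
 (.leaf (nat_lit 0xd0402010081c1269) (nat_lit 1029))
)) (.node (nat_lit 0xd0402010083c4249) (.node (nat_lit 0xd0402010082c5229) (.leaf (nat_lit 0xd0402010082c4209) (nat_lit 771))
 (.leaf (nat_lit 0xd0402010082c5229) (nat_lit 1029))
) (.node (nat_lit 0xd0402010083c5269) (.leaf (nat_lit 0xd0402010083c4249) (nat_lit 1028))
 (.leaf (nat_lit 0xd0402010083c5269) (nat_lit 1285))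
)))) (.node (nat_lit 0xf0402010080c0a09) (.node (nat_lit 0xe0402010082c4a01) (.node (nat_lit 0xe0402010081c0a41) (.node (nat_lit 0xe0402010080c1a21) (.leaf (nat_lit 0xe0402010080c0a01) (nat_lit 513))
 (.leaf (nat_lit 0xe0402010080c1a21) (nat_lit 773))
) (.node (nat_lit 0xe0402010081c1a61) (.leaf (nat_lit 0xe0402010081c0a41) (nat_lit 772))
 (.leaf (nat_lit 0xe0402010081c1a61) (nat_lit 1029))
)) (.node (nat_lit 0xe0402010083c4a41) (.node (nat_lit 0xe0402010082c5a21) (.leaf (nat_lit 0xe0402010082c4a01) (nat_lit 770))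
 (.leaf (nat_lit 0xe0402010082c5a21) (nat_lit 1029))
) (.node (nat_lit 0xe0402010083c5a61) (.leaf (nat_lit 0xe0402010083c4a41) (nat_lit 1028))
 (.leaf (nat_lit 0xe0402010083c5a61) (nat_lit 1285))
))) (.node (nat_lit 0xf0402010082c4a09) (.node (nat_lit 0xf0402010081c0a49) (.node (nat_lit 0xf0402010080c1a29) (.leaf (nat_lit 0xf0402010080c0a09) (nat_lit 771))
 (.leaf (nat_lit 0xf0402010080c1a29) (nat_lit 1029))
) (.node (nat_lit 0xf0402010081c1a69) (.leaf (nat_lit 0xf0402010081c0a49) (nat_lit 1028))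
 (.leaf (nat_lit 0xf0402010081c1a69) (nat_lit 1285))
)) (.node (nat_lit 0xf0402010083c4a49) (.node (nat_lit 0xf0402010082c5a29) (.leaf (nat_lit 0xf0402010082c4a09) (nat_lit 1027))
 (.leaf (nat_lit 0xf0402010082c5a29) (nat_lit 1285))
) (.node (nat_lit 0xf0402010083c5a69) (.leaf (nat_lit 0xf0402010083c4a49) (nat_lit 1284))
 (.leaf (nat_lit 0xf0402010083c5a69) (nat_lit 1541))
))))))

theorem A3_ok : genOK B8.A [(nat_lit 0xc0402010080c0201), (nat_lit 0xa040201008040a01), (nat_lit 0x8040201008244201), (nat_lit 0x9040201008040209), (nat_lit 0x8040201008140241), (nat_lit 0x8040201008041221)] A3_t (nat_lit 64) = true := by decide +kernel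

noncomputable def A4_t : ST :=
(.node (nat_lit 0x8040201048840201) (.node (nat_lit 0x8040201028048201) (.node (nat_lit 0x8040201018040281) (.node (nat_lit 0x8040201008244201) (.node (nat_lit 0x8040201008140241) (.node (nat_lit 0x8040201008041221) (.leaf (nat_lit 0x8040201008040201) (nat_lit 0))
 (.leaf (nat_lit 0x8040201008041221) (nat_lit 261))
) (.node (nat_lit 0x8040201008141261) (.leaf (nat_lit 0x8040201008140241) (nat_lit 260))
 (.leaf (nat_lit 0x8040201008141261) (nat_lit 517))
)) (.node (nat_lit 0x8040201008344241) (.node (nat_lit 0x8040201008245221) (.leaf (nat_lit 0x8040201008244201) (nat_lit 258))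
 (.leaf (nat_lit 0x8040201008245221) (nat_lit 517))
) (.node (nat_lit 0x8040201008345261) (.leaf (nat_lit 0x8040201008344241) (nat_lit 516))
 (.leaf (nat_lit 0x8040201008345261) (nat_lit 773))
))) (.node (nat_lit 0x8040201018244281) (.node (nat_lit 0x80402010181402c1) (.node (nat_lit 0x80402010180412a1) (.leaf (nat_lit 0x8040201018040281) (nat_lit 259))
 (.leaf (nat_lit 0x80402010180412a1) (nat_lit 517))
) (.node (nat_lit 0x80402010181412e1) (.leaf (nat_lit 0x80402010181402c1) (nat_lit 516))
 (.leaf (nat_lit 0x80402010181412e1) (nat_lit 773))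
)) (.node (nat_lit 0x80402010183442c1) (.node (nat_lit 0x80402010182452a1) (.leaf (nat_lit 0x8040201018244281) (nat_lit 515))
 (.leaf (nat_lit 0x80402010182452a1) (nat_lit 773))
) (.node (nat_lit 0x80402010183452e1) (.leaf (nat_lit 0x80402010183442c1) (nat_lit 772))
 (.leaf (nat_lit 0x80402010183452e1) (nat_lit 1029))
)))) (.node (nat_lit 0x8040201038048281) (.node (nat_lit 0x804020102824c201) (.node (nat_lit 0x8040201028148241) (.node (nat_lit 0x8040201028049221) (.leaf (nat_lit 0x8040201028048201) (nat_lit 257))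
 (.leaf (nat_lit 0x8040201028049221) (nat_lit 517))
) (.node (nat_lit 0x8040201028149261) (.leaf (nat_lit 0x8040201028148241) (nat_lit 516))
 (.leaf (nat_lit 0x8040201028149261) (nat_lit 773))
)) (.node (nat_lit 0x804020102834c241) (.node (nat_lit 0x804020102824d221) (.leaf (nat_lit 0x804020102824c201) (nat_lit 514))
 (.leaf (nat_lit 0x804020102824d221) (nat_lit 773))
) (.node (nat_lit 0x804020102834d261) (.leaf (nat_lit 0x804020102834c241) (nat_lit 772))
 (.leaf (nat_lit 0x804020102834d261) (nat_lit 1029))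
))) (.node (nat_lit 0x804020103824c281) (.node (nat_lit 0x80402010381482c1) (.node (nat_lit 0x80402010380492a1) (.leaf (nat_lit 0x8040201038048281) (nat_lit 515))
 (.leaf (nat_lit 0x80402010380492a1) (nat_lit 773))
) (.node (nat_lit 0x80402010381492e1) (.leaf (nat_lit 0x80402010381482c1) (nat_lit 772))
 (.leaf (nat_lit 0x80402010381492e1) (nat_lit 1029))
)) (.node (nat_lit 0x804020103834c2c1) (.node (nat_lit 0x804020103824d2a1) (.leaf (nat_lit 0x804020103824c281) (nat_lit 771))
 (.leaf (nat_lit 0x804020103824d2a1) (nat_lit 1029))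
) (.node (nat_lit 0x804020103834d2e1) (.leaf (nat_lit 0x804020103834c2c1) (nat_lit 1028))
 (.leaf (nat_lit 0x804020103834d2e1) (nat_lit 1285))
))))) (.node (nat_lit 0x8040201068848201) (.node (nat_lit 0x8040201058840281) (.node (nat_lit 0x8040201048a44201) (.node (nat_lit 0x8040201048940241) (.node (nat_lit 0x8040201048841221) (.leaf (nat_lit 0x8040201048840201) (nat_lit 256))
 (.leaf (nat_lit 0x8040201048841221) (nat_lit 517))
) (.node (nat_lit 0x8040201048941261) (.leaf (nat_lit 0x8040201048940241) (nat_lit 516))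
 (.leaf (nat_lit 0x8040201048941261) (nat_lit 773))
)) (.node (nat_lit 0x8040201048b44241) (.node (nat_lit 0x8040201048a45221) (.leaf (nat_lit 0x8040201048a44201) (nat_lit 514))
 (.leaf (nat_lit 0x8040201048a45221) (nat_lit 773))
) (.node (nat_lit 0x8040201048b45261) (.leaf (nat_lit 0x8040201048b44241) (nat_lit 772))
 (.leaf (nat_lit 0x8040201048b45261) (nat_lit 1029))
))) (.node (nat_lit 0x8040201058a44281) (.node (nat_lit 0x80402010589402c1) (.node (nat_lit 0x80402010588412a1) (.leaf (nat_lit 0x8040201058840281) (nat_lit 515))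
 (.leaf (nat_lit 0x80402010588412a1) (nat_lit 773))
) (.node (nat_lit 0x80402010589412e1) (.leaf (nat_lit 0x80402010589402c1) (nat_lit 772))
 (.leaf (nat_lit 0x80402010589412e1) (nat_lit 1029))
)) (.node (nat_lit 0x8040201058b442c1) (.node (nat_lit 0x8040201058a452a1) (.leaf (nat_lit 0x8040201058a44281) (nat_lit 771))
 (.leaf (nat_lit 0x8040201058a452a1) (nat_lit 1029))
) (.node (nat_lit 0x8040201058b452e1) (.leaf (nat_lit 0x8040201058b442c1) (nat_lit 1028))
 (.leaf (nat_lit 0x8040201058b452e1) (nat_lit 1285))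
)))) (.node (nat_lit 0x8040201078848281) (.node (nat_lit 0x8040201068a4c201) (.node (nat_lit 0x8040201068948241) (.node (nat_lit 0x8040201068849221) (.leaf (nat_lit 0x8040201068848201) (nat_lit 513))
 (.leaf (nat_lit 0x8040201068849221) (nat_lit 773))
) (.node (nat_lit 0x8040201068949261) (.leaf (nat_lit 0x8040201068948241) (nat_lit 772))
 (.leaf (nat_lit 0x8040201068949261) (nat_lit 1029))
)) (.node (nat_lit 0x8040201068b4c241) (.node (nat_lit 0x8040201068a4d221) (.leaf (nat_lit 0x8040201068a4c201) (nat_lit 770))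
 (.leaf (nat_lit 0x8040201068a4d221) (nat_lit 1029))
) (.node (nat_lit 0x8040201068b4d261) (.leaf (nat_lit 0x8040201068b4c241) (nat_lit 1028))
 (.leaf (nat_lit 0x8040201068b4d261) (nat_lit 1285))
))) (.node (nat_lit 0x8040201078a4c281) (.node (nat_lit 0x80402010789482c1) (.node (nat_lit 0x80402010788492a1) (.leaf (nat_lit 0x8040201078848281) (nat_lit 771))
 (.leaf (nat_lit 0x80402010788492a1) (nat_lit 1029))
) (.node (nat_lit 0x80402010789492e1) (.leaf (nat_lit 0x80402010789482c1) (nat_lit 1028))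
 (.leaf (nat_lit 0x80402010789492e1) (nat_lit 1285))
)) (.node (nat_lit 0x8040201078b4c2c1) (.node (nat_lit 0x8040201078a4d2a1) (.leaf (nat_lit 0x8040201078a4c281) (nat_lit 1027))
 (.leaf (nat_lit 0x8040201078a4d2a1) (nat_lit 1285))
) (.node (nat_lit 0x8040201078b4d2e1) (.leaf (nat_lit 0x8040201078b4c2c1) (nat_lit 1284))
 (.leaf (nat_lit 0x8040201078b4d2e1) (nat_lit 1541))
))))))

theorem A4_ok : genOK B8.A [(nat_lit 0x8040201048840201), (nat_lit 0x8040201028048201), (nat_lit 0x8040201008244201), (nat_lit 0x8040201018040281), (nat_lit 0x8040201008140241), (nat_lit 0x8040201008041221)] A4_t (nat_lit 64) = true := by decide +kernel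

noncomputable def B1_t : ST :=
(.node (nat_lit 0xc040201048cc0201) (.node (nat_lit 0xa04020102804aa01) (.node (nat_lit 0x9040201018040299) (.node (nat_lit 0x8040201008244201) (.node (nat_lit 0x8040201008140241) (.node (nat_lit 0x8040201008041221) (.leaf (nat_lit 0x8040201008040201) (nat_lit 0))
 (.leaf (nat_lit 0x8040201008041221) (nat_lit 261))
) (.node (nat_lit 0x8040201008141261) (.leaf (nat_lit 0x8040201008140241) (nat_lit 260))
 (.leaf (nat_lit 0x8040201008141261) (nat_lit 517))
)) (.node (nat_lit 0x8040201008344241) (.node (nat_lit 0x8040201008245221) (.leaf (nat_lit 0x8040201008244201) (nat_lit 259))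
 (.leaf (nat_lit 0x8040201008245221) (nat_lit 517))
) (.node (nat_lit 0x8040201008345261) (.leaf (nat_lit 0x8040201008344241) (nat_lit 516))
 (.leaf (nat_lit 0x8040201008345261) (nat_lit 773))
))) (.node (nat_lit 0x9040201018244299) (.node (nat_lit 0x90402010181402d9) (.node (nat_lit 0x90402010180412b9) (.leaf (nat_lit 0x9040201018040299) (nat_lit 258))
 (.leaf (nat_lit 0x90402010180412b9) (nat_lit 517))
) (.node (nat_lit 0x90402010181412f9) (.leaf (nat_lit 0x90402010181402d9) (nat_lit 516))
 (.leaf (nat_lit 0x90402010181412f9) (nat_lit 773))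
)) (.node (nat_lit 0x90402010183442d9) (.node (nat_lit 0x90402010182452b9) (.leaf (nat_lit 0x9040201018244299) (nat_lit 515))
 (.leaf (nat_lit 0x90402010182452b9) (nat_lit 773))
) (.node (nat_lit 0x90402010183452f9) (.leaf (nat_lit 0x90402010183442d9) (nat_lit 772))
 (.leaf (nat_lit 0x90402010183452f9) (nat_lit 1029))
)))) (.node (nat_lit 0xb04020103804aa99) (.node (nat_lit 0xa04020102824ea01) (.node (nat_lit 0xa04020102814aa41) (.node (nat_lit 0xa04020102804ba21) (.leaf (nat_lit 0xa04020102804aa01) (nat_lit 257))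
 (.leaf (nat_lit 0xa04020102804ba21) (nat_lit 517))
) (.node (nat_lit 0xa04020102814ba61) (.leaf (nat_lit 0xa04020102814aa41) (nat_lit 516))
 (.leaf (nat_lit 0xa04020102814ba61) (nat_lit 773))
)) (.node (nat_lit 0xa04020102834ea41) (.node (nat_lit 0xa04020102824fa21) (.leaf (nat_lit 0xa04020102824ea01) (nat_lit 515))
 (.leaf (nat_lit 0xa04020102824fa21) (nat_lit 773))
) (.node (nat_lit 0xa04020102834fa61) (.leaf (nat_lit 0xa04020102834ea41) (nat_lit 772))
 (.leaf (nat_lit 0xa04020102834fa61) (nat_lit 1029))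
))) (.node (nat_lit 0xb04020103824ea99) (.node (nat_lit 0xb04020103814aad9) (.node (nat_lit 0xb04020103804bab9) (.leaf (nat_lit 0xb04020103804aa99) (nat_lit 514))
 (.leaf (nat_lit 0xb04020103804bab9) (nat_lit 773))
) (.node (nat_lit 0xb04020103814baf9) (.leaf (nat_lit 0xb04020103814aad9) (nat_lit 772))
 (.leaf (nat_lit 0xb04020103814baf9) (nat_lit 1029))
)) (.node (nat_lit 0xb04020103834ead9) (.node (nat_lit 0xb04020103824fab9) (.leaf (nat_lit 0xb04020103824ea99) (nat_lit 771))
 (.leaf (nat_lit 0xb04020103824fab9) (nat_lit 1029))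
) (.node (nat_lit 0xb04020103834faf9) (.leaf (nat_lit 0xb04020103834ead9) (nat_lit 1028))
 (.leaf (nat_lit 0xb04020103834faf9) (nat_lit 1285))
))))) (.node (nat_lit 0xe040201068ccaa01) (.node (nat_lit 0xd040201058cc0299) (.node (nat_lit 0xc040201048ec4201) (.node (nat_lit 0xc040201048dc0241) (.node (nat_lit 0xc040201048cc1221) (.leaf (nat_lit 0xc040201048cc0201) (nat_lit 256))
 (.leaf (nat_lit 0xc040201048cc1221) (nat_lit 517))
) (.node (nat_lit 0xc040201048dc1261) (.leaf (nat_lit 0xc040201048dc0241) (nat_lit 516))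
 (.leaf (nat_lit 0xc040201048dc1261) (nat_lit 773))
)) (.node (nat_lit 0xc040201048fc4241) (.node (nat_lit 0xc040201048ec5221) (.leaf (nat_lit 0xc040201048ec4201) (nat_lit 515))
 (.leaf (nat_lit 0xc040201048ec5221) (nat_lit 773))
) (.node (nat_lit 0xc040201048fc5261) (.leaf (nat_lit 0xc040201048fc4241) (nat_lit 772))
 (.leaf (nat_lit 0xc040201048fc5261) (nat_lit 1029))
))) (.node (nat_lit 0xd040201058ec4299) (.node (nat_lit 0xd040201058dc02d9) (.node (nat_lit 0xd040201058cc12b9) (.leaf (nat_lit 0xd040201058cc0299) (nat_lit 514))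
 (.leaf (nat_lit 0xd040201058cc12b9) (nat_lit 773))
) (.node (nat_lit 0xd040201058dc12f9) (.leaf (nat_lit 0xd040201058dc02d9) (nat_lit 772))
 (.leaf (nat_lit 0xd040201058dc12f9) (nat_lit 1029))
)) (.node (nat_lit 0xd040201058fc42d9) (.node (nat_lit 0xd040201058ec52b9) (.leaf (nat_lit 0xd040201058ec4299) (nat_lit 771))
 (.leaf (nat_lit 0xd040201058ec52b9) (nat_lit 1029))
) (.node (nat_lit 0xd040201058fc52f9) (.leaf (nat_lit 0xd040201058fc42d9) (nat_lit 1028))
 (.leaf (nat_lit 0xd040201058fc52f9) (nat_lit 1285))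
)))) (.node (nat_lit 0xf040201078ccaa99) (.node (nat_lit 0xe040201068ecea01) (.node (nat_lit 0xe040201068dcaa41) (.node (nat_lit 0xe040201068ccba21) (.leaf (nat_lit 0xe040201068ccaa01) (nat_lit 513))
 (.leaf (nat_lit 0xe040201068ccba21) (nat_lit 773))
) (.node (nat_lit 0xe040201068dcba61) (.leaf (nat_lit 0xe040201068dcaa41) (nat_lit 772))
 (.leaf (nat_lit 0xe040201068dcba61) (nat_lit 1029))
)) (.node (nat_lit 0xe040201068fcea41) (.node (nat_lit 0xe040201068ecfa21) (.leaf (nat_lit 0xe040201068ecea01) (nat_lit 771))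
 (.leaf (nat_lit 0xe040201068ecfa21) (nat_lit 1029))
) (.node (nat_lit 0xe040201068fcfa61) (.leaf (nat_lit 0xe040201068fcea41) (nat_lit 1028))
 (.leaf (nat_lit 0xe040201068fcfa61) (nat_lit 1285))
))) (.node (nat_lit 0xf040201078ecea99) (.node (nat_lit 0xf040201078dcaad9) (.node (nat_lit 0xf040201078ccbab9) (.leaf (nat_lit 0xf040201078ccaa99) (nat_lit 770))
 (.leaf (nat_lit 0xf040201078ccbab9) (nat_lit 1029))
) (.node (nat_lit 0xf040201078dcbaf9) (.leaf (nat_lit 0xf040201078dcaad9) (nat_lit 1028))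
 (.leaf (nat_lit 0xf040201078dcbaf9) (nat_lit 1285))
)) (.node (nat_lit 0xf040201078fcead9) (.node (nat_lit 0xf040201078ecfab9) (.leaf (nat_lit 0xf040201078ecea99) (nat_lit 1027))
 (.leaf (nat_lit 0xf040201078ecfab9) (nat_lit 1285))
) (.node (nat_lit 0xf040201078fcfaf9) (.leaf (nat_lit 0xf040201078fcead9) (nat_lit 1284))
 (.leaf (nat_lit 0xf040201078fcfaf9) (nat_lit 1541))
))))))

theorem B1_ok : genOK B8.A [(nat_lit 0xc040201048cc0201), (nat_lit 0xa04020102804aa01), (nat_lit 0x9040201018040299), (nat_lit 0x8040201008244201), (nat_lit 0x8040201008140241), (nat_lit 0x8040201008041221)] B1_t (nat_lit 64) = true := by decide +kernel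

noncomputable def B3_t : ST :=
(.node (nat_lit 0x9040201008244209) (.node (nat_lit 0x8050201028048205) (.node (nat_lit 0x8040301048840203) (.node (nat_lit 0x8040201018040281) (.node (nat_lit 0x8040201008140241) (.node (nat_lit 0x8040201008041221) (.leaf (nat_lit 0x8040201008040201) (nat_lit 0))
 (.leaf (nat_lit 0x8040201008041221) (nat_lit 261))
) (.node (nat_lit 0x8040201008141261) (.leaf (nat_lit 0x8040201008140241) (nat_lit 260))
 (.leaf (nat_lit 0x8040201008141261) (nat_lit 517))
)) (.node (nat_lit 0x80402010181402c1) (.node (nat_lit 0x80402010180412a1) (.leaf (nat_lit 0x8040201018040281) (nat_lit 259))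
 (.leaf (nat_lit 0x80402010180412a1) (nat_lit 517))
) (.node (nat_lit 0x80402010181412e1) (.leaf (nat_lit 0x80402010181402c1) (nat_lit 516))
 (.leaf (nat_lit 0x80402010181412e1) (nat_lit 773))
))) (.node (nat_lit 0x8040301058840283) (.node (nat_lit 0x8040301048940243) (.node (nat_lit 0x8040301048841233) (.leaf (nat_lit 0x8040301048840203) (nat_lit 256))
 (.leaf (nat_lit 0x8040301048841233) (nat_lit 517))
) (.node (nat_lit 0x8040301048941273) (.leaf (nat_lit 0x8040301048940243) (nat_lit 516))
 (.leaf (nat_lit 0x8040301048941273) (nat_lit 773))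
)) (.node (nat_lit 0x80403010589402c3) (.node (nat_lit 0x80403010588412b3) (.leaf (nat_lit 0x8040301058840283) (nat_lit 515))
 (.leaf (nat_lit 0x80403010588412b3) (nat_lit 773))
) (.node (nat_lit 0x80403010589412f3) (.leaf (nat_lit 0x80403010589402c3) (nat_lit 772))
 (.leaf (nat_lit 0x80403010589412f3) (nat_lit 1029))
)))) (.node (nat_lit 0x8050301068848207) (.node (nat_lit 0x8050201038048285) (.node (nat_lit 0x8050201028148255) (.node (nat_lit 0x8050201028049225) (.leaf (nat_lit 0x8050201028048205) (nat_lit 257))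
 (.leaf (nat_lit 0x8050201028049225) (nat_lit 517))
) (.node (nat_lit 0x8050201028149275) (.leaf (nat_lit 0x8050201028148255) (nat_lit 516))
 (.leaf (nat_lit 0x8050201028149275) (nat_lit 773))
)) (.node (nat_lit 0x80502010381482d5) (.node (nat_lit 0x80502010380492a5) (.leaf (nat_lit 0x8050201038048285) (nat_lit 515))
 (.leaf (nat_lit 0x80502010380492a5) (nat_lit 773))
) (.node (nat_lit 0x80502010381492f5) (.leaf (nat_lit 0x80502010381482d5) (nat_lit 772))
 (.leaf (nat_lit 0x80502010381492f5) (nat_lit 1029))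
))) (.node (nat_lit 0x8050301078848287) (.node (nat_lit 0x8050301068948257) (.node (nat_lit 0x8050301068849237) (.leaf (nat_lit 0x8050301068848207) (nat_lit 771))
 (.leaf (nat_lit 0x8050301068849237) (nat_lit 1029))
) (.node (nat_lit 0x8050301068949267) (.leaf (nat_lit 0x8050301068948257) (nat_lit 1028))
 (.leaf (nat_lit 0x8050301068949267) (nat_lit 1285))
)) (.node (nat_lit 0x80503010789482d7) (.node (nat_lit 0x80503010788492b7) (.leaf (nat_lit 0x8050301078848287) (nat_lit 513))
 (.leaf (nat_lit 0x80503010788492b7) (nat_lit 773))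
) (.node (nat_lit 0x80503010789492e7) (.leaf (nat_lit 0x80503010789482d7) (nat_lit 772))
 (.leaf (nat_lit 0x80503010789492e7) (nat_lit 1029))
))))) (.node (nat_lit 0x905020102824c20d) (.node (nat_lit 0x9040301048a4420b) (.node (nat_lit 0x9040201018244299) (.node (nat_lit 0x9040201008344249) (.node (nat_lit 0x9040201008245229) (.leaf (nat_lit 0x9040201008244209) (nat_lit 258))
 (.leaf (nat_lit 0x9040201008245229) (nat_lit 517))
) (.node (nat_lit 0x9040201008345269) (.leaf (nat_lit 0x9040201008344249) (nat_lit 516))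
 (.leaf (nat_lit 0x9040201008345269) (nat_lit 773))
)) (.node (nat_lit 0x90402010183442d9) (.node (nat_lit 0x90402010182452b9) (.leaf (nat_lit 0x9040201018244299) (nat_lit 515))
 (.leaf (nat_lit 0x90402010182452b9) (nat_lit 773))
) (.node (nat_lit 0x90402010183452f9) (.leaf (nat_lit 0x90402010183442d9) (nat_lit 772))
 (.leaf (nat_lit 0x90402010183452f9) (nat_lit 1029))
))) (.node (nat_lit 0x9040301058a4429b) (.node (nat_lit 0x9040301048b4424b) (.node (nat_lit 0x9040301048a4523b) (.leaf (nat_lit 0x9040301048a4420b) (nat_lit 772))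
 (.leaf (nat_lit 0x9040301048a4523b) (nat_lit 1029))
) (.node (nat_lit 0x9040301048b4527b) (.leaf (nat_lit 0x9040301048b4424b) (nat_lit 514))
 (.leaf (nat_lit 0x9040301048b4527b) (nat_lit 773))
)) (.node (nat_lit 0x9040301058b442db) (.node (nat_lit 0x9040301058a452ab) (.leaf (nat_lit 0x9040301058a4429b) (nat_lit 1028))
 (.leaf (nat_lit 0x9040301058a452ab) (nat_lit 1285))
) (.node (nat_lit 0x9040301058b452eb) (.leaf (nat_lit 0x9040301058b442db) (nat_lit 771))
 (.leaf (nat_lit 0x9040301058b452eb) (nat_lit 1029))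
)))) (.node (nat_lit 0x9050301068a4c20f) (.node (nat_lit 0x905020103824c29d) (.node (nat_lit 0x905020102834c25d) (.node (nat_lit 0x905020102824d22d) (.leaf (nat_lit 0x905020102824c20d) (nat_lit 773))
 (.leaf (nat_lit 0x905020102824d22d) (nat_lit 514))
) (.node (nat_lit 0x905020102834d27d) (.leaf (nat_lit 0x905020102834c25d) (nat_lit 1029))
 (.leaf (nat_lit 0x905020102834d27d) (nat_lit 772))
)) (.node (nat_lit 0x905020103834c2cd) (.node (nat_lit 0x905020103824d2bd) (.leaf (nat_lit 0x905020103824c29d) (nat_lit 1029))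
 (.leaf (nat_lit 0x905020103824d2bd) (nat_lit 771))
) (.node (nat_lit 0x905020103834d2ed) (.leaf (nat_lit 0x905020103834c2cd) (nat_lit 1285))
 (.leaf (nat_lit 0x905020103834d2ed) (nat_lit 1028))
))) (.node (nat_lit 0x9050301078a4c29f) (.node (nat_lit 0x9050301068b4c25f) (.node (nat_lit 0x9050301068a4d23f) (.leaf (nat_lit 0x9050301068a4c20f) (nat_lit 1541))
 (.leaf (nat_lit 0x9050301068a4d23f) (nat_lit 1284))
) (.node (nat_lit 0x9050301068b4d26f) (.leaf (nat_lit 0x9050301068b4c25f) (nat_lit 1285))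
 (.leaf (nat_lit 0x9050301068b4d26f) (nat_lit 1027))
)) (.node (nat_lit 0x9050301078b4c2cf) (.node (nat_lit 0x9050301078a4d2af) (.leaf (nat_lit 0x9050301078a4c29f) (nat_lit 1285))
 (.leaf (nat_lit 0x9050301078a4d2af) (nat_lit 1028))
) (.node (nat_lit 0x9050301078b4d2ff) (.leaf (nat_lit 0x9050301078b4c2cf) (nat_lit 1029))
 (.leaf (nat_lit 0x9050301078b4d2ff) (nat_lit 770))
))))))

theorem B3_ok : genOK B8.A [(nat_lit 0x8040301048840203), (nat_lit 0x8050201028048205), (nat_lit 0x9040201008244209), (nat_lit 0x8040201018040281), (nat_lit 0x8040201008140241), (nat_lit 0x8040201008041221)] B3_t (nat_lit 64) = true := by decide +kernel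

noncomputable def B4_t : ST :=
(.node (nat_lit 0xc0403010080c0203) (.node (nat_lit 0xa050201008040a05) (.node (nat_lit 0x9040201008040209) (.node (nat_lit 0x8040201018244281) (.node (nat_lit 0x8040201008140241) (.node (nat_lit 0x8040201008041221) (.leaf (nat_lit 0x8040201008040201) (nat_lit 0))
 (.leaf (nat_lit 0x8040201008041221) (nat_lit 261))
) (.node (nat_lit 0x8040201008141261) (.leaf (nat_lit 0x8040201008140241) (nat_lit 260))
 (.leaf (nat_lit 0x8040201008141261) (nat_lit 517))
)) (.node (nat_lit 0x80402010183442c1) (.node (nat_lit 0x80402010182452a1) (.leaf (nat_lit 0x8040201018244281) (nat_lit 258))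
 (.leaf (nat_lit 0x80402010182452a1) (nat_lit 517))
) (.node (nat_lit 0x80402010183452e1) (.leaf (nat_lit 0x80402010183442c1) (nat_lit 516))
 (.leaf (nat_lit 0x80402010183452e1) (nat_lit 773))
))) (.node (nat_lit 0x9040201018244299) (.node (nat_lit 0x9040201008140249) (.node (nat_lit 0x9040201008041229) (.leaf (nat_lit 0x9040201008040209) (nat_lit 259))
 (.leaf (nat_lit 0x9040201008041229) (nat_lit 517))
) (.node (nat_lit 0x9040201008141269) (.leaf (nat_lit 0x9040201008140249) (nat_lit 516))
 (.leaf (nat_lit 0x9040201008141269) (nat_lit 773))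
)) (.node (nat_lit 0x90402010183442d9) (.node (nat_lit 0x90402010182452b9) (.leaf (nat_lit 0x9040201018244299) (nat_lit 515))
 (.leaf (nat_lit 0x90402010182452b9) (nat_lit 773))
) (.node (nat_lit 0x90402010183452f9) (.leaf (nat_lit 0x90402010183442d9) (nat_lit 772))
 (.leaf (nat_lit 0x90402010183452f9) (nat_lit 1029))
)))) (.node (nat_lit 0xb050201008040a0d) (.node (nat_lit 0xa050201018244a85) (.node (nat_lit 0xa050201008140a55) (.node (nat_lit 0xa050201008041a25) (.leaf (nat_lit 0xa050201008040a05) (nat_lit 257))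
 (.leaf (nat_lit 0xa050201008041a25) (nat_lit 517))
) (.node (nat_lit 0xa050201008141a75) (.leaf (nat_lit 0xa050201008140a55) (nat_lit 516))
 (.leaf (nat_lit 0xa050201008141a75) (nat_lit 773))
)) (.node (nat_lit 0xa050201018344ad5) (.node (nat_lit 0xa050201018245aa5) (.leaf (nat_lit 0xa050201018244a85) (nat_lit 773))
 (.leaf (nat_lit 0xa050201018245aa5) (nat_lit 514))
) (.node (nat_lit 0xa050201018345af5) (.leaf (nat_lit 0xa050201018344ad5) (nat_lit 1029))
 (.leaf (nat_lit 0xa050201018345af5) (nat_lit 772))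
))) (.node (nat_lit 0xb050201018244a9d) (.node (nat_lit 0xb050201008140a5d) (.node (nat_lit 0xb050201008041a2d) (.leaf (nat_lit 0xb050201008040a0d) (nat_lit 515))
 (.leaf (nat_lit 0xb050201008041a2d) (nat_lit 773))
) (.node (nat_lit 0xb050201008141a7d) (.leaf (nat_lit 0xb050201008140a5d) (nat_lit 772))
 (.leaf (nat_lit 0xb050201008141a7d) (nat_lit 1029))
)) (.node (nat_lit 0xb050201018344acd) (.node (nat_lit 0xb050201018245abd) (.leaf (nat_lit 0xb050201018244a9d) (nat_lit 1029))
 (.leaf (nat_lit 0xb050201018245abd) (nat_lit 771))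
) (.node (nat_lit 0xb050201018345aed) (.leaf (nat_lit 0xb050201018344acd) (nat_lit 1285))
 (.leaf (nat_lit 0xb050201018345aed) (nat_lit 1028))
))))) (.node (nat_lit 0xe0503010080c0a07) (.node (nat_lit 0xd0403010080c020b) (.node (nat_lit 0xc0403010182c4283) (.node (nat_lit 0xc0403010081c0243) (.node (nat_lit 0xc0403010080c1233) (.leaf (nat_lit 0xc0403010080c0203) (nat_lit 256))
 (.leaf (nat_lit 0xc0403010080c1233) (nat_lit 517))
) (.node (nat_lit 0xc0403010081c1273) (.leaf (nat_lit 0xc0403010081c0243) (nat_lit 516))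
 (.leaf (nat_lit 0xc0403010081c1273) (nat_lit 773))
)) (.node (nat_lit 0xc0403010183c42c3) (.node (nat_lit 0xc0403010182c52b3) (.leaf (nat_lit 0xc0403010182c4283) (nat_lit 772))
 (.leaf (nat_lit 0xc0403010182c52b3) (nat_lit 1029))
) (.node (nat_lit 0xc0403010183c52f3) (.leaf (nat_lit 0xc0403010183c42c3) (nat_lit 514))
 (.leaf (nat_lit 0xc0403010183c52f3) (nat_lit 773))
))) (.node (nat_lit 0xd0403010182c429b) (.node (nat_lit 0xd0403010081c024b) (.node (nat_lit 0xd0403010080c123b) (.leaf (nat_lit 0xd0403010080c020b) (nat_lit 515))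
 (.leaf (nat_lit 0xd0403010080c123b) (nat_lit 773))
) (.node (nat_lit 0xd0403010081c127b) (.leaf (nat_lit 0xd0403010081c024b) (nat_lit 772))
 (.leaf (nat_lit 0xd0403010081c127b) (nat_lit 1029))
)) (.node (nat_lit 0xd0403010183c42db) (.node (nat_lit 0xd0403010182c52ab) (.leaf (nat_lit 0xd0403010182c429b) (nat_lit 1028))
 (.leaf (nat_lit 0xd0403010182c52ab) (nat_lit 1285))
) (.node (nat_lit 0xd0403010183c52eb) (.leaf (nat_lit 0xd0403010183c42db) (nat_lit 771))
 (.leaf (nat_lit 0xd0403010183c52eb) (nat_lit 1029))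
)))) (.node (nat_lit 0xf0503010080c0a0f) (.node (nat_lit 0xe0503010182c4a87) (.node (nat_lit 0xe0503010081c0a57) (.node (nat_lit 0xe0503010080c1a37) (.leaf (nat_lit 0xe0503010080c0a07) (nat_lit 771))
 (.leaf (nat_lit 0xe0503010080c1a37) (nat_lit 1029))
) (.node (nat_lit 0xe0503010081c1a67) (.leaf (nat_lit 0xe0503010081c0a57) (nat_lit 1028))
 (.leaf (nat_lit 0xe0503010081c1a67) (nat_lit 1285))
)) (.node (nat_lit 0xe0503010183c4ad7) (.node (nat_lit 0xe0503010182c5ab7) (.leaf (nat_lit 0xe0503010182c4a87) (nat_lit 1541))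
 (.leaf (nat_lit 0xe0503010182c5ab7) (nat_lit 1284))
) (.node (nat_lit 0xe0503010183c5ae7) (.leaf (nat_lit 0xe0503010183c4ad7) (nat_lit 1285))
 (.leaf (nat_lit 0xe0503010183c5ae7) (nat_lit 1027))
))) (.node (nat_lit 0xf0503010182c4a9f) (.node (nat_lit 0xf0503010081c0a5f) (.node (nat_lit 0xf0503010080c1a3f) (.leaf (nat_lit 0xf0503010080c0a0f) (nat_lit 513))
 (.leaf (nat_lit 0xf0503010080c1a3f) (nat_lit 773))
) (.node (nat_lit 0xf0503010081c1a6f) (.leaf (nat_lit 0xf0503010081c0a5f) (nat_lit 772))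
 (.leaf (nat_lit 0xf0503010081c1a6f) (nat_lit 1029))
)) (.node (nat_lit 0xf0503010183c4acf) (.node (nat_lit 0xf0503010182c5aaf) (.leaf (nat_lit 0xf0503010182c4a9f) (nat_lit 1285))
 (.leaf (nat_lit 0xf0503010182c5aaf) (nat_lit 1028))
) (.node (nat_lit 0xf0503010183c5aff) (.leaf (nat_lit 0xf0503010183c4acf) (nat_lit 1029))
 (.leaf (nat_lit 0xf0503010183c5aff) (nat_lit 770))
))))))

theorem B4_ok : genOK B8.A [(nat_lit 0xc0403010080c0203), (nat_lit 0xa050201008040a05), (nat_lit 0x8040201018244281), (nat_lit 0x9040201008040209), (nat_lit 0x8040201008140241), (nat_lit 0x8040201008041221)] B4_t (nat_lit 64) = true := by decide +kernel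

noncomputable def P1_t : ST :=
(.node (nat_lit 0x8040201008244201) (.node (nat_lit 0x8040201008140241) (.node (nat_lit 0x8040201008041221) (.leaf (nat_lit 0x8040201008040201) (nat_lit 0))
 (.leaf (nat_lit 0x8040201008041221) (nat_lit 258))
) (.node (nat_lit 0x8040201008141261) (.leaf (nat_lit 0x8040201008140241) (nat_lit 257))
 (.leaf (nat_lit 0x8040201008141261) (nat_lit 514))
)) (.node (nat_lit 0x8040201008344241) (.node (nat_lit 0x8040201008245221) (.leaf (nat_lit 0x8040201008244201) (nat_lit 256))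
 (.leaf (nat_lit 0x8040201008245221) (nat_lit 514))
) (.node (nat_lit 0x8040201008345261) (.leaf (nat_lit 0x8040201008344241) (nat_lit 513))
 (.leaf (nat_lit 0x8040201008345261) (nat_lit 770))
)))

theorem P1_ok : genOK B8.A [(nat_lit 0x8040201008244201), (nat_lit 0x8040201008140241), (nat_lit 0x8040201008041221)] P1_t (nat_lit 8) = true := by decide +kernel

noncomputable def P3_t : ST :=
(.node (nat_lit 0x8040201018040281) (.node (nat_lit 0x8040201008140241) (.node (nat_lit 0x8040201008041221) (.leaf (nat_lit 0x8040201008040201) (nat_lit 0))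
 (.leaf (nat_lit 0x8040201008041221) (nat_lit 258))
) (.node (nat_lit 0x8040201008141261) (.leaf (nat_lit 0x8040201008140241) (nat_lit 257))
 (.leaf (nat_lit 0x8040201008141261) (nat_lit 514))
)) (.node (nat_lit 0x80402010181402c1) (.node (nat_lit 0x80402010180412a1) (.leaf (nat_lit 0x8040201018040281) (nat_lit 256))
 (.leaf (nat_lit 0x80402010180412a1) (nat_lit 514))
) (.node (nat_lit 0x80402010181412e1) (.leaf (nat_lit 0x80402010181402c1) (nat_lit 513))
 (.leaf (nat_lit 0x80402010181412e1) (nat_lit 770))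
)))

theorem P3_ok : genOK B8.A [(nat_lit 0x8040201018040281), (nat_lit 0x8040201008140241), (nat_lit 0x8040201008041221)] P3_t (nat_lit 8) = true := by decide +kernel

noncomputable def P4_t : ST :=
(.node (nat_lit 0x9040201008040209) (.node (nat_lit 0x8040201008140241) (.node (nat_lit 0x8040201008041221) (.leaf (nat_lit 0x8040201008040201) (nat_lit 0))
 (.leaf (nat_lit 0x8040201008041221) (nat_lit 258))
) (.node (nat_lit 0x8040201008141261) (.leaf (nat_lit 0x8040201008140241) (nat_lit 257))
 (.leaf (nat_lit 0x8040201008141261) (nat_lit 514))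
)) (.node (nat_lit 0x9040201008140249) (.node (nat_lit 0x9040201008041229) (.leaf (nat_lit 0x9040201008040209) (nat_lit 256))
 (.leaf (nat_lit 0x9040201008041229) (nat_lit 514))
) (.node (nat_lit 0x9040201008141269) (.leaf (nat_lit 0x9040201008140249) (nat_lit 513))
 (.leaf (nat_lit 0x9040201008141269) (nat_lit 770))
)))

theorem P4_ok : genOK B8.A [(nat_lit 0x9040201008040209), (nat_lit 0x8040201008140241), (nat_lit 0x8040201008041221)] P4_t (nat_lit 8) = true := by decide +kernel

noncomputable def Qy_t : ST :=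
(.node (nat_lit 0xa040201008040a01) (.node (nat_lit 0x9040201008040209) (.node (nat_lit 0x8050201008040205) (.node (nat_lit 0x8040201028048201) (.node (nat_lit 0x8040201018040281) (.node (nat_lit 0x8040201008244201) (.node (nat_lit 0x8040201008041221) (.leaf (nat_lit 0x8040201008040201) (nat_lit 0))
 (.leaf (nat_lit 0x8040201008041221) (nat_lit 1027))
) (.node (nat_lit 0x8040201008245221) (.leaf (nat_lit 0x8040201008244201) (nat_lit 259))
 (.leaf (nat_lit 0x8040201008245221) (nat_lit 768))
)) (.node (nat_lit 0x8040201018244281) (.node (nat_lit 0x80402010180412a1) (.leaf (nat_lit 0x8040201018040281) (nat_lit 260))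
 (.leaf (nat_lit 0x80402010180412a1) (nat_lit 769))
) (.node (nat_lit 0x80402010182452a1) (.leaf (nat_lit 0x8040201018244281) (nat_lit 516))
 (.leaf (nat_lit 0x80402010182452a1) (nat_lit 1028))
))) (.node (nat_lit 0x8040201038048281) (.node (nat_lit 0x804020102824c201) (.node (nat_lit 0x8040201028049221) (.leaf (nat_lit 0x8040201028048201) (nat_lit 258))
 (.leaf (nat_lit 0x8040201028049221) (nat_lit 773))
) (.node (nat_lit 0x804020102824d221) (.leaf (nat_lit 0x804020102824c201) (nat_lit 515))
 (.leaf (nat_lit 0x804020102824d221) (nat_lit 1024))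
)) (.node (nat_lit 0x804020103824c281) (.node (nat_lit 0x80402010380492a1) (.leaf (nat_lit 0x8040201038048281) (nat_lit 516))
 (.leaf (nat_lit 0x80402010380492a1) (nat_lit 1025))
) (.node (nat_lit 0x804020103824d2a1) (.leaf (nat_lit 0x804020103824c281) (nat_lit 772))
 (.leaf (nat_lit 0x804020103824d2a1) (nat_lit 1284))
)))) (.node (nat_lit 0x8050201028048205) (.node (nat_lit 0x8050201018040285) (.node (nat_lit 0x8050201008244225) (.node (nat_lit 0x8050201008041225) (.leaf (nat_lit 0x8050201008040205) (nat_lit 256))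
 (.leaf (nat_lit 0x8050201008041225) (nat_lit 771))
) (.node (nat_lit 0x8050201008245205) (.leaf (nat_lit 0x8050201008244225) (nat_lit 512))
 (.leaf (nat_lit 0x8050201008245205) (nat_lit 515))
)) (.node (nat_lit 0x80502010182442a5) (.node (nat_lit 0x80502010180412a5) (.leaf (nat_lit 0x8050201018040285) (nat_lit 516))
 (.leaf (nat_lit 0x80502010180412a5) (nat_lit 1025))
) (.node (nat_lit 0x8050201018245285) (.leaf (nat_lit 0x80502010182442a5) (nat_lit 772))
 (.leaf (nat_lit 0x8050201018245285) (nat_lit 772))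
))) (.node (nat_lit 0x8050201038048285) (.node (nat_lit 0x805020102824c225) (.node (nat_lit 0x8050201028049225) (.leaf (nat_lit 0x8050201028048205) (nat_lit 514))
 (.leaf (nat_lit 0x8050201028049225) (nat_lit 1029))
) (.node (nat_lit 0x805020102824d205) (.leaf (nat_lit 0x805020102824c225) (nat_lit 768))
 (.leaf (nat_lit 0x805020102824d205) (nat_lit 771))
)) (.node (nat_lit 0x805020103824c2a5) (.node (nat_lit 0x80502010380492a5) (.leaf (nat_lit 0x8050201038048285) (nat_lit 772))
 (.leaf (nat_lit 0x80502010380492a5) (nat_lit 1281))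
) (.node (nat_lit 0x805020103824d285) (.leaf (nat_lit 0x805020103824c2a5) (nat_lit 1028))
 (.leaf (nat_lit 0x805020103824d285) (nat_lit 1028))
))))) (.node (nat_lit 0x905020100804020d) (.node (nat_lit 0x9040201028048229) (.node (nat_lit 0x9040201018040299) (.node (nat_lit 0x9040201008244209) (.node (nat_lit 0x9040201008041229) (.leaf (nat_lit 0x9040201008040209) (nat_lit 261))
 (.leaf (nat_lit 0x9040201008041229) (nat_lit 770))
) (.node (nat_lit 0x9040201008245229) (.leaf (nat_lit 0x9040201008244209) (nat_lit 517))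
 (.leaf (nat_lit 0x9040201008245229) (nat_lit 1029))
)) (.node (nat_lit 0x9040201018244299) (.node (nat_lit 0x90402010180412b9) (.leaf (nat_lit 0x9040201018040299) (nat_lit 517))
 (.leaf (nat_lit 0x90402010180412b9) (nat_lit 1029))
) (.node (nat_lit 0x90402010182452b9) (.leaf (nat_lit 0x9040201018244299) (nat_lit 773))
 (.leaf (nat_lit 0x90402010182452b9) (nat_lit 1285))
))) (.node (nat_lit 0x90402010380482b9) (.node (nat_lit 0x904020102824c229) (.node (nat_lit 0x9040201028049209) (.leaf (nat_lit 0x9040201028048229) (nat_lit 517))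
 (.leaf (nat_lit 0x9040201028049209) (nat_lit 514))
) (.node (nat_lit 0x904020102824d209) (.leaf (nat_lit 0x904020102824c229) (nat_lit 773))
 (.leaf (nat_lit 0x904020102824d209) (nat_lit 770))
)) (.node (nat_lit 0x904020103824c2b9) (.node (nat_lit 0x9040201038049299) (.leaf (nat_lit 0x90402010380482b9) (nat_lit 773))
 (.leaf (nat_lit 0x9040201038049299) (nat_lit 770))
) (.node (nat_lit 0x904020103824d299) (.leaf (nat_lit 0x904020103824c2b9) (nat_lit 1029))
 (.leaf (nat_lit 0x904020103824d299) (nat_lit 1026))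
)))) (.node (nat_lit 0x905020102804822d) (.node (nat_lit 0x905020101804029d) (.node (nat_lit 0x905020100824422d) (.node (nat_lit 0x905020100804122d) (.leaf (nat_lit 0x905020100804020d) (nat_lit 517))
 (.leaf (nat_lit 0x905020100804122d) (nat_lit 1026))
) (.node (nat_lit 0x905020100824520d) (.leaf (nat_lit 0x905020100824422d) (nat_lit 773))
 (.leaf (nat_lit 0x905020100824520d) (nat_lit 773))
)) (.node (nat_lit 0x90502010182442bd) (.node (nat_lit 0x90502010180412bd) (.leaf (nat_lit 0x905020101804029d) (nat_lit 773))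
 (.leaf (nat_lit 0x90502010180412bd) (nat_lit 1285))
) (.node (nat_lit 0x905020101824529d) (.leaf (nat_lit 0x90502010182442bd) (nat_lit 1029))
 (.leaf (nat_lit 0x905020101824529d) (nat_lit 1029))
))) (.node (nat_lit 0x90502010380482bd) (.node (nat_lit 0x905020102824c20d) (.node (nat_lit 0x905020102804920d) (.leaf (nat_lit 0x905020102804822d) (nat_lit 773))
 (.leaf (nat_lit 0x905020102804920d) (nat_lit 770))
) (.node (nat_lit 0x905020102824d22d) (.leaf (nat_lit 0x905020102824c20d) (nat_lit 1026))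
 (.leaf (nat_lit 0x905020102824d22d) (nat_lit 1029))
)) (.node (nat_lit 0x905020103824c29d) (.node (nat_lit 0x905020103804929d) (.leaf (nat_lit 0x90502010380482bd) (nat_lit 1029))
 (.leaf (nat_lit 0x905020103804929d) (nat_lit 1026))
) (.node (nat_lit 0x905020103824d2bd) (.leaf (nat_lit 0x905020103824c29d) (nat_lit 1282))
 (.leaf (nat_lit 0x905020103824d2bd) (nat_lit 1285))
)))))) (.node (nat_lit 0xb040201008040a09) (.node (nat_lit 0xa050201008040a05) (.node (nat_lit 0xa04020102804aa01) (.node (nat_lit 0xa040201018040aa1) (.node (nat_lit 0xa040201008244a01) (.node (nat_lit 0xa040201008041a21) (.leaf (nat_lit 0xa040201008040a01) (nat_lit 257))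
 (.leaf (nat_lit 0xa040201008041a21) (nat_lit 772))
) (.node (nat_lit 0xa040201008245a21) (.leaf (nat_lit 0xa040201008244a01) (nat_lit 515))
 (.leaf (nat_lit 0xa040201008245a21) (nat_lit 1024))
)) (.node (nat_lit 0xa040201018244aa1) (.node (nat_lit 0xa040201018041a81) (.leaf (nat_lit 0xa040201018040aa1) (nat_lit 516))
 (.leaf (nat_lit 0xa040201018041a81) (nat_lit 513))
) (.node (nat_lit 0xa040201018245a81) (.leaf (nat_lit 0xa040201018244aa1) (nat_lit 772))
 (.leaf (nat_lit 0xa040201018245a81) (nat_lit 769))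
))) (.node (nat_lit 0xa04020103804aaa1) (.node (nat_lit 0xa04020102824ea01) (.node (nat_lit 0xa04020102804ba21) (.leaf (nat_lit 0xa04020102804aa01) (nat_lit 514))
 (.leaf (nat_lit 0xa04020102804ba21) (nat_lit 1029))
) (.node (nat_lit 0xa04020102824fa21) (.leaf (nat_lit 0xa04020102824ea01) (nat_lit 771))
 (.leaf (nat_lit 0xa04020102824fa21) (nat_lit 1280))
)) (.node (nat_lit 0xa04020103824eaa1) (.node (nat_lit 0xa04020103804ba81) (.leaf (nat_lit 0xa04020103804aaa1) (nat_lit 772))
 (.leaf (nat_lit 0xa04020103804ba81) (nat_lit 769))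
) (.node (nat_lit 0xa04020103824fa81) (.leaf (nat_lit 0xa04020103824eaa1) (nat_lit 1028))
 (.leaf (nat_lit 0xa04020103824fa81) (nat_lit 1025))
)))) (.node (nat_lit 0xa05020102804aa05) (.node (nat_lit 0xa050201018040aa5) (.node (nat_lit 0xa050201008244a25) (.node (nat_lit 0xa050201008041a25) (.leaf (nat_lit 0xa050201008040a05) (nat_lit 513))
 (.leaf (nat_lit 0xa050201008041a25) (nat_lit 1028))
) (.node (nat_lit 0xa050201008245a05) (.leaf (nat_lit 0xa050201008244a25) (nat_lit 768))
 (.leaf (nat_lit 0xa050201008245a05) (nat_lit 771))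
)) (.node (nat_lit 0xa050201018244a85) (.node (nat_lit 0xa050201018041a85) (.leaf (nat_lit 0xa050201018040aa5) (nat_lit 772))
 (.leaf (nat_lit 0xa050201018041a85) (nat_lit 769))
) (.node (nat_lit 0xa050201018245aa5) (.leaf (nat_lit 0xa050201018244a85) (nat_lit 1025))
 (.leaf (nat_lit 0xa050201018245aa5) (nat_lit 1028))
))) (.node (nat_lit 0xa05020103804aaa5) (.node (nat_lit 0xa05020102824ea25) (.node (nat_lit 0xa05020102804ba25) (.leaf (nat_lit 0xa05020102804aa05) (nat_lit 770))
 (.leaf (nat_lit 0xa05020102804ba25) (nat_lit 1285))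
) (.node (nat_lit 0xa05020102824fa05) (.leaf (nat_lit 0xa05020102824ea25) (nat_lit 1024))
 (.leaf (nat_lit 0xa05020102824fa05) (nat_lit 1027))
)) (.node (nat_lit 0xa05020103824ea85) (.node (nat_lit 0xa05020103804ba85) (.leaf (nat_lit 0xa05020103804aaa5) (nat_lit 1028))
 (.leaf (nat_lit 0xa05020103804ba85) (nat_lit 1025))
) (.node (nat_lit 0xa05020103824faa5) (.leaf (nat_lit 0xa05020103824ea85) (nat_lit 1281))
 (.leaf (nat_lit 0xa05020103824faa5) (nat_lit 1284))
))))) (.node (nat_lit 0xb050201008040a0d) (.node (nat_lit 0xb04020102804aa29) (.node (nat_lit 0xb040201018040ab9) (.node (nat_lit 0xb040201008244a09) (.node (nat_lit 0xb040201008041a29) (.leaf (nat_lit 0xb040201008040a09) (nat_lit 517))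
 (.leaf (nat_lit 0xb040201008041a29) (nat_lit 1026))
) (.node (nat_lit 0xb040201008245a29) (.leaf (nat_lit 0xb040201008244a09) (nat_lit 773))
 (.leaf (nat_lit 0xb040201008245a29) (nat_lit 1285))
)) (.node (nat_lit 0xb040201018244ab9) (.node (nat_lit 0xb040201018041a99) (.leaf (nat_lit 0xb040201018040ab9) (nat_lit 773))
 (.leaf (nat_lit 0xb040201018041a99) (nat_lit 773))
) (.node (nat_lit 0xb040201018245a99) (.leaf (nat_lit 0xb040201018244ab9) (nat_lit 1029))
 (.leaf (nat_lit 0xb040201018245a99) (nat_lit 1029))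
))) (.node (nat_lit 0xb04020103804aa99) (.node (nat_lit 0xb04020102824ea29) (.node (nat_lit 0xb04020102804ba09) (.leaf (nat_lit 0xb04020102804aa29) (nat_lit 773))
 (.leaf (nat_lit 0xb04020102804ba09) (nat_lit 770))
) (.node (nat_lit 0xb04020102824fa09) (.leaf (nat_lit 0xb04020102824ea29) (nat_lit 1029))
 (.leaf (nat_lit 0xb04020102824fa09) (nat_lit 1026))
)) (.node (nat_lit 0xb04020103824ea99) (.node (nat_lit 0xb04020103804bab9) (.leaf (nat_lit 0xb04020103804aa99) (nat_lit 1029))
 (.leaf (nat_lit 0xb04020103804bab9) (nat_lit 1026))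
) (.node (nat_lit 0xb04020103824fab9) (.leaf (nat_lit 0xb04020103824ea99) (nat_lit 1285))
 (.leaf (nat_lit 0xb04020103824fab9) (nat_lit 1282))
)))) (.node (nat_lit 0xb05020102804aa2d) (.node (nat_lit 0xb050201018040abd) (.node (nat_lit 0xb050201008244a2d) (.node (nat_lit 0xb050201008041a2d) (.leaf (nat_lit 0xb050201008040a0d) (nat_lit 773))
 (.leaf (nat_lit 0xb050201008041a2d) (nat_lit 1282))
) (.node (nat_lit 0xb050201008245a0d) (.leaf (nat_lit 0xb050201008244a2d) (nat_lit 1029))
 (.leaf (nat_lit 0xb050201008245a0d) (nat_lit 1029))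
)) (.node (nat_lit 0xb050201018244a9d) (.node (nat_lit 0xb050201018041a9d) (.leaf (nat_lit 0xb050201018040abd) (nat_lit 1029))
 (.leaf (nat_lit 0xb050201018041a9d) (nat_lit 1029))
) (.node (nat_lit 0xb050201018245abd) (.leaf (nat_lit 0xb050201018244a9d) (nat_lit 1285))
 (.leaf (nat_lit 0xb050201018245abd) (nat_lit 1285))
))) (.node (nat_lit 0xb05020103804aa9d) (.node (nat_lit 0xb05020102824ea0d) (.node (nat_lit 0xb05020102804ba0d) (.leaf (nat_lit 0xb05020102804aa2d) (nat_lit 1029))
 (.leaf (nat_lit 0xb05020102804ba0d) (nat_lit 1026))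
) (.node (nat_lit 0xb05020102824fa2d) (.leaf (nat_lit 0xb05020102824ea0d) (nat_lit 1282))
 (.leaf (nat_lit 0xb05020102824fa2d) (nat_lit 1285))
)) (.node (nat_lit 0xb05020103824eabd) (.node (nat_lit 0xb05020103804babd) (.leaf (nat_lit 0xb05020103804aa9d) (nat_lit 1285))
 (.leaf (nat_lit 0xb05020103804babd) (nat_lit 1282))
) (.node (nat_lit 0xb05020103824fa9d) (.leaf (nat_lit 0xb05020103824eabd) (nat_lit 1538))
 (.leaf (nat_lit 0xb05020103824fa9d) (nat_lit 1541))
)))))))

theorem Qy_ok : genOK B8.A [(nat_lit 0x8050201008040205), (nat_lit 0xa040201008040a01), (nat_lit 0x8040201028048201), (nat_lit 0x8040201008244201), (nat_lit 0x8040201018040281), (nat_lit 0x9040201008040209)] Qy_t (nat_lit 128) = true := by decide +kernel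

noncomputable def Q1_t : ST :=
(.node (nat_lit 0xa040201008040a01) (.node (nat_lit 0x9040201008040209) (.node (nat_lit 0x8040201028048201) (.node (nat_lit 0x8040201018040281) (.node (nat_lit 0x8040201008244201) (.node (nat_lit 0x8040201008140241) (.node (nat_lit 0x8040201008041221) (.leaf (nat_lit 0x8040201008040201) (nat_lit 0))
 (.leaf (nat_lit 0x8040201008041221) (nat_lit 1027))
) (.node (nat_lit 0x8040201008141261) (.leaf (nat_lit 0x8040201008140241) (nat_lit 261))
 (.leaf (nat_lit 0x8040201008141261) (nat_lit 1285))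
)) (.node (nat_lit 0x8040201008344241) (.node (nat_lit 0x8040201008245221) (.leaf (nat_lit 0x8040201008244201) (nat_lit 258))
 (.leaf (nat_lit 0x8040201008245221) (nat_lit 1283))
) (.node (nat_lit 0x8040201008345261) (.leaf (nat_lit 0x8040201008344241) (nat_lit 517))
 (.leaf (nat_lit 0x8040201008345261) (nat_lit 1541))
))) (.node (nat_lit 0x8040201018244281) (.node (nat_lit 0x80402010181402c1) (.node (nat_lit 0x80402010180412a1) (.leaf (nat_lit 0x8040201018040281) (nat_lit 259))
 (.leaf (nat_lit 0x80402010180412a1) (nat_lit 768))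
) (.node (nat_lit 0x80402010181412e1) (.leaf (nat_lit 0x80402010181402c1) (nat_lit 517))
 (.leaf (nat_lit 0x80402010181412e1) (nat_lit 1029))
)) (.node (nat_lit 0x80402010183442c1) (.node (nat_lit 0x80402010182452a1) (.leaf (nat_lit 0x8040201018244281) (nat_lit 515))
 (.leaf (nat_lit 0x80402010182452a1) (nat_lit 1024))
) (.node (nat_lit 0x80402010183452e1) (.leaf (nat_lit 0x80402010183442c1) (nat_lit 773))
 (.leaf (nat_lit 0x80402010183452e1) (nat_lit 1285))
)))) (.node (nat_lit 0x8040201038048281) (.node (nat_lit 0x804020102824c201) (.node (nat_lit 0x8040201028148241) (.node (nat_lit 0x8040201028049221) (.leaf (nat_lit 0x8040201028048201) (nat_lit 257))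
 (.leaf (nat_lit 0x8040201028049221) (nat_lit 772))
) (.node (nat_lit 0x8040201028149261) (.leaf (nat_lit 0x8040201028148241) (nat_lit 517))
 (.leaf (nat_lit 0x8040201028149261) (nat_lit 1029))
)) (.node (nat_lit 0x804020102834c241) (.node (nat_lit 0x804020102824d221) (.leaf (nat_lit 0x804020102824c201) (nat_lit 514))
 (.leaf (nat_lit 0x804020102824d221) (nat_lit 1028))
) (.node (nat_lit 0x804020102834d261) (.leaf (nat_lit 0x804020102834c241) (nat_lit 773))
 (.leaf (nat_lit 0x804020102834d261) (nat_lit 1285))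
))) (.node (nat_lit 0x804020103824c281) (.node (nat_lit 0x80402010381482c1) (.node (nat_lit 0x80402010380492a1) (.leaf (nat_lit 0x8040201038048281) (nat_lit 515))
 (.leaf (nat_lit 0x80402010380492a1) (nat_lit 1024))
) (.node (nat_lit 0x80402010381492e1) (.leaf (nat_lit 0x80402010381482c1) (nat_lit 773))
 (.leaf (nat_lit 0x80402010381492e1) (nat_lit 1285))
)) (.node (nat_lit 0x804020103834c2c1) (.node (nat_lit 0x804020103824d2a1) (.leaf (nat_lit 0x804020103824c281) (nat_lit 771))
 (.leaf (nat_lit 0x804020103824d2a1) (nat_lit 1280))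
) (.node (nat_lit 0x804020103834d2e1) (.leaf (nat_lit 0x804020103834c2c1) (nat_lit 1029))
 (.leaf (nat_lit 0x804020103834d2e1) (nat_lit 1541))
))))) (.node (nat_lit 0x9040201028048229) (.node (nat_lit 0x9040201018040299) (.node (nat_lit 0x9040201008244209) (.node (nat_lit 0x9040201008140249) (.node (nat_lit 0x9040201008041229) (.leaf (nat_lit 0x9040201008040209) (nat_lit 260))
 (.leaf (nat_lit 0x9040201008041229) (nat_lit 769))
) (.node (nat_lit 0x9040201008141269) (.leaf (nat_lit 0x9040201008140249) (nat_lit 517))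
 (.leaf (nat_lit 0x9040201008141269) (nat_lit 1029))
)) (.node (nat_lit 0x9040201008344249) (.node (nat_lit 0x9040201008245229) (.leaf (nat_lit 0x9040201008244209) (nat_lit 516))
 (.leaf (nat_lit 0x9040201008245229) (nat_lit 1025))
) (.node (nat_lit 0x9040201008345269) (.leaf (nat_lit 0x9040201008344249) (nat_lit 773))
 (.leaf (nat_lit 0x9040201008345269) (nat_lit 1285))
))) (.node (nat_lit 0x9040201018244299) (.node (nat_lit 0x90402010181402d9) (.node (nat_lit 0x90402010180412b9) (.leaf (nat_lit 0x9040201018040299) (nat_lit 516))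
 (.leaf (nat_lit 0x90402010180412b9) (nat_lit 1028))
) (.node (nat_lit 0x90402010181412f9) (.leaf (nat_lit 0x90402010181402d9) (nat_lit 773))
 (.leaf (nat_lit 0x90402010181412f9) (nat_lit 1285))
)) (.node (nat_lit 0x90402010183442d9) (.node (nat_lit 0x90402010182452b9) (.leaf (nat_lit 0x9040201018244299) (nat_lit 772))
 (.leaf (nat_lit 0x90402010182452b9) (nat_lit 1284))
) (.node (nat_lit 0x90402010183452f9) (.leaf (nat_lit 0x90402010183442d9) (nat_lit 1029))
 (.leaf (nat_lit 0x90402010183452f9) (nat_lit 1541))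
)))) (.node (nat_lit 0x90402010380482b9) (.node (nat_lit 0x904020102824c229) (.node (nat_lit 0x9040201028148269) (.node (nat_lit 0x9040201028049209) (.leaf (nat_lit 0x9040201028048229) (nat_lit 516))
 (.leaf (nat_lit 0x9040201028049209) (nat_lit 513))
) (.node (nat_lit 0x9040201028149249) (.leaf (nat_lit 0x9040201028148269) (nat_lit 773))
 (.leaf (nat_lit 0x9040201028149249) (nat_lit 773))
)) (.node (nat_lit 0x904020102834c269) (.node (nat_lit 0x904020102824d209) (.leaf (nat_lit 0x904020102824c229) (nat_lit 772))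
 (.leaf (nat_lit 0x904020102824d209) (nat_lit 769))
) (.node (nat_lit 0x904020102834d249) (.leaf (nat_lit 0x904020102834c269) (nat_lit 1029))
 (.leaf (nat_lit 0x904020102834d249) (nat_lit 1029))
))) (.node (nat_lit 0x904020103824c2b9) (.node (nat_lit 0x90402010381482f9) (.node (nat_lit 0x9040201038049299) (.leaf (nat_lit 0x90402010380482b9) (nat_lit 772))
 (.leaf (nat_lit 0x9040201038049299) (nat_lit 769))
) (.node (nat_lit 0x90402010381492d9) (.leaf (nat_lit 0x90402010381482f9) (nat_lit 1029))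
 (.leaf (nat_lit 0x90402010381492d9) (nat_lit 1029))
)) (.node (nat_lit 0x904020103834c2f9) (.node (nat_lit 0x904020103824d299) (.leaf (nat_lit 0x904020103824c2b9) (nat_lit 1028))
 (.leaf (nat_lit 0x904020103824d299) (nat_lit 1025))
) (.node (nat_lit 0x904020103834d2d9) (.leaf (nat_lit 0x904020103834c2f9) (nat_lit 1285))
 (.leaf (nat_lit 0x904020103834d2d9) (nat_lit 1285))
)))))) (.node (nat_lit 0xb040201008040a09) (.node (nat_lit 0xa04020102804aa01) (.node (nat_lit 0xa040201018040aa1) (.node (nat_lit 0xa040201008244a01) (.node (nat_lit 0xa040201008140a41) (.node (nat_lit 0xa040201008041a21) (.leaf (nat_lit 0xa040201008040a01) (nat_lit 256))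
 (.leaf (nat_lit 0xa040201008041a21) (nat_lit 771))
) (.node (nat_lit 0xa040201008141a61) (.leaf (nat_lit 0xa040201008140a41) (nat_lit 517))
 (.leaf (nat_lit 0xa040201008141a61) (nat_lit 1029))
)) (.node (nat_lit 0xa040201008344a41) (.node (nat_lit 0xa040201008245a21) (.leaf (nat_lit 0xa040201008244a01) (nat_lit 514))
 (.leaf (nat_lit 0xa040201008245a21) (nat_lit 1027))
) (.node (nat_lit 0xa040201008345a61) (.leaf (nat_lit 0xa040201008344a41) (nat_lit 773))
 (.leaf (nat_lit 0xa040201008345a61) (nat_lit 1285))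
))) (.node (nat_lit 0xa040201018244aa1) (.node (nat_lit 0xa040201018140ae1) (.node (nat_lit 0xa040201018041a81) (.leaf (nat_lit 0xa040201018040aa1) (nat_lit 515))
 (.leaf (nat_lit 0xa040201018041a81) (nat_lit 512))
) (.node (nat_lit 0xa040201018141ac1) (.leaf (nat_lit 0xa040201018140ae1) (nat_lit 773))
 (.leaf (nat_lit 0xa040201018141ac1) (nat_lit 773))
)) (.node (nat_lit 0xa040201018344ae1) (.node (nat_lit 0xa040201018245a81) (.leaf (nat_lit 0xa040201018244aa1) (nat_lit 771))
 (.leaf (nat_lit 0xa040201018245a81) (nat_lit 768))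
) (.node (nat_lit 0xa040201018345ac1) (.leaf (nat_lit 0xa040201018344ae1) (nat_lit 1029))
 (.leaf (nat_lit 0xa040201018345ac1) (nat_lit 1029))
)))) (.node (nat_lit 0xa04020103804aaa1) (.node (nat_lit 0xa04020102824ea01) (.node (nat_lit 0xa04020102814aa41) (.node (nat_lit 0xa04020102804ba21) (.leaf (nat_lit 0xa04020102804aa01) (nat_lit 513))
 (.leaf (nat_lit 0xa04020102804ba21) (nat_lit 1028))
) (.node (nat_lit 0xa04020102814ba61) (.leaf (nat_lit 0xa04020102814aa41) (nat_lit 773))
 (.leaf (nat_lit 0xa04020102814ba61) (nat_lit 1285))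
)) (.node (nat_lit 0xa04020102834ea41) (.node (nat_lit 0xa04020102824fa21) (.leaf (nat_lit 0xa04020102824ea01) (nat_lit 770))
 (.leaf (nat_lit 0xa04020102824fa21) (nat_lit 1284))
) (.node (nat_lit 0xa04020102834fa61) (.leaf (nat_lit 0xa04020102834ea41) (nat_lit 1029))
 (.leaf (nat_lit 0xa04020102834fa61) (nat_lit 1541))
))) (.node (nat_lit 0xa04020103824eaa1) (.node (nat_lit 0xa04020103814aae1) (.node (nat_lit 0xa04020103804ba81) (.leaf (nat_lit 0xa04020103804aaa1) (nat_lit 771))
 (.leaf (nat_lit 0xa04020103804ba81) (nat_lit 768))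
) (.node (nat_lit 0xa04020103814bac1) (.leaf (nat_lit 0xa04020103814aae1) (nat_lit 1029))
 (.leaf (nat_lit 0xa04020103814bac1) (nat_lit 1029))
)) (.node (nat_lit 0xa04020103834eae1) (.node (nat_lit 0xa04020103824fa81) (.leaf (nat_lit 0xa04020103824eaa1) (nat_lit 1027))
 (.leaf (nat_lit 0xa04020103824fa81) (nat_lit 1024))
) (.node (nat_lit 0xa04020103834fac1) (.leaf (nat_lit 0xa04020103834eae1) (nat_lit 1285))
 (.leaf (nat_lit 0xa04020103834fac1) (nat_lit 1285))
))))) (.node (nat_lit 0xb04020102804aa29) (.node (nat_lit 0xb040201018040ab9) (.node (nat_lit 0xb040201008244a09) (.node (nat_lit 0xb040201008140a49) (.node (nat_lit 0xb040201008041a29) (.leaf (nat_lit 0xb040201008040a09) (nat_lit 516))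
 (.leaf (nat_lit 0xb040201008041a29) (nat_lit 1025))
) (.node (nat_lit 0xb040201008141a69) (.leaf (nat_lit 0xb040201008140a49) (nat_lit 773))
 (.leaf (nat_lit 0xb040201008141a69) (nat_lit 1285))
)) (.node (nat_lit 0xb040201008344a49) (.node (nat_lit 0xb040201008245a29) (.leaf (nat_lit 0xb040201008244a09) (nat_lit 772))
 (.leaf (nat_lit 0xb040201008245a29) (nat_lit 1281))
) (.node (nat_lit 0xb040201008345a69) (.leaf (nat_lit 0xb040201008344a49) (nat_lit 1029))
 (.leaf (nat_lit 0xb040201008345a69) (nat_lit 1541))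
))) (.node (nat_lit 0xb040201018244ab9) (.node (nat_lit 0xb040201018140af9) (.node (nat_lit 0xb040201018041a99) (.leaf (nat_lit 0xb040201018040ab9) (nat_lit 772))
 (.leaf (nat_lit 0xb040201018041a99) (nat_lit 772))
) (.node (nat_lit 0xb040201018141ad9) (.leaf (nat_lit 0xb040201018140af9) (nat_lit 1029))
 (.leaf (nat_lit 0xb040201018141ad9) (nat_lit 1029))
)) (.node (nat_lit 0xb040201018344af9) (.node (nat_lit 0xb040201018245a99) (.leaf (nat_lit 0xb040201018244ab9) (nat_lit 1028))
 (.leaf (nat_lit 0xb040201018245a99) (nat_lit 1028))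
) (.node (nat_lit 0xb040201018345ad9) (.leaf (nat_lit 0xb040201018344af9) (nat_lit 1285))
 (.leaf (nat_lit 0xb040201018345ad9) (nat_lit 1285))
)))) (.node (nat_lit 0xb04020103804aa99) (.node (nat_lit 0xb04020102824ea29) (.node (nat_lit 0xb04020102814aa69) (.node (nat_lit 0xb04020102804ba09) (.leaf (nat_lit 0xb04020102804aa29) (nat_lit 772))
 (.leaf (nat_lit 0xb04020102804ba09) (nat_lit 769))
) (.node (nat_lit 0xb04020102814ba49) (.leaf (nat_lit 0xb04020102814aa69) (nat_lit 1029))
 (.leaf (nat_lit 0xb04020102814ba49) (nat_lit 1029))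
)) (.node (nat_lit 0xb04020102834ea69) (.node (nat_lit 0xb04020102824fa09) (.leaf (nat_lit 0xb04020102824ea29) (nat_lit 1028))
 (.leaf (nat_lit 0xb04020102824fa09) (nat_lit 1025))
) (.node (nat_lit 0xb04020102834fa49) (.leaf (nat_lit 0xb04020102834ea69) (nat_lit 1285))
 (.leaf (nat_lit 0xb04020102834fa49) (nat_lit 1285))
))) (.node (nat_lit 0xb04020103824ea99) (.node (nat_lit 0xb04020103814aad9) (.node (nat_lit 0xb04020103804bab9) (.leaf (nat_lit 0xb04020103804aa99) (nat_lit 1028))
 (.leaf (nat_lit 0xb04020103804bab9) (nat_lit 1025))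
) (.node (nat_lit 0xb04020103814baf9) (.leaf (nat_lit 0xb04020103814aad9) (nat_lit 1285))
 (.leaf (nat_lit 0xb04020103814baf9) (nat_lit 1285))
)) (.node (nat_lit 0xb04020103834ead9) (.node (nat_lit 0xb04020103824fab9) (.leaf (nat_lit 0xb04020103824ea99) (nat_lit 1284))
 (.leaf (nat_lit 0xb04020103824fab9) (nat_lit 1281))
) (.node (nat_lit 0xb04020103834faf9) (.leaf (nat_lit 0xb04020103834ead9) (nat_lit 1541))
 (.leaf (nat_lit 0xb04020103834faf9) (nat_lit 1541))
)))))))

theorem Q1_ok : genOK B8.A [(nat_lit 0xa040201008040a01), (nat_lit 0x8040201028048201), (nat_lit 0x8040201008244201), (nat_lit 0x8040201018040281), (nat_lit 0x9040201008040209), (nat_lit 0x8040201008140241)] Q1_t (nat_lit 128) = true := by decide +kernel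

noncomputable def Ky_t : ST :=
(.node (nat_lit 0x8070201008041625) (.node (nat_lit 0x804020102824d221) (.node (nat_lit 0x8040201018040281) (.node (nat_lit 0x8040201008245221) (.node (nat_lit 0x8040201008141261) (.leaf (nat_lit 0x8040201008140241) (nat_lit 0))
 (.node (nat_lit 0x8040201008244201) (.leaf (nat_lit 0x8040201008141261) (nat_lit 262))
 (.leaf (nat_lit 0x8040201008244201) (nat_lit 512))
)) (.node (nat_lit 0x8040201008344241) (.leaf (nat_lit 0x8040201008245221) (nat_lit 768))
 (.node (nat_lit 0x8040201008345261) (.leaf (nat_lit 0x8040201008344241) (nat_lit 259))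
 (.leaf (nat_lit 0x8040201008345261) (nat_lit 518))
))) (.node (nat_lit 0x80402010181412e1) (.node (nat_lit 0x80402010180412a1) (.leaf (nat_lit 0x8040201018040281) (nat_lit 513))
 (.node (nat_lit 0x80402010181402c1) (.leaf (nat_lit 0x80402010180412a1) (nat_lit 769))
 (.leaf (nat_lit 0x80402010181402c1) (nat_lit 260))
)) (.node (nat_lit 0x8040201028049221) (.node (nat_lit 0x8040201028048201) (.leaf (nat_lit 0x80402010181412e1) (nat_lit 518))
 (.leaf (nat_lit 0x8040201028048201) (nat_lit 1025))
) (.node (nat_lit 0x804020102824c201) (.leaf (nat_lit 0x8040201028049221) (nat_lit 1281))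
 (.leaf (nat_lit 0x804020102824c201) (nat_lit 772))
)))) (.node (nat_lit 0x8050201018040285) (.node (nat_lit 0x804020103834c2c1) (.node (nat_lit 0x8040201038048281) (.leaf (nat_lit 0x804020102824d221) (nat_lit 1024))
 (.node (nat_lit 0x80402010380492a1) (.leaf (nat_lit 0x8040201038048281) (nat_lit 769))
 (.leaf (nat_lit 0x80402010380492a1) (nat_lit 1025))
)) (.node (nat_lit 0x8050201008040205) (.node (nat_lit 0x804020103834d2e1) (.leaf (nat_lit 0x804020103834c2c1) (nat_lit 516))
 (.leaf (nat_lit 0x804020103834d2e1) (nat_lit 774))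
) (.node (nat_lit 0x8050201008041225) (.leaf (nat_lit 0x8050201008040205) (nat_lit 1026))
 (.leaf (nat_lit 0x8050201008041225) (nat_lit 1282))
))) (.node (nat_lit 0x8060201008041621) (.node (nat_lit 0x80502010180412a5) (.leaf (nat_lit 0x8050201018040285) (nat_lit 773))
 (.node (nat_lit 0x8060201008040601) (.leaf (nat_lit 0x80502010180412a5) (nat_lit 1025))
 (.leaf (nat_lit 0x8060201008040601) (nat_lit 1538))
)) (.node (nat_lit 0x8060201028049621) (.node (nat_lit 0x8060201028048601) (.leaf (nat_lit 0x8060201008041621) (nat_lit 1794))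
 (.leaf (nat_lit 0x8060201028048601) (nat_lit 1285))
) (.node (nat_lit 0x8070201008040605) (.leaf (nat_lit 0x8060201028049621) (nat_lit 1537))
 (.leaf (nat_lit 0x8070201008040605) (nat_lit 1282))
))))) (.node (nat_lit 0xa040201008244a01) (.node (nat_lit 0x9040201008141269) (.node (nat_lit 0x9040201008040209) (.node (nat_lit 0x8070201038048685) (.leaf (nat_lit 0x8070201008041625) (nat_lit 1538))
 (.node (nat_lit 0x80702010380496a5) (.leaf (nat_lit 0x8070201038048685) (nat_lit 1029))
 (.leaf (nat_lit 0x80702010380496a5) (nat_lit 1281))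
)) (.node (nat_lit 0x9040201008041229) (.leaf (nat_lit 0x9040201008040209) (nat_lit 514))
 (.node (nat_lit 0x9040201008140249) (.leaf (nat_lit 0x9040201008041229) (nat_lit 770))
 (.leaf (nat_lit 0x9040201008140249) (nat_lit 261))
))) (.node (nat_lit 0x90502010181402cd) (.node (nat_lit 0x905020100804020d) (.leaf (nat_lit 0x9040201008141269) (nat_lit 518))
 (.node (nat_lit 0x905020100804122d) (.leaf (nat_lit 0x905020100804020d) (nat_lit 770))
 (.leaf (nat_lit 0x905020100804122d) (nat_lit 1026))
)) (.node (nat_lit 0xa040201008040a01) (.node (nat_lit 0x90502010181412ed) (.leaf (nat_lit 0x90502010181402cd) (nat_lit 517))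
 (.leaf (nat_lit 0x90502010181412ed) (nat_lit 774))
) (.node (nat_lit 0xa040201008041a21) (.leaf (nat_lit 0xa040201008040a01) (nat_lit 1026))
 (.leaf (nat_lit 0xa040201008041a21) (nat_lit 1282))
)))) (.node (nat_lit 0xb040201008041a29) (.node (nat_lit 0xa060201008041e21) (.node (nat_lit 0xa040201008245a21) (.leaf (nat_lit 0xa040201008244a01) (nat_lit 773))
 (.node (nat_lit 0xa060201008040e01) (.leaf (nat_lit 0xa040201008245a21) (nat_lit 1024))
 (.leaf (nat_lit 0xa060201008040e01) (nat_lit 1282))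
)) (.node (nat_lit 0xa06020102824de21) (.node (nat_lit 0xa06020102824ce01) (.leaf (nat_lit 0xa060201008041e21) (nat_lit 1538))
 (.leaf (nat_lit 0xa06020102824ce01) (nat_lit 1029))
) (.node (nat_lit 0xb040201008040a09) (.leaf (nat_lit 0xa06020102824de21) (nat_lit 1280))
 (.leaf (nat_lit 0xb040201008040a09) (nat_lit 770))
))) (.node (nat_lit 0xb070201008040e0d) (.node (nat_lit 0xb040201008344a49) (.leaf (nat_lit 0xb040201008041a29) (nat_lit 1026))
 (.node (nat_lit 0xb040201008345a69) (.leaf (nat_lit 0xb040201008344a49) (nat_lit 517))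
 (.leaf (nat_lit 0xb040201008345a69) (nat_lit 774))
)) (.node (nat_lit 0xb07020103834cecd) (.node (nat_lit 0xb070201008041e2d) (.leaf (nat_lit 0xb070201008040e0d) (nat_lit 1026))
 (.leaf (nat_lit 0xb070201008041e2d) (nat_lit 1282))
) (.node (nat_lit 0xb07020103834deed) (.leaf (nat_lit 0xb07020103834cecd) (nat_lit 773))
 (.leaf (nat_lit 0xb07020103834deed) (nat_lit 1030))
))))))

theorem Ky_ok : orbOK B8.A [(nat_lit 0x8040301008040203), (nat_lit 0xc0402010080c0201), (nat_lit 0x8040201048840201), (nat_lit 0x8040203008040301), (nat_lit 0x80c020100c040201), (nat_lit 0x8448201008040201), (nat_lit 0x8060201008040601)] (nat_lit 0x8040201008140241) Ky_t (nat_lit 54) = true := by decide +kernel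

noncomputable def N35_t : ST :=
(.node (nat_lit 0x8050301018040287) (.node (nat_lit 0x8040301008140243) (.node (nat_lit 0x80402010180412a1) (.node (nat_lit 0x8040201008141261) (.node (nat_lit 0x8040201008140241) (.leaf (nat_lit 0x8040201008041221) (nat_lit 0))
 (.leaf (nat_lit 0x8040201008140241) (nat_lit 515))
) (.node (nat_lit 0x8040201018040281) (.leaf (nat_lit 0x8040201008141261) (nat_lit 260))
 (.leaf (nat_lit 0x8040201018040281) (nat_lit 1025))
)) (.node (nat_lit 0x80402010181412e1) (.node (nat_lit 0x80402010181402c1) (.leaf (nat_lit 0x80402010180412a1) (nat_lit 769))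
 (.leaf (nat_lit 0x80402010181402c1) (nat_lit 773))
) (.node (nat_lit 0x8040301008040203) (.leaf (nat_lit 0x80402010181412e1) (nat_lit 517))
 (.leaf (nat_lit 0x8040301008040203) (nat_lit 2051))
))) (.node (nat_lit 0x8050201008041225) (.node (nat_lit 0x80403010181402c3) (.node (nat_lit 0x8040301018040283) (.leaf (nat_lit 0x8040301008140243) (nat_lit 1798))
 (.leaf (nat_lit 0x8040301018040283) (nat_lit 1795))
) (.node (nat_lit 0x8050201008040205) (.leaf (nat_lit 0x80403010181402c3) (nat_lit 1542))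
 (.leaf (nat_lit 0x8050201008040205) (nat_lit 1538))
)) (.node (nat_lit 0x80502010180412a5) (.node (nat_lit 0x8050201018040285) (.leaf (nat_lit 0x8050201008041225) (nat_lit 1282))
 (.leaf (nat_lit 0x8050201018040285) (nat_lit 1286))
) (.node (nat_lit 0x8050301008040207) (.leaf (nat_lit 0x80502010180412a5) (nat_lit 1030))
 (.node (nat_lit 0x8050301008141267) (.leaf (nat_lit 0x8050301008040207) (nat_lit 1796))
 (.leaf (nat_lit 0x8050301008141267) (nat_lit 1540))
))))) (.node (nat_lit 0x90403010181412eb) (.node (nat_lit 0x9040201008140249) (.node (nat_lit 0x9040201008040209) (.node (nat_lit 0x80503010181412e7) (.leaf (nat_lit 0x8050301018040287) (nat_lit 1540))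
 (.leaf (nat_lit 0x80503010181412e7) (nat_lit 1284))
) (.node (nat_lit 0x9040201008041229) (.leaf (nat_lit 0x9040201008040209) (nat_lit 1026))
 (.leaf (nat_lit 0x9040201008041229) (nat_lit 770))
)) (.node (nat_lit 0x904030100804020b) (.node (nat_lit 0x9040201008141269) (.leaf (nat_lit 0x9040201008140249) (nat_lit 774))
 (.leaf (nat_lit 0x9040201008141269) (nat_lit 518))
) (.node (nat_lit 0x904030100814024b) (.leaf (nat_lit 0x904030100804020b) (nat_lit 1795))
 (.node (nat_lit 0x90403010180412ab) (.leaf (nat_lit 0x904030100814024b) (nat_lit 1541))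
 (.leaf (nat_lit 0x90403010180412ab) (nat_lit 1283))
)))) (.node (nat_lit 0x90502010181412ed) (.node (nat_lit 0x905020100804122d) (.node (nat_lit 0x905020100804020d) (.leaf (nat_lit 0x90403010181412eb) (nat_lit 1539))
 (.leaf (nat_lit 0x905020100804020d) (nat_lit 1282))
) (.node (nat_lit 0x90502010181402cd) (.leaf (nat_lit 0x905020100804122d) (nat_lit 1026))
 (.leaf (nat_lit 0x90502010181402cd) (nat_lit 1030))
)) (.node (nat_lit 0x905030100814126f) (.node (nat_lit 0x905030100804020f) (.leaf (nat_lit 0x90502010181412ed) (nat_lit 774))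
 (.leaf (nat_lit 0x905030100804020f) (nat_lit 1540))
) (.node (nat_lit 0x90503010180412af) (.leaf (nat_lit 0x905030100814126f) (nat_lit 1284))
 (.node (nat_lit 0x90503010181402cf) (.leaf (nat_lit 0x90503010180412af) (nat_lit 1028))
 (.leaf (nat_lit 0x90503010181402cf) (nat_lit 1284))
))))))

theorem N35_ok : orbOK B8.A [(nat_lit 0x8040301008040203), (nat_lit 0xc0402010080c0201), (nat_lit 0x8040201048840201), (nat_lit 0x8060201008040601), (nat_lit 0x8040601008060201), (nat_lit 0x80c020100c040201), (nat_lit 0x8448201008040201)] (nat_lit 0x8040201008041221) N35_t (nat_lit 35) = true := by decide +kernel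

noncomputable def N28_t : ST :=
(.node (nat_lit 0x90402010181402d9) (.node (nat_lit 0x80502010181412f5) (.node (nat_lit 0x80403010181412f3) (.node (nat_lit 0x8040301008141273) (.leaf (nat_lit 0x8040301008041233) (nat_lit 1539))
 (.node (nat_lit 0x80403010180412b3) (.leaf (nat_lit 0x8040301008141273) (nat_lit 1283))
 (.leaf (nat_lit 0x80403010180412b3) (nat_lit 1283))
)) (.node (nat_lit 0x8050201008141275) (.node (nat_lit 0x8050201008140255) (.leaf (nat_lit 0x80403010181412f3) (nat_lit 1027))
 (.leaf (nat_lit 0x8050201008140255) (nat_lit 769))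
) (.node (nat_lit 0x80502010181402d5) (.leaf (nat_lit 0x8050201008141275) (nat_lit 1025))
 (.leaf (nat_lit 0x80502010181402d5) (nat_lit 518))
))) (.node (nat_lit 0x80503010180412b7) (.node (nat_lit 0x8050301008041237) (.leaf (nat_lit 0x80502010181412f5) (nat_lit 774))
 (.node (nat_lit 0x8050301008140257) (.leaf (nat_lit 0x8050301008041237) (nat_lit 1284))
 (.leaf (nat_lit 0x8050301008140257) (nat_lit 1028))
)) (.node (nat_lit 0x9040201018040299) (.node (nat_lit 0x80503010181402d7) (.leaf (nat_lit 0x80503010180412b7) (nat_lit 1028))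
 (.leaf (nat_lit 0x80503010181402d7) (nat_lit 772))
) (.node (nat_lit 0x90402010180412b9) (.leaf (nat_lit 0x9040201018040299) (nat_lit 0))
 (.leaf (nat_lit 0x90402010180412b9) (nat_lit 769))
)))) (.node (nat_lit 0x905020100814127d) (.node (nat_lit 0x904030100814127b) (.node (nat_lit 0x90402010181412f9) (.leaf (nat_lit 0x90402010181402d9) (nat_lit 257))
 (.node (nat_lit 0x904030100804123b) (.leaf (nat_lit 0x90402010181412f9) (nat_lit 515))
 (.leaf (nat_lit 0x904030100804123b) (nat_lit 1283))
)) (.node (nat_lit 0x90403010181402db) (.node (nat_lit 0x904030101804029b) (.leaf (nat_lit 0x904030100814127b) (nat_lit 1027))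
 (.leaf (nat_lit 0x904030101804029b) (nat_lit 771))
) (.node (nat_lit 0x905020100814025d) (.leaf (nat_lit 0x90403010181402db) (nat_lit 1029))
 (.leaf (nat_lit 0x905020100814025d) (nat_lit 517))
))) (.node (nat_lit 0x905030100804123f) (.node (nat_lit 0x905020101804029d) (.leaf (nat_lit 0x905020100814127d) (nat_lit 773))
 (.node (nat_lit 0x90502010180412bd) (.leaf (nat_lit 0x905020101804029d) (nat_lit 261))
 (.leaf (nat_lit 0x90502010180412bd) (nat_lit 1029))
)) (.node (nat_lit 0x905030101804029f) (.node (nat_lit 0x905030100814025f) (.leaf (nat_lit 0x905030100804123f) (nat_lit 1028))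
 (.leaf (nat_lit 0x905030100814025f) (nat_lit 772))
) (.node (nat_lit 0x90503010181412ff) (.leaf (nat_lit 0x905030101804029f) (nat_lit 516))
 (.leaf (nat_lit 0x90503010181412ff) (nat_lit 1284))
)))))

theorem N28_ok : orbOK B8.A [(nat_lit 0x8040301008040203), (nat_lit 0xc0402010080c0201), (nat_lit 0x8040201048840201), (nat_lit 0x8060201008040601), (nat_lit 0x8040601008060201), (nat_lit 0x80c020100c040201), (nat_lit 0x8448201008040201)] (nat_lit 0x9040201018040299) N28_t (nat_lit 28) = true := by decide +kernel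

end Cfsg.Agent.Tri8
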