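import Mathlib
import Cfsg.Agent.Rec.B8
import Cfsg.Agent.Rec.Orb
import Cfsg.Agent.Rec.Misc
import Cfsg.Agent.Rec.Sim

/-! Generated by tools/rec: root elements, two centralisers -/

set_option autoImplicit false
set_option maxRecDepth 100000
set_option linter.unusedVariables false
set_option exponentiation.threshold 100000

namespace Cfsg.Agent.Tri8

open Cfsg.Agent.Spor Cfsg.Agent.Rec

universe u

noncomputable def KA_t : ST :=
(.node (nat_lit 0x8041211608040201) (.node (nat_lit 0x52922c100408020d) (.node (nat_lit 0x2140811a02040801) (.node (nat_lit 0x70aed5a42830201) (.node (nat_lit 0x409209441800201) (.node (nat_lit 0x2c20c1024048001) (.node (nat_lit 0x1c1a10e16040280) (.node (nat_lit 0x140a1aa33048380) (.node (nat_lit 0x140206870858380) (.node (nat_lit 0x140202830048380) (.leaf (nat_lit 0x140200810040280) (nat_lit 2561))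
 (.node (nat_lit 0x140204850850280) (.leaf (nat_lit 0x140202830048380) (nat_lit 2562))
 (.leaf (nat_lit 0x140204850850280) (nat_lit 2305))
)) (.node (nat_lit 0x140a10a12040280) (.leaf (nat_lit 0x140206870858380) (nat_lit 2309))
 (.node (nat_lit 0x140a14a52850280) (.leaf (nat_lit 0x140a10a12040280) (nat_lit 3333))
 (.leaf (nat_lit 0x140a14a52850280) (nat_lit 3073))
))) (.node (nat_lit 0x1c1202c34048380) (.node (nat_lit 0x140a1ea73858380) (.leaf (nat_lit 0x140a1aa33048380) (nat_lit 3076))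
 (.node (nat_lit 0x1c1200c14040280) (.leaf (nat_lit 0x140a1ea73858380) (nat_lit 3073))
 (.leaf (nat_lit 0x1c1200c14040280) (nat_lit 2820))
)) (.node (nat_lit 0x1c120cc55850280) (.leaf (nat_lit 0x1c1202c34048380) (nat_lit 2818))
 (.node (nat_lit 0x1c120ec75858380) (.leaf (nat_lit 0x1c120cc55850280) (nat_lit 2564))
 (.leaf (nat_lit 0x1c120ec75858380) (nat_lit 2565))
)))) (.node (nat_lit 0x240181030048083) (.node (nat_lit 0x1c1a1ce57850280) (.node (nat_lit 0x1c1a16e76858380) (.leaf (nat_lit 0x1c1a10e16040280) (nat_lit 3077))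
 (.node (nat_lit 0x1c1a1ae37048380) (.leaf (nat_lit 0x1c1a16e76858380) (nat_lit 3079))
 (.leaf (nat_lit 0x1c1a1ae37048380) (nat_lit 2823))
)) (.node (nat_lit 0x240081020048001) (.leaf (nat_lit 0x1c1a1ce57850280) (nat_lit 2823))
 (.node (nat_lit 0x240099221048001) (.leaf (nat_lit 0x240081020048001) (nat_lit 2305))
 (.leaf (nat_lit 0x240099221048001) (nat_lit 3588))
))) (.node (nat_lit 0x240581070868083) (.node (nat_lit 0x240481060868001) (.leaf (nat_lit 0x240181030048083) (nat_lit 2049))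
 (.node (nat_lit 0x240499261868001) (.leaf (nat_lit 0x240481060868001) (nat_lit 2309))
 (.leaf (nat_lit 0x240499261868001) (nat_lit 3588))
)) (.node (nat_lit 0x240999233048083) (.leaf (nat_lit 0x240581070868083) (nat_lit 2053))
 (.node (nat_lit 0x240d99273868083) (.leaf (nat_lit 0x240999233048083) (nat_lit 3329))
 (.leaf (nat_lit 0x240d99273868083) (nat_lit 3332))
))))) (.node (nat_lit 0x34049fa61878101) (.node (nat_lit 0x2c2cd9267868001) (.node (nat_lit 0x2c25d9275868083) (.node (nat_lit 0x2c20d9225048001) (.leaf (nat_lit 0x2c20c1024048001) (nat_lit 2564))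
 (.node (nat_lit 0x2c21c1034048083) (.leaf (nat_lit 0x2c20d9225048001) (nat_lit 3331))
 (.leaf (nat_lit 0x2c21c1034048083) (nat_lit 2308))
)) (.node (nat_lit 0x2c29d9237048083) (.leaf (nat_lit 0x2c25d9275868083) (nat_lit 3073))
 (.node (nat_lit 0x2c2cc1066868001) (.leaf (nat_lit 0x2c29d9237048083) (nat_lit 3075))
 (.leaf (nat_lit 0x2c2cc1066868001) (nat_lit 2565))
))) (.node (nat_lit 0x34009ba21048101) (.node (nat_lit 0x2c2dc1076868083) (.leaf (nat_lit 0x2c2cd9267868001) (nat_lit 3329))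
 (.node (nat_lit 0x340083820048101) (.leaf (nat_lit 0x2c2dc1076868083) (nat_lit 2309))
 (.leaf (nat_lit 0x340083820048101) (nat_lit 2563))
)) (.node (nat_lit 0x340380810040282) (.leaf (nat_lit 0x34009ba21048101) (nat_lit 3332))
 (.node (nat_lit 0x340487860878101) (.leaf (nat_lit 0x340380810040282) (nat_lit 2305))
 (.leaf (nat_lit 0x340487860878101) (nat_lit 2565))
)))) (.node (nat_lit 0x3c33c0c14040282) (.node (nat_lit 0x340f94a52870282) (.node (nat_lit 0x340784850870282) (.leaf (nat_lit 0x34049fa61878101) (nat_lit 3329))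
 (.node (nat_lit 0x340b90a12040282) (.leaf (nat_lit 0x340784850870282) (nat_lit 2309))
 (.leaf (nat_lit 0x340b90a12040282) (nat_lit 3073))
)) (.node (nat_lit 0x3c30c3c24048101) (.leaf (nat_lit 0x340f94a52870282) (nat_lit 3076))
 (.node (nat_lit 0x3c30dbe25048101) (.leaf (nat_lit 0x3c30c3c24048101) (nat_lit 2820))
 (.leaf (nat_lit 0x3c30dbe25048101) (nat_lit 3079))
))) (.node (nat_lit 0x3c3ccfc67878101) (.node (nat_lit 0x3c37dce55870282) (.leaf (nat_lit 0x3c33c0c14040282) (nat_lit 2564))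
 (.node (nat_lit 0x3c3bd0e16040282) (.leaf (nat_lit 0x3c37dce55870282) (nat_lit 2823))
 (.leaf (nat_lit 0x3c3bd0e16040282) (nat_lit 2823))
)) (.node (nat_lit 0x3c3fccc57870282) (.node (nat_lit 0x3c3cd7e66878101) (.leaf (nat_lit 0x3c3ccfc67878101) (nat_lit 2821))
 (.leaf (nat_lit 0x3c3cd7e66878101) (nat_lit 3079))
) (.node (nat_lit 0x408201040800201) (.leaf (nat_lit 0x3c3fccc57870282) (nat_lit 2565))
 (.leaf (nat_lit 0x408201040800201) (nat_lit 2310))
)))))) (.node (nat_lit 0x57ba5ae33048784) (.node (nat_lit 0x4aba49467808601) (.node (nat_lit 0x429209461808601) (.node (nat_lit 0x418201050800285) (.node (nat_lit 0x40aa41042800201) (.leaf (nat_lit 0x409209441800201) (nat_lit 3590))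
 (.node (nat_lit 0x40ba49443800201) (.leaf (nat_lit 0x40aa41042800201) (nat_lit 3078))
 (.leaf (nat_lit 0x40ba49443800201) (nat_lit 3334))
)) (.node (nat_lit 0x41aa41052800285) (.leaf (nat_lit 0x418201050800285) (nat_lit 2049))
 (.node (nat_lit 0x428201060808601) (.leaf (nat_lit 0x41aa41052800285) (nat_lit 2817))
 (.leaf (nat_lit 0x428201060808601) (nat_lit 2053))
))) (.node (nat_lit 0x499209455800285) (.node (nat_lit 0x438201070808685) (.leaf (nat_lit 0x429209461808601) (nat_lit 3329))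
 (.node (nat_lit 0x43ba49473808685) (.leaf (nat_lit 0x438201070808685) (nat_lit 1797))
 (.leaf (nat_lit 0x43ba49473808685) (nat_lit 3073))
)) (.node (nat_lit 0x49ba49457800285) (.leaf (nat_lit 0x499209455800285) (nat_lit 3073))
 (.node (nat_lit 0x4aaa41066808601) (.leaf (nat_lit 0x49ba49457800285) (nat_lit 2817))
 (.leaf (nat_lit 0x4aaa41066808601) (nat_lit 2817))
)))) (.node (nat_lit 0x50ba5de43810201) (.node (nat_lit 0x508205840810201) (.node (nat_lit 0x4b9209475808685) (.leaf (nat_lit 0x4aba49467808601) (nat_lit 3075))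
 (.node (nat_lit 0x4baa41076808685) (.leaf (nat_lit 0x4b9209475808685) (nat_lit 3073))
 (.leaf (nat_lit 0x4baa41076808685) (nat_lit 2561))
)) (.node (nat_lit 0x50920dc41810201) (.leaf (nat_lit 0x508205840810201) (nat_lit 3078))
 (.node (nat_lit 0x50aa55a42810201) (.leaf (nat_lit 0x50920dc41810201) (nat_lit 3334))
 (.leaf (nat_lit 0x50aa55a42810201) (nat_lit 3334))
))) (.node (nat_lit 0x558200810040284) (.node (nat_lit 0x528207860818701) (.leaf (nat_lit 0x50ba5de43810201) (nat_lit 3335))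
 (.node (nat_lit 0x52920fc61818701) (.leaf (nat_lit 0x528207860818701) (nat_lit 2817))
 (.leaf (nat_lit 0x52920fc61818701) (nat_lit 3076))
)) (.node (nat_lit 0x55aa50a12040284) (.leaf (nat_lit 0x558200810040284) (nat_lit 2560))
 (.node (nat_lit 0x578202830048784) (.leaf (nat_lit 0x55aa50a12040284) (nat_lit 3076))
 (.leaf (nat_lit 0x578202830048784) (nat_lit 2817))
))))) (.node (nat_lit 0x61afc1052820287) (.node (nat_lit 0x5faa5aa37048784) (.node (nat_lit 0x5d9200c14040284) (.node (nat_lit 0x5aaa5fa67818701) (.leaf (nat_lit 0x57ba5ae33048784) (nat_lit 3079))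
 (.node (nat_lit 0x5aba57e66818701) (.leaf (nat_lit 0x5aaa5fa67818701) (nat_lit 3329))
 (.leaf (nat_lit 0x5aba57e66818701) (nat_lit 3079))
)) (.node (nat_lit 0x5dba50e16040284) (.leaf (nat_lit 0x5d9200c14040284) (nat_lit 2820))
 (.node (nat_lit 0x5f9202c34048784) (.leaf (nat_lit 0x5dba50e16040284) (nat_lit 2823))
 (.leaf (nat_lit 0x5f9202c34048784) (nat_lit 3076))
))) (.node (nat_lit 0x60aec1042820201) (.node (nat_lit 0x608681040820201) (.leaf (nat_lit 0x5faa5aa37048784) (nat_lit 2817))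
 (.node (nat_lit 0x609699641820201) (.leaf (nat_lit 0x608681040820201) (nat_lit 2566))
 (.leaf (nat_lit 0x609699641820201) (nat_lit 3847))
)) (.node (nat_lit 0x60bed9643820201) (.leaf (nat_lit 0x60aec1042820201) (nat_lit 2822))
 (.node (nat_lit 0x618781050820287) (.leaf (nat_lit 0x60bed9643820201) (nat_lit 3591))
 (.leaf (nat_lit 0x618781050820287) (nat_lit 2305))
)))) (.node (nat_lit 0x69b7d9655820287) (.node (nat_lit 0x678181030048487) (.node (nat_lit 0x668081020048401) (.leaf (nat_lit 0x61afc1052820287) (nat_lit 2564))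
 (.node (nat_lit 0x669099621048401) (.leaf (nat_lit 0x668081020048401) (nat_lit 2311))
 (.leaf (nat_lit 0x669099621048401) (nat_lit 3591))
)) (.node (nat_lit 0x67b9d9633048487) (.leaf (nat_lit 0x678181030048487) (nat_lit 2055))
 (.node (nat_lit 0x699f99657820287) (.leaf (nat_lit 0x67b9d9633048487) (nat_lit 3335))
 (.leaf (nat_lit 0x699f99657820287) (nat_lit 3335))
))) (.node (nat_lit 0x6f9999637048487) (.node (nat_lit 0x6ea0c1024048401) (.leaf (nat_lit 0x69b7d9655820287) (nat_lit 3079))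
 (.node (nat_lit 0x6eb0d9625048401) (.leaf (nat_lit 0x6ea0c1024048401) (nat_lit 2564))
 (.leaf (nat_lit 0x6eb0d9625048401) (nat_lit 3335))
)) (.node (nat_lit 0x708685840830201) (.node (nat_lit 0x6fa1c1034048487) (.leaf (nat_lit 0x6f9999637048487) (nat_lit 3335))
 (.leaf (nat_lit 0x6fa1c1034048487) (nat_lit 2308))
) (.node (nat_lit 0x70969de41830201) (.leaf (nat_lit 0x708685840830201) (nat_lit 2822))
 (.leaf (nat_lit 0x70969de41830201) (nat_lit 3591))
))))))) (.node (nat_lit 0x141ab410529002cf) (.node (nat_lit 0x10d02080559402cc) (.node (nat_lit 0x7ea0dba25048501) (.node (nat_lit 0x768083820048501) (.node (nat_lit 0x73bdcec73838586) (.node (nat_lit 0x70becdc43830201) (.leaf (nat_lit 0x70aed5a42830201) (nat_lit 3334))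
 (.node (nat_lit 0x738586870838586) (.leaf (nat_lit 0x70becdc43830201) (nat_lit 3078))
 (.leaf (nat_lit 0x738586870838586) (nat_lit 2561))
)) (.node (nat_lit 0x758380810040286) (.leaf (nat_lit 0x73bdcec73838586) (nat_lit 2820))
 (.node (nat_lit 0x75abd0a12040286) (.leaf (nat_lit 0x758380810040286) (nat_lit 2307))
 (.leaf (nat_lit 0x75abd0a12040286) (nat_lit 3073))
))) (.node (nat_lit 0x7ba5dea75838586) (.node (nat_lit 0x76909be21048501) (.leaf (nat_lit 0x768083820048501) (nat_lit 2563))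
 (.node (nat_lit 0x7b9d96e76838586) (.leaf (nat_lit 0x76909be21048501) (nat_lit 3335))
 (.leaf (nat_lit 0x7b9d96e76838586) (nat_lit 3335))
)) (.node (nat_lit 0x7d9b90e16040286) (.leaf (nat_lit 0x7ba5dea75838586) (nat_lit 3078))
 (.node (nat_lit 0x7db3c0c14040286) (.leaf (nat_lit 0x7d9b90e16040286) (nat_lit 3079))
 (.leaf (nat_lit 0x7db3c0c14040286) (nat_lit 2564))
)))) (.node (nat_lit 0x1040b0800304020a) (.node (nat_lit 0x1040208021049228) (.node (nat_lit 0x7eb0c3c24048501) (.leaf (nat_lit 0x7ea0dba25048501) (nat_lit 3073))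
 (.node (nat_lit 0x1040208001040208) (.leaf (nat_lit 0x7eb0c3c24048501) (nat_lit 2820))
 (.leaf (nat_lit 0x1040208001040208) (nat_lit 2562))
)) (.node (nat_lit 0x1040208041940248) (.leaf (nat_lit 0x1040208021049228) (nat_lit 2308))
 (.node (nat_lit 0x1040208061949268) (.leaf (nat_lit 0x1040208041940248) (nat_lit 2304))
 (.leaf (nat_lit 0x1040208061949268) (nat_lit 2305))
))) (.node (nat_lit 0x1040b080739492ea) (.node (nat_lit 0x1040b080330492aa) (.leaf (nat_lit 0x1040b0800304020a) (nat_lit 2306))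
 (.node (nat_lit 0x1040b0804394024a) (.leaf (nat_lit 0x1040b080330492aa) (nat_lit 2305))
 (.leaf (nat_lit 0x1040b0804394024a) (nat_lit 2054))
)) (.node (nat_lit 0x10d020800504020c) (.leaf (nat_lit 0x1040b080739492ea) (nat_lit 2049))
 (.node (nat_lit 0x10d020802504922c) (.leaf (nat_lit 0x10d020800504020c) (nat_lit 2560))
 (.leaf (nat_lit 0x10d020802504922c) (nat_lit 2055))
))))) (.node (nat_lit 0x1240b9820304020a) (.node (nat_lit 0x1240081020049029) (.node (nat_lit 0x10d0b080370492ae) (.node (nat_lit 0x10d02080759492ec) (.leaf (nat_lit 0x10d02080559402cc) (nat_lit 2304))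
 (.node (nat_lit 0x10d0b0800704020e) (.leaf (nat_lit 0x10d02080759492ec) (nat_lit 2048))
 (.leaf (nat_lit 0x10d0b0800704020e) (nat_lit 2307))
)) (.node (nat_lit 0x10d0b080579402ce) (.leaf (nat_lit 0x10d0b080370492ae) (nat_lit 2051))
 (.node (nat_lit 0x10d0b0806794926e) (.leaf (nat_lit 0x10d0b080579402ce) (nat_lit 2051))
 (.leaf (nat_lit 0x10d0b0806794926e) (nat_lit 1795))
))) (.node (nat_lit 0x1240481060969069) (.node (nat_lit 0x12401810300490ab) (.leaf (nat_lit 0x1240081020049029) (nat_lit 2306))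
 (.node (nat_lit 0x1240298201040208) (.leaf (nat_lit 0x12401810300490ab) (nat_lit 2050))
 (.leaf (nat_lit 0x1240298201040208) (nat_lit 3333))
)) (.node (nat_lit 0x12405810709690eb) (.leaf (nat_lit 0x1240481060969069) (nat_lit 2053))
 (.node (nat_lit 0x1240698241960248) (.leaf (nat_lit 0x12405810709690eb) (nat_lit 1797))
 (.leaf (nat_lit 0x1240698241960248) (nat_lit 3077))
)))) (.node (nat_lit 0x12d2bd820704020e) (.node (nat_lit 0x12d21c10340490af) (.node (nat_lit 0x1240f9824396024a) (.leaf (nat_lit 0x1240b9820304020a) (nat_lit 3074))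
 (.node (nat_lit 0x12d20c102404902d) (.leaf (nat_lit 0x1240f9824396024a) (nat_lit 2821))
 (.leaf (nat_lit 0x12d20c102404902d) (nat_lit 2311))
)) (.node (nat_lit 0x12d22d820504020c) (.leaf (nat_lit 0x12d21c10340490af) (nat_lit 2306))
 (.node (nat_lit 0x12d27d82559602ce) (.leaf (nat_lit 0x12d22d820504020c) (nat_lit 3077))
 (.leaf (nat_lit 0x12d27d82559602ce) (nat_lit 2822))
))) (.node (nat_lit 0x12d2ed82579602cc) (.node (nat_lit 0x12d2cc10769690ed) (.leaf (nat_lit 0x12d2bd820704020e) (nat_lit 3074))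
 (.node (nat_lit 0x12d2dc106696906f) (.leaf (nat_lit 0x12d2cc10769690ed) (nat_lit 2309))
 (.leaf (nat_lit 0x12d2dc106696906f) (nat_lit 2053))
)) (.node (nat_lit 0x140ab4104290024b) (.node (nat_lit 0x1408201040900249) (.leaf (nat_lit 0x12d2ed82579602cc) (nat_lit 3078))
 (.leaf (nat_lit 0x1408201040900249) (nat_lit 2054))
) (.node (nat_lit 0x14182010509002cd) (.leaf (nat_lit 0x140ab4104290024b) (nat_lit 2561))
 (.leaf (nat_lit 0x14182010509002cd) (nat_lit 1798))
)))))) (.node (nat_lit 0x16b9d9866792946e) (.node (nat_lit 0x14f920842504962c) (.node (nat_lit 0x147bb484330496ae) (.node (nat_lit 0x1449208401040208) (.node (nat_lit 0x1428201060909669) (.leaf (nat_lit 0x141ab410529002cf) (nat_lit 2566))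
 (.node (nat_lit 0x14382010709096ed) (.leaf (nat_lit 0x1428201060909669) (nat_lit 1797))
 (.leaf (nat_lit 0x14382010709096ed) (nat_lit 1541))
)) (.node (nat_lit 0x144bb4840304020a) (.leaf (nat_lit 0x1449208401040208) (nat_lit 2821))
 (.node (nat_lit 0x1469208421049628) (.leaf (nat_lit 0x144bb4840304020a) (nat_lit 2565))
 (.leaf (nat_lit 0x1469208421049628) (nat_lit 2565))
))) (.node (nat_lit 0x14d920840504020c) (.node (nat_lit 0x14aab410769096eb) (.leaf (nat_lit 0x147bb484330496ae) (nat_lit 2565))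
 (.node (nat_lit 0x14bab4106690966f) (.leaf (nat_lit 0x14aab410769096eb) (nat_lit 2311))
 (.leaf (nat_lit 0x14bab4106690966f) (nat_lit 2305))
)) (.node (nat_lit 0x14dbb4840704020e) (.leaf (nat_lit 0x14d920840504020c) (nat_lit 2821))
 (.node (nat_lit 0x14ebb484370496aa) (.leaf (nat_lit 0x14dbb4840704020e) (nat_lit 2565))
 (.leaf (nat_lit 0x14ebb484370496aa) (nat_lit 2309))
)))) (.node (nat_lit 0x163bcd86739294ec) (.node (nat_lit 0x16187810509202cf) (.node (nat_lit 0x1608681040920249) (.leaf (nat_lit 0x14f920842504962c) (nat_lit 2309))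
 (.node (nat_lit 0x160afc104292024b) (.leaf (nat_lit 0x1608681040920249) (nat_lit 2310))
 (.leaf (nat_lit 0x160afc104292024b) (nat_lit 2310))
)) (.node (nat_lit 0x161aec10529202cd) (.leaf (nat_lit 0x16187810509202cf) (nat_lit 2054))
 (.node (nat_lit 0x1629498661929468) (.leaf (nat_lit 0x161aec10529202cd) (nat_lit 2566))
 (.leaf (nat_lit 0x1629498661929468) (nat_lit 2823))
))) (.node (nat_lit 0x1668081020049429) (.node (nat_lit 0x1649298601040208) (.leaf (nat_lit 0x163bcd86739294ec) (nat_lit 2823))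
 (.node (nat_lit 0x164bbd860304020a) (.leaf (nat_lit 0x1649298601040208) (nat_lit 3076))
 (.leaf (nat_lit 0x164bbd860304020a) (nat_lit 2823))
)) (.node (nat_lit 0x16781810300494af) (.leaf (nat_lit 0x1668081020049429) (nat_lit 2055))
 (.node (nat_lit 0x16ab5d86759294ea) (.leaf (nat_lit 0x16781810300494af) (nat_lit 1799))
 (.leaf (nat_lit 0x16ab5d86759294ea) (nat_lit 2567))
))))) (.node (nat_lit 0x204080b073a4d9a1) (.node (nat_lit 0x20408010120418a1) (.node (nat_lit 0x16ea1c10340494ab) (.node (nat_lit 0x16d9b9860704020e) (.leaf (nat_lit 0x16b9d9866792946e) (nat_lit 2567))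
 (.node (nat_lit 0x16db2d860504020c) (.leaf (nat_lit 0x16d9b9860704020e) (nat_lit 3079))
 (.leaf (nat_lit 0x16db2d860504020c) (nat_lit 2823))
)) (.node (nat_lit 0x16fa0c102404942d) (.leaf (nat_lit 0x16ea1c10340494ab) (nat_lit 2052))
 (.node (nat_lit 0x2040801002040801) (.leaf (nat_lit 0x16fa0c102404942d) (nat_lit 2308))
 (.leaf (nat_lit 0x2040801002040801) (nat_lit 2306))
))) (.node (nat_lit 0x204080b003040901) (.node (nat_lit 0x2040801042a44801) (.leaf (nat_lit 0x20408010120418a1) (nat_lit 2305))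
 (.node (nat_lit 0x2040801052a458a1) (.leaf (nat_lit 0x2040801042a44801) (nat_lit 2048))
 (.leaf (nat_lit 0x2040801052a458a1) (nat_lit 2049))
)) (.node (nat_lit 0x204080b0330499a1) (.leaf (nat_lit 0x204080b003040901) (nat_lit 2563))
 (.node (nat_lit 0x204080b043a44901) (.leaf (nat_lit 0x204080b0330499a1) (nat_lit 2311))
 (.leaf (nat_lit 0x204080b043a44901) (nat_lit 2307))
)))) (.node (nat_lit 0x20e080b037049da1) (.node (nat_lit 0x20e0801066a4cc01) (.node (nat_lit 0x20e0801006040c01) (.leaf (nat_lit 0x204080b073a4d9a1) (nat_lit 2305))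
 (.node (nat_lit 0x20e0801016041ca1) (.leaf (nat_lit 0x20e0801006040c01) (nat_lit 2311))
 (.leaf (nat_lit 0x20e0801016041ca1) (nat_lit 2055))
)) (.node (nat_lit 0x20e0801076a4dca1) (.leaf (nat_lit 0x20e0801066a4cc01) (nat_lit 2055))
 (.node (nat_lit 0x20e080b007040d01) (.leaf (nat_lit 0x20e0801076a4dca1) (nat_lit 1799))
 (.leaf (nat_lit 0x20e080b007040d01) (nat_lit 2563))
))) (.node (nat_lit 0x2140200810041aa0) (.node (nat_lit 0x20e080b057a45da1) (.leaf (nat_lit 0x20e080b037049da1) (nat_lit 2307))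
 (.node (nat_lit 0x20e080b067a4cd01) (.leaf (nat_lit 0x20e080b057a45da1) (nat_lit 2051))
 (.leaf (nat_lit 0x20e080b067a4cd01) (nat_lit 2307))
)) (.node (nat_lit 0x2140204850a55aa0) (.node (nat_lit 0x2140202830049ba0) (.leaf (nat_lit 0x2140200810041aa0) (nat_lit 2309))
 (.leaf (nat_lit 0x2140202830049ba0) (nat_lit 2055))
) (.node (nat_lit 0x2140206870a5dba0) (.leaf (nat_lit 0x2140204850a55aa0) (nat_lit 2309))
 (.leaf (nat_lit 0x2140206870a5dba0) (nat_lit 2053))
)))))))) (.node (nat_lit 0x374929ae01040b08) (.node (nat_lit 0x30409010120418ab) (.node (nat_lit 0x24db84b4370499a5) (.node (nat_lit 0x2408201040a04a01) (.node (nat_lit 0x21e120cc75a5dea0) (.node (nat_lit 0x214081fa43a54901) (.node (nat_lit 0x2140815a42a54801) (.leaf (nat_lit 0x2140811a02040801) (nat_lit 3589))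
 (.node (nat_lit 0x214081ba03040901) (.leaf (nat_lit 0x2140815a42a54801) (nat_lit 3333))
 (.leaf (nat_lit 0x214081ba03040901) (nat_lit 3333))
)) (.node (nat_lit 0x21e1200c14041ea0) (.leaf (nat_lit 0x214081fa43a54901) (nat_lit 3077))
 (.node (nat_lit 0x21e1202c34049fa0) (.leaf (nat_lit 0x21e1200c14041ea0) (nat_lit 2565))
 (.leaf (nat_lit 0x21e1202c34049fa0) (nat_lit 2308))
))) (.node (nat_lit 0x21e1817e66a5cd01) (.node (nat_lit 0x21e120ec55a55fa0) (.leaf (nat_lit 0x21e120cc75a5dea0) (nat_lit 2565))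
 (.node (nat_lit 0x21e1811e06040c01) (.leaf (nat_lit 0x21e120ec55a55fa0) (nat_lit 2309))
 (.leaf (nat_lit 0x21e1811e06040c01) (nat_lit 3591))
)) (.node (nat_lit 0x21e181be07040d01) (.leaf (nat_lit 0x21e1817e66a5cd01) (nat_lit 3335))
 (.node (nat_lit 0x21e181de67a5cc01) (.leaf (nat_lit 0x21e181be07040d01) (nat_lit 3335))
 (.leaf (nat_lit 0x21e181de67a5cc01) (nat_lit 3335))
)))) (.node (nat_lit 0x244a841002040801) (.node (nat_lit 0x2428201060a0ce01) (.node (nat_lit 0x240920b441a04b01) (.leaf (nat_lit 0x2408201040a04a01) (nat_lit 2048))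
 (.node (nat_lit 0x2418201050a05aa5) (.leaf (nat_lit 0x240920b441a04b01) (nat_lit 3073))
 (.leaf (nat_lit 0x2418201050a05aa5) (nat_lit 1541))
)) (.node (nat_lit 0x242920b461a0cf01) (.leaf (nat_lit 0x2428201060a0ce01) (nat_lit 1797))
 (.node (nat_lit 0x2438201070a0dea5) (.leaf (nat_lit 0x242920b461a0cf01) (nat_lit 3072))
 (.leaf (nat_lit 0x2438201070a0dea5) (nat_lit 1285))
))) (.node (nat_lit 0x247b84b433049da5) (.node (nat_lit 0x244b84b403040901) (.leaf (nat_lit 0x244a841002040801) (nat_lit 2565))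
 (.node (nat_lit 0x245a8410120418a5) (.leaf (nat_lit 0x244b84b403040901) (nat_lit 2821))
 (.leaf (nat_lit 0x245a8410120418a5) (nat_lit 2311))
)) (.node (nat_lit 0x249920b475a0dba5) (.leaf (nat_lit 0x247b84b433049da5) (nat_lit 2565))
 (.node (nat_lit 0x24b920b455a05fa5) (.leaf (nat_lit 0x249920b475a0dba5) (nat_lit 2817))
 (.leaf (nat_lit 0x24b920b455a05fa5) (nat_lit 2821))
))))) (.node (nat_lit 0x2558200810041aa4) (.node (nat_lit 0x251a854a52a158a4) (.node (nat_lit 0x24fa841016041ca5) (.node (nat_lit 0x24ea841006040c01) (.leaf (nat_lit 0x24db84b4370499a5) (nat_lit 2565))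
 (.node (nat_lit 0x24eb84b407040d01) (.leaf (nat_lit 0x24ea841006040c01) (nat_lit 2565))
 (.leaf (nat_lit 0x24eb84b407040d01) (nat_lit 2821))
)) (.node (nat_lit 0x2508205840a14a01) (.leaf (nat_lit 0x24fa841016041ca5) (nat_lit 2309))
 (.node (nat_lit 0x250920fc41a14b01) (.leaf (nat_lit 0x2508205840a14a01) (nat_lit 2816))
 (.leaf (nat_lit 0x250920fc41a14b01) (nat_lit 2816))
))) (.node (nat_lit 0x253b85ce73a1dca4) (.node (nat_lit 0x2528207860a1cf01) (.leaf (nat_lit 0x251a854a52a158a4) (nat_lit 2819))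
 (.node (nat_lit 0x252920dc61a1ce01) (.leaf (nat_lit 0x2528207860a1cf01) (nat_lit 2560))
 (.leaf (nat_lit 0x252920dc61a1ce01) (nat_lit 3072))
)) (.node (nat_lit 0x254a851a02040801) (.leaf (nat_lit 0x253b85ce73a1dca4) (nat_lit 2567))
 (.node (nat_lit 0x254b85be03040901) (.leaf (nat_lit 0x254a851a02040801) (nat_lit 3331))
 (.leaf (nat_lit 0x254b85be03040901) (nat_lit 3079))
)))) (.node (nat_lit 0x25eb851e06040c01) (.node (nat_lit 0x25ba85ea57a15da4) (.node (nat_lit 0x2578202830049fa4) (.leaf (nat_lit 0x2558200810041aa4) (nat_lit 2055))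
 (.node (nat_lit 0x259b856e76a1d9a4) (.leaf (nat_lit 0x2578202830049fa4) (nat_lit 2311))
 (.leaf (nat_lit 0x259b856e76a1d9a4) (nat_lit 2823))
)) (.node (nat_lit 0x25d9202c34049ba4) (.leaf (nat_lit 0x25ba85ea57a15da4) (nat_lit 2822))
 (.node (nat_lit 0x25ea85ba07040d01) (.leaf (nat_lit 0x25d9202c34049ba4) (nat_lit 2564))
 (.leaf (nat_lit 0x25ea85ba07040d01) (nat_lit 3074))
))) (.node (nat_lit 0x304020a021049b28) (.node (nat_lit 0x25f9200c14041ea4) (.leaf (nat_lit 0x25eb851e06040c01) (nat_lit 3335))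
 (.node (nat_lit 0x304020a001040b08) (.leaf (nat_lit 0x25f9200c14041ea4) (nat_lit 2308))
 (.leaf (nat_lit 0x304020a001040b08) (nat_lit 2561))
)) (.node (nat_lit 0x304020a061b4db68) (.node (nat_lit 0x304020a041b44b48) (.leaf (nat_lit 0x304020a021049b28) (nat_lit 2055))
 (.leaf (nat_lit 0x304020a041b44b48) (nat_lit 2305))
) (.node (nat_lit 0x304090100204080b) (.leaf (nat_lit 0x304020a061b4db68) (nat_lit 2049))
 (.leaf (nat_lit 0x304090100204080b) (nat_lit 2050))
)))))) (.node (nat_lit 0x33f3ccfc57b75ded) (.node (nat_lit 0x334029aa01040b08) (.node (nat_lit 0x30f020a075b4cfcc) (.node (nat_lit 0x30f020a005040f0c) (.node (nat_lit 0x3040901042b4484b) (.leaf (nat_lit 0x30409010120418ab) (nat_lit 2049))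
 (.node (nat_lit 0x3040901052b458eb) (.leaf (nat_lit 0x3040901042b4484b) (nat_lit 1798))
 (.leaf (nat_lit 0x3040901052b458eb) (nat_lit 1793))
)) (.node (nat_lit 0x30f020a025049f2c) (.leaf (nat_lit 0x30f020a005040f0c) (nat_lit 2818))
 (.node (nat_lit 0x30f020a055b45fec) (.leaf (nat_lit 0x30f020a025049f2c) (nat_lit 2311))
 (.leaf (nat_lit 0x30f020a055b45fec) (nat_lit 2304))
))) (.node (nat_lit 0x30f0901066b4dc6f) (.node (nat_lit 0x30f0901006040c0f) (.leaf (nat_lit 0x30f020a075b4cfcc) (nat_lit 2566))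
 (.node (nat_lit 0x30f0901016041caf) (.leaf (nat_lit 0x30f0901006040c0f) (nat_lit 2055))
 (.leaf (nat_lit 0x30f0901016041caf) (nat_lit 1799))
)) (.node (nat_lit 0x30f0901076b4cccf) (.leaf (nat_lit 0x30f0901066b4dc6f) (nat_lit 1543))
 (.node (nat_lit 0x3340083820049929) (.leaf (nat_lit 0x30f0901076b4cccf) (nat_lit 1799))
 (.leaf (nat_lit 0x3340083820049929) (nat_lit 2311))
)))) (.node (nat_lit 0x3340d95a42b7484b) (.node (nat_lit 0x334069ea41b74b48) (.node (nat_lit 0x3340380810041aaa) (.leaf (nat_lit 0x334029aa01040b08) (nat_lit 3077))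
 (.node (nat_lit 0x3340487860b7d969) (.leaf (nat_lit 0x3340380810041aaa) (nat_lit 2306))
 (.leaf (nat_lit 0x3340487860b7d969) (nat_lit 2309))
)) (.node (nat_lit 0x3340784850b75aea) (.leaf (nat_lit 0x334069ea41b74b48) (nat_lit 3078))
 (.node (nat_lit 0x3340991a0204080b) (.leaf (nat_lit 0x3340784850b75aea) (nat_lit 2053))
 (.leaf (nat_lit 0x3340991a0204080b) (nat_lit 3330))
))) (.node (nat_lit 0x33f33c0c14041eae) (.node (nat_lit 0x33f30c3c24049d2d) (.leaf (nat_lit 0x3340d95a42b7484b) (nat_lit 3077))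
 (.node (nat_lit 0x33f32dae05040f0c) (.leaf (nat_lit 0x33f30c3c24049d2d) (nat_lit 2564))
 (.leaf (nat_lit 0x33f32dae05040f0c) (nat_lit 3079))
)) (.node (nat_lit 0x33f35dde75b7cccf) (.leaf (nat_lit 0x33f33c0c14041eae) (nat_lit 2562))
 (.node (nat_lit 0x33f39d1e06040c0f) (.leaf (nat_lit 0x33f35dde75b7cccf) (nat_lit 3079))
 (.leaf (nat_lit 0x33f39d1e06040c0f) (nat_lit 3335))
))))) (.node (nat_lit 0x346920a421049f28) (.node (nat_lit 0x3428201060b0de69) (.node (nat_lit 0x3408201040b04a49) (.node (nat_lit 0x33f3ed6e76b7cfcc) (.leaf (nat_lit 0x33f3ccfc57b75ded) (nat_lit 2565))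
 (.node (nat_lit 0x33f3fccc67b7de6e) (.leaf (nat_lit 0x33f3ed6e76b7cfcc) (nat_lit 3079))
 (.leaf (nat_lit 0x33f3fccc67b7de6e) (nat_lit 2309))
)) (.node (nat_lit 0x340b94a443b0494a) (.leaf (nat_lit 0x3408201040b04a49) (nat_lit 1798))
 (.node (nat_lit 0x3418201050b05aed) (.leaf (nat_lit 0x340b94a443b0494a) (nat_lit 2817))
 (.leaf (nat_lit 0x3418201050b05aed) (nat_lit 1797))
))) (.node (nat_lit 0x344920a401040b08) (.node (nat_lit 0x3438201070b0cecd) (.leaf (nat_lit 0x3428201060b0de69) (nat_lit 1541))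
 (.node (nat_lit 0x343b94a473b0cdce) (.leaf (nat_lit 0x3438201070b0cecd) (nat_lit 1541))
 (.leaf (nat_lit 0x343b94a473b0cdce) (nat_lit 2822))
)) (.node (nat_lit 0x344a94100204080b) (.leaf (nat_lit 0x344920a401040b08) (nat_lit 2821))
 (.node (nat_lit 0x345a9410120418af) (.leaf (nat_lit 0x344a94100204080b) (nat_lit 2309))
 (.leaf (nat_lit 0x345a9410120418af) (nat_lit 2309))
)))) (.node (nat_lit 0x34fa941006040c0f) (.node (nat_lit 0x34d920a425049b2c) (.node (nat_lit 0x349b94a467b0d96e) (.leaf (nat_lit 0x346920a421049f28) (nat_lit 2309))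
 (.node (nat_lit 0x34ab94a457b05dea) (.leaf (nat_lit 0x349b94a467b0d96e) (nat_lit 2561))
 (.leaf (nat_lit 0x34ab94a457b05dea) (nat_lit 2563))
)) (.node (nat_lit 0x34ea941016041cab) (.leaf (nat_lit 0x34d920a425049b2c) (nat_lit 2565))
 (.node (nat_lit 0x34f920a405040f0c) (.leaf (nat_lit 0x34ea941016041cab) (nat_lit 2053))
 (.leaf (nat_lit 0x34f920a405040f0c) (nat_lit 3077))
))) (.node (nat_lit 0x371acd4a52b358ec) (.node (nat_lit 0x3708685840b34a49) (.leaf (nat_lit 0x34fa941006040c0f) (nat_lit 2309))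
 (.node (nat_lit 0x370bdcec43b3494a) (.leaf (nat_lit 0x3708685840b34a49) (nat_lit 2566))
 (.leaf (nat_lit 0x370bdcec43b3494a) (nat_lit 2566))
)) (.node (nat_lit 0x3738586870b3cdce) (.node (nat_lit 0x372949ce61b3dc68) (.leaf (nat_lit 0x371acd4a52b358ec) (nat_lit 3076))
 (.leaf (nat_lit 0x372949ce61b3dc68) (nat_lit 2823))
) (.node (nat_lit 0x373becdc73b3cecd) (.leaf (nat_lit 0x3738586870b3cdce) (nat_lit 2310))
 (.leaf (nat_lit 0x373becdc73b3cecd) (nat_lit 2822))
))))))) (.node (nat_lit 0x4240d9d2333fc0c3) (.node (nat_lit 0x4080e0d0579b02c1) (.node (nat_lit 0x408020102428c201) (.node (nat_lit 0x37db0c3c2404992d) (.node (nat_lit 0x3768083820049d29) (.node (nat_lit 0x374a9d1a0204080b) (.leaf (nat_lit 0x374929ae01040b08) (nat_lit 2823))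
 (.node (nat_lit 0x3758380810041aae) (.leaf (nat_lit 0x374a9d1a0204080b) (nat_lit 3075))
 (.leaf (nat_lit 0x3758380810041aae) (nat_lit 2051))
)) (.node (nat_lit 0x3799f97e66b3db6f) (.leaf (nat_lit 0x3768083820049d29) (nat_lit 2307))
 (.node (nat_lit 0x37aa7dfa55b35feb) (.leaf (nat_lit 0x3799f97e66b3db6f) (nat_lit 2819))
 (.leaf (nat_lit 0x37aa7dfa55b35feb) (nat_lit 2821))
))) (.node (nat_lit 0x37fa2daa05040f0c) (.node (nat_lit 0x37eb3c0c14041eaa) (.leaf (nat_lit 0x37db0c3c2404992d) (nat_lit 2564))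
 (.node (nat_lit 0x37f9991e06040c0f) (.leaf (nat_lit 0x37eb3c0c14041eaa) (nat_lit 2308))
 (.leaf (nat_lit 0x37f9991e06040c0f) (nat_lit 3335))
)) (.node (nat_lit 0x4080201004080201) (.leaf (nat_lit 0x37fa2daa05040f0c) (nat_lit 2818))
 (.node (nat_lit 0x40802010141802c1) (.leaf (nat_lit 0x4080201004080201) (nat_lit 2310))
 (.leaf (nat_lit 0x40802010141802c1) (nat_lit 2054))
)))) (.node (nat_lit 0x4080e010060a0201) (.node (nat_lit 0x408020d02529c201) (.node (nat_lit 0x408020103438c2c1) (.leaf (nat_lit 0x408020102428c201) (nat_lit 2048))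
 (.node (nat_lit 0x408020d005090201) (.leaf (nat_lit 0x408020103438c2c1) (nat_lit 1798))
 (.leaf (nat_lit 0x408020d005090201) (nat_lit 3078))
)) (.node (nat_lit 0x408020d0559902c1) (.leaf (nat_lit 0x408020d02529c201) (nat_lit 2816))
 (.node (nat_lit 0x408020d075b9c2c1) (.leaf (nat_lit 0x408020d0559902c1) (nat_lit 2560))
 (.leaf (nat_lit 0x408020d075b9c2c1) (nat_lit 2566))
))) (.node (nat_lit 0x4080e01076bac2c1) (.node (nat_lit 0x4080e010161a02c1) (.leaf (nat_lit 0x4080e010060a0201) (nat_lit 2566))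
 (.node (nat_lit 0x4080e01066aac201) (.leaf (nat_lit 0x4080e010161a02c1) (nat_lit 2310))
 (.leaf (nat_lit 0x4080e01066aac201) (nat_lit 2304))
)) (.node (nat_lit 0x4080e0d0070b0201) (.leaf (nat_lit 0x4080e01076bac2c1) (nat_lit 2054))
 (.node (nat_lit 0x4080e0d0373bc2c1) (.leaf (nat_lit 0x4080e0d0070b0201) (nat_lit 2822))
 (.leaf (nat_lit 0x4080e0d0373bc2c1) (nat_lit 2566))
))))) (.node (nat_lit 0x418120dc05090201) (.node (nat_lit 0x4140e10a121e02c0) (.node (nat_lit 0x41402028303cc3c0) (.node (nat_lit 0x4080e0d067abc201) (.leaf (nat_lit 0x4080e0d0579b02c1) (nat_lit 2310))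
 (.node (nat_lit 0x41402008101c02c0) (.leaf (nat_lit 0x4080e0d067abc201) (nat_lit 2563))
 (.leaf (nat_lit 0x41402008101c02c0) (nat_lit 2304))
)) (.node (nat_lit 0x41402048509d02c0) (.leaf (nat_lit 0x41402028303cc3c0) (nat_lit 2306))
 (.node (nat_lit 0x4140206870bdc3c0) (.leaf (nat_lit 0x41402048509d02c0) (nat_lit 2054))
 (.leaf (nat_lit 0x4140206870bdc3c0) (nat_lit 2053))
))) (.node (nat_lit 0x4140e1ea333fc3c0) (.node (nat_lit 0x4140e14a529f02c0) (.leaf (nat_lit 0x4140e10a121e02c0) (nat_lit 3076))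
 (.node (nat_lit 0x4140e1aa73bec3c0) (.leaf (nat_lit 0x4140e14a529f02c0) (nat_lit 2820))
 (.leaf (nat_lit 0x4140e1aa73bec3c0) (nat_lit 2822))
)) (.node (nat_lit 0x4181201c04080201) (.leaf (nat_lit 0x4140e1ea333fc3c0) (nat_lit 3078))
 (.node (nat_lit 0x4181203c2428c301) (.leaf (nat_lit 0x4181201c04080201) (nat_lit 3590))
 (.leaf (nat_lit 0x4181203c2428c301) (nat_lit 3074))
)))) (.node (nat_lit 0x42400810202cc001) (.node (nat_lit 0x4181e17e66abc301) (.node (nat_lit 0x418120fc2529c301) (.leaf (nat_lit 0x418120dc05090201) (nat_lit 3334))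
 (.node (nat_lit 0x4181e11e060a0201) (.leaf (nat_lit 0x418120fc2529c301) (nat_lit 2816))
 (.leaf (nat_lit 0x4181e11e060a0201) (nat_lit 3847))
)) (.node (nat_lit 0x4181e1be67aac301) (.leaf (nat_lit 0x4181e17e66abc301) (nat_lit 3335))
 (.node (nat_lit 0x4181e1de070b0201) (.leaf (nat_lit 0x4181e1be67aac301) (nat_lit 3079))
 (.leaf (nat_lit 0x4181e1de070b0201) (nat_lit 3591))
))) (.node (nat_lit 0x4240481060aec001) (.node (nat_lit 0x424009d2212dc001) (.leaf (nat_lit 0x42400810202cc001) (nat_lit 2048))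
 (.node (nat_lit 0x42401810303cc0c3) (.leaf (nat_lit 0x424009d2212dc001) (nat_lit 3332))
 (.leaf (nat_lit 0x42401810303cc0c3) (nat_lit 1798))
)) (.node (nat_lit 0x4240581070bec0c3) (.node (nat_lit 0x424049d261afc001) (.leaf (nat_lit 0x4240481060aec001) (nat_lit 2053))
 (.leaf (nat_lit 0x424049d261afc001) (nat_lit 3332))
) (.node (nat_lit 0x424099d273bdc0c3) (.leaf (nat_lit 0x4240581070bec0c3) (nat_lit 1797))
 (.leaf (nat_lit 0x424099d273bdc0c3) (nat_lit 3076))
)))))) (.node (nat_lit 0x504020c0010d0208) (.node (nat_lit 0x4340487860afc101) (.node (nat_lit 0x4282ec10060a0201) (.node (nat_lit 0x42823c10141802c3) (.node (nat_lit 0x42822c1004080201) (.leaf (nat_lit 0x4240d9d2333fc0c3) (nat_lit 3076))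
 (.node (nat_lit 0x42822dd205090201) (.leaf (nat_lit 0x42822c1004080201) (nat_lit 3078))
 (.leaf (nat_lit 0x42822dd205090201) (nat_lit 3334))
)) (.node (nat_lit 0x42827dd2559b02c3) (.leaf (nat_lit 0x42823c10141802c3) (nat_lit 2562))
 (.node (nat_lit 0x4282bdd2579902c3) (.leaf (nat_lit 0x42827dd2559b02c3) (nat_lit 3077))
 (.leaf (nat_lit 0x4282bdd2579902c3) (nat_lit 3078))
))) (.node (nat_lit 0x43400838202cc101) (.node (nat_lit 0x4282edd2070b0201) (.leaf (nat_lit 0x4282ec10060a0201) (nat_lit 2822))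
 (.node (nat_lit 0x4282fc10161a02c3) (.leaf (nat_lit 0x4282edd2070b0201) (nat_lit 3334))
 (.leaf (nat_lit 0x4282fc10161a02c3) (nat_lit 2310))
)) (.node (nat_lit 0x434009fa212dc101) (.leaf (nat_lit 0x43400838202cc101) (nat_lit 2307))
 (.node (nat_lit 0x43403808101c02c2) (.leaf (nat_lit 0x434009fa212dc101) (nat_lit 3076))
 (.leaf (nat_lit 0x43403808101c02c2) (nat_lit 2054))
)))) (.node (nat_lit 0x43832c1c04080201) (.node (nat_lit 0x4340b94a529d02c2) (.node (nat_lit 0x434049ba61aec101) (.leaf (nat_lit 0x4340487860afc101) (nat_lit 2309))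
 (.node (nat_lit 0x43407848509f02c2) (.leaf (nat_lit 0x434049ba61aec101) (nat_lit 3076))
 (.leaf (nat_lit 0x43407848509f02c2) (nat_lit 2053))
)) (.node (nat_lit 0x4340f90a121e02c2) (.leaf (nat_lit 0x4340b94a529d02c2) (nat_lit 2820))
 (.node (nat_lit 0x43831c2c3438c1c2) (.leaf (nat_lit 0x4340f90a121e02c2) (nat_lit 2820))
 (.leaf (nat_lit 0x43831c2c3438c1c2) (nat_lit 2818))
))) (.node (nat_lit 0x43839d6e76b9c1c2) (.node (nat_lit 0x43832dde05090201) (.leaf (nat_lit 0x43832c1c04080201) (nat_lit 3334))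
 (.node (nat_lit 0x43835dae75bac1c2) (.leaf (nat_lit 0x43832dde05090201) (nat_lit 3335))
 (.leaf (nat_lit 0x43835dae75bac1c2) (nat_lit 2823))
)) (.node (nat_lit 0x4383ecdc070b0201) (.node (nat_lit 0x4383dcec373bc1c2) (.leaf (nat_lit 0x43839d6e76b9c1c2) (nat_lit 3079))
 (.leaf (nat_lit 0x4383dcec373bc1c2) (nat_lit 2566))
) (.node (nat_lit 0x4383ed1e060a0201) (.leaf (nat_lit 0x4383ecdc070b0201) (nat_lit 3078))
 (.leaf (nat_lit 0x4383ed1e060a0201) (nat_lit 3591))
))))) (.node (nat_lit 0x5090f010060a020f) (.node (nat_lit 0x5040f0c0439f024a) (.node (nat_lit 0x504020c061bdd268) (.node (nat_lit 0x504020c0212dd228) (.leaf (nat_lit 0x504020c0010d0208) (nat_lit 2306))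
 (.node (nat_lit 0x504020c0419d0248) (.leaf (nat_lit 0x504020c0212dd228) (nat_lit 2308))
 (.leaf (nat_lit 0x504020c0419d0248) (nat_lit 2054))
)) (.node (nat_lit 0x5040f0c0030f020a) (.leaf (nat_lit 0x504020c061bdd268) (nat_lit 2052))
 (.node (nat_lit 0x5040f0c0333fd2ea) (.leaf (nat_lit 0x5040f0c0030f020a) (nat_lit 2308))
 (.leaf (nat_lit 0x5040f0c0333fd2ea) (nat_lit 2052))
))) (.node (nat_lit 0x50902010141802cd) (.node (nat_lit 0x5040f0c073afd2aa) (.leaf (nat_lit 0x5040f0c0439f024a) (nat_lit 2052))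
 (.node (nat_lit 0x509020100408020d) (.leaf (nat_lit 0x5040f0c073afd2aa) (nat_lit 1796))
 (.leaf (nat_lit 0x509020100408020d) (nat_lit 2050))
)) (.node (nat_lit 0x509020102428d22d) (.leaf (nat_lit 0x50902010141802cd) (nat_lit 1798))
 (.node (nat_lit 0x509020103438d2ed) (.leaf (nat_lit 0x509020102428d22d) (nat_lit 1540))
 (.leaf (nat_lit 0x509020103438d2ed) (nat_lit 1797))
)))) (.node (nat_lit 0x524029c2010d0208) (.node (nat_lit 0x5090f01076aad2af) (.node (nat_lit 0x5090f010161a02cf) (.leaf (nat_lit 0x5090f010060a020f) (nat_lit 2306))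
 (.node (nat_lit 0x5090f01066bad26f) (.leaf (nat_lit 0x5090f010161a02cf) (nat_lit 2054))
 (.leaf (nat_lit 0x5090f01066bad26f) (nat_lit 1799))
)) (.node (nat_lit 0x52400810202cd029) (.leaf (nat_lit 0x5090f01076aad2af) (nat_lit 1798))
 (.node (nat_lit 0x52401810303cd0eb) (.leaf (nat_lit 0x52400810202cd029) (nat_lit 2050))
 (.leaf (nat_lit 0x52401810303cd0eb) (nat_lit 1794))
))) (.node (nat_lit 0x524069c2419f0248) (.node (nat_lit 0x5240481060bed069) (.leaf (nat_lit 0x524029c2010d0208) (nat_lit 3074))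
 (.node (nat_lit 0x5240581070aed0ab) (.leaf (nat_lit 0x5240481060bed069) (nat_lit 1797))
 (.leaf (nat_lit 0x5240581070aed0ab) (nat_lit 1541))
)) (.node (nat_lit 0x5240f9c2030f020a) (.node (nat_lit 0x5240b9c2439d024a) (.leaf (nat_lit 0x524069c2419f0248) (nat_lit 2821))
 (.leaf (nat_lit 0x5240b9c2439d024a) (nat_lit 2821))
) (.node (nat_lit 0x52920dc22529d02c) (.leaf (nat_lit 0x5240f9c2030f020a) (nat_lit 3077))
 (.leaf (nat_lit 0x52920dc22529d02c) (nat_lit 2819))
))))))))) (.node (nat_lit 0x8010704058830286) (.node (nat_lit 0x67aa2dfa05090f01) (.node (nat_lit 0x60a020102428ce01) (.node (nat_lit 0x570abd5a4299024b) (.node (nat_lit 0x554bf5ce030f020a) (.node (nat_lit 0x5292fc10060a020f) (.node (nat_lit 0x52929dc267b9d06e) (.node (nat_lit 0x52923c10141802cf) (.leaf (nat_lit 0x52922c100408020d) (nat_lit 2818))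
 (.node (nat_lit 0x52925dc275abd0ae) (.leaf (nat_lit 0x52923c10141802cf) (nat_lit 2566))
 (.leaf (nat_lit 0x52925dc275abd0ae) (nat_lit 3075))
)) (.node (nat_lit 0x5292cdc2373bd0ec) (.leaf (nat_lit 0x52929dc267b9d06e) (nat_lit 3075))
 (.node (nat_lit 0x5292ec10161a02cd) (.leaf (nat_lit 0x5292cdc2373bd0ec) (nat_lit 3077))
 (.leaf (nat_lit 0x5292ec10161a02cd) (nat_lit 2566))
))) (.node (nat_lit 0x5528207860b9d769) (.node (nat_lit 0x5508205840990249) (.leaf (nat_lit 0x5292fc10060a020f) (nat_lit 2565))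
 (.node (nat_lit 0x550af55a429b024b) (.leaf (nat_lit 0x5508205840990249) (nat_lit 2560))
 (.leaf (nat_lit 0x550af55a429b024b) (nat_lit 3078))
)) (.node (nat_lit 0x553bf5be73aad7af) (.leaf (nat_lit 0x5528207860b9d769) (nat_lit 2311))
 (.node (nat_lit 0x554920cc010d0208) (.leaf (nat_lit 0x553bf5be73aad7af) (nat_lit 2823))
 (.leaf (nat_lit 0x554920cc010d0208) (nat_lit 2565))
)))) (.node (nat_lit 0x559bf51e060a020f) (.node (nat_lit 0x556920ec212dd728) (.node (nat_lit 0x55582008101c02cc) (.leaf (nat_lit 0x554bf5ce030f020a) (nat_lit 2823))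
 (.node (nat_lit 0x555af50a121e02ce) (.leaf (nat_lit 0x55582008101c02cc) (nat_lit 2304))
 (.leaf (nat_lit 0x555af50a121e02ce) (nat_lit 2822))
)) (.node (nat_lit 0x55782028303cd7ec) (.leaf (nat_lit 0x556920ec212dd728) (nat_lit 2309))
 (.node (nat_lit 0x5599201c0408020d) (.leaf (nat_lit 0x55782028303cd7ec) (nat_lit 2304))
 (.leaf (nat_lit 0x5599201c0408020d) (nat_lit 3074))
))) (.node (nat_lit 0x55ebf56e76afd7aa) (.node (nat_lit 0x55aaf5fa373bd7eb) (.leaf (nat_lit 0x559bf51e060a020f) (nat_lit 3079))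
 (.node (nat_lit 0x55b9203c2428d72d) (.leaf (nat_lit 0x55aaf5fa373bd7eb) (nat_lit 2820))
 (.leaf (nat_lit 0x55b9203c2428d72d) (nat_lit 2820))
)) (.node (nat_lit 0x55faf5aa67bed76e) (.leaf (nat_lit 0x55ebf56e76afd7aa) (nat_lit 2823))
 (.node (nat_lit 0x57086858409b0249) (.leaf (nat_lit 0x55faf5aa67bed76e) (nat_lit 2820))
 (.leaf (nat_lit 0x57086858409b0249) (nat_lit 2310))
))))) (.node (nat_lit 0x57ba0dea2529d52c) (.node (nat_lit 0x575aed0a121e02cc) (.node (nat_lit 0x574929ce010d0208) (.node (nat_lit 0x572949ae61bad568) (.leaf (nat_lit 0x570abd5a4299024b) (nat_lit 3078))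
 (.node (nat_lit 0x5738586870abd5ae) (.leaf (nat_lit 0x572949ae61bad568) (nat_lit 2567))
 (.leaf (nat_lit 0x5738586870abd5ae) (nat_lit 2054))
)) (.node (nat_lit 0x574bfccc030f020a) (.leaf (nat_lit 0x574929ce010d0208) (nat_lit 2823))
 (.node (nat_lit 0x57583808101c02ce) (.leaf (nat_lit 0x574bfccc030f020a) (nat_lit 2565))
 (.leaf (nat_lit 0x57583808101c02ce) (nat_lit 2051))
))) (.node (nat_lit 0x5799f91e060a020f) (.node (nat_lit 0x57680838202cd529) (.leaf (nat_lit 0x575aed0a121e02cc) (nat_lit 3078))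
 (.node (nat_lit 0x577bccfc333fd5ed) (.leaf (nat_lit 0x57680838202cd529) (nat_lit 2051))
 (.leaf (nat_lit 0x577bccfc333fd5ed) (nat_lit 2565))
)) (.node (nat_lit 0x579b2c1c0408020d) (.leaf (nat_lit 0x5799f91e060a020f) (nat_lit 3335))
 (.node (nat_lit 0x57ab1c2c3438d5ea) (.leaf (nat_lit 0x579b2c1c0408020d) (nat_lit 2818))
 (.leaf (nat_lit 0x57ab1c2c3438d5ea) (nat_lit 2562))
)))) (.node (nat_lit 0x6040c01052be58e1) (.node (nat_lit 0x6040c010020e0801) (.node (nat_lit 0x57ea5dba75aed5ab) (.leaf (nat_lit 0x57ba0dea2529d52c) (nat_lit 2822))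
 (.node (nat_lit 0x57f9997e66bdd56f) (.leaf (nat_lit 0x57ea5dba75aed5ab) (nat_lit 3078))
 (.leaf (nat_lit 0x57f9997e66bdd56f) (nat_lit 3079))
)) (.node (nat_lit 0x6040c010121e18e1) (.leaf (nat_lit 0x6040c010020e0801) (nat_lit 2308))
 (.node (nat_lit 0x6040c01042ae4801) (.leaf (nat_lit 0x6040c010121e18e1) (nat_lit 2052))
 (.leaf (nat_lit 0x6040c01042ae4801) (nat_lit 2052))
))) (.node (nat_lit 0x6040c0f043af4901) (.node (nat_lit 0x6040c0f0030f0901) (.leaf (nat_lit 0x6040c01052be58e1) (nat_lit 1796))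
 (.node (nat_lit 0x6040c0f0333fd9e1) (.leaf (nat_lit 0x6040c0f0030f0901) (nat_lit 2564))
 (.leaf (nat_lit 0x6040c0f0333fd9e1) (nat_lit 2308))
)) (.node (nat_lit 0x60a0201004080e01) (.node (nat_lit 0x6040c0f0739f99e1) (.leaf (nat_lit 0x6040c0f043af4901) (nat_lit 2308))
 (.leaf (nat_lit 0x6040c0f0739f99e1) (nat_lit 2052))
) (.node (nat_lit 0x60a0201014181ee1) (.leaf (nat_lit 0x60a0201004080e01) (nat_lit 2052))
 (.leaf (nat_lit 0x60a0201014181ee1) (nat_lit 1796))
)))))) (.node (nat_lit 0x6618781050ba5ae7) (.node (nat_lit 0x6140c1ba43ae4901) (.node (nat_lit 0x61402008101c1ae0) (.node (nat_lit 0x60a020f02529cf01) (.node (nat_lit 0x60a020103438dee1) (.leaf (nat_lit 0x60a020102428ce01) (nat_lit 1796))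
 (.node (nat_lit 0x60a020f005090f01) (.leaf (nat_lit 0x60a020103438dee1) (nat_lit 1540))
 (.leaf (nat_lit 0x60a020f005090f01) (nat_lit 2818))
)) (.node (nat_lit 0x60a020f055b95fe1) (.leaf (nat_lit 0x60a020f02529cf01) (nat_lit 2560))
 (.node (nat_lit 0x60a020f075999fe1) (.leaf (nat_lit 0x60a020f055b95fe1) (nat_lit 2311))
 (.leaf (nat_lit 0x60a020f075999fe1) (nat_lit 2304))
))) (.node (nat_lit 0x61402068709d9be0) (.node (nat_lit 0x61402028303cdbe0) (.leaf (nat_lit 0x61402008101c1ae0) (nat_lit 2306))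
 (.node (nat_lit 0x6140204850bd5ae0) (.leaf (nat_lit 0x61402028303cdbe0) (nat_lit 2050))
 (.leaf (nat_lit 0x6140204850bd5ae0) (nat_lit 2053))
)) (.node (nat_lit 0x6140c11a020e0801) (.leaf (nat_lit 0x61402068709d9be0) (nat_lit 1797))
 (.node (nat_lit 0x6140c15a42af4801) (.leaf (nat_lit 0x6140c11a020e0801) (nat_lit 3589))
 (.leaf (nat_lit 0x6140c15a42af4801) (nat_lit 3333))
)))) (.node (nat_lit 0x61a1c10e161a1ce0) (.node (nat_lit 0x61a1203c2428cf01) (.node (nat_lit 0x6140c1fa030f0901) (.leaf (nat_lit 0x6140c1ba43ae4901) (nat_lit 3077))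
 (.node (nat_lit 0x61a1201c04080e01) (.leaf (nat_lit 0x6140c1fa030f0901) (nat_lit 3330))
 (.leaf (nat_lit 0x61a1201c04080e01) (nat_lit 3330))
)) (.node (nat_lit 0x61a120dc2529ce01) (.leaf (nat_lit 0x61a1203c2428cf01) (nat_lit 3072))
 (.node (nat_lit 0x61a120fc05090f01) (.leaf (nat_lit 0x61a120dc2529ce01) (nat_lit 3072))
 (.leaf (nat_lit 0x61a120fc05090f01) (nat_lit 3077))
))) (.node (nat_lit 0x61a1c1ce373bdce0) (.node (nat_lit 0x61a1c16e769b9de0) (.leaf (nat_lit 0x61a1c10e161a1ce0) (nat_lit 2823))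
 (.node (nat_lit 0x61a1c1ae57ba5de0) (.leaf (nat_lit 0x61a1c16e769b9de0) (nat_lit 2567))
 (.leaf (nat_lit 0x61a1c1ae57ba5de0) (nat_lit 2567))
)) (.node (nat_lit 0x6608681040aa4a01) (.leaf (nat_lit 0x61a1c1ce373bdce0) (nat_lit 2823))
 (.node (nat_lit 0x660969f641ab4b01) (.leaf (nat_lit 0x6608681040aa4a01) (nat_lit 2304))
 (.leaf (nat_lit 0x660969f641ab4b01) (nat_lit 3335))
))))) (.node (nat_lit 0x66db5df6759f99e7) (.node (nat_lit 0x666909f6212dcd01) (.node (nat_lit 0x664bcdf6030f0901) (.node (nat_lit 0x663bbdf673999fe7) (.leaf (nat_lit 0x6618781050ba5ae7) (nat_lit 1799))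
 (.node (nat_lit 0x664acc10020e0801) (.leaf (nat_lit 0x663bbdf673999fe7) (nat_lit 2823))
 (.leaf (nat_lit 0x664acc10020e0801) (nat_lit 2565))
)) (.node (nat_lit 0x665adc10121e18e7) (.leaf (nat_lit 0x664bcdf6030f0901) (nat_lit 3079))
 (.node (nat_lit 0x66680810202ccc01) (.leaf (nat_lit 0x665adc10121e18e7) (nat_lit 2053))
 (.leaf (nat_lit 0x66680810202ccc01) (nat_lit 2055))
))) (.node (nat_lit 0x66aa2c1004080e01) (.node (nat_lit 0x66781810303cdce7) (.leaf (nat_lit 0x666909f6212dcd01) (nat_lit 3335))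
 (.node (nat_lit 0x6699f9f6373bdbe7) (.leaf (nat_lit 0x66781810303cdce7) (nat_lit 1543))
 (.leaf (nat_lit 0x6699f9f6373bdbe7) (nat_lit 2819))
)) (.node (nat_lit 0x66ab2df605090f01) (.leaf (nat_lit 0x66aa2c1004080e01) (nat_lit 2818))
 (.node (nat_lit 0x66ba3c1014181ee7) (.leaf (nat_lit 0x66ab2df605090f01) (nat_lit 3079))
 (.leaf (nat_lit 0x66ba3c1014181ee7) (nat_lit 2308))
)))) (.node (nat_lit 0x674acd1a020e0801) (.node (nat_lit 0x670969be41aa4b01) (.node (nat_lit 0x66f999f657bd5de7) (.leaf (nat_lit 0x66db5df6759f99e7) (nat_lit 2823))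
 (.node (nat_lit 0x6708685840ab4a01) (.leaf (nat_lit 0x66f999f657bd5de7) (nat_lit 3079))
 (.leaf (nat_lit 0x6708685840ab4a01) (nat_lit 2563))
)) (.node (nat_lit 0x671a9d4a52b958e6) (.leaf (nat_lit 0x670969be41aa4b01) (nat_lit 3079))
 (.node (nat_lit 0x67385868709b9de6) (.leaf (nat_lit 0x671a9d4a52b958e6) (nat_lit 3075))
 (.leaf (nat_lit 0x67385868709b9de6) (nat_lit 2051))
))) (.node (nat_lit 0x67680838202ccd01) (.node (nat_lit 0x674bccfc030f0901) (.leaf (nat_lit 0x674acd1a020e0801) (nat_lit 3330))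
 (.node (nat_lit 0x67583808101c1ae6) (.leaf (nat_lit 0x674bccfc030f0901) (nat_lit 2821))
 (.leaf (nat_lit 0x67583808101c1ae6) (nat_lit 1795))
)) (.node (nat_lit 0x677bfccc333fdee6) (.node (nat_lit 0x676909de212dcc01) (.leaf (nat_lit 0x67680838202ccd01) (nat_lit 2307))
 (.leaf (nat_lit 0x676909de212dcc01) (nat_lit 3335))
) (.node (nat_lit 0x679b1c2c3438d9e6) (.leaf (nat_lit 0x677bfccc333fdee6) (nat_lit 2309))
 (.leaf (nat_lit 0x679b1c2c3438d9e6) (nat_lit 2564))
))))))) (.node (nat_lit 0x75b9201c04080e0d) (.node (nat_lit 0x73404878609f9969) (.node (nat_lit 0x7040d01052ae58ab) (.node (nat_lit 0x704020e0212ddb28) (.node (nat_lit 0x67d9b96e769d9be6) (.node (nat_lit 0x67ab2c1c04080e01) (.leaf (nat_lit 0x67aa2dfa05090f01) (nat_lit 3330))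
 (.node (nat_lit 0x67b9d90e161a1ce6) (.leaf (nat_lit 0x67ab2c1c04080e01) (nat_lit 3075))
 (.leaf (nat_lit 0x67b9d90e161a1ce6) (nat_lit 2567))
)) (.node (nat_lit 0x67fa7daa55be5fe6) (.leaf (nat_lit 0x67d9b96e769d9be6) (nat_lit 2823))
 (.node (nat_lit 0x704020e0010d0b08) (.leaf (nat_lit 0x67fa7daa55be5fe6) (nat_lit 2821))
 (.leaf (nat_lit 0x704020e0010d0b08) (nat_lit 2308))
))) (.node (nat_lit 0x7040d010020e080b) (.node (nat_lit 0x704020e041bd4b48) (.leaf (nat_lit 0x704020e0212ddb28) (nat_lit 2052))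
 (.node (nat_lit 0x704020e0619d9b68) (.leaf (nat_lit 0x704020e041bd4b48) (nat_lit 2052))
 (.leaf (nat_lit 0x704020e0619d9b68) (nat_lit 1796))
)) (.node (nat_lit 0x7040d010121e18eb) (.leaf (nat_lit 0x7040d010020e080b) (nat_lit 2052))
 (.node (nat_lit 0x7040d01042be484b) (.leaf (nat_lit 0x7040d010121e18eb) (nat_lit 1796))
 (.leaf (nat_lit 0x7040d01042be484b) (nat_lit 1796))
)))) (.node (nat_lit 0x70b0d0e0373bcdce) (.node (nat_lit 0x70b020102428de2d) (.node (nat_lit 0x70b0201004080e0d) (.leaf (nat_lit 0x7040d01052ae58ab) (nat_lit 1540))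
 (.node (nat_lit 0x70b0201014181eed) (.leaf (nat_lit 0x70b0201004080e0d) (nat_lit 1796))
 (.leaf (nat_lit 0x70b0201014181eed) (nat_lit 1540))
)) (.node (nat_lit 0x70b020103438cecd) (.leaf (nat_lit 0x70b020102428de2d) (nat_lit 1284))
 (.node (nat_lit 0x70b0d0e0070b0d0e) (.leaf (nat_lit 0x70b020103438cecd) (nat_lit 1540))
 (.leaf (nat_lit 0x70b0d0e0070b0d0e) (nat_lit 2562))
))) (.node (nat_lit 0x73400838202cd929) (.node (nat_lit 0x70b0d0e057ab5dae) (.leaf (nat_lit 0x70b0d0e0373bcdce) (nat_lit 2310))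
 (.node (nat_lit 0x70b0d0e0679b9d6e) (.leaf (nat_lit 0x70b0d0e057ab5dae) (nat_lit 2054))
 (.leaf (nat_lit 0x70b0d0e0679b9d6e) (nat_lit 2051))
)) (.node (nat_lit 0x734029ea010d0b08) (.leaf (nat_lit 0x73400838202cd929) (nat_lit 2306))
 (.node (nat_lit 0x73403808101c1aea) (.leaf (nat_lit 0x734029ea010d0b08) (nat_lit 3074))
 (.leaf (nat_lit 0x73403808101c1aea) (nat_lit 2050))
))))) (.node (nat_lit 0x73b3ecdc373bcecd) (.node (nat_lit 0x73b31c2c3438cdce) (.node (nat_lit 0x7340995a42bd484b) (.node (nat_lit 0x734069aa41be4b48) (.leaf (nat_lit 0x73404878609f9969) (nat_lit 2053))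
 (.node (nat_lit 0x7340784850af5aaa) (.leaf (nat_lit 0x734069aa41be4b48) (nat_lit 2822))
 (.leaf (nat_lit 0x7340784850af5aaa) (nat_lit 1797))
)) (.node (nat_lit 0x7340d91a020e080b) (.leaf (nat_lit 0x7340995a42bd484b) (nat_lit 3077))
 (.node (nat_lit 0x73b30dce2529dc2c) (.leaf (nat_lit 0x7340d91a020e080b) (nat_lit 3333))
 (.leaf (nat_lit 0x73b30dce2529dc2c) (nat_lit 2567))
))) (.node (nat_lit 0x73b3bd7e66999f6f) (.node (nat_lit 0x73b32c1c04080e0d) (.leaf (nat_lit 0x73b31c2c3438cdce) (nat_lit 2822))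
 (.node (nat_lit 0x73b37dbe55aa5faf) (.leaf (nat_lit 0x73b32c1c04080e0d) (nat_lit 3074))
 (.leaf (nat_lit 0x73b37dbe55aa5faf) (nat_lit 2823))
)) (.node (nat_lit 0x73b3cd0e161a1cec) (.leaf (nat_lit 0x73b3bd7e66999f6f) (nat_lit 2823))
 (.node (nat_lit 0x73b3dcec070b0d0e) (.leaf (nat_lit 0x73b3cd0e161a1cec) (nat_lit 2823))
 (.leaf (nat_lit 0x73b3dcec070b0d0e) (nat_lit 2821))
)))) (.node (nat_lit 0x754ad51a020e080b) (.node (nat_lit 0x751ad54a52ab58ae) (.node (nat_lit 0x7508205840b94a49) (.leaf (nat_lit 0x73b3ecdc373bcecd) (nat_lit 2822))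
 (.node (nat_lit 0x750bd5ae43ba494a) (.leaf (nat_lit 0x7508205840b94a49) (nat_lit 2566))
 (.leaf (nat_lit 0x750bd5ae43ba494a) (nat_lit 2823))
)) (.node (nat_lit 0x7528207860999f69) (.leaf (nat_lit 0x751ad54a52ab58ae) (nat_lit 3075))
 (.node (nat_lit 0x754920ec010d0b08) (.leaf (nat_lit 0x7528207860999f69) (nat_lit 2304))
 (.leaf (nat_lit 0x754920ec010d0b08) (nat_lit 2565))
))) (.node (nat_lit 0x75782028303ccfcc) (.node (nat_lit 0x75582008101c1aec) (.leaf (nat_lit 0x754ad51a020e080b) (nat_lit 3074))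
 (.node (nat_lit 0x756920cc212dde28) (.leaf (nat_lit 0x75582008101c1aec) (nat_lit 2048))
 (.leaf (nat_lit 0x756920cc212dde28) (nat_lit 2565))
)) (.node (nat_lit 0x7599203c2428db2d) (.node (nat_lit 0x757bd5de333fcccf) (.leaf (nat_lit 0x75782028303ccfcc) (nat_lit 2566))
 (.leaf (nat_lit 0x757bd5de333fcccf) (nat_lit 3079))
) (.node (nat_lit 0x75abd50e161a1cea) (.leaf (nat_lit 0x7599203c2428db2d) (nat_lit 2820))
 (.leaf (nat_lit 0x75abd50e161a1cea) (nat_lit 2567))
)))))) (.node (nat_lit 0x8001616608334340) (.node (nat_lit 0x76781810303ccccf) (.node (nat_lit 0x7618781050aa5aaf) (.node (nat_lit 0x75ead5ba57ae5dab) (.node (nat_lit 0x75bad5ea070b0d0e) (.leaf (nat_lit 0x75b9201c04080e0d) (nat_lit 3074))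
 (.node (nat_lit 0x75dbd57e669f996f) (.leaf (nat_lit 0x75bad5ea070b0d0e) (nat_lit 3078))
 (.leaf (nat_lit 0x75dbd57e669f996f) (nat_lit 2823))
)) (.node (nat_lit 0x7608681040ba4a49) (.leaf (nat_lit 0x75ead5ba57ae5dab) (nat_lit 3078))
 (.node (nat_lit 0x760b9de643b9494a) (.leaf (nat_lit 0x7608681040ba4a49) (nat_lit 2054))
 (.leaf (nat_lit 0x760b9de643b9494a) (nat_lit 3079))
))) (.node (nat_lit 0x764adc10020e080b) (.node (nat_lit 0x762949e6619b9d68) (.leaf (nat_lit 0x7618781050aa5aaf) (nat_lit 1798))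
 (.node (nat_lit 0x764929e6010d0b08) (.leaf (nat_lit 0x762949e6619b9d68) (nat_lit 2567))
 (.leaf (nat_lit 0x764929e6010d0b08) (nat_lit 3079))
)) (.node (nat_lit 0x765acc10121e18ed) (.leaf (nat_lit 0x764adc10020e080b) (nat_lit 2309))
 (.node (nat_lit 0x76680810202cdc29) (.leaf (nat_lit 0x765acc10121e18ed) (nat_lit 2309))
 (.leaf (nat_lit 0x76680810202cdc29) (nat_lit 1799))
)))) (.node (nat_lit 0x76d9b9e6679d9b6e) (.node (nat_lit 0x76aa3c1014181eeb) (.node (nat_lit 0x767bede6333fcfcc) (.leaf (nat_lit 0x76781810303ccccf) (nat_lit 1799))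
 (.node (nat_lit 0x769b0de62529d92c) (.leaf (nat_lit 0x767bede6333fcfcc) (nat_lit 3079))
 (.leaf (nat_lit 0x769b0de62529d92c) (nat_lit 2823))
)) (.node (nat_lit 0x76b9d9e6070b0d0e) (.leaf (nat_lit 0x76aa3c1014181eeb) (nat_lit 2306))
 (.node (nat_lit 0x76ba2c1004080e0d) (.leaf (nat_lit 0x76b9d9e6070b0d0e) (nat_lit 3335))
 (.leaf (nat_lit 0x76ba2c1004080e0d) (nat_lit 2562))
))) (.node (nat_lit 0x8001202408304340) (.node (nat_lit 0x76eb7de655af5faa) (.leaf (nat_lit 0x76d9b9e6679d9b6e) (nat_lit 2823))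
 (.node (nat_lit 0x8001200408100240) (.leaf (nat_lit 0x76eb7de655af5faa) (nat_lit 2823))
 (.leaf (nat_lit 0x8001200408100240) (nat_lit 2817))
)) (.node (nat_lit 0x800120a449b04340) (.node (nat_lit 0x8001208449900240) (.leaf (nat_lit 0x8001202408304340) (nat_lit 2818))
 (.leaf (nat_lit 0x8001208449900240) (nat_lit 2560))
) (.node (nat_lit 0x8001610608120240) (.leaf (nat_lit 0x800120a449b04340) (nat_lit 2565))
 (.leaf (nat_lit 0x8001610608120240) (nat_lit 3079))
))))) (.node (nat_lit 0x8003057608214101) (.node (nat_lit 0x8002555208334043) (.node (nat_lit 0x8002041008204001) (.node (nat_lit 0x8001618649920240) (.leaf (nat_lit 0x8001616608334340) (nat_lit 3078))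
 (.node (nat_lit 0x800161e649b34340) (.leaf (nat_lit 0x8001618649920240) (nat_lit 2823))
 (.leaf (nat_lit 0x800161e649b34340) (nat_lit 2823))
)) (.node (nat_lit 0x8002055208214001) (.leaf (nat_lit 0x8002041008204001) (nat_lit 2561))
 (.node (nat_lit 0x8002141008304043) (.leaf (nat_lit 0x8002055208214001) (nat_lit 3333))
 (.leaf (nat_lit 0x8002141008304043) (nat_lit 2305))
))) (.node (nat_lit 0x800294104ab04043) (.node (nat_lit 0x800284104aa04001) (.leaf (nat_lit 0x8002555208334043) (nat_lit 3075))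
 (.node (nat_lit 0x800285524aa14001) (.leaf (nat_lit 0x800284104aa04001) (nat_lit 2304))
 (.leaf (nat_lit 0x800285524aa14001) (nat_lit 3072))
)) (.node (nat_lit 0x8002d5524ab34043) (.leaf (nat_lit 0x800294104ab04043) (nat_lit 2054))
 (.node (nat_lit 0x8003043408204101) (.leaf (nat_lit 0x8002d5524ab34043) (nat_lit 2819))
 (.leaf (nat_lit 0x8003043408204101) (nat_lit 2819))
)))) (.node (nat_lit 0x8003f5864b920242) (.node (nat_lit 0x800384b44ba04101) (.node (nat_lit 0x8003340408100242) (.leaf (nat_lit 0x8003057608214101) (nat_lit 3077))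
 (.node (nat_lit 0x8003750608120242) (.leaf (nat_lit 0x8003340408100242) (nat_lit 2561))
 (.leaf (nat_lit 0x8003750608120242) (nat_lit 2823))
)) (.node (nat_lit 0x800385f64ba14101) (.leaf (nat_lit 0x800384b44ba04101) (nat_lit 2563))
 (.node (nat_lit 0x8003b4844b900242) (.leaf (nat_lit 0x800385f64ba14101) (nat_lit 2823))
 (.leaf (nat_lit 0x8003b4844b900242) (nat_lit 2310))
))) (.node (nat_lit 0x8010204058810284) (.node (nat_lit 0x8010204008010204) (.leaf (nat_lit 0x8003f5864b920242) (nat_lit 2567))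
 (.node (nat_lit 0x8010204008215224) (.leaf (nat_lit 0x8010204008010204) (nat_lit 2306))
 (.leaf (nat_lit 0x8010204008215224) (nat_lit 2304))
)) (.node (nat_lit 0x8010704008030206) (.node (nat_lit 0x8010204058a152a4) (.leaf (nat_lit 0x8010204058810284) (nat_lit 2049))
 (.leaf (nat_lit 0x8010204058a152a4) (nat_lit 2048))
) (.node (nat_lit 0x8010704008335266) (.leaf (nat_lit 0x8010704008030206) (nat_lit 2307))
 (.leaf (nat_lit 0x8010704008335266) (nat_lit 2051))
)))))))) (.node (nat_lit 0x8040209029048201) (.node (nat_lit 0x804010203834c1c2) (.node (nat_lit 0x8021419669828401) (.node (nat_lit 0x8020401068828401) (.node (nat_lit 0x801284105aa050a5) (.node (nat_lit 0x8012141008305067) (.node (nat_lit 0x8010704058b352e6) (.leaf (nat_lit 0x8010704058830286) (nat_lit 2051))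
 (.node (nat_lit 0x8012041008205025) (.leaf (nat_lit 0x8010704058b352e6) (nat_lit 1795))
 (.leaf (nat_lit 0x8012041008205025) (nat_lit 2309))
)) (.node (nat_lit 0x8012254208010204) (.leaf (nat_lit 0x8012141008305067) (nat_lit 2306))
 (.node (nat_lit 0x8012754208030206) (.leaf (nat_lit 0x8012254208010204) (nat_lit 3589))
 (.leaf (nat_lit 0x8012754208030206) (nat_lit 3589))
))) (.node (nat_lit 0x8012f5425a830286) (.node (nat_lit 0x801294105ab050e7) (.leaf (nat_lit 0x801284105aa050a5) (nat_lit 2309))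
 (.node (nat_lit 0x8012a5425a810284) (.leaf (nat_lit 0x801294105ab050e7) (nat_lit 2053))
 (.leaf (nat_lit 0x8012a5425a810284) (nat_lit 3333))
)) (.node (nat_lit 0x8020401008020401) (.leaf (nat_lit 0x8012f5425a830286) (nat_lit 3333))
 (.node (nat_lit 0x8020401008121461) (.leaf (nat_lit 0x8020401008020401) (nat_lit 2311))
 (.leaf (nat_lit 0x8020401008121461) (nat_lit 2055))
)))) (.node (nat_lit 0x8021200408101660) (.node (nat_lit 0x8020407008335561) (.node (nat_lit 0x8020401068929461) (.leaf (nat_lit 0x8020401068828401) (nat_lit 2055))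
 (.node (nat_lit 0x8020407008030501) (.leaf (nat_lit 0x8020401068929461) (nat_lit 1799))
 (.leaf (nat_lit 0x8020407008030501) (nat_lit 2563))
)) (.node (nat_lit 0x8020407068838501) (.leaf (nat_lit 0x8020407008335561) (nat_lit 2307))
 (.node (nat_lit 0x8020407068b3d561) (.leaf (nat_lit 0x8020407068838501) (nat_lit 2307))
 (.leaf (nat_lit 0x8020407068b3d561) (nat_lit 2051))
))) (.node (nat_lit 0x802120a469b0d760) (.node (nat_lit 0x8021202408305760) (.leaf (nat_lit 0x8021200408101660) (nat_lit 2818))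
 (.node (nat_lit 0x8021208469909660) (.leaf (nat_lit 0x8021202408305760) (nat_lit 2562))
 (.leaf (nat_lit 0x8021208469909660) (nat_lit 2565))
)) (.node (nat_lit 0x8021411608020401) (.leaf (nat_lit 0x802120a469b0d760) (nat_lit 2309))
 (.node (nat_lit 0x8021417608030501) (.leaf (nat_lit 0x8021411608020401) (nat_lit 4103))
 (.leaf (nat_lit 0x8021417608030501) (nat_lit 3847))
))))) (.node (nat_lit 0x8033340408101666) (.node (nat_lit 0x8030501008020407) (.node (nat_lit 0x8030206008215724) (.node (nat_lit 0x802141f669838501) (.leaf (nat_lit 0x8021419669828401) (nat_lit 3847))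
 (.node (nat_lit 0x8030206008010704) (.leaf (nat_lit 0x802141f669838501) (nat_lit 3591))
 (.leaf (nat_lit 0x8030206008010704) (nat_lit 2311))
)) (.node (nat_lit 0x8030206078818784) (.leaf (nat_lit 0x8030206008215724) (nat_lit 2055))
 (.node (nat_lit 0x8030206078a1d7a4) (.leaf (nat_lit 0x8030206078818784) (nat_lit 2055))
 (.leaf (nat_lit 0x8030206078a1d7a4) (nat_lit 1799))
))) (.node (nat_lit 0x80305010789294e7) (.node (nat_lit 0x8030501008121467) (.leaf (nat_lit 0x8030501008020407) (nat_lit 2055))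
 (.node (nat_lit 0x8030501078828487) (.leaf (nat_lit 0x8030501008121467) (nat_lit 1799))
 (.leaf (nat_lit 0x8030501078828487) (nat_lit 1799))
)) (.node (nat_lit 0x8033043408205525) (.leaf (nat_lit 0x80305010789294e7) (nat_lit 1543))
 (.node (nat_lit 0x8033256608010704) (.leaf (nat_lit 0x8033043408205525) (nat_lit 2565))
 (.leaf (nat_lit 0x8033256608010704) (nat_lit 3591))
)))) (.node (nat_lit 0x8040010208041020) (.node (nat_lit 0x8033a5e67b818784) (.node (nat_lit 0x8033551608020407) (.leaf (nat_lit 0x8033340408101666) (nat_lit 2562))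
 (.node (nat_lit 0x803384b47ba0d5a5) (.leaf (nat_lit 0x8033551608020407) (nat_lit 3847))
 (.leaf (nat_lit 0x803384b47ba0d5a5) (nat_lit 2565))
)) (.node (nat_lit 0x8033b4847b9096e6) (.leaf (nat_lit 0x8033a5e67b818784) (nat_lit 3335))
 (.node (nat_lit 0x8033d5967b828487) (.leaf (nat_lit 0x8033b4847b9096e6) (nat_lit 2309))
 (.leaf (nat_lit 0x8033d5967b828487) (nat_lit 3591))
))) (.node (nat_lit 0x804001c22925d020) (.node (nat_lit 0x8040014208255020) (.leaf (nat_lit 0x8040010208041020) (nat_lit 3334))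
 (.node (nat_lit 0x8040018229049020) (.leaf (nat_lit 0x8040014208255020) (nat_lit 3077))
 (.leaf (nat_lit 0x8040018229049020) (nat_lit 3077))
)) (.node (nat_lit 0x8040102008344142) (.node (nat_lit 0x8040102008040102) (.leaf (nat_lit 0x804001c22925d020) (nat_lit 2821))
 (.leaf (nat_lit 0x8040102008040102) (nat_lit 2310))
) (.node (nat_lit 0x8040102038048182) (.leaf (nat_lit 0x8040102008344142) (nat_lit 2054))
 (.leaf (nat_lit 0x8040102038048182) (nat_lit 2049))
)))))) (.node (nat_lit 0x8040201058840281) (.node (nat_lit 0x8040201028048201) (.node (nat_lit 0x8040201008344241) (.node (nat_lit 0x8040201008141261) (.node (nat_lit 0x8040201008041221) (.leaf (nat_lit 0x804010203834c1c2) (nat_lit 1798))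
 (.node (nat_lit 0x8040201008140241) (.leaf (nat_lit 0x8040201008041221) (nat_lit 0))
 (.leaf (nat_lit 0x8040201008140241) (nat_lit 518))
)) (.node (nat_lit 0x8040201008244201) (.leaf (nat_lit 0x8040201008141261) (nat_lit 263))
 (.node (nat_lit 0x8040201008245221) (.leaf (nat_lit 0x8040201008244201) (nat_lit 1024))
 (.leaf (nat_lit 0x8040201008245221) (nat_lit 768))
))) (.node (nat_lit 0x80402010180412a1) (.node (nat_lit 0x8040201008345261) (.leaf (nat_lit 0x8040201008344241) (nat_lit 774))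
 (.node (nat_lit 0x8040201018040281) (.leaf (nat_lit 0x8040201008345261) (nat_lit 515))
 (.leaf (nat_lit 0x8040201018040281) (nat_lit 1025))
)) (.node (nat_lit 0x80402010181402c1) (.leaf (nat_lit 0x80402010180412a1) (nat_lit 769))
 (.node (nat_lit 0x80402010181412e1) (.leaf (nat_lit 0x80402010181402c1) (nat_lit 774))
 (.leaf (nat_lit 0x80402010181412e1) (nat_lit 516))
)))) (.node (nat_lit 0x804020103834c2c1) (.node (nat_lit 0x804020102824d221) (.node (nat_lit 0x8040201028049221) (.leaf (nat_lit 0x8040201028048201) (nat_lit 1537))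
 (.node (nat_lit 0x804020102824c201) (.leaf (nat_lit 0x8040201028049221) (nat_lit 1281))
 (.leaf (nat_lit 0x804020102824c201) (nat_lit 1280))
)) (.node (nat_lit 0x8040201038048281) (.leaf (nat_lit 0x804020102824d221) (nat_lit 1028))
 (.node (nat_lit 0x80402010380492a1) (.leaf (nat_lit 0x8040201038048281) (nat_lit 1281))
 (.leaf (nat_lit 0x80402010380492a1) (nat_lit 1025))
))) (.node (nat_lit 0x8040201048940241) (.node (nat_lit 0x804020103834d2e1) (.leaf (nat_lit 0x804020103834c2c1) (nat_lit 1030))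
 (.node (nat_lit 0x8040201048840201) (.leaf (nat_lit 0x804020103834d2e1) (nat_lit 772))
 (.leaf (nat_lit 0x8040201048840201) (nat_lit 2054))
)) (.node (nat_lit 0x8040201048a44201) (.leaf (nat_lit 0x8040201048940241) (nat_lit 1798))
 (.node (nat_lit 0x8040201048b44241) (.leaf (nat_lit 0x8040201048a44201) (nat_lit 1792))
 (.leaf (nat_lit 0x8040201048b44241) (nat_lit 1542))
))))) (.node (nat_lit 0x8040203008040301) (.node (nat_lit 0x8040201068a4c201) (.node (nat_lit 0x8040201058b452e1) (.node (nat_lit 0x80402010589402c1) (.leaf (nat_lit 0x8040201058840281) (nat_lit 1793))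
 (.node (nat_lit 0x8040201058a452a1) (.leaf (nat_lit 0x80402010589402c1) (nat_lit 1542))
 (.leaf (nat_lit 0x8040201058a452a1) (nat_lit 1283))
)) (.node (nat_lit 0x8040201068848201) (.leaf (nat_lit 0x8040201058b452e1) (nat_lit 1540))
 (.node (nat_lit 0x8040201068949261) (.leaf (nat_lit 0x8040201068848201) (nat_lit 1799))
 (.leaf (nat_lit 0x8040201068949261) (nat_lit 1543))
))) (.node (nat_lit 0x80402010789492e1) (.node (nat_lit 0x8040201068b4d261) (.leaf (nat_lit 0x8040201068a4c201) (nat_lit 1543))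
 (.node (nat_lit 0x8040201078848281) (.leaf (nat_lit 0x8040201068b4d261) (nat_lit 1287))
 (.leaf (nat_lit 0x8040201078848281) (nat_lit 1543))
)) (.node (nat_lit 0x8040201078a4d2a1) (.leaf (nat_lit 0x80402010789492e1) (nat_lit 1287))
 (.node (nat_lit 0x8040201078b4c2c1) (.leaf (nat_lit 0x8040201078a4d2a1) (nat_lit 1031))
 (.leaf (nat_lit 0x8040201078b4c2c1) (nat_lit 1287))
)))) (.node (nat_lit 0x8040205048850201) (.node (nat_lit 0x804020302824c301) (.node (nat_lit 0x8040203008244301) (.leaf (nat_lit 0x8040203008040301) (nat_lit 2560))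
 (.node (nat_lit 0x8040203028048301) (.leaf (nat_lit 0x8040203008244301) (nat_lit 2304))
 (.leaf (nat_lit 0x8040203028048301) (nat_lit 2305))
)) (.node (nat_lit 0x8040205008050201) (.leaf (nat_lit 0x804020302824c301) (nat_lit 2048))
 (.node (nat_lit 0x8040205008254201) (.leaf (nat_lit 0x8040205008050201) (nat_lit 3072))
 (.leaf (nat_lit 0x8040205008254201) (nat_lit 2816))
))) (.node (nat_lit 0x8040207008254301) (.node (nat_lit 0x8040205048a54201) (.leaf (nat_lit 0x8040205048850201) (nat_lit 2822))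
 (.node (nat_lit 0x8040207008050301) (.leaf (nat_lit 0x8040205048a54201) (nat_lit 2560))
 (.leaf (nat_lit 0x8040207008050301) (nat_lit 2816))
)) (.node (nat_lit 0x8040207068a5c301) (.node (nat_lit 0x8040207068858301) (.leaf (nat_lit 0x8040207008254301) (nat_lit 2560))
 (.leaf (nat_lit 0x8040207068858301) (nat_lit 2561))
) (.node (nat_lit 0x8040209009040201) (.leaf (nat_lit 0x8040207068a5c301) (nat_lit 2304))
 (.leaf (nat_lit 0x8040209009040201) (nat_lit 3585))
))))))) (.node (nat_lit 0x804081823b0490a0) (.node (nat_lit 0x8040414208375060) (.node (nat_lit 0x804020f02925c301) (.node (nat_lit 0x804020b069a4c301) (.node (nat_lit 0x804020b009040301) (.node (nat_lit 0x8040209049840201) (.leaf (nat_lit 0x8040209029048201) (nat_lit 3329))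
 (.node (nat_lit 0x8040209069848201) (.leaf (nat_lit 0x8040209049840201) (nat_lit 3334))
 (.leaf (nat_lit 0x8040209069848201) (nat_lit 3073))
)) (.node (nat_lit 0x804020b029048301) (.leaf (nat_lit 0x804020b009040301) (nat_lit 3328))
 (.node (nat_lit 0x804020b049a44301) (.leaf (nat_lit 0x804020b029048301) (nat_lit 3073))
 (.leaf (nat_lit 0x804020b049a44301) (nat_lit 2817))
))) (.node (nat_lit 0x804020d049850201) (.node (nat_lit 0x804020d009050201) (.leaf (nat_lit 0x804020b069a4c301) (nat_lit 2816))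
 (.node (nat_lit 0x804020d02925c201) (.leaf (nat_lit 0x804020d009050201) (nat_lit 3328))
 (.leaf (nat_lit 0x804020d02925c201) (nat_lit 3072))
)) (.node (nat_lit 0x804020d069a5c201) (.leaf (nat_lit 0x804020d049850201) (nat_lit 3078))
 (.node (nat_lit 0x804020f009050301) (.leaf (nat_lit 0x804020d069a5c201) (nat_lit 2816))
 (.leaf (nat_lit 0x804020f009050301) (nat_lit 3072))
)))) (.node (nat_lit 0x804021d209050201) (.node (nat_lit 0x8040211208040201) (.node (nat_lit 0x804020f049a54301) (.leaf (nat_lit 0x804020f02925c301) (nat_lit 2816))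
 (.node (nat_lit 0x804020f069858301) (.leaf (nat_lit 0x804020f049a54301) (nat_lit 2560))
 (.leaf (nat_lit 0x804020f069858301) (nat_lit 2820))
)) (.node (nat_lit 0x8040215208050201) (.leaf (nat_lit 0x8040211208040201) (nat_lit 4614))
 (.node (nat_lit 0x8040219209040201) (.leaf (nat_lit 0x8040215208050201) (nat_lit 4352))
 (.leaf (nat_lit 0x8040219209040201) (nat_lit 4353))
))) (.node (nat_lit 0x8040301018040283) (.node (nat_lit 0x8040301008040203) (.leaf (nat_lit 0x804021d209050201) (nat_lit 4096))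
 (.node (nat_lit 0x8040301008140243) (.leaf (nat_lit 0x8040301008040203) (nat_lit 2054))
 (.leaf (nat_lit 0x8040301008140243) (nat_lit 1798))
)) (.node (nat_lit 0x80403010181402c3) (.leaf (nat_lit 0x8040301018040283) (nat_lit 1793))
 (.node (nat_lit 0x8040410208161060) (.leaf (nat_lit 0x80403010181402c3) (nat_lit 1542))
 (.leaf (nat_lit 0x8040410208161060) (nat_lit 3077))
))))) (.node (nat_lit 0x8040605008374241) (.node (nat_lit 0x8040506078b7c1c2) (.node (nat_lit 0x8040506008070102) (.node (nat_lit 0x8040418269969060) (.leaf (nat_lit 0x8040414208375060) (nat_lit 2821))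
 (.node (nat_lit 0x804041c269b7d060) (.leaf (nat_lit 0x8040418269969060) (nat_lit 3078))
 (.leaf (nat_lit 0x804041c269b7d060) (nat_lit 3077))
)) (.node (nat_lit 0x8040506008374142) (.leaf (nat_lit 0x8040506008070102) (nat_lit 2566))
 (.node (nat_lit 0x8040506078878182) (.leaf (nat_lit 0x8040506008374142) (nat_lit 2310))
 (.leaf (nat_lit 0x8040506078878182) (nat_lit 2305))
))) (.node (nat_lit 0x8040601048860201) (.node (nat_lit 0x8040601008060201) (.leaf (nat_lit 0x8040506078b7c1c2) (nat_lit 2054))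
 (.node (nat_lit 0x8040601008160241) (.leaf (nat_lit 0x8040601008060201) (nat_lit 2566))
 (.leaf (nat_lit 0x8040601008160241) (nat_lit 2310))
)) (.node (nat_lit 0x8040601048960241) (.leaf (nat_lit 0x8040601048860201) (nat_lit 2310))
 (.node (nat_lit 0x8040605008070201) (.leaf (nat_lit 0x8040601048960241) (nat_lit 2054))
 (.leaf (nat_lit 0x8040605008070201) (nat_lit 2822))
)))) (.node (nat_lit 0x804061d249870201) (.node (nat_lit 0x8040611208060201) (.node (nat_lit 0x8040605048870201) (.leaf (nat_lit 0x8040605008374241) (nat_lit 2566))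
 (.node (nat_lit 0x8040605048b74241) (.leaf (nat_lit 0x8040605048870201) (nat_lit 2566))
 (.leaf (nat_lit 0x8040605048b74241) (nat_lit 2310))
)) (.node (nat_lit 0x8040615208070201) (.leaf (nat_lit 0x8040611208060201) (nat_lit 4358))
 (.node (nat_lit 0x8040619249860201) (.leaf (nat_lit 0x8040615208070201) (nat_lit 4102))
 (.leaf (nat_lit 0x8040619249860201) (nat_lit 4102))
))) (.node (nat_lit 0x8040701058860283) (.node (nat_lit 0x8040701008060203) (.leaf (nat_lit 0x804061d249870201) (nat_lit 3846))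
 (.node (nat_lit 0x8040701008160243) (.leaf (nat_lit 0x8040701008060203) (nat_lit 2310))
 (.leaf (nat_lit 0x8040701008160243) (nat_lit 2054))
)) (.node (nat_lit 0x804081021a0410a0) (.node (nat_lit 0x80407010589602c3) (.leaf (nat_lit 0x8040701058860283) (nat_lit 2049))
 (.leaf (nat_lit 0x80407010589602c3) (nat_lit 1798))
) (.node (nat_lit 0x804081425aa550a0) (.leaf (nat_lit 0x804081021a0410a0) (nat_lit 3077))
 (.leaf (nat_lit 0x804081425aa550a0) (nat_lit 3077))
)))))) (.node (nat_lit 0x8040c1c23b37d0e0) (.node (nat_lit 0x8040a0904b840201) (.node (nat_lit 0x8040a0100a040201) (.node (nat_lit 0x804090a03b048182) (.node (nat_lit 0x804081c27ba5d0a0) (.leaf (nat_lit 0x804081823b0490a0) (nat_lit 2821))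
 (.node (nat_lit 0x804090a00b040102) (.leaf (nat_lit 0x804081c27ba5d0a0) (nat_lit 2821))
 (.leaf (nat_lit 0x804090a00b040102) (nat_lit 3078))
)) (.node (nat_lit 0x804090a04bb44142) (.leaf (nat_lit 0x804090a03b048182) (nat_lit 2817))
 (.node (nat_lit 0x804090a07bb4c1c2) (.leaf (nat_lit 0x804090a04bb44142) (nat_lit 2561))
 (.leaf (nat_lit 0x804090a07bb4c1c2) (nat_lit 2566))
))) (.node (nat_lit 0x8040a0105a840281) (.node (nat_lit 0x8040a0101a040281) (.leaf (nat_lit 0x8040a0100a040201) (nat_lit 3073))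
 (.node (nat_lit 0x8040a0104a840201) (.leaf (nat_lit 0x8040a0101a040281) (nat_lit 2817))
 (.leaf (nat_lit 0x8040a0104a840201) (nat_lit 2822))
)) (.node (nat_lit 0x8040a0900b040201) (.leaf (nat_lit 0x8040a0105a840281) (nat_lit 2561))
 (.node (nat_lit 0x8040a0903b048281) (.leaf (nat_lit 0x8040a0900b040201) (nat_lit 3329))
 (.leaf (nat_lit 0x8040a0903b048281) (nat_lit 3073))
)))) (.node (nat_lit 0x8040b0100a040203) (.node (nat_lit 0x8040a1524a850201) (.node (nat_lit 0x8040a0907b848281) (.leaf (nat_lit 0x8040a0904b840201) (nat_lit 3078))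
 (.node (nat_lit 0x8040a1120a040201) (.leaf (nat_lit 0x8040a0907b848281) (nat_lit 2817))
 (.leaf (nat_lit 0x8040a1120a040201) (nat_lit 4353))
)) (.node (nat_lit 0x8040a1920b040201) (.leaf (nat_lit 0x8040a1524a850201) (nat_lit 3590))
 (.node (nat_lit 0x8040a1d24b850201) (.leaf (nat_lit 0x8040a1920b040201) (nat_lit 4097))
 (.leaf (nat_lit 0x8040a1d24b850201) (nat_lit 3590))
))) (.node (nat_lit 0x8040b0105a9402c3) (.node (nat_lit 0x8040b0101a040283) (.leaf (nat_lit 0x8040b0100a040203) (nat_lit 2822))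
 (.node (nat_lit 0x8040b0104a940243) (.leaf (nat_lit 0x8040b0101a040283) (nat_lit 2561))
 (.leaf (nat_lit 0x8040b0104a940243) (nat_lit 2305))
)) (.node (nat_lit 0x8040c1425ab750e0) (.node (nat_lit 0x8040c1021a1610e0) (.leaf (nat_lit 0x8040b0105a9402c3) (nat_lit 2310))
 (.leaf (nat_lit 0x8040c1021a1610e0) (nat_lit 2821))
) (.node (nat_lit 0x8040c1827b9690e0) (.leaf (nat_lit 0x8040c1425ab750e0) (nat_lit 3333))
 (.leaf (nat_lit 0x8040c1827b9690e0) (nat_lit 3077))
))))) (.node (nat_lit 0x8040e0d07bb7c2c1) (.node (nat_lit 0x8040e0101a1602c1) (.node (nat_lit 0x8040d0e04bb74142) (.node (nat_lit 0x8040d0e00b070102) (.leaf (nat_lit 0x8040c1c23b37d0e0) (nat_lit 2565))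
 (.node (nat_lit 0x8040d0e03b37c1c2) (.leaf (nat_lit 0x8040d0e00b070102) (nat_lit 2822))
 (.leaf (nat_lit 0x8040d0e03b37c1c2) (nat_lit 2566))
)) (.node (nat_lit 0x8040d0e07b878182) (.leaf (nat_lit 0x8040d0e04bb74142) (nat_lit 2310))
 (.node (nat_lit 0x8040e0100a060201) (.leaf (nat_lit 0x8040d0e07b878182) (nat_lit 2564))
 (.leaf (nat_lit 0x8040e0100a060201) (nat_lit 2822))
))) (.node (nat_lit 0x8040e0d00b070201) (.node (nat_lit 0x8040e0104a860201) (.leaf (nat_lit 0x8040e0101a1602c1) (nat_lit 2566))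
 (.node (nat_lit 0x8040e0105a9602c1) (.leaf (nat_lit 0x8040e0104a860201) (nat_lit 2566))
 (.leaf (nat_lit 0x8040e0105a9602c1) (nat_lit 2310))
)) (.node (nat_lit 0x8040e0d03b37c2c1) (.leaf (nat_lit 0x8040e0d00b070201) (nat_lit 3078))
 (.node (nat_lit 0x8040e0d04b870201) (.leaf (nat_lit 0x8040e0d03b37c2c1) (nat_lit 2822))
 (.leaf (nat_lit 0x8040e0d04b870201) (nat_lit 2822))
)))) (.node (nat_lit 0x8040f0101a1602c3) (.node (nat_lit 0x8040e1924b860201) (.node (nat_lit 0x8040e1120a060201) (.leaf (nat_lit 0x8040e0d07bb7c2c1) (nat_lit 2566))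
 (.node (nat_lit 0x8040e1524a870201) (.leaf (nat_lit 0x8040e1120a060201) (nat_lit 4102))
 (.leaf (nat_lit 0x8040e1524a870201) (nat_lit 3590))
)) (.node (nat_lit 0x8040e1d20b070201) (.leaf (nat_lit 0x8040e1924b860201) (nat_lit 3846))
 (.node (nat_lit 0x8040f0100a060203) (.leaf (nat_lit 0x8040e1d20b070201) (nat_lit 3846))
 (.leaf (nat_lit 0x8040f0100a060203) (nat_lit 2566))
))) (.node (nat_lit 0x8041201408040201) (.node (nat_lit 0x8040f0104a960243) (.leaf (nat_lit 0x8040f0101a1602c3) (nat_lit 2310))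
 (.node (nat_lit 0x8040f0105a860283) (.leaf (nat_lit 0x8040f0104a960243) (nat_lit 2054))
 (.leaf (nat_lit 0x8040f0105a860283) (nat_lit 2308))
)) (.node (nat_lit 0x8041209409040201) (.node (nat_lit 0x8041203408040301) (.leaf (nat_lit 0x8041201408040201) (nat_lit 4098))
 (.leaf (nat_lit 0x8041203408040301) (nat_lit 3840))
) (.node (nat_lit 0x804120b409040301) (.leaf (nat_lit 0x8041209409040201) (nat_lit 3841))
 (.leaf (nat_lit 0x804120b409040301) (nat_lit 3584))
)))))))))) (.node (nat_lit 0x965838100804020f) (.node (nat_lit 0x80e020101c0416a1) (.node (nat_lit 0x8090f0c05f830286) (.node (nat_lit 0x8061203408040701) (.node (nat_lit 0x8050301008040207) (.node (nat_lit 0x8043142408040102) (.node (nat_lit 0x8042341008040203) (.node (nat_lit 0x804121f609050301) (.node (nat_lit 0x8041217608050301) (.leaf (nat_lit 0x8041211608040201) (nat_lit 4359))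
 (.node (nat_lit 0x8041219609040201) (.leaf (nat_lit 0x8041217608050301) (nat_lit 4103))
 (.leaf (nat_lit 0x8041219609040201) (nat_lit 4103))
)) (.node (nat_lit 0x8042241008040201) (.leaf (nat_lit 0x804121f609050301) (nat_lit 3847))
 (.node (nat_lit 0x8042251208040201) (.leaf (nat_lit 0x8042241008040201) (nat_lit 3586))
 (.leaf (nat_lit 0x8042251208040201) (nat_lit 4354))
))) (.node (nat_lit 0x8042a5120a040201) (.node (nat_lit 0x8042751208060203) (.leaf (nat_lit 0x8042341008040203) (nat_lit 3334))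
 (.node (nat_lit 0x8042a4100a040201) (.leaf (nat_lit 0x8042751208060203) (nat_lit 4102))
 (.leaf (nat_lit 0x8042a4100a040201) (nat_lit 3329))
)) (.node (nat_lit 0x8042b4100a040203) (.leaf (nat_lit 0x8042a5120a040201) (nat_lit 4097))
 (.node (nat_lit 0x8042f5120a060203) (.leaf (nat_lit 0x8042b4100a040203) (nat_lit 3078))
 (.leaf (nat_lit 0x8042f5120a060203) (nat_lit 3846))
)))) (.node (nat_lit 0x8043a5960b040201) (.node (nat_lit 0x8043556608070102) (.node (nat_lit 0x8043241408040201) (.leaf (nat_lit 0x8043142408040102) (nat_lit 3590))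
 (.node (nat_lit 0x8043251608040201) (.leaf (nat_lit 0x8043241408040201) (nat_lit 3842))
 (.leaf (nat_lit 0x8043251608040201) (nat_lit 4103))
)) (.node (nat_lit 0x804394a40b040102) (.leaf (nat_lit 0x8043556608070102) (nat_lit 3847))
 (.node (nat_lit 0x8043a4940b040201) (.leaf (nat_lit 0x804394a40b040102) (nat_lit 3334))
 (.leaf (nat_lit 0x8043a4940b040201) (nat_lit 3585))
))) (.node (nat_lit 0x8050201008041225) (.node (nat_lit 0x8043d5e60b070102) (.leaf (nat_lit 0x8043a5960b040201) (nat_lit 3847))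
 (.node (nat_lit 0x8050201008040205) (.leaf (nat_lit 0x8043d5e60b070102) (nat_lit 3591))
 (.leaf (nat_lit 0x8050201008040205) (nat_lit 1538))
)) (.node (nat_lit 0x8050201018040285) (.leaf (nat_lit 0x8050201008041225) (nat_lit 1282))
 (.node (nat_lit 0x80502010180412a5) (.leaf (nat_lit 0x8050201018040285) (nat_lit 1281))
 (.leaf (nat_lit 0x80502010180412a5) (nat_lit 1029))
))))) (.node (nat_lit 0x8060201008040601) (.node (nat_lit 0x8052341008040207) (.node (nat_lit 0x80503010181412e7) (.node (nat_lit 0x8050301008141267) (.leaf (nat_lit 0x8050301008040207) (nat_lit 1799))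
 (.node (nat_lit 0x8050301018040287) (.leaf (nat_lit 0x8050301008141267) (nat_lit 1543))
 (.leaf (nat_lit 0x8050301018040287) (nat_lit 1543))
)) (.node (nat_lit 0x8052050208041024) (.leaf (nat_lit 0x80503010181412e7) (nat_lit 1287))
 (.node (nat_lit 0x8052241008040205) (.leaf (nat_lit 0x8052050208041024) (nat_lit 3075))
 (.leaf (nat_lit 0x8052241008040205) (nat_lit 3330))
))) (.node (nat_lit 0x8052a4101a040285) (.node (nat_lit 0x8052550208161066) (.leaf (nat_lit 0x8052341008040207) (nat_lit 3074))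
 (.node (nat_lit 0x805285021a0410a4) (.leaf (nat_lit 0x8052550208161066) (nat_lit 3078))
 (.leaf (nat_lit 0x805285021a0410a4) (nat_lit 2819))
)) (.node (nat_lit 0x8052b4101a040287) (.leaf (nat_lit 0x8052a4101a040285) (nat_lit 3073))
 (.node (nat_lit 0x8052d5021a1610e6) (.leaf (nat_lit 0x8052b4101a040287) (nat_lit 2817))
 (.leaf (nat_lit 0x8052d5021a1610e6) (nat_lit 3075))
)))) (.node (nat_lit 0x8060203028048701) (.node (nat_lit 0x8060201028049621) (.node (nat_lit 0x8060201008041621) (.leaf (nat_lit 0x8060201008040601) (nat_lit 2050))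
 (.node (nat_lit 0x8060201028048601) (.leaf (nat_lit 0x8060201008041621) (nat_lit 1794))
 (.leaf (nat_lit 0x8060201028048601) (nat_lit 1793))
)) (.node (nat_lit 0x8060203008040701) (.leaf (nat_lit 0x8060201028049621) (nat_lit 1541))
 (.node (nat_lit 0x8060203008245721) (.leaf (nat_lit 0x8060203008040701) (nat_lit 2304))
 (.leaf (nat_lit 0x8060203008245721) (nat_lit 2048))
))) (.node (nat_lit 0x8061016608255520) (.node (nat_lit 0x806020302824d721) (.leaf (nat_lit 0x8060203028048701) (nat_lit 2048))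
 (.node (nat_lit 0x8061010608041420) (.leaf (nat_lit 0x806020302824d721) (nat_lit 1792))
 (.leaf (nat_lit 0x8061010608041420) (nat_lit 3079))
)) (.node (nat_lit 0x806101e62925d520) (.node (nat_lit 0x8061018629049420) (.leaf (nat_lit 0x8061016608255520) (nat_lit 2823))
 (.leaf (nat_lit 0x8061018629049420) (nat_lit 2823))
) (.node (nat_lit 0x8061201408040601) (.leaf (nat_lit 0x806101e62925d520) (nat_lit 2567))
 (.leaf (nat_lit 0x8061201408040601) (nat_lit 3842))
)))))) (.node (nat_lit 0x8081e1667eb3c3c0) (.node (nat_lit 0x8073142408040506) (.node (nat_lit 0x807010203834d5e6) (.node (nat_lit 0x8070102008040506) (.node (nat_lit 0x8061209429048601) (.leaf (nat_lit 0x8061203408040701) (nat_lit 3586))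
 (.node (nat_lit 0x806120b429048701) (.leaf (nat_lit 0x8061209429048601) (nat_lit 3585))
 (.leaf (nat_lit 0x806120b429048701) (nat_lit 3329))
)) (.node (nat_lit 0x8070102008345566) (.leaf (nat_lit 0x8070102008040506) (nat_lit 2051))
 (.node (nat_lit 0x8070102038048586) (.leaf (nat_lit 0x8070102008345566) (nat_lit 1795))
 (.leaf (nat_lit 0x8070102038048586) (nat_lit 1795))
))) (.node (nat_lit 0x8070201038048685) (.node (nat_lit 0x8070201008040605) (.leaf (nat_lit 0x807010203834d5e6) (nat_lit 1539))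
 (.node (nat_lit 0x8070201008041625) (.leaf (nat_lit 0x8070201008040605) (nat_lit 1794))
 (.leaf (nat_lit 0x8070201008041625) (nat_lit 1538))
)) (.node (nat_lit 0x80702010380496a5) (.leaf (nat_lit 0x8070201038048685) (nat_lit 1537))
 (.node (nat_lit 0x8073050608041424) (.leaf (nat_lit 0x80702010380496a5) (nat_lit 1285))
 (.leaf (nat_lit 0x8073050608041424) (nat_lit 2823))
)))) (.node (nat_lit 0x8073f5f63b37d7e7) (.node (nat_lit 0x807385863b0494a4) (.node (nat_lit 0x8073241408040605) (.leaf (nat_lit 0x8073142408040506) (nat_lit 3330))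
 (.node (nat_lit 0x8073757608375767) (.leaf (nat_lit 0x8073241408040605) (nat_lit 3586))
 (.leaf (nat_lit 0x8073757608375767) (nat_lit 2823))
)) (.node (nat_lit 0x807394a43b048586) (.leaf (nat_lit 0x807385863b0494a4) (nat_lit 2567))
 (.node (nat_lit 0x8073a4943b048685) (.leaf (nat_lit 0x807394a43b048586) (nat_lit 3073))
 (.leaf (nat_lit 0x8073a4943b048685) (nat_lit 3329))
))) (.node (nat_lit 0x808120845d9002c0) (.node (nat_lit 0x808120041c1002c0) (.leaf (nat_lit 0x8073f5f63b37d7e7) (nat_lit 2823))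
 (.node (nat_lit 0x808120243c30c3c0) (.leaf (nat_lit 0x808120041c1002c0) (nat_lit 2818))
 (.leaf (nat_lit 0x808120243c30c3c0) (nat_lit 2822))
)) (.node (nat_lit 0x808120a47db0c3c0) (.leaf (nat_lit 0x808120845d9002c0) (nat_lit 2565))
 (.node (nat_lit 0x8081e1061e1202c0) (.leaf (nat_lit 0x808120a47db0c3c0) (nat_lit 2822))
 (.leaf (nat_lit 0x8081e1061e1202c0) (nat_lit 3078))
))))) (.node (nat_lit 0x808305f62d21c101) (.node (nat_lit 0x808255d27db3c0c3) (.node (nat_lit 0x808204102c20c001) (.node (nat_lit 0x8081e1865f9202c0) (.leaf (nat_lit 0x8081e1667eb3c3c0) (nat_lit 3074))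
 (.node (nat_lit 0x8081e1e63f33c3c0) (.leaf (nat_lit 0x8081e1865f9202c0) (nat_lit 2823))
 (.leaf (nat_lit 0x8081e1e63f33c3c0) (nat_lit 2822))
)) (.node (nat_lit 0x808205d22d21c001) (.leaf (nat_lit 0x808204102c20c001) (nat_lit 2562))
 (.node (nat_lit 0x808214103c30c0c3) (.leaf (nat_lit 0x808205d22d21c001) (nat_lit 3075))
 (.leaf (nat_lit 0x808214103c30c0c3) (nat_lit 2306))
))) (.node (nat_lit 0x808294107eb0c0c3) (.node (nat_lit 0x808284106ea0c001) (.leaf (nat_lit 0x808255d27db3c0c3) (nat_lit 2822))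
 (.node (nat_lit 0x808285d26fa1c001) (.leaf (nat_lit 0x808284106ea0c001) (nat_lit 2309))
 (.leaf (nat_lit 0x808285d26fa1c001) (nat_lit 3072))
)) (.node (nat_lit 0x8082d5d23f33c0c3) (.leaf (nat_lit 0x808294107eb0c0c3) (nat_lit 2053))
 (.node (nat_lit 0x808304342c20c101) (.leaf (nat_lit 0x8082d5d23f33c0c3) (nat_lit 3078))
 (.leaf (nat_lit 0x808304342c20c101) (nat_lit 2818))
)))) (.node (nat_lit 0x8083f5061e1202c2) (.node (nat_lit 0x808384b46fa0c101) (.node (nat_lit 0x808334041c1002c2) (.leaf (nat_lit 0x808305f62d21c101) (nat_lit 2823))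
 (.node (nat_lit 0x808375865d9202c2) (.leaf (nat_lit 0x808334041c1002c2) (nat_lit 2562))
 (.leaf (nat_lit 0x808375865d9202c2) (nat_lit 2567))
)) (.node (nat_lit 0x808385766ea1c101) (.leaf (nat_lit 0x808384b46fa0c101) (nat_lit 2565))
 (.node (nat_lit 0x8083b4845f9002c2) (.leaf (nat_lit 0x808385766ea1c101) (nat_lit 3079))
 (.leaf (nat_lit 0x8083b4845f9002c2) (nat_lit 2309))
))) (.node (nat_lit 0x809020c05d810284) (.node (nat_lit 0x809020c00d010204) (.leaf (nat_lit 0x8083f5061e1202c2) (nat_lit 2823))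
 (.node (nat_lit 0x809020c02d21d224) (.leaf (nat_lit 0x809020c00d010204) (nat_lit 2564))
 (.leaf (nat_lit 0x809020c02d21d224) (nat_lit 2311))
)) (.node (nat_lit 0x8090f0c00f030206) (.node (nat_lit 0x809020c07da1d2a4) (.leaf (nat_lit 0x809020c05d810284) (nat_lit 2308))
 (.leaf (nat_lit 0x809020c07da1d2a4) (nat_lit 2308))
) (.node (nat_lit 0x8090f0c03f33d2e6) (.leaf (nat_lit 0x8090f0c00f030206) (nat_lit 2564))
 (.leaf (nat_lit 0x8090f0c03f33d2e6) (nat_lit 2308))
))))))) (.node (nat_lit 0x80c020907d848281) (.node (nat_lit 0x80a1c1966f828401) (.node (nat_lit 0x80a0c0106e828401) (.node (nat_lit 0x809284107ea0d0a5) (.node (nat_lit 0x809214103c30d0e7) (.node (nat_lit 0x8090f0c06fb3d266) (.leaf (nat_lit 0x8090f0c05f830286) (nat_lit 2308))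
 (.node (nat_lit 0x809204102c20d025) (.leaf (nat_lit 0x8090f0c06fb3d266) (nat_lit 2052))
 (.leaf (nat_lit 0x809204102c20d025) (nat_lit 2055))
)) (.node (nat_lit 0x809225c20d010204) (.leaf (nat_lit 0x809214103c30d0e7) (nat_lit 2050))
 (.node (nat_lit 0x809275c25d830286) (.leaf (nat_lit 0x809225c20d010204) (nat_lit 3333))
 (.leaf (nat_lit 0x809275c25d830286) (nat_lit 3077))
))) (.node (nat_lit 0x8092f5c20f030206) (.node (nat_lit 0x809294106eb0d067) (.leaf (nat_lit 0x809284107ea0d0a5) (nat_lit 2053))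
 (.node (nat_lit 0x8092a5c25f810284) (.leaf (nat_lit 0x809294106eb0d067) (nat_lit 1797))
 (.leaf (nat_lit 0x8092a5c25f810284) (nat_lit 3077))
)) (.node (nat_lit 0x80a0c0100e020401) (.leaf (nat_lit 0x8092f5c20f030206) (nat_lit 3330))
 (.node (nat_lit 0x80a0c0101e1214e1) (.leaf (nat_lit 0x80a0c0100e020401) (nat_lit 2564))
 (.leaf (nat_lit 0x80a0c0101e1214e1) (nat_lit 2308))
)))) (.node (nat_lit 0x80a120041c1016e0) (.node (nat_lit 0x80a0c0f03f33d5e1) (.node (nat_lit 0x80a0c0107e9294e1) (.leaf (nat_lit 0x80a0c0106e828401) (nat_lit 2308))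
 (.node (nat_lit 0x80a0c0f00f030501) (.leaf (nat_lit 0x80a0c0107e9294e1) (nat_lit 2052))
 (.leaf (nat_lit 0x80a0c0f00f030501) (nat_lit 2820))
)) (.node (nat_lit 0x80a0c0f05fb355e1) (.leaf (nat_lit 0x80a0c0f03f33d5e1) (nat_lit 2564))
 (.node (nat_lit 0x80a0c0f06f838501) (.leaf (nat_lit 0x80a0c0f05fb355e1) (nat_lit 2308))
 (.leaf (nat_lit 0x80a0c0f06f838501) (nat_lit 2564))
))) (.node (nat_lit 0x80a120a45db057e0) (.node (nat_lit 0x80a120243c30d7e0) (.leaf (nat_lit 0x80a120041c1016e0) (nat_lit 2562))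
 (.node (nat_lit 0x80a120847d9096e0) (.leaf (nat_lit 0x80a120243c30d7e0) (nat_lit 2560))
 (.leaf (nat_lit 0x80a120847d9096e0) (nat_lit 2309))
)) (.node (nat_lit 0x80a1c1160e020401) (.leaf (nat_lit 0x80a120a45db057e0) (nat_lit 2565))
 (.node (nat_lit 0x80a1c1766e838501) (.leaf (nat_lit 0x80a1c1160e020401) (nat_lit 3847))
 (.leaf (nat_lit 0x80a1c1766e838501) (nat_lit 3333))
))))) (.node (nat_lit 0x80b334041c1016e6) (.node (nat_lit 0x80b0d0100e020407) (.node (nat_lit 0x80b020e02d21d724) (.node (nat_lit 0x80a1c1f60f030501) (.leaf (nat_lit 0x80a1c1966f828401) (nat_lit 3591))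
 (.node (nat_lit 0x80b020e00d010704) (.leaf (nat_lit 0x80a1c1f60f030501) (nat_lit 3591))
 (.leaf (nat_lit 0x80b020e00d010704) (nat_lit 2564))
)) (.node (nat_lit 0x80b020e05da157a4) (.leaf (nat_lit 0x80b020e02d21d724) (nat_lit 2308))
 (.node (nat_lit 0x80b020e07d818784) (.leaf (nat_lit 0x80b020e05da157a4) (nat_lit 2052))
 (.leaf (nat_lit 0x80b020e07d818784) (nat_lit 2308))
))) (.node (nat_lit 0x80b0d0107e828487) (.node (nat_lit 0x80b0d0101e1214e7) (.leaf (nat_lit 0x80b0d0100e020407) (nat_lit 2308))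
 (.node (nat_lit 0x80b0d0106e929467) (.leaf (nat_lit 0x80b0d0101e1214e7) (nat_lit 2052))
 (.leaf (nat_lit 0x80b0d0106e929467) (nat_lit 1796))
)) (.node (nat_lit 0x80b304342c20d525) (.leaf (nat_lit 0x80b0d0107e828487) (nat_lit 2052))
 (.node (nat_lit 0x80b325e60d010704) (.leaf (nat_lit 0x80b304342c20d525) (nat_lit 2307))
 (.leaf (nat_lit 0x80b325e60d010704) (nat_lit 3335))
)))) (.node (nat_lit 0x80c020100c040201) (.node (nat_lit 0x80b3a5667e818784) (.node (nat_lit 0x80b355967d828487) (.leaf (nat_lit 0x80b334041c1016e6) (nat_lit 2306))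
 (.node (nat_lit 0x80b384b45fa055a5) (.leaf (nat_lit 0x80b355967d828487) (nat_lit 3335))
 (.leaf (nat_lit 0x80b384b45fa055a5) (nat_lit 2309))
)) (.node (nat_lit 0x80b3b4846f909666) (.leaf (nat_lit 0x80b3a5667e818784) (nat_lit 3335))
 (.node (nat_lit 0x80b3d5160e020407) (.leaf (nat_lit 0x80b3b4846f909666) (nat_lit 2053))
 (.leaf (nat_lit 0x80b3d5160e020407) (nat_lit 3591))
))) (.node (nat_lit 0x80c020103c048281) (.node (nat_lit 0x80c020101c040281) (.leaf (nat_lit 0x80c020100c040201) (nat_lit 2561))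
 (.node (nat_lit 0x80c020102c048201) (.leaf (nat_lit 0x80c020101c040281) (nat_lit 2305))
 (.leaf (nat_lit 0x80c020102c048201) (nat_lit 2305))
)) (.node (nat_lit 0x80c020902d048201) (.node (nat_lit 0x80c020900d040201) (.leaf (nat_lit 0x80c020103c048281) (nat_lit 2049))
 (.leaf (nat_lit 0x80c020900d040201) (nat_lit 3329))
) (.node (nat_lit 0x80c020905d840281) (.leaf (nat_lit 0x80c020902d048201) (nat_lit 3073))
 (.leaf (nat_lit 0x80c020905d840281) (nat_lit 2817))
)))))) (.node (nat_lit 0x80c314243c048182) (.node (nat_lit 0x80c120b42d048301) (.node (nat_lit 0x80c0a0903f048281) (.node (nat_lit 0x80c0a0106e848201) (.node (nat_lit 0x80c0a0100e040201) (.leaf (nat_lit 0x80c020907d848281) (nat_lit 2817))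
 (.node (nat_lit 0x80c0a0101e040281) (.leaf (nat_lit 0x80c0a0100e040201) (nat_lit 2817))
 (.leaf (nat_lit 0x80c0a0101e040281) (nat_lit 2561))
)) (.node (nat_lit 0x80c0a0107e848281) (.leaf (nat_lit 0x80c0a0106e848201) (nat_lit 2561))
 (.node (nat_lit 0x80c0a0900f040201) (.leaf (nat_lit 0x80c0a0107e848281) (nat_lit 2305))
 (.leaf (nat_lit 0x80c0a0900f040201) (nat_lit 3073))
))) (.node (nat_lit 0x80c120140c040201) (.node (nat_lit 0x80c0a0905f840281) (.leaf (nat_lit 0x80c0a0903f048281) (nat_lit 2817))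
 (.node (nat_lit 0x80c0a0906f848201) (.leaf (nat_lit 0x80c0a0905f840281) (nat_lit 2561))
 (.leaf (nat_lit 0x80c0a0906f848201) (nat_lit 2819))
)) (.node (nat_lit 0x80c120342c048301) (.leaf (nat_lit 0x80c120140c040201) (nat_lit 3841))
 (.node (nat_lit 0x80c120940d040201) (.leaf (nat_lit 0x80c120342c048301) (nat_lit 3330))
 (.leaf (nat_lit 0x80c120940d040201) (nat_lit 3585))
)))) (.node (nat_lit 0x80c225920d040201) (.node (nat_lit 0x80c1a1960f040201) (.node (nat_lit 0x80c1a1160e040201) (.leaf (nat_lit 0x80c120b42d048301) (nat_lit 3073))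
 (.node (nat_lit 0x80c1a1766e858301) (.leaf (nat_lit 0x80c1a1160e040201) (nat_lit 4103))
 (.leaf (nat_lit 0x80c1a1766e858301) (nat_lit 3333))
)) (.node (nat_lit 0x80c1a1f66f858301) (.leaf (nat_lit 0x80c1a1960f040201) (nat_lit 3847))
 (.node (nat_lit 0x80c224100c040201) (.leaf (nat_lit 0x80c1a1f66f858301) (nat_lit 3335))
 (.leaf (nat_lit 0x80c224100c040201) (nat_lit 3329))
))) (.node (nat_lit 0x80c2a4100e040201) (.node (nat_lit 0x80c234101c040283) (.leaf (nat_lit 0x80c225920d040201) (nat_lit 3585))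
 (.node (nat_lit 0x80c275925d860283) (.leaf (nat_lit 0x80c234101c040283) (nat_lit 2818))
 (.leaf (nat_lit 0x80c275925d860283) (nat_lit 3333))
)) (.node (nat_lit 0x80c2b4101e040283) (.node (nat_lit 0x80c2a5920f040201) (.leaf (nat_lit 0x80c2a4100e040201) (nat_lit 3073))
 (.leaf (nat_lit 0x80c2a5920f040201) (nat_lit 3585))
) (.node (nat_lit 0x80c2f5925f860283) (.leaf (nat_lit 0x80c2b4101e040283) (nat_lit 2561))
 (.leaf (nat_lit 0x80c2f5925f860283) (nat_lit 3329))
))))) (.node (nat_lit 0x80d0b0100e040207) (.node (nat_lit 0x80c3a5160e040201) (.node (nat_lit 0x80c355e67d878182) (.node (nat_lit 0x80c324140c040201) (.leaf (nat_lit 0x80c314243c048182) (nat_lit 3074))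
 (.node (nat_lit 0x80c325960d040201) (.leaf (nat_lit 0x80c324140c040201) (nat_lit 3585))
 (.leaf (nat_lit 0x80c325960d040201) (nat_lit 3591))
)) (.node (nat_lit 0x80c394a43f048182) (.leaf (nat_lit 0x80c355e67d878182) (nat_lit 3079))
 (.node (nat_lit 0x80c3a4940f040201) (.leaf (nat_lit 0x80c394a43f048182) (nat_lit 2817))
 (.leaf (nat_lit 0x80c3a4940f040201) (nat_lit 3329))
))) (.node (nat_lit 0x80d020101c040285) (.node (nat_lit 0x80c3d5667e878182) (.leaf (nat_lit 0x80c3a5160e040201) (nat_lit 3847))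
 (.node (nat_lit 0x80d020100c040205) (.leaf (nat_lit 0x80c3d5667e878182) (nat_lit 3335))
 (.leaf (nat_lit 0x80d020100c040205) (nat_lit 2306))
)) (.node (nat_lit 0x80d020102c049225) (.leaf (nat_lit 0x80d020101c040285) (nat_lit 2049))
 (.node (nat_lit 0x80d020103c0492a5) (.leaf (nat_lit 0x80d020102c049225) (nat_lit 1793))
 (.leaf (nat_lit 0x80d020103c0492a5) (nat_lit 2053))
)))) (.node (nat_lit 0x80d234101c040287) (.node (nat_lit 0x80d0b0107e9492e7) (.node (nat_lit 0x80d0b0101e040287) (.leaf (nat_lit 0x80d0b0100e040207) (nat_lit 2562))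
 (.node (nat_lit 0x80d0b0106e949267) (.leaf (nat_lit 0x80d0b0101e040287) (nat_lit 2305))
 (.leaf (nat_lit 0x80d0b0106e949267) (nat_lit 2055))
)) (.node (nat_lit 0x80d205822d049024) (.leaf (nat_lit 0x80d0b0107e9492e7) (nat_lit 2049))
 (.node (nat_lit 0x80d224100c040205) (.leaf (nat_lit 0x80d205822d049024) (nat_lit 2563))
 (.leaf (nat_lit 0x80d224100c040205) (nat_lit 3074))
))) (.node (nat_lit 0x80d2a4101e040285) (.node (nat_lit 0x80d255827d9690e6) (.leaf (nat_lit 0x80d234101c040287) (nat_lit 2817))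
 (.node (nat_lit 0x80d285823f0490a4) (.leaf (nat_lit 0x80d255827d9690e6) (nat_lit 2819))
 (.leaf (nat_lit 0x80d285823f0490a4) (nat_lit 2822))
)) (.node (nat_lit 0x80d2d5826f969066) (.node (nat_lit 0x80d2b4100e040207) (.leaf (nat_lit 0x80d2a4101e040285) (nat_lit 2817))
 (.leaf (nat_lit 0x80d2b4100e040207) (nat_lit 2821))
) (.node (nat_lit 0x80e020100c040601) (.leaf (nat_lit 0x80d2d5826f969066) (nat_lit 2822))
 (.leaf (nat_lit 0x80e020100c040601) (nat_lit 2305))
)))))))) (.node (nat_lit 0x853b256e08010704) (.node (nat_lit 0x8240381008040203) (.node (nat_lit 0x80f314243c048586) (.node (nat_lit 0x80e181667ea5d5a0) (.node (nat_lit 0x80e020b07da4d7a1) (.node (nat_lit 0x80e020b00d040701) (.node (nat_lit 0x80e020102c048601) (.leaf (nat_lit 0x80e020101c0416a1) (nat_lit 2049))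
 (.node (nat_lit 0x80e020103c0496a1) (.leaf (nat_lit 0x80e020102c048601) (nat_lit 2049))
 (.leaf (nat_lit 0x80e020103c0496a1) (nat_lit 1793))
)) (.node (nat_lit 0x80e020b02d048701) (.leaf (nat_lit 0x80e020b00d040701) (nat_lit 3074))
 (.node (nat_lit 0x80e020b05da457a1) (.leaf (nat_lit 0x80e020b02d048701) (nat_lit 2817))
 (.leaf (nat_lit 0x80e020b05da457a1) (nat_lit 2567))
))) (.node (nat_lit 0x80e120942d048601) (.node (nat_lit 0x80e120140c040601) (.leaf (nat_lit 0x80e020b07da4d7a1) (nat_lit 2560))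
 (.node (nat_lit 0x80e120342c048701) (.leaf (nat_lit 0x80e120140c040601) (nat_lit 3586))
 (.leaf (nat_lit 0x80e120342c048701) (nat_lit 3329))
)) (.node (nat_lit 0x80e120b40d040701) (.leaf (nat_lit 0x80e120942d048601) (nat_lit 3329))
 (.node (nat_lit 0x80e181061e0414a0) (.leaf (nat_lit 0x80e120b40d040701) (nat_lit 3333))
 (.leaf (nat_lit 0x80e181061e0414a0) (nat_lit 2823))
)))) (.node (nat_lit 0x80f020103c048685) (.node (nat_lit 0x80f020100c040605) (.node (nat_lit 0x80e181863f0494a0) (.leaf (nat_lit 0x80e181667ea5d5a0) (nat_lit 2823))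
 (.node (nat_lit 0x80e181e65fa555a0) (.leaf (nat_lit 0x80e181863f0494a0) (nat_lit 2567))
 (.leaf (nat_lit 0x80e181e65fa555a0) (nat_lit 2823))
)) (.node (nat_lit 0x80f020101c0416a5) (.leaf (nat_lit 0x80f020100c040605) (nat_lit 2049))
 (.node (nat_lit 0x80f020102c049625) (.leaf (nat_lit 0x80f020101c0416a5) (nat_lit 1793))
 (.leaf (nat_lit 0x80f020102c049625) (nat_lit 1537))
))) (.node (nat_lit 0x80f090a05fb455e6) (.node (nat_lit 0x80f090a00f040506) (.leaf (nat_lit 0x80f020103c048685) (nat_lit 1793))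
 (.node (nat_lit 0x80f090a03f048586) (.leaf (nat_lit 0x80f090a00f040506) (nat_lit 2818))
 (.leaf (nat_lit 0x80f090a03f048586) (nat_lit 2561))
)) (.node (nat_lit 0x80f090a06fb4d566) (.leaf (nat_lit 0x80f090a05fb455e6) (nat_lit 2305))
 (.node (nat_lit 0x80f305862d049424) (.leaf (nat_lit 0x80f090a06fb4d566) (nat_lit 2307))
 (.leaf (nat_lit 0x80f305862d049424) (nat_lit 2311))
))))) (.node (nat_lit 0x8140215a08050201) (.node (nat_lit 0x80f3f5766eb7d767) (.node (nat_lit 0x80f385061e0414a4) (.node (nat_lit 0x80f324140c040605) (.leaf (nat_lit 0x80f314243c048586) (nat_lit 3073))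
 (.node (nat_lit 0x80f375f65db757e7) (.leaf (nat_lit 0x80f324140c040605) (nat_lit 3330))
 (.leaf (nat_lit 0x80f375f65db757e7) (nat_lit 2567))
)) (.node (nat_lit 0x80f394a40f040506) (.leaf (nat_lit 0x80f385061e0414a4) (nat_lit 2567))
 (.node (nat_lit 0x80f3a4943f048685) (.leaf (nat_lit 0x80f394a40f040506) (nat_lit 3077))
 (.leaf (nat_lit 0x80f3a4943f048685) (nat_lit 3073))
))) (.node (nat_lit 0x8140205808050201) (.node (nat_lit 0x8140201808040201) (.leaf (nat_lit 0x80f3f5766eb7d767) (nat_lit 2567))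
 (.node (nat_lit 0x8140203808040301) (.leaf (nat_lit 0x8140201808040201) (nat_lit 3586))
 (.leaf (nat_lit 0x8140203808040301) (nat_lit 3328))
)) (.node (nat_lit 0x8140207808050301) (.leaf (nat_lit 0x8140205808050201) (nat_lit 3328))
 (.node (nat_lit 0x8140211a08040201) (.leaf (nat_lit 0x8140207808050301) (nat_lit 3072))
 (.leaf (nat_lit 0x8140211a08040201) (nat_lit 4354))
)))) (.node (nat_lit 0x814120fc09050301) (.node (nat_lit 0x8141201c08040201) (.node (nat_lit 0x814021ba09040301) (.leaf (nat_lit 0x8140215a08050201) (nat_lit 4096))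
 (.node (nat_lit 0x814021fa09050301) (.leaf (nat_lit 0x814021ba09040301) (nat_lit 3584))
 (.leaf (nat_lit 0x814021fa09050301) (nat_lit 3584))
)) (.node (nat_lit 0x8141203c08040301) (.leaf (nat_lit 0x8141201c08040201) (nat_lit 3842))
 (.node (nat_lit 0x814120dc09050201) (.leaf (nat_lit 0x8141203c08040301) (nat_lit 3584))
 (.leaf (nat_lit 0x814120dc09050201) (nat_lit 3584))
))) (.node (nat_lit 0x814121be09040301) (.node (nat_lit 0x8141211e08040201) (.leaf (nat_lit 0x814120fc09050301) (nat_lit 3328))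
 (.node (nat_lit 0x8141217e08050301) (.leaf (nat_lit 0x8141211e08040201) (nat_lit 4103))
 (.leaf (nat_lit 0x8141217e08050301) (nat_lit 3847))
)) (.node (nat_lit 0x8240281008040201) (.node (nat_lit 0x814121de09050201) (.leaf (nat_lit 0x814121be09040301) (nat_lit 3591))
 (.leaf (nat_lit 0x814121de09050201) (nat_lit 3847))
) (.node (nat_lit 0x8240291208040201) (.leaf (nat_lit 0x8240281008040201) (nat_lit 3074))
 (.leaf (nat_lit 0x8240291208040201) (nat_lit 4354))
)))))) (.node (nat_lit 0x83432d1e08040201) (.node (nat_lit 0x8242ed120a060201) (.node (nat_lit 0x82422c1008040201) (.node (nat_lit 0x8240781008060203) (.node (nat_lit 0x8240681008060201) (.leaf (nat_lit 0x8240381008040203) (nat_lit 2822))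
 (.node (nat_lit 0x8240691208060201) (.leaf (nat_lit 0x8240681008060201) (nat_lit 2822))
 (.leaf (nat_lit 0x8240691208060201) (nat_lit 4102))
)) (.node (nat_lit 0x8240b9120a040203) (.leaf (nat_lit 0x8240781008060203) (nat_lit 2566))
 (.node (nat_lit 0x8240f9120a060203) (.leaf (nat_lit 0x8240b9120a040203) (nat_lit 3590))
 (.leaf (nat_lit 0x8240f9120a060203) (nat_lit 3590))
))) (.node (nat_lit 0x82427d1208060203) (.node (nat_lit 0x82422d1208040201) (.leaf (nat_lit 0x82422c1008040201) (nat_lit 3330))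
 (.node (nat_lit 0x82423c1008040203) (.leaf (nat_lit 0x82422d1208040201) (nat_lit 4098))
 (.leaf (nat_lit 0x82423c1008040203) (nat_lit 3078))
)) (.node (nat_lit 0x8242bd120a040203) (.leaf (nat_lit 0x82427d1208060203) (nat_lit 3846))
 (.node (nat_lit 0x8242ec100a060201) (.leaf (nat_lit 0x8242bd120a040203) (nat_lit 3590))
 (.leaf (nat_lit 0x8242ec100a060201) (nat_lit 3078))
)))) (.node (nat_lit 0x8340685808070201) (.node (nat_lit 0x8340281808040201) (.node (nat_lit 0x8242fc100a060203) (.leaf (nat_lit 0x8242ed120a060201) (nat_lit 3846))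
 (.node (nat_lit 0x8340182808040102) (.leaf (nat_lit 0x8242fc100a060203) (nat_lit 2822))
 (.leaf (nat_lit 0x8340182808040102) (nat_lit 3078))
)) (.node (nat_lit 0x8340291a08040201) (.leaf (nat_lit 0x8340281808040201) (nat_lit 3330))
 (.node (nat_lit 0x8340586808070102) (.leaf (nat_lit 0x8340291a08040201) (nat_lit 4098))
 (.leaf (nat_lit 0x8340586808070102) (nat_lit 2822))
))) (.node (nat_lit 0x8340d9ea0b070102) (.node (nat_lit 0x8340695a08070201) (.leaf (nat_lit 0x8340685808070201) (nat_lit 3078))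
 (.node (nat_lit 0x834099aa0b040102) (.leaf (nat_lit 0x8340695a08070201) (nat_lit 3846))
 (.leaf (nat_lit 0x834099aa0b040102) (nat_lit 3334))
)) (.node (nat_lit 0x83431c2c08040102) (.leaf (nat_lit 0x8340d9ea0b070102) (nat_lit 3334))
 (.node (nat_lit 0x83432c1c08040201) (.leaf (nat_lit 0x83431c2c08040102) (nat_lit 3334))
 (.leaf (nat_lit 0x83432c1c08040201) (nat_lit 3586))
))))) (.node (nat_lit 0x8468201008040601) (.node (nat_lit 0x8448201008040201) (.node (nat_lit 0x8343dcec0b070102) (.node (nat_lit 0x83435d6e08070102) (.leaf (nat_lit 0x83432d1e08040201) (nat_lit 3847))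
 (.node (nat_lit 0x83439dae0b040102) (.leaf (nat_lit 0x83435d6e08070102) (nat_lit 3591))
 (.leaf (nat_lit 0x83439dae0b040102) (nat_lit 3335))
)) (.node (nat_lit 0x8343ecdc0b070201) (.leaf (nat_lit 0x8343dcec0b070102) (nat_lit 3078))
 (.node (nat_lit 0x8343edde0b070201) (.leaf (nat_lit 0x8343ecdc0b070201) (nat_lit 3334))
 (.leaf (nat_lit 0x8343edde0b070201) (nat_lit 3591))
))) (.node (nat_lit 0x844b241408040201) (.node (nat_lit 0x8449201408040201) (.leaf (nat_lit 0x8448201008040201) (nat_lit 2562))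
 (.node (nat_lit 0x844a241008040201) (.leaf (nat_lit 0x8449201408040201) (nat_lit 3842))
 (.leaf (nat_lit 0x844a241008040201) (nat_lit 3330))
)) (.node (nat_lit 0x8458201008040205) (.leaf (nat_lit 0x844b241408040201) (nat_lit 3586))
 (.node (nat_lit 0x845a241008040205) (.leaf (nat_lit 0x8458201008040205) (nat_lit 2306))
 (.leaf (nat_lit 0x845a241008040205) (nat_lit 3074))
)))) (.node (nat_lit 0x84ea24100c040601) (.node (nat_lit 0x847b241408040605) (.node (nat_lit 0x8469201408040601) (.leaf (nat_lit 0x8468201008040601) (nat_lit 2306))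
 (.node (nat_lit 0x8478201008040605) (.leaf (nat_lit 0x8469201408040601) (nat_lit 3586))
 (.leaf (nat_lit 0x8478201008040605) (nat_lit 2050))
)) (.node (nat_lit 0x84d920140c040205) (.leaf (nat_lit 0x847b241408040605) (nat_lit 3330))
 (.node (nat_lit 0x84db24140c040205) (.leaf (nat_lit 0x84d920140c040205) (nat_lit 3330))
 (.leaf (nat_lit 0x84db24140c040205) (nat_lit 3074))
))) (.node (nat_lit 0x84fa24100c040605) (.node (nat_lit 0x84eb24140c040601) (.leaf (nat_lit 0x84ea24100c040601) (nat_lit 3074))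
 (.node (nat_lit 0x84f920140c040605) (.leaf (nat_lit 0x84eb24140c040601) (nat_lit 3331))
 (.leaf (nat_lit 0x84f920140c040605) (nat_lit 3330))
)) (.node (nat_lit 0x851a254a08010204) (.node (nat_lit 0x8518204808010204) (.leaf (nat_lit 0x84fa24100c040605) (nat_lit 2818))
 (.leaf (nat_lit 0x8518204808010204) (nat_lit 2565))
) (.node (nat_lit 0x8538206808010704) (.leaf (nat_lit 0x851a254a08010204) (nat_lit 3332))
 (.leaf (nat_lit 0x8538206808010704) (nat_lit 2565))
))))))) (.node (nat_lit 0x904030100804020b) (.node (nat_lit 0x86abcd160e020401) (.node (nat_lit 0x85eb25be0d040701) (.node (nat_lit 0x8569203c08040701) (.node (nat_lit 0x854a251a08040201) (.node (nat_lit 0x8548201808040201) (.leaf (nat_lit 0x853b256e08010704) (nat_lit 3335))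
 (.node (nat_lit 0x8549201c08040201) (.leaf (nat_lit 0x8548201808040201) (nat_lit 3330))
 (.leaf (nat_lit 0x8549201c08040201) (nat_lit 3586))
)) (.node (nat_lit 0x854b251e08040201) (.leaf (nat_lit 0x854a251a08040201) (nat_lit 3586))
 (.node (nat_lit 0x8568203808040701) (.leaf (nat_lit 0x854b251e08040201) (nat_lit 3591))
 (.leaf (nat_lit 0x8568203808040701) (nat_lit 3074))
))) (.node (nat_lit 0x85b920ec0d010704) (.node (nat_lit 0x859920cc0d010204) (.leaf (nat_lit 0x8569203c08040701) (nat_lit 3332))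
 (.node (nat_lit 0x859b25ce0d010204) (.leaf (nat_lit 0x859920cc0d010204) (nat_lit 2821))
 (.leaf (nat_lit 0x859b25ce0d010204) (nat_lit 3079))
)) (.node (nat_lit 0x85ba25ea0d010704) (.leaf (nat_lit 0x85b920ec0d010704) (nat_lit 2821))
 (.node (nat_lit 0x85ea25ba0d040701) (.leaf (nat_lit 0x85ba25ea0d010704) (nat_lit 3074))
 (.leaf (nat_lit 0x85ea25ba0d040701) (nat_lit 3587))
)))) (.node (nat_lit 0x8649291608040201) (.node (nat_lit 0x8638581008020407) (.node (nat_lit 0x8628481008020401) (.leaf (nat_lit 0x85eb25be0d040701) (nat_lit 3335))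
 (.node (nat_lit 0x8629491608020401) (.leaf (nat_lit 0x8628481008020401) (nat_lit 2565))
 (.leaf (nat_lit 0x8629491608020401) (nat_lit 3847))
)) (.node (nat_lit 0x863b5d1608020407) (.leaf (nat_lit 0x8638581008020407) (nat_lit 2309))
 (.node (nat_lit 0x8648281008040201) (.leaf (nat_lit 0x863b5d1608020407) (nat_lit 3591))
 (.leaf (nat_lit 0x8648281008040201) (nat_lit 2818))
))) (.node (nat_lit 0x8658381008040207) (.node (nat_lit 0x864a2c1008040201) (.leaf (nat_lit 0x8649291608040201) (nat_lit 4103))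
 (.node (nat_lit 0x864b2d1608040201) (.leaf (nat_lit 0x864a2c1008040201) (nat_lit 3074))
 (.leaf (nat_lit 0x864b2d1608040201) (nat_lit 3847))
)) (.node (nat_lit 0x865a3c1008040207) (.leaf (nat_lit 0x8658381008040207) (nat_lit 2562))
 (.node (nat_lit 0x86aacc100e020401) (.leaf (nat_lit 0x865a3c1008040207) (nat_lit 2820))
 (.leaf (nat_lit 0x86aacc100e020401) (nat_lit 2821))
))))) (.node (nat_lit 0x874b2c1c08040201) (.node (nat_lit 0x871a7d4a08030206) (.node (nat_lit 0x86d9b9160e040207) (.node (nat_lit 0x86b9d9160e020407) (.leaf (nat_lit 0x86abcd160e020401) (nat_lit 3591))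
 (.node (nat_lit 0x86badc100e020407) (.leaf (nat_lit 0x86b9d9160e020407) (nat_lit 3331))
 (.leaf (nat_lit 0x86badc100e020407) (nat_lit 2565))
)) (.node (nat_lit 0x86dbbd160e040207) (.leaf (nat_lit 0x86d9b9160e040207) (nat_lit 3331))
 (.node (nat_lit 0x8718784808030206) (.leaf (nat_lit 0x86dbbd160e040207) (nat_lit 3335))
 (.leaf (nat_lit 0x8718784808030206) (nat_lit 2565))
))) (.node (nat_lit 0x8748281808040201) (.node (nat_lit 0x8728487808030501) (.leaf (nat_lit 0x871a7d4a08030206) (nat_lit 3330))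
 (.node (nat_lit 0x8729497e08030501) (.leaf (nat_lit 0x8728487808030501) (nat_lit 2821))
 (.leaf (nat_lit 0x8729497e08030501) (nat_lit 3591))
)) (.node (nat_lit 0x8749291e08040201) (.leaf (nat_lit 0x8748281808040201) (nat_lit 3074))
 (.node (nat_lit 0x874a2d1a08040201) (.leaf (nat_lit 0x8749291e08040201) (nat_lit 3847))
 (.leaf (nat_lit 0x874a2d1a08040201) (nat_lit 3586))
)))) (.node (nat_lit 0x87abccfc0f030501) (.node (nat_lit 0x8799f9ce0f030206) (.node (nat_lit 0x8778182808040506) (.leaf (nat_lit 0x874b2c1c08040201) (nat_lit 3330))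
 (.node (nat_lit 0x877b1c2c08040506) (.leaf (nat_lit 0x8778182808040506) (nat_lit 2818))
 (.leaf (nat_lit 0x877b1c2c08040506) (nat_lit 3076))
)) (.node (nat_lit 0x879bfccc0f030206) (.leaf (nat_lit 0x8799f9ce0f030206) (nat_lit 3079))
 (.node (nat_lit 0x87aacdfa0f030501) (.leaf (nat_lit 0x879bfccc0f030206) (nat_lit 2821))
 (.leaf (nat_lit 0x87aacdfa0f030501) (nat_lit 3330))
))) (.node (nat_lit 0x9040201008040209) (.node (nat_lit 0x87f999ae0f040506) (.leaf (nat_lit 0x87abccfc0f030501) (nat_lit 3077))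
 (.node (nat_lit 0x87fa9daa0f040506) (.leaf (nat_lit 0x87f999ae0f040506) (nat_lit 3079))
 (.leaf (nat_lit 0x87fa9daa0f040506) (nat_lit 3330))
)) (.node (nat_lit 0x9040201008140249) (.node (nat_lit 0x9040201008041229) (.leaf (nat_lit 0x9040201008040209) (nat_lit 1026))
 (.leaf (nat_lit 0x9040201008041229) (nat_lit 770))
) (.node (nat_lit 0x9040201008141269) (.leaf (nat_lit 0x9040201008140249) (nat_lit 774))
 (.leaf (nat_lit 0x9040201008141269) (nat_lit 517))
)))))) (.node (nat_lit 0x9252cd021a1610ec) (.node (nat_lit 0x9240090208041028) (.node (nat_lit 0x90502010181402cd) (.node (nat_lit 0x90403010181412eb) (.node (nat_lit 0x904030100814024b) (.leaf (nat_lit 0x904030100804020b) (nat_lit 1794))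
 (.node (nat_lit 0x90403010180412ab) (.leaf (nat_lit 0x904030100814024b) (nat_lit 1542))
 (.leaf (nat_lit 0x90403010180412ab) (nat_lit 1284))
)) (.node (nat_lit 0x905020100804020d) (.leaf (nat_lit 0x90403010181412eb) (nat_lit 1541))
 (.node (nat_lit 0x905020100804122d) (.leaf (nat_lit 0x905020100804020d) (nat_lit 1282))
 (.leaf (nat_lit 0x905020100804122d) (nat_lit 1026))
))) (.node (nat_lit 0x905030100814126f) (.node (nat_lit 0x90502010181412ed) (.leaf (nat_lit 0x90502010181402cd) (nat_lit 1030))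
 (.node (nat_lit 0x905030100804020f) (.leaf (nat_lit 0x90502010181412ed) (nat_lit 773))
 (.leaf (nat_lit 0x905030100804020f) (nat_lit 1543))
)) (.node (nat_lit 0x90503010180412af) (.leaf (nat_lit 0x905030100814126f) (nat_lit 1287))
 (.node (nat_lit 0x90503010181402cf) (.leaf (nat_lit 0x90503010180412af) (nat_lit 1031))
 (.leaf (nat_lit 0x90503010181402cf) (nat_lit 1287))
)))) (.node (nat_lit 0x924099021a0410aa) (.node (nat_lit 0x9240490208161068) (.node (nat_lit 0x9240281008040209) (.leaf (nat_lit 0x9240090208041028) (nat_lit 3076))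
 (.node (nat_lit 0x924038100804020b) (.leaf (nat_lit 0x9240281008040209) (nat_lit 2818))
 (.leaf (nat_lit 0x924038100804020b) (nat_lit 2562))
)) (.node (nat_lit 0x9240681008160249) (.leaf (nat_lit 0x9240490208161068) (nat_lit 2820))
 (.node (nat_lit 0x924078100816024b) (.leaf (nat_lit 0x9240681008160249) (nat_lit 2566))
 (.leaf (nat_lit 0x924078100816024b) (nat_lit 2310))
))) (.node (nat_lit 0x92522c100804020d) (.node (nat_lit 0x9240d9021a1610ea) (.leaf (nat_lit 0x924099021a0410aa) (nat_lit 3076))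
 (.node (nat_lit 0x92520d020804102c) (.leaf (nat_lit 0x9240d9021a1610ea) (nat_lit 3333))
 (.leaf (nat_lit 0x92520d020804102c) (nat_lit 2819))
)) (.node (nat_lit 0x92525d020816106e) (.node (nat_lit 0x92523c100804020f) (.leaf (nat_lit 0x92522c100804020d) (nat_lit 3074))
 (.leaf (nat_lit 0x92523c100804020f) (nat_lit 2818))
) (.node (nat_lit 0x92529d021a0410ae) (.leaf (nat_lit 0x92525d020816106e) (nat_lit 3075))
 (.leaf (nat_lit 0x92529d021a0410ae) (nat_lit 2819))
))))) (.node (nat_lit 0x947820100804162d) (.node (nat_lit 0x943b34040810166e) (.node (nat_lit 0x9409200408100248) (.node (nat_lit 0x9252ec101a1602cd) (.leaf (nat_lit 0x9252cd021a1610ec) (nat_lit 2563))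
 (.node (nat_lit 0x9252fc101a1602cf) (.leaf (nat_lit 0x9252ec101a1602cd) (nat_lit 2822))
 (.leaf (nat_lit 0x9252fc101a1602cf) (nat_lit 2566))
)) (.node (nat_lit 0x940b34040810024a) (.leaf (nat_lit 0x9409200408100248) (nat_lit 2817))
 (.node (nat_lit 0x9429200408101668) (.leaf (nat_lit 0x940b34040810024a) (nat_lit 2561))
 (.leaf (nat_lit 0x9429200408101668) (nat_lit 2561))
))) (.node (nat_lit 0x945820100804020d) (.node (nat_lit 0x9448201008040209) (.leaf (nat_lit 0x943b34040810166e) (nat_lit 2305))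
 (.node (nat_lit 0x944a34100804020b) (.leaf (nat_lit 0x9448201008040209) (nat_lit 2306))
 (.leaf (nat_lit 0x944a34100804020b) (nat_lit 2818))
)) (.node (nat_lit 0x945a34100804020f) (.leaf (nat_lit 0x945820100804020d) (nat_lit 2050))
 (.node (nat_lit 0x9468201008041629) (.leaf (nat_lit 0x945a34100804020f) (nat_lit 2818))
 (.leaf (nat_lit 0x9468201008041629) (nat_lit 2050))
)))) (.node (nat_lit 0x94fa34101c0416af) (.node (nat_lit 0x94ab34041c1016ea) (.node (nat_lit 0x949920041c1002cc) (.leaf (nat_lit 0x947820100804162d) (nat_lit 1794))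
 (.node (nat_lit 0x949b34041c1002ce) (.leaf (nat_lit 0x949920041c1002cc) (nat_lit 2822))
 (.leaf (nat_lit 0x949b34041c1002ce) (nat_lit 2819))
)) (.node (nat_lit 0x94b920041c1016ec) (.leaf (nat_lit 0x94ab34041c1016ea) (nat_lit 2561))
 (.node (nat_lit 0x94ea34101c0416ab) (.leaf (nat_lit 0x94b920041c1016ec) (nat_lit 2561))
 (.leaf (nat_lit 0x94ea34101c0416ab) (nat_lit 2567))
))) (.node (nat_lit 0x9628481008121469) (.node (nat_lit 0x9609690608120248) (.leaf (nat_lit 0x94fa34101c0416af) (nat_lit 2561))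
 (.node (nat_lit 0x960b7d060812024a) (.leaf (nat_lit 0x9609690608120248) (nat_lit 3078))
 (.leaf (nat_lit 0x960b7d060812024a) (nat_lit 2823))
)) (.node (nat_lit 0x9648281008040209) (.node (nat_lit 0x963858100812146f) (.leaf (nat_lit 0x9628481008121469) (nat_lit 2309))
 (.leaf (nat_lit 0x963858100812146f) (nat_lit 2053))
) (.node (nat_lit 0x964a3c100804020b) (.leaf (nat_lit 0x9648281008040209) (nat_lit 2562))
 (.leaf (nat_lit 0x964a3c100804020b) (nat_lit 2562))
))))))))) (.node (nat_lit 0xc3405868083f4142) (.node (nat_lit 0xb3730d0e08041c2c) (.node (nat_lit 0xa468201008040e01) (.node (nat_lit 0xa060203028049f21) (.node (nat_lit 0xa040201008244a01) (.node (nat_lit 0x96aadc101e1214eb) (.node (nat_lit 0x967b0d060804142c) (.node (nat_lit 0x965a2c100804020d) (.leaf (nat_lit 0x965838100804020f) (nat_lit 2306))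
 (.node (nat_lit 0x9669090608041428) (.leaf (nat_lit 0x965a2c100804020d) (nat_lit 2818))
 (.leaf (nat_lit 0x9669090608041428) (nat_lit 2823))
)) (.node (nat_lit 0x9699f9061e1202ce) (.leaf (nat_lit 0x967b0d060804142c) (nat_lit 2567))
 (.node (nat_lit 0x969bed061e1202cc) (.leaf (nat_lit 0x9699f9061e1202ce) (nat_lit 3072))
 (.leaf (nat_lit 0x969bed061e1202cc) (nat_lit 2822))
))) (.node (nat_lit 0x96f999061e0414ae) (.node (nat_lit 0x96bacc101e1214ed) (.leaf (nat_lit 0x96aadc101e1214eb) (nat_lit 2309))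
 (.node (nat_lit 0x96eb9d061e0414aa) (.leaf (nat_lit 0x96bacc101e1214ed) (nat_lit 2565))
 (.leaf (nat_lit 0x96eb9d061e0414aa) (nat_lit 2823))
)) (.node (nat_lit 0xa040201008040a01) (.leaf (nat_lit 0x96f999061e0414ae) (nat_lit 2823))
 (.node (nat_lit 0xa040201008041a21) (.leaf (nat_lit 0xa040201008040a01) (nat_lit 1538))
 (.leaf (nat_lit 0xa040201008041a21) (nat_lit 1282))
)))) (.node (nat_lit 0xa060201008040e01) (.node (nat_lit 0xa040203008244b01) (.node (nat_lit 0xa040201008245a21) (.leaf (nat_lit 0xa040201008244a01) (nat_lit 1280))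
 (.node (nat_lit 0xa040203008040b01) (.leaf (nat_lit 0xa040201008245a21) (nat_lit 1029))
 (.leaf (nat_lit 0xa040203008040b01) (nat_lit 2306))
)) (.node (nat_lit 0xa040203028049b21) (.leaf (nat_lit 0xa040203008244b01) (nat_lit 2048))
 (.node (nat_lit 0xa04020302824db21) (.leaf (nat_lit 0xa040203028049b21) (nat_lit 1796))
 (.leaf (nat_lit 0xa04020302824db21) (nat_lit 2053))
))) (.node (nat_lit 0xa06020102824de21) (.node (nat_lit 0xa060201008041e21) (.leaf (nat_lit 0xa060201008040e01) (nat_lit 1794))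
 (.node (nat_lit 0xa06020102824ce01) (.leaf (nat_lit 0xa060201008041e21) (nat_lit 1538))
 (.leaf (nat_lit 0xa06020102824ce01) (nat_lit 1536))
)) (.node (nat_lit 0xa060203008040f01) (.leaf (nat_lit 0xa06020102824de21) (nat_lit 1285))
 (.node (nat_lit 0xa060203008245f21) (.leaf (nat_lit 0xa060203008040f01) (nat_lit 2048))
 (.leaf (nat_lit 0xa060203008245f21) (nat_lit 1792))
))))) (.node (nat_lit 0xa16101ae29049d20) (.node (nat_lit 0xa140201808040a01) (.node (nat_lit 0xa140014a08255820) (.node (nat_lit 0xa06020302824cf01) (.leaf (nat_lit 0xa060203028049f21) (nat_lit 1536))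
 (.node (nat_lit 0xa140010a08041820) (.leaf (nat_lit 0xa06020302824cf01) (nat_lit 1792))
 (.leaf (nat_lit 0xa140010a08041820) (nat_lit 3076))
)) (.node (nat_lit 0xa14001aa29049920) (.leaf (nat_lit 0xa140014a08255820) (nat_lit 2820))
 (.node (nat_lit 0xa14001ea2925d920) (.leaf (nat_lit 0xa14001aa29049920) (nat_lit 2564))
 (.leaf (nat_lit 0xa14001ea2925d920) (nat_lit 2822))
))) (.node (nat_lit 0xa140207808254b01) (.node (nat_lit 0xa140203808040b01) (.leaf (nat_lit 0xa140201808040a01) (nat_lit 3330))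
 (.node (nat_lit 0xa140205808254a01) (.leaf (nat_lit 0xa140203808040b01) (nat_lit 3074))
 (.leaf (nat_lit 0xa140205808254a01) (nat_lit 3072))
)) (.node (nat_lit 0xa161010e08041c20) (.leaf (nat_lit 0xa140207808254b01) (nat_lit 2816))
 (.node (nat_lit 0xa161016e08255d20) (.leaf (nat_lit 0xa161010e08041c20) (nat_lit 2823))
 (.leaf (nat_lit 0xa161016e08255d20) (nat_lit 2567))
)))) (.node (nat_lit 0xa40a041008204801) (.node (nat_lit 0xa161203c08040f01) (.node (nat_lit 0xa16101ce2925dc20) (.leaf (nat_lit 0xa16101ae29049d20) (nat_lit 2311))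
 (.node (nat_lit 0xa161201c08040e01) (.leaf (nat_lit 0xa16101ce2925dc20) (nat_lit 2567))
 (.leaf (nat_lit 0xa161201c08040e01) (nat_lit 3586))
)) (.node (nat_lit 0xa16120dc2925ce01) (.leaf (nat_lit 0xa161203c08040f01) (nat_lit 3330))
 (.node (nat_lit 0xa16120fc2925cf01) (.leaf (nat_lit 0xa16120dc2925ce01) (nat_lit 3328))
 (.leaf (nat_lit 0xa16120fc2925cf01) (nat_lit 3072))
))) (.node (nat_lit 0xa43b043408205d25) (.node (nat_lit 0xa40b043408204901) (.leaf (nat_lit 0xa40a041008204801) (nat_lit 2561))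
 (.node (nat_lit 0xa41a041008205825) (.leaf (nat_lit 0xa40b043408204901) (nat_lit 2817))
 (.leaf (nat_lit 0xa41a041008205825) (nat_lit 2055))
)) (.node (nat_lit 0xa449203408040b01) (.node (nat_lit 0xa448201008040a01) (.leaf (nat_lit 0xa43b043408205d25) (nat_lit 2307))
 (.leaf (nat_lit 0xa448201008040a01) (nat_lit 2306))
) (.node (nat_lit 0xa458201008041a25) (.leaf (nat_lit 0xa449203408040b01) (nat_lit 3330))
 (.leaf (nat_lit 0xa458201008041a25) (nat_lit 1794))
)))))) (.node (nat_lit 0xa5fa05aa2d049d24) (.node (nat_lit 0xa538206808215f24) (.node (nat_lit 0xa4ba04102c20dc25) (.node (nat_lit 0xa49b04342c20d925) (.node (nat_lit 0xa469203408040f01) (.leaf (nat_lit 0xa468201008040e01) (nat_lit 2050))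
 (.node (nat_lit 0xa478201008041e25) (.leaf (nat_lit 0xa469203408040f01) (nat_lit 3330))
 (.leaf (nat_lit 0xa478201008041e25) (nat_lit 1538))
)) (.node (nat_lit 0xa4aa04102c20cc01) (.leaf (nat_lit 0xa49b04342c20d925) (nat_lit 2563))
 (.node (nat_lit 0xa4ab04342c20cd01) (.leaf (nat_lit 0xa4aa04102c20cc01) (nat_lit 2823))
 (.leaf (nat_lit 0xa4ab04342c20cd01) (nat_lit 3075))
))) (.node (nat_lit 0xa50a055a08214801) (.node (nat_lit 0xa4d920342c049b25) (.leaf (nat_lit 0xa4ba04102c20dc25) (nat_lit 2311))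
 (.node (nat_lit 0xa4f920342c049f25) (.leaf (nat_lit 0xa4d920342c049b25) (nat_lit 3073))
 (.leaf (nat_lit 0xa4f920342c049f25) (nat_lit 3074))
)) (.node (nat_lit 0xa50b057e08214901) (.leaf (nat_lit 0xa50a055a08214801) (nat_lit 3075))
 (.node (nat_lit 0xa518204808215a24) (.leaf (nat_lit 0xa50b057e08214901) (nat_lit 2823))
 (.leaf (nat_lit 0xa518204808215a24) (nat_lit 2311))
)))) (.node (nat_lit 0xa57b050e08041c24) (.node (nat_lit 0xa55a050a08041824) (.node (nat_lit 0xa548201808040a01) (.leaf (nat_lit 0xa538206808215f24) (nat_lit 2309))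
 (.node (nat_lit 0xa549203c08040b01) (.leaf (nat_lit 0xa548201808040a01) (nat_lit 3074))
 (.leaf (nat_lit 0xa549203c08040b01) (nat_lit 3074))
)) (.node (nat_lit 0xa568203808040f01) (.leaf (nat_lit 0xa55a050a08041824) (nat_lit 2563))
 (.node (nat_lit 0xa569201c08040e01) (.leaf (nat_lit 0xa568203808040f01) (nat_lit 2818))
 (.leaf (nat_lit 0xa569201c08040e01) (nat_lit 3330))
))) (.node (nat_lit 0xa5ab05de2d21cc01) (.node (nat_lit 0xa59920ec2d21db24) (.leaf (nat_lit 0xa57b050e08041c24) (nat_lit 2311))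
 (.node (nat_lit 0xa5aa05fa2d21cd01) (.leaf (nat_lit 0xa59920ec2d21db24) (nat_lit 2565))
 (.leaf (nat_lit 0xa5aa05fa2d21cd01) (nat_lit 2816))
)) (.node (nat_lit 0xa5b920cc2d21de24) (.leaf (nat_lit 0xa5ab05de2d21cc01) (nat_lit 3079))
 (.node (nat_lit 0xa5db05ae2d049924) (.leaf (nat_lit 0xa5b920cc2d21de24) (nat_lit 2565))
 (.leaf (nat_lit 0xa5db05ae2d049924) (nat_lit 2567))
))))) (.node (nat_lit 0xb07010203834cdce) (.node (nat_lit 0xb040201008041a29) (.node (nat_lit 0xb0401020380499aa) (.node (nat_lit 0xb04010200804090a) (.leaf (nat_lit 0xa5fa05aa2d049d24) (nat_lit 2819))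
 (.node (nat_lit 0xb04010200834494a) (.leaf (nat_lit 0xb04010200804090a) (nat_lit 2050))
 (.leaf (nat_lit 0xb04010200834494a) (nat_lit 1798))
)) (.node (nat_lit 0xb04010203834d9ea) (.leaf (nat_lit 0xb0401020380499aa) (nat_lit 1540))
 (.node (nat_lit 0xb040201008040a09) (.leaf (nat_lit 0xb04010203834d9ea) (nat_lit 1797))
 (.leaf (nat_lit 0xb040201008040a09) (nat_lit 1282))
))) (.node (nat_lit 0xb070102008040d0e) (.node (nat_lit 0xb040201008344a49) (.leaf (nat_lit 0xb040201008041a29) (nat_lit 1026))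
 (.node (nat_lit 0xb040201008345a69) (.leaf (nat_lit 0xb040201008344a49) (nat_lit 1030))
 (.leaf (nat_lit 0xb040201008345a69) (nat_lit 773))
)) (.node (nat_lit 0xb070102008345d6e) (.leaf (nat_lit 0xb070102008040d0e) (nat_lit 1795))
 (.node (nat_lit 0xb070102038049dae) (.leaf (nat_lit 0xb070102008345d6e) (nat_lit 1539))
 (.leaf (nat_lit 0xb070102038049dae) (nat_lit 1283))
)))) (.node (nat_lit 0xb34018280804090a) (.node (nat_lit 0xb07020103834cecd) (.node (nat_lit 0xb070201008040e0d) (.leaf (nat_lit 0xb07010203834cdce) (nat_lit 1539))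
 (.node (nat_lit 0xb070201008041e2d) (.leaf (nat_lit 0xb070201008040e0d) (nat_lit 1538))
 (.leaf (nat_lit 0xb070201008041e2d) (nat_lit 1282))
)) (.node (nat_lit 0xb07020103834deed) (.leaf (nat_lit 0xb07020103834cecd) (nat_lit 1286))
 (.node (nat_lit 0xb340090a08041828) (.leaf (nat_lit 0xb07020103834deed) (nat_lit 1029))
 (.leaf (nat_lit 0xb340090a08041828) (nat_lit 2820))
))) (.node (nat_lit 0xb34058680837494a) (.node (nat_lit 0xb340281808040a09) (.leaf (nat_lit 0xb34018280804090a) (nat_lit 2818))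
 (.node (nat_lit 0xb340494a08375868) (.leaf (nat_lit 0xb340281808040a09) (nat_lit 3074))
 (.leaf (nat_lit 0xb340494a08375868) (nat_lit 2564))
)) (.node (nat_lit 0xb340b9ba3b049bab) (.node (nat_lit 0xb340685808374a49) (.leaf (nat_lit 0xb34058680837494a) (nat_lit 2566))
 (.leaf (nat_lit 0xb340685808374a49) (nat_lit 2822))
) (.node (nat_lit 0xb340f9fa3b37dbeb) (.leaf (nat_lit 0xb340b9ba3b049bab) (nat_lit 2820))
 (.leaf (nat_lit 0xb340f9fa3b37dbeb) (nat_lit 3077))
))))))) (.node (nat_lit 0xc0406010081e0241) (.node (nat_lit 0xb709696e08334b48) (.node (nat_lit 0xb448201008040a09) (.node (nat_lit 0xb373dcec3b37cdce) (.node (nat_lit 0xb3737d7e08375f6f) (.node (nat_lit 0xb3731c2c08040d0e) (.leaf (nat_lit 0xb3730d0e08041c2c) (nat_lit 2567))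
 (.node (nat_lit 0xb3732c1c08040e0d) (.leaf (nat_lit 0xb3731c2c08040d0e) (nat_lit 3074))
 (.leaf (nat_lit 0xb3732c1c08040e0d) (nat_lit 3330))
)) (.node (nat_lit 0xb373bdbe3b049faf) (.leaf (nat_lit 0xb3737d7e08375f6f) (nat_lit 2823))
 (.node (nat_lit 0xb373cdce3b37dcec) (.leaf (nat_lit 0xb373bdbe3b049faf) (nat_lit 2567))
 (.leaf (nat_lit 0xb373cdce3b37dcec) (nat_lit 2311))
))) (.node (nat_lit 0xb40a14100830484b) (.node (nat_lit 0xb373ecdc3b37cecd) (.leaf (nat_lit 0xb373dcec3b37cdce) (nat_lit 2822))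
 (.node (nat_lit 0xb409202408304b48) (.leaf (nat_lit 0xb373ecdc3b37cecd) (nat_lit 3078))
 (.leaf (nat_lit 0xb409202408304b48) (nat_lit 2822))
)) (.node (nat_lit 0xb41a14100830586f) (.leaf (nat_lit 0xb40a14100830484b) (nat_lit 2305))
 (.node (nat_lit 0xb429202408305f68) (.leaf (nat_lit 0xb41a14100830586f) (nat_lit 2049))
 (.leaf (nat_lit 0xb429202408305f68) (nat_lit 2560))
)))) (.node (nat_lit 0xb49920243c30dbec) (.node (nat_lit 0xb468201008041e29) (.node (nat_lit 0xb44b14240804090a) (.leaf (nat_lit 0xb448201008040a09) (nat_lit 2050))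
 (.node (nat_lit 0xb458201008041a2d) (.leaf (nat_lit 0xb44b14240804090a) (nat_lit 3074))
 (.leaf (nat_lit 0xb458201008041a2d) (nat_lit 2050))
)) (.node (nat_lit 0xb478201008040e0d) (.leaf (nat_lit 0xb468201008041e29) (nat_lit 1794))
 (.node (nat_lit 0xb47b142408040d0e) (.leaf (nat_lit 0xb478201008040e0d) (nat_lit 1794))
 (.leaf (nat_lit 0xb47b142408040d0e) (nat_lit 3074))
))) (.node (nat_lit 0xb4ba14103c30cccf) (.node (nat_lit 0xb4aa14103c30dceb) (.leaf (nat_lit 0xb49920243c30dbec) (nat_lit 2817))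
 (.node (nat_lit 0xb4b920243c30cfcc) (.leaf (nat_lit 0xb4aa14103c30dceb) (nat_lit 2305))
 (.leaf (nat_lit 0xb4b920243c30cfcc) (nat_lit 3078))
)) (.node (nat_lit 0xb4db14243c0499ae) (.leaf (nat_lit 0xb4ba14103c30cccf) (nat_lit 2567))
 (.node (nat_lit 0xb4eb14243c049daa) (.leaf (nat_lit 0xb4db14243c0499ae) (nat_lit 2817))
 (.leaf (nat_lit 0xb4eb14243c049daa) (nat_lit 2819))
))))) (.node (nat_lit 0xb7b9d9de3f33cccf) (.node (nat_lit 0xb75a0d0a0804182c) (.node (nat_lit 0xb728487808335d69) (.node (nat_lit 0xb70a5d5a0833484b) (.leaf (nat_lit 0xb709696e08334b48) (nat_lit 2822))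
 (.node (nat_lit 0xb718784808335a6e) (.leaf (nat_lit 0xb70a5d5a0833484b) (nat_lit 3078))
 (.leaf (nat_lit 0xb718784808335a6e) (nat_lit 2309))
)) (.node (nat_lit 0xb748281808040a09) (.leaf (nat_lit 0xb728487808335d69) (nat_lit 2565))
 (.node (nat_lit 0xb74b1c2c0804090a) (.leaf (nat_lit 0xb748281808040a09) (nat_lit 2818))
 (.leaf (nat_lit 0xb74b1c2c0804090a) (nat_lit 2818))
))) (.node (nat_lit 0xb77b2c1c08040e0d) (.node (nat_lit 0xb769090e08041c28) (.leaf (nat_lit 0xb75a0d0a0804182c) (nat_lit 2822))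
 (.node (nat_lit 0xb778182808040d0e) (.leaf (nat_lit 0xb769090e08041c28) (nat_lit 2567))
 (.leaf (nat_lit 0xb778182808040d0e) (nat_lit 2562))
)) (.node (nat_lit 0xb79bccfc3f33d9ed) (.leaf (nat_lit 0xb77b2c1c08040e0d) (nat_lit 3074))
 (.node (nat_lit 0xb7abfccc3f33deea) (.leaf (nat_lit 0xb79bccfc3f33d9ed) (nat_lit 2821))
 (.leaf (nat_lit 0xb7abfccc3f33deea) (nat_lit 2565))
)))) (.node (nat_lit 0xc0402010082c4201) (.node (nat_lit 0xb7eabdba3f049fab) (.node (nat_lit 0xb7baedea3f33cfcc) (.leaf (nat_lit 0xb7b9d9de3f33cccf) (nat_lit 3079))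
 (.node (nat_lit 0xb7d9b9be3f049baf) (.leaf (nat_lit 0xb7baedea3f33cfcc) (nat_lit 2566))
 (.leaf (nat_lit 0xb7d9b9be3f049baf) (nat_lit 2823))
)) (.node (nat_lit 0xc0402010080c0201) (.leaf (nat_lit 0xb7eabdba3f049fab) (nat_lit 2822))
 (.node (nat_lit 0xc0402010081c0241) (.leaf (nat_lit 0xc0402010080c0201) (nat_lit 2054))
 (.leaf (nat_lit 0xc0402010081c0241) (nat_lit 1798))
))) (.node (nat_lit 0xc0402050082d4201) (.node (nat_lit 0xc0402010083c4241) (.leaf (nat_lit 0xc0402010082c4201) (nat_lit 1792))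
 (.node (nat_lit 0xc0402050080d0201) (.leaf (nat_lit 0xc0402010083c4241) (nat_lit 1542))
 (.leaf (nat_lit 0xc0402050080d0201) (nat_lit 2822))
)) (.node (nat_lit 0xc040205048bd4241) (.node (nat_lit 0xc0402050489d0241) (.leaf (nat_lit 0xc0402050082d4201) (nat_lit 2560))
 (.leaf (nat_lit 0xc0402050489d0241) (nat_lit 2304))
) (.node (nat_lit 0xc0406010080e0201) (.leaf (nat_lit 0xc040205048bd4241) (nat_lit 2310))
 (.leaf (nat_lit 0xc0406010080e0201) (nat_lit 2310))
)))))) (.node (nat_lit 0xc2021c1008384043) (.node (nat_lit 0xc101616e083b4340) (.node (nat_lit 0xc040605048af4201) (.node (nat_lit 0xc0406050080f0201) (.node (nat_lit 0xc040601048ae4201) (.leaf (nat_lit 0xc0406010081e0241) (nat_lit 2054))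
 (.node (nat_lit 0xc040601048be4241) (.leaf (nat_lit 0xc040601048ae4201) (nat_lit 2048))
 (.leaf (nat_lit 0xc040601048be4241) (nat_lit 1798))
)) (.node (nat_lit 0xc0406050083f4241) (.leaf (nat_lit 0xc0406050080f0201) (nat_lit 2566))
 (.node (nat_lit 0xc0406050489f0241) (.leaf (nat_lit 0xc0406050083f4241) (nat_lit 2310))
 (.leaf (nat_lit 0xc0406050489f0241) (nat_lit 2054))
))) (.node (nat_lit 0xc10120cc49990240) (.node (nat_lit 0xc101200c08180240) (.leaf (nat_lit 0xc040605048af4201) (nat_lit 2307))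
 (.node (nat_lit 0xc101202c08384340) (.leaf (nat_lit 0xc101200c08180240) (nat_lit 2560))
 (.leaf (nat_lit 0xc101202c08384340) (nat_lit 2562))
)) (.node (nat_lit 0xc10120ec49b94340) (.leaf (nat_lit 0xc10120cc49990240) (nat_lit 2310))
 (.node (nat_lit 0xc101610e081a0240) (.leaf (nat_lit 0xc10120ec49b94340) (nat_lit 2309))
 (.leaf (nat_lit 0xc101610e081a0240) (nat_lit 2823))
)))) (.node (nat_lit 0xc1402078082d4301) (.node (nat_lit 0xc1402018080c0201) (.node (nat_lit 0xc10161ae49ba4340) (.leaf (nat_lit 0xc101616e083b4340) (nat_lit 2823))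
 (.node (nat_lit 0xc10161ce499b0240) (.leaf (nat_lit 0xc10161ae49ba4340) (nat_lit 2567))
 (.leaf (nat_lit 0xc10161ce499b0240) (nat_lit 2567))
)) (.node (nat_lit 0xc1402038082c4301) (.leaf (nat_lit 0xc1402018080c0201) (nat_lit 3334))
 (.node (nat_lit 0xc1402058080d0201) (.leaf (nat_lit 0xc1402038082c4301) (nat_lit 2818))
 (.leaf (nat_lit 0xc1402058080d0201) (nat_lit 3078))
))) (.node (nat_lit 0xc14061ba49ae4301) (.node (nat_lit 0xc140611a080e0201) (.leaf (nat_lit 0xc1402078082d4301) (nat_lit 2560))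
 (.node (nat_lit 0xc140615a080f0201) (.leaf (nat_lit 0xc140611a080e0201) (nat_lit 4102))
 (.leaf (nat_lit 0xc140615a080f0201) (nat_lit 3846))
)) (.node (nat_lit 0xc2020c1008284001) (.node (nat_lit 0xc14061fa49af4301) (.leaf (nat_lit 0xc14061ba49ae4301) (nat_lit 3333))
 (.leaf (nat_lit 0xc14061fa49af4301) (nat_lit 3328))
) (.node (nat_lit 0xc2020d5208294001) (.leaf (nat_lit 0xc2020c1008284001) (nat_lit 2304))
 (.leaf (nat_lit 0xc2020d5208294001) (nat_lit 3072))
))))) (.node (nat_lit 0xc240b9524a9d0243) (.node (nat_lit 0xc2402810080c0201) (.node (nat_lit 0xc202cc104aaa4001) (.node (nat_lit 0xc2025d52083b4043) (.leaf (nat_lit 0xc2021c1008384043) (nat_lit 2054))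
 (.node (nat_lit 0xc2029d524ab94043) (.leaf (nat_lit 0xc2025d52083b4043) (nat_lit 2819))
 (.leaf (nat_lit 0xc2029d524ab94043) (nat_lit 2819))
)) (.node (nat_lit 0xc202cd524aab4001) (.leaf (nat_lit 0xc202cc104aaa4001) (nat_lit 2309))
 (.node (nat_lit 0xc202dc104aba4043) (.leaf (nat_lit 0xc202cd524aab4001) (nat_lit 3075))
 (.leaf (nat_lit 0xc202dc104aba4043) (nat_lit 2053))
))) (.node (nat_lit 0xc2406810080e0201) (.node (nat_lit 0xc2402952080d0201) (.leaf (nat_lit 0xc2402810080c0201) (nat_lit 2822))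
 (.node (nat_lit 0xc2403810081c0243) (.leaf (nat_lit 0xc2402952080d0201) (nat_lit 3590))
 (.leaf (nat_lit 0xc2403810081c0243) (nat_lit 2306))
)) (.node (nat_lit 0xc2406952080f0201) (.leaf (nat_lit 0xc2406810080e0201) (nat_lit 2566))
 (.node (nat_lit 0xc2407810081e0243) (.leaf (nat_lit 0xc2406952080f0201) (nat_lit 3590))
 (.leaf (nat_lit 0xc2407810081e0243) (nat_lit 2054))
)))) (.node (nat_lit 0xc303bdce4b990242) (.node (nat_lit 0xc3030d7e08294101) (.node (nat_lit 0xc240f9524a9f0243) (.leaf (nat_lit 0xc240b9524a9d0243) (nat_lit 3334))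
 (.node (nat_lit 0xc3030c3c08284101) (.leaf (nat_lit 0xc240f9524a9f0243) (nat_lit 3334))
 (.leaf (nat_lit 0xc3030c3c08284101) (nat_lit 2563))
)) (.node (nat_lit 0xc3033c0c08180242) (.leaf (nat_lit 0xc3030d7e08294101) (nat_lit 2823))
 (.node (nat_lit 0xc3037d0e081a0242) (.leaf (nat_lit 0xc3033c0c08180242) (nat_lit 2310))
 (.leaf (nat_lit 0xc3037d0e081a0242) (nat_lit 2567))
))) (.node (nat_lit 0xc303fccc4b9b0242) (.node (nat_lit 0xc303ccfc4bab4101) (.leaf (nat_lit 0xc303bdce4b990242) (nat_lit 2567))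
 (.node (nat_lit 0xc303cdbe4baa4101) (.leaf (nat_lit 0xc303ccfc4bab4101) (nat_lit 2565))
 (.leaf (nat_lit 0xc303cdbe4baa4101) (nat_lit 2823))
)) (.node (nat_lit 0xc3402818080c0201) (.node (nat_lit 0xc3401828083c4142) (.leaf (nat_lit 0xc303fccc4b9b0242) (nat_lit 2309))
 (.leaf (nat_lit 0xc3401828083c4142) (nat_lit 2562))
) (.node (nat_lit 0xc340295a080d0201) (.leaf (nat_lit 0xc3402818080c0201) (nat_lit 3078))
 (.leaf (nat_lit 0xc340295a080d0201) (nat_lit 3590))
)))))))) (.node (nat_lit 0xe140414a083f5860) (.node (nat_lit 0xd5d920dc5d9d02cd) (.node (nat_lit 0xd2127d42080b020e) (.node (nat_lit 0xd010704058ab52ae) (.node (nat_lit 0xd01020400829522c) (.node (nat_lit 0xc34099ea4bbd4142) (.node (nat_lit 0xc3406858080f0201) (.leaf (nat_lit 0xc3405868083f4142) (nat_lit 2310))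
 (.node (nat_lit 0xc340691a080e0201) (.leaf (nat_lit 0xc3406858080f0201) (nat_lit 2822))
 (.leaf (nat_lit 0xc340691a080e0201) (nat_lit 3846))
)) (.node (nat_lit 0xc340d9aa4bbe4142) (.leaf (nat_lit 0xc34099ea4bbd4142) (nat_lit 3078))
 (.node (nat_lit 0xd01020400809020c) (.leaf (nat_lit 0xc340d9aa4bbe4142) (nat_lit 3077))
 (.leaf (nat_lit 0xd01020400809020c) (nat_lit 2050))
))) (.node (nat_lit 0xd0107040080b020e) (.node (nat_lit 0xd0102040589902cc) (.leaf (nat_lit 0xd01020400829522c) (nat_lit 2048))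
 (.node (nat_lit 0xd010204058b952ec) (.leaf (nat_lit 0xd0102040589902cc) (nat_lit 1798))
 (.leaf (nat_lit 0xd010204058b952ec) (nat_lit 1792))
)) (.node (nat_lit 0xd0107040083b526e) (.leaf (nat_lit 0xd0107040080b020e) (nat_lit 2051))
 (.node (nat_lit 0xd0107040589b02ce) (.leaf (nat_lit 0xd0107040083b526e) (nat_lit 1795))
 (.leaf (nat_lit 0xd0107040589b02ce) (nat_lit 1795))
)))) (.node (nat_lit 0xd0407010081e024b) (.node (nat_lit 0xd0402010082c5229) (.node (nat_lit 0xd0402010080c0209) (.leaf (nat_lit 0xd010704058ab52ae) (nat_lit 1539))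
 (.node (nat_lit 0xd0402010081c0249) (.leaf (nat_lit 0xd0402010080c0209) (nat_lit 1794))
 (.leaf (nat_lit 0xd0402010081c0249) (nat_lit 1542))
)) (.node (nat_lit 0xd0402010083c5269) (.leaf (nat_lit 0xd0402010082c5229) (nat_lit 1283))
 (.node (nat_lit 0xd0407010080e020b) (.leaf (nat_lit 0xd0402010083c5269) (nat_lit 1541))
 (.leaf (nat_lit 0xd0407010080e020b) (nat_lit 2050))
))) (.node (nat_lit 0xd2120c100828502d) (.node (nat_lit 0xd040701058ae52ab) (.leaf (nat_lit 0xd0407010081e024b) (nat_lit 1798))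
 (.node (nat_lit 0xd040701058be52eb) (.leaf (nat_lit 0xd040701058ae52ab) (nat_lit 1542))
 (.leaf (nat_lit 0xd040701058be52eb) (nat_lit 1798))
)) (.node (nat_lit 0xd2121c100838506f) (.leaf (nat_lit 0xd2120c100828502d) (nat_lit 2306))
 (.node (nat_lit 0xd2122d420809020c) (.leaf (nat_lit 0xd2121c100838506f) (nat_lit 2050))
 (.leaf (nat_lit 0xd2122d420809020c) (nat_lit 3330))
))))) (.node (nat_lit 0xd240d9425aaf50aa) (.node (nat_lit 0xd2402810080c0209) (.node (nat_lit 0xd212dc105aaa50af) (.node (nat_lit 0xd212bd425a9902ce) (.leaf (nat_lit 0xd2127d42080b020e) (nat_lit 3333))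
 (.node (nat_lit 0xd212cc105aba50ed) (.leaf (nat_lit 0xd212bd425a9902ce) (nat_lit 3077))
 (.leaf (nat_lit 0xd212cc105aba50ed) (nat_lit 2053))
)) (.node (nat_lit 0xd212ed425a9b02cc) (.leaf (nat_lit 0xd212dc105aaa50af) (nat_lit 1797))
 (.node (nat_lit 0xd2400942082d5028) (.leaf (nat_lit 0xd212ed425a9b02cc) (nat_lit 3077))
 (.leaf (nat_lit 0xd2400942082d5028) (nat_lit 3076))
))) (.node (nat_lit 0xd2406810081e0249) (.node (nat_lit 0xd2403810081c024b) (.leaf (nat_lit 0xd2402810080c0209) (nat_lit 2562))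
 (.node (nat_lit 0xd2404942083f5068) (.leaf (nat_lit 0xd2403810081c024b) (nat_lit 2310))
 (.leaf (nat_lit 0xd2404942083f5068) (nat_lit 3333))
)) (.node (nat_lit 0xd2407810080e020b) (.leaf (nat_lit 0xd2406810081e0249) (nat_lit 2310))
 (.node (nat_lit 0xd24099425abd50ea) (.leaf (nat_lit 0xd2407810080e020b) (nat_lit 2309))
 (.leaf (nat_lit 0xd24099425abd50ea) (nat_lit 3331))
)))) (.node (nat_lit 0xd53820680829572c) (.node (nat_lit 0xd51820480809020c) (.node (nat_lit 0xd509200c08180248) (.leaf (nat_lit 0xd240d9425aaf50aa) (nat_lit 3332))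
 (.node (nat_lit 0xd50b750e081a024a) (.leaf (nat_lit 0xd509200c08180248) (nat_lit 2564))
 (.leaf (nat_lit 0xd50b750e081a024a) (nat_lit 2567))
)) (.node (nat_lit 0xd51a754a080b020e) (.leaf (nat_lit 0xd51820480809020c) (nat_lit 2309))
 (.node (nat_lit 0xd529202c08385768) (.leaf (nat_lit 0xd51a754a080b020e) (nat_lit 3074))
 (.leaf (nat_lit 0xd529202c08385768) (nat_lit 2564))
))) (.node (nat_lit 0xd5682038082c5729) (.node (nat_lit 0xd5482018080c0209) (.leaf (nat_lit 0xd53820680829572c) (nat_lit 2053))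
 (.node (nat_lit 0xd54a751a080e020b) (.leaf (nat_lit 0xd5482018080c0209) (nat_lit 2818))
 (.leaf (nat_lit 0xd54a751a080e020b) (nat_lit 3330))
)) (.node (nat_lit 0xd5ab75ae5dba57ea) (.node (nat_lit 0xd57b757e083f576f) (.leaf (nat_lit 0xd5682038082c5729) (nat_lit 2567))
 (.leaf (nat_lit 0xd57b757e083f576f) (nat_lit 2567))
) (.node (nat_lit 0xd5ba75ea5dab57ae) (.leaf (nat_lit 0xd5ab75ae5dba57ea) (nat_lit 2567))
 (.leaf (nat_lit 0xd5ba75ea5dab57ae) (nat_lit 3078))
)))))) (.node (nat_lit 0xe0204070080b0d01) (.node (nat_lit 0xd769096e082d5528) (.node (nat_lit 0xd7187848080b020e) (.node (nat_lit 0xd5f920fc5dbd57ed) (.node (nat_lit 0xd5db75de5d9f02cf) (.leaf (nat_lit 0xd5d920dc5d9d02cd) (nat_lit 2816))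
 (.node (nat_lit 0xd5ea75ba5dae57ab) (.leaf (nat_lit 0xd5db75de5d9f02cf) (nat_lit 2823))
 (.leaf (nat_lit 0xd5ea75ba5dae57ab) (nat_lit 3077))
)) (.node (nat_lit 0xd709690e081a0248) (.leaf (nat_lit 0xd5f920fc5dbd57ed) (nat_lit 2564))
 (.node (nat_lit 0xd70b3c0c0818024a) (.leaf (nat_lit 0xd709690e081a0248) (nat_lit 2823))
 (.leaf (nat_lit 0xd70b3c0c0818024a) (nat_lit 2308))
))) (.node (nat_lit 0xd73b0c3c0828552d) (.node (nat_lit 0xd71a2d4a0809020c) (.leaf (nat_lit 0xd7187848080b020e) (nat_lit 2309))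
 (.node (nat_lit 0xd7284878083b5569) (.leaf (nat_lit 0xd71a2d4a0809020c) (nat_lit 3076))
 (.leaf (nat_lit 0xd7284878083b5569) (nat_lit 2309))
)) (.node (nat_lit 0xd7482818080c0209) (.leaf (nat_lit 0xd73b0c3c0828552d) (nat_lit 2308))
 (.node (nat_lit 0xd74a7d1a080e020b) (.leaf (nat_lit 0xd7482818080c0209) (nat_lit 2562))
 (.leaf (nat_lit 0xd74a7d1a080e020b) (nat_lit 3330))
)))) (.node (nat_lit 0xd7ebdcec5faf55aa) (.node (nat_lit 0xd7b9d9be5faa55af) (.node (nat_lit 0xd7781828083c556e) (.leaf (nat_lit 0xd769096e082d5528) (nat_lit 2823))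
 (.node (nat_lit 0xd7aa9dfa5fb955eb) (.leaf (nat_lit 0xd7781828083c556e) (nat_lit 2306))
 (.leaf (nat_lit 0xd7aa9dfa5fb955eb) (nat_lit 3335))
)) (.node (nat_lit 0xd7d9b9de5f9d02cf) (.leaf (nat_lit 0xd7b9d9be5faa55af) (nat_lit 2823))
 (.node (nat_lit 0xd7dbecdc5f9f02cd) (.leaf (nat_lit 0xd7d9b9de5f9d02cf) (nat_lit 3079))
 (.leaf (nat_lit 0xd7dbecdc5f9f02cd) (nat_lit 2566))
))) (.node (nat_lit 0xe0204010081a1c61) (.node (nat_lit 0xd7facdaa5fbe55ec) (.leaf (nat_lit 0xd7ebdcec5faf55aa) (nat_lit 2310))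
 (.node (nat_lit 0xe0204010080a0c01) (.leaf (nat_lit 0xd7facdaa5fbe55ec) (nat_lit 2821))
 (.leaf (nat_lit 0xe0204010080a0c01) (nat_lit 2055))
)) (.node (nat_lit 0xe020401068aacc01) (.leaf (nat_lit 0xe0204010081a1c61) (nat_lit 1799))
 (.node (nat_lit 0xe020401068badc61) (.leaf (nat_lit 0xe020401068aacc01) (nat_lit 1799))
 (.leaf (nat_lit 0xe020401068badc61) (nat_lit 1543))
))))) (.node (nat_lit 0xe121200c08181e60) (.node (nat_lit 0xe0402010082c4a01) (.node (nat_lit 0xe020407068abcd01) (.node (nat_lit 0xe0204070083b5d61) (.leaf (nat_lit 0xe0204070080b0d01) (nat_lit 2307))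
 (.node (nat_lit 0xe0204070689b9d61) (.leaf (nat_lit 0xe0204070083b5d61) (nat_lit 2051))
 (.leaf (nat_lit 0xe0204070689b9d61) (nat_lit 1795))
)) (.node (nat_lit 0xe0402010080c0a01) (.leaf (nat_lit 0xe020407068abcd01) (nat_lit 2051))
 (.node (nat_lit 0xe0402010081c1a61) (.leaf (nat_lit 0xe0402010080c0a01) (nat_lit 1799))
 (.leaf (nat_lit 0xe0402010081c1a61) (nat_lit 1543))
))) (.node (nat_lit 0xe0402070082d4b01) (.node (nat_lit 0xe0402010083c5a61) (.leaf (nat_lit 0xe0402010082c4a01) (nat_lit 1543))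
 (.node (nat_lit 0xe0402070080d0b01) (.leaf (nat_lit 0xe0402010083c5a61) (nat_lit 1287))
 (.leaf (nat_lit 0xe0402070080d0b01) (nat_lit 2562))
)) (.node (nat_lit 0xe0402070689d9b61) (.leaf (nat_lit 0xe0402070082d4b01) (nat_lit 2304))
 (.node (nat_lit 0xe040207068bddb61) (.leaf (nat_lit 0xe0402070689d9b61) (nat_lit 2055))
 (.leaf (nat_lit 0xe040207068bddb61) (nat_lit 2048))
)))) (.node (nat_lit 0xe12141be69aacd01) (.node (nat_lit 0xe12120ec69999f60) (.node (nat_lit 0xe121202c08385f60) (.leaf (nat_lit 0xe121200c08181e60) (nat_lit 2562))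
 (.node (nat_lit 0xe12120cc69b9de60) (.leaf (nat_lit 0xe121202c08385f60) (nat_lit 2306))
 (.leaf (nat_lit 0xe12120cc69b9de60) (nat_lit 2309))
)) (.node (nat_lit 0xe121411e080a0c01) (.leaf (nat_lit 0xe12120ec69999f60) (nat_lit 2053))
 (.node (nat_lit 0xe121417e080b0d01) (.leaf (nat_lit 0xe121411e080a0c01) (nat_lit 3847))
 (.leaf (nat_lit 0xe121417e080b0d01) (nat_lit 3591))
))) (.node (nat_lit 0xe1402038082c4b01) (.node (nat_lit 0xe12141de69abcc01) (.leaf (nat_lit 0xe12141be69aacd01) (nat_lit 3335))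
 (.node (nat_lit 0xe1402018080c0a01) (.leaf (nat_lit 0xe12141de69abcc01) (nat_lit 3591))
 (.leaf (nat_lit 0xe1402018080c0a01) (nat_lit 3074))
)) (.node (nat_lit 0xe1402078080d0b01) (.node (nat_lit 0xe1402058082d4a01) (.leaf (nat_lit 0xe1402038082c4b01) (nat_lit 2816))
 (.leaf (nat_lit 0xe1402058082d4a01) (nat_lit 2816))
) (.node (nat_lit 0xe140410a081e1860) (.leaf (nat_lit 0xe1402078080d0b01) (nat_lit 2821))
 (.leaf (nat_lit 0xe140410a081e1860) (nat_lit 3078))
))))))) (.node (nat_lit 0xf0405060789f99ea) (.node (nat_lit 0xe73b3c0c08181e66) (.node (nat_lit 0xe67b7d76083f5f67) (.node (nat_lit 0xe6284810080a0c01) (.node (nat_lit 0xe60a0c1008284801) (.node (nat_lit 0xe14041aa69bed960) (.leaf (nat_lit 0xe140414a083f5860) (nat_lit 3076))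
 (.node (nat_lit 0xe14041ea699f9960) (.leaf (nat_lit 0xe14041aa69bed960) (nat_lit 2820))
 (.leaf (nat_lit 0xe14041ea699f9960) (nat_lit 2822))
)) (.node (nat_lit 0xe60b0d7608294901) (.leaf (nat_lit 0xe60a0c1008284801) (nat_lit 2308))
 (.node (nat_lit 0xe61a1c1008385867) (.leaf (nat_lit 0xe60b0d7608294901) (nat_lit 3079))
 (.leaf (nat_lit 0xe61a1c1008385867) (nat_lit 1796))
))) (.node (nat_lit 0xe6482810080c0a01) (.node (nat_lit 0xe6294976080b0d01) (.leaf (nat_lit 0xe6284810080a0c01) (nat_lit 2309))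
 (.node (nat_lit 0xe6385810081a1c67) (.leaf (nat_lit 0xe6294976080b0d01) (nat_lit 3332))
 (.leaf (nat_lit 0xe6385810081a1c67) (nat_lit 1797))
)) (.node (nat_lit 0xe6492976080d0b01) (.leaf (nat_lit 0xe6482810080c0a01) (nat_lit 2562))
 (.node (nat_lit 0xe6583810081c1a67) (.leaf (nat_lit 0xe6492976080d0b01) (nat_lit 3332))
 (.leaf (nat_lit 0xe6583810081c1a67) (nat_lit 2055))
)))) (.node (nat_lit 0xe6fafc106ebede67) (.node (nat_lit 0xe6d9b9766e9d9b67) (.node (nat_lit 0xe69b9d766eb9d967) (.leaf (nat_lit 0xe67b7d76083f5f67) (nat_lit 2567))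
 (.node (nat_lit 0xe6b9d9766e9b9d67) (.leaf (nat_lit 0xe69b9d766eb9d967) (nat_lit 2823))
 (.leaf (nat_lit 0xe6b9d9766e9b9d67) (nat_lit 3077))
)) (.node (nat_lit 0xe6eaec106eaece01) (.leaf (nat_lit 0xe6d9b9766e9d9b67) (nat_lit 3076))
 (.node (nat_lit 0xe6ebed766eafcf01) (.leaf (nat_lit 0xe6eaec106eaece01) (nat_lit 2560))
 (.leaf (nat_lit 0xe6ebed766eafcf01) (nat_lit 3335))
))) (.node (nat_lit 0xe7187848083b5a66) (.node (nat_lit 0xe70a0d5a08294801) (.leaf (nat_lit 0xe6fafc106ebede67) (nat_lit 2052))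
 (.node (nat_lit 0xe70b0c3c08284901) (.leaf (nat_lit 0xe70a0d5a08294801) (nat_lit 3072))
 (.leaf (nat_lit 0xe70b0c3c08284901) (nat_lit 2564))
)) (.node (nat_lit 0xe7284878080b0d01) (.leaf (nat_lit 0xe7187848083b5a66) (nat_lit 2053))
 (.node (nat_lit 0xe729491e080a0c01) (.leaf (nat_lit 0xe7284878080b0d01) (nat_lit 2565))
 (.leaf (nat_lit 0xe729491e080a0c01) (nat_lit 3591))
))))) (.node (nat_lit 0xf030206008295f2c) (.node (nat_lit 0xe7babdea6f999f66) (.node (nat_lit 0xe75a5d0a081e1866) (.node (nat_lit 0xe7482818080c0a01) (.leaf (nat_lit 0xe73b3c0c08181e66) (nat_lit 2052))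
 (.node (nat_lit 0xe749297e080d0b01) (.leaf (nat_lit 0xe7482818080c0a01) (nat_lit 2819))
 (.leaf (nat_lit 0xe749297e080d0b01) (nat_lit 3335))
)) (.node (nat_lit 0xe7781828083c5d66) (.leaf (nat_lit 0xe75a5d0a081e1866) (nat_lit 2822))
 (.node (nat_lit 0xe799f9ae6fbadb66) (.leaf (nat_lit 0xe7781828083c5d66) (nat_lit 2307))
 (.leaf (nat_lit 0xe799f9ae6fbadb66) (nat_lit 2823))
))) (.node (nat_lit 0xe7ebecdc6fafce01) (.node (nat_lit 0xe7dbdcec6f9f9966) (.leaf (nat_lit 0xe7babdea6f999f66) (nat_lit 2822))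
 (.node (nat_lit 0xe7eaedba6faecf01) (.leaf (nat_lit 0xe7dbdcec6f9f9966) (nat_lit 2308))
 (.leaf (nat_lit 0xe7eaedba6faecf01) (nat_lit 3078))
)) (.node (nat_lit 0xe7f999ce6fbddc66) (.leaf (nat_lit 0xe7ebecdc6fafce01) (nat_lit 2819))
 (.node (nat_lit 0xf030206008090f0c) (.leaf (nat_lit 0xe7f999ce6fbddc66) (nat_lit 2823))
 (.leaf (nat_lit 0xf030206008090f0c) (nat_lit 2055))
)))) (.node (nat_lit 0xf030501078bacccf) (.node (nat_lit 0xf0305010080a0c0f) (.node (nat_lit 0xf030206078999fec) (.leaf (nat_lit 0xf030206008295f2c) (nat_lit 1799))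
 (.node (nat_lit 0xf030206078b9cfcc) (.leaf (nat_lit 0xf030206078999fec) (nat_lit 1543))
 (.leaf (nat_lit 0xf030206078b9cfcc) (nat_lit 1799))
)) (.node (nat_lit 0xf0305010081a1c6f) (.leaf (nat_lit 0xf0305010080a0c0f) (nat_lit 1799))
 (.node (nat_lit 0xf030501078aadcaf) (.leaf (nat_lit 0xf0305010081a1c6f) (nat_lit 1543))
 (.leaf (nat_lit 0xf030501078aadcaf) (nat_lit 1287))
))) (.node (nat_lit 0xf0402010082c5a29) (.node (nat_lit 0xf0402010080c0a09) (.leaf (nat_lit 0xf030501078bacccf) (nat_lit 1543))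
 (.node (nat_lit 0xf0402010081c1a69) (.leaf (nat_lit 0xf0402010080c0a09) (nat_lit 1543))
 (.leaf (nat_lit 0xf0402010081c1a69) (nat_lit 1287))
)) (.node (nat_lit 0xf0405060080f090a) (.node (nat_lit 0xf0402010083c4a49) (.leaf (nat_lit 0xf0402010082c5a29) (nat_lit 1031))
 (.leaf (nat_lit 0xf0402010083c4a49) (nat_lit 1287))
) (.node (nat_lit 0xf0405060083f494a) (.leaf (nat_lit 0xf0405060080f090a) (nat_lit 2306))
 (.leaf (nat_lit 0xf0405060083f494a) (nat_lit 2054))
)))))) (.node (nat_lit 0xf54b556e080f090a) (.node (nat_lit 0xf3402818080c0a09) (.node (nat_lit 0xf3339dde7bb9cccf) (.node (nat_lit 0xf3332d6e08090f0c) (.node (nat_lit 0xf040506078afd9aa) (.leaf (nat_lit 0xf0405060789f99ea) (nat_lit 1799))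
 (.node (nat_lit 0xf3330c3c08285d2d) (.leaf (nat_lit 0xf040506078afd9aa) (nat_lit 1798))
 (.leaf (nat_lit 0xf3330c3c08285d2d) (nat_lit 2562))
)) (.node (nat_lit 0xf3333c0c08181e6e) (.leaf (nat_lit 0xf3332d6e08090f0c) (nat_lit 3335))
 (.node (nat_lit 0xf3335d1e080a0c0f) (.leaf (nat_lit 0xf3333c0c08181e6e) (nat_lit 2306))
 (.leaf (nat_lit 0xf3335d1e080a0c0f) (nat_lit 3591))
))) (.node (nat_lit 0xf333fccc7babdeae) (.node (nat_lit 0xf333ccfc7b9b9ded) (.leaf (nat_lit 0xf3339dde7bb9cccf) (nat_lit 3335))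
 (.node (nat_lit 0xf333edae7bbacfcc) (.leaf (nat_lit 0xf333ccfc7b9b9ded) (nat_lit 2309))
 (.leaf (nat_lit 0xf333edae7bbacfcc) (nat_lit 3079))
)) (.node (nat_lit 0xf340094a082d5828) (.leaf (nat_lit 0xf333fccc7babdeae) (nat_lit 2053))
 (.node (nat_lit 0xf3401828083c494a) (.leaf (nat_lit 0xf340094a082d5828) (nat_lit 2820))
 (.leaf (nat_lit 0xf3401828083c494a) (nat_lit 2566))
)))) (.node (nat_lit 0xf509202c08384b48) (.node (nat_lit 0xf3406858083f4a49) (.node (nat_lit 0xf340490a081e1868) (.leaf (nat_lit 0xf3402818080c0a09) (nat_lit 2818))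
 (.node (nat_lit 0xf3405868080f090a) (.leaf (nat_lit 0xf340490a081e1868) (nat_lit 3076))
 (.leaf (nat_lit 0xf3405868080f090a) (nat_lit 2565))
)) (.node (nat_lit 0xf340b9fa7b9d9beb) (.leaf (nat_lit 0xf3406858083f4a49) (nat_lit 2566))
 (.node (nat_lit 0xf340f9ba7baedbab) (.leaf (nat_lit 0xf340b9fa7b9d9beb) (nat_lit 3079))
 (.leaf (nat_lit 0xf340f9ba7baedbab) (nat_lit 3076))
))) (.node (nat_lit 0xf529200c08181e68) (.node (nat_lit 0xf50a555a083b484b) (.leaf (nat_lit 0xf509202c08384b48) (nat_lit 2822))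
 (.node (nat_lit 0xf518204808295a2c) (.leaf (nat_lit 0xf50a555a083b484b) (nat_lit 2822))
 (.leaf (nat_lit 0xf518204808295a2c) (nat_lit 2309))
)) (.node (nat_lit 0xf53b551e080a0c0f) (.node (nat_lit 0xf538206808090f0c) (.leaf (nat_lit 0xf529200c08181e68) (nat_lit 2308))
 (.leaf (nat_lit 0xf538206808090f0c) (nat_lit 2309))
) (.node (nat_lit 0xf5482018080c0a09) (.leaf (nat_lit 0xf53b551e080a0c0f) (nat_lit 3335))
 (.leaf (nat_lit 0xf5482018080c0a09) (nat_lit 2818))
))))) (.node (nat_lit 0xf6284810081a1c69) (.node (nat_lit 0xf5eb55ce7dafdcaa) (.node (nat_lit 0xf59b55be7daad9af) (.node (nat_lit 0xf55a550a081e186e) (.leaf (nat_lit 0xf54b556e080f090a) (nat_lit 3079))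
 (.node (nat_lit 0xf5682038082c5f29) (.leaf (nat_lit 0xf55a550a081e186e) (nat_lit 2819))
 (.leaf (nat_lit 0xf5682038082c5f29) (nat_lit 2560))
)) (.node (nat_lit 0xf5aa55fa7d9b9deb) (.leaf (nat_lit 0xf59b55be7daad9af) (nat_lit 3079))
 (.node (nat_lit 0xf5d920fc7d9d9bed) (.leaf (nat_lit 0xf5aa55fa7d9b9deb) (nat_lit 2819))
 (.leaf (nat_lit 0xf5d920fc7d9d9bed) (nat_lit 2564))
))) (.node (nat_lit 0xf6096966083b4b48) (.node (nat_lit 0xf5f920dc7dbdcecd) (.leaf (nat_lit 0xf5eb55ce7dafdcaa) (nat_lit 2823))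
 (.node (nat_lit 0xf5fa55aa7dbecdce) (.leaf (nat_lit 0xf5f920dc7dbdcecd) (nat_lit 2822))
 (.leaf (nat_lit 0xf5fa55aa7dbecdce) (nat_lit 2822))
)) (.node (nat_lit 0xf60a1c100838484b) (.leaf (nat_lit 0xf6096966083b4b48) (nat_lit 3073))
 (.node (nat_lit 0xf61a0c100828582d) (.leaf (nat_lit 0xf60a1c100838484b) (nat_lit 2052))
 (.leaf (nat_lit 0xf61a0c100828582d) (nat_lit 2052))
)))) (.node (nat_lit 0xf6690966082d5d28) (.node (nat_lit 0xf6482810080c0a09) (.node (nat_lit 0xf6385810080a0c0f) (.leaf (nat_lit 0xf6284810081a1c69) (nat_lit 2053))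
 (.node (nat_lit 0xf63b2d6608090f0c) (.leaf (nat_lit 0xf6385810080a0c0f) (nat_lit 2053))
 (.leaf (nat_lit 0xf63b2d6608090f0c) (nat_lit 3335))
)) (.node (nat_lit 0xf64b5d66080f090a) (.leaf (nat_lit 0xf6482810080c0a09) (nat_lit 2306))
 (.node (nat_lit 0xf6583810081c1a6f) (.leaf (nat_lit 0xf64b5d66080f090a) (nat_lit 3335))
 (.leaf (nat_lit 0xf6583810081c1a6f) (nat_lit 2050))
))) (.node (nat_lit 0xf6dbcd667e9f99ec) (.node (nat_lit 0xf699f9667eabdbae) (.leaf (nat_lit 0xf6690966082d5d28) (nat_lit 2823))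
 (.node (nat_lit 0xf6abbd667e999fea) (.leaf (nat_lit 0xf699f9667eabdbae) (nat_lit 3075))
 (.leaf (nat_lit 0xf6abbd667e999fea) (nat_lit 3079))
)) (.node (nat_lit 0xf6f999667ebdcdce) (.node (nat_lit 0xf6eafc107eaedeab) (.leaf (nat_lit 0xf6dbcd667e9f99ec) (nat_lit 2820))
 (.leaf (nat_lit 0xf6eafc107eaedeab) (nat_lit 2054))
) (.node (nat_lit 0xf6faec107ebececd) (.leaf (nat_lit 0xf6f999667ebdcdce) (nat_lit 3331))
 (.leaf (nat_lit 0xf6faec107ebececd) (nat_lit 2310))
)))))))))))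

theorem KA_ok : orbOK B8.A [(nat_lit 0x8040301008040203), (nat_lit 0xc0402010080c0201), (nat_lit 0x8040201048840201), (nat_lit 0x8040203008040301), (nat_lit 0x80c020100c040201), (nat_lit 0x8448201008040201), (nat_lit 0x8060201008040601), (nat_lit 0x8040601008060201)] (nat_lit 0x8040201008041221) KA_t (nat_lit 1575) = true := by decide +kernel

noncomputable def Cc_t : ST :=
(.node (nat_lit 0xc040201048cc0201) (.node (nat_lit 0xa04020102804aa01) (.node (nat_lit 0x9040201008040209) (.node (nat_lit 0x8060201008040601) (.node (nat_lit 0x8050201008040205) (.node (nat_lit 0x8040301008040203) (.node (nat_lit 0x8040201018040281) (.node (nat_lit 0x8040201008244201) (.node (nat_lit 0x8040201008140241) (.node (nat_lit 0x8040201008041221) (.leaf (nat_lit 0x8040201008040201) (nat_lit 0))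
 (.leaf (nat_lit 0x8040201008041221) (nat_lit 1027))
) (.node (nat_lit 0x8040201008141261) (.leaf (nat_lit 0x8040201008140241) (nat_lit 1027))
 (.leaf (nat_lit 0x8040201008141261) (nat_lit 1539))
)) (.node (nat_lit 0x8040201008344241) (.node (nat_lit 0x8040201008245221) (.leaf (nat_lit 0x8040201008244201) (nat_lit 259))
 (.leaf (nat_lit 0x8040201008245221) (nat_lit 770))
) (.node (nat_lit 0x8040201008345261) (.leaf (nat_lit 0x8040201008344241) (nat_lit 768))
 (.leaf (nat_lit 0x8040201008345261) (nat_lit 1282))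
))) (.node (nat_lit 0x8040201018244281) (.node (nat_lit 0x80402010181402c1) (.node (nat_lit 0x80402010180412a1) (.leaf (nat_lit 0x8040201018040281) (nat_lit 260))
 (.leaf (nat_lit 0x80402010180412a1) (nat_lit 1284))
) (.node (nat_lit 0x80402010181412e1) (.leaf (nat_lit 0x80402010181402c1) (nat_lit 773))
 (.leaf (nat_lit 0x80402010181412e1) (nat_lit 1281))
)) (.node (nat_lit 0x80402010183442c1) (.node (nat_lit 0x80402010182452a1) (.leaf (nat_lit 0x8040201018244281) (nat_lit 516))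
 (.leaf (nat_lit 0x80402010182452a1) (nat_lit 1028))
) (.node (nat_lit 0x80402010183452e1) (.leaf (nat_lit 0x80402010183442c1) (nat_lit 1028))
 (.leaf (nat_lit 0x80402010183452e1) (nat_lit 1540))
)))) (.node (nat_lit 0x8040301018040283) (.node (nat_lit 0x8040301008244243) (.node (nat_lit 0x8040301008140243) (.node (nat_lit 0x8040301008041233) (.leaf (nat_lit 0x8040301008040203) (nat_lit 256))
 (.leaf (nat_lit 0x8040301008041233) (nat_lit 1283))
) (.node (nat_lit 0x8040301008141273) (.leaf (nat_lit 0x8040301008140243) (nat_lit 771))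
 (.leaf (nat_lit 0x8040301008141273) (nat_lit 1283))
)) (.node (nat_lit 0x8040301008344203) (.node (nat_lit 0x8040301008245273) (.leaf (nat_lit 0x8040301008244243) (nat_lit 512))
 (.leaf (nat_lit 0x8040301008245273) (nat_lit 1026))
) (.node (nat_lit 0x8040301008345233) (.leaf (nat_lit 0x8040301008344203) (nat_lit 515))
 (.leaf (nat_lit 0x8040301008345233) (nat_lit 1026))
))) (.node (nat_lit 0x80403010182442c3) (.node (nat_lit 0x80403010181402c3) (.node (nat_lit 0x80403010180412b3) (.leaf (nat_lit 0x8040301018040283) (nat_lit 516))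
 (.leaf (nat_lit 0x80403010180412b3) (nat_lit 1540))
) (.node (nat_lit 0x80403010181412f3) (.leaf (nat_lit 0x80403010181402c3) (nat_lit 1029))
 (.leaf (nat_lit 0x80403010181412f3) (nat_lit 1537))
)) (.node (nat_lit 0x8040301018344283) (.node (nat_lit 0x80403010182452f3) (.leaf (nat_lit 0x80403010182442c3) (nat_lit 772))
 (.leaf (nat_lit 0x80403010182452f3) (nat_lit 1284))
) (.node (nat_lit 0x80403010183452b3) (.leaf (nat_lit 0x8040301018344283) (nat_lit 772))
 (.leaf (nat_lit 0x80403010183452b3) (nat_lit 1284))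
))))) (.node (nat_lit 0x8050301008040207) (.node (nat_lit 0x8050201018040285) (.node (nat_lit 0x8050201008244225) (.node (nat_lit 0x8050201008140255) (.node (nat_lit 0x8050201008041225) (.leaf (nat_lit 0x8050201008040205) (nat_lit 258))
 (.leaf (nat_lit 0x8050201008041225) (nat_lit 771))
) (.node (nat_lit 0x8050201008141275) (.leaf (nat_lit 0x8050201008140255) (nat_lit 1283))
 (.leaf (nat_lit 0x8050201008141275) (nat_lit 1283))
)) (.node (nat_lit 0x8050201008344275) (.node (nat_lit 0x8050201008245205) (.leaf (nat_lit 0x8050201008244225) (nat_lit 514))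
 (.leaf (nat_lit 0x8050201008245205) (nat_lit 515))
) (.node (nat_lit 0x8050201008345255) (.leaf (nat_lit 0x8050201008344275) (nat_lit 1026))
 (.leaf (nat_lit 0x8050201008345255) (nat_lit 1024))
))) (.node (nat_lit 0x80502010182442a5) (.node (nat_lit 0x80502010181402d5) (.node (nat_lit 0x80502010180412a5) (.leaf (nat_lit 0x8050201018040285) (nat_lit 516))
 (.leaf (nat_lit 0x80502010180412a5) (nat_lit 1028))
) (.node (nat_lit 0x80502010181412f5) (.leaf (nat_lit 0x80502010181402d5) (nat_lit 1029))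
 (.leaf (nat_lit 0x80502010181412f5) (nat_lit 1540))
)) (.node (nat_lit 0x80502010183442f5) (.node (nat_lit 0x8050201018245285) (.leaf (nat_lit 0x80502010182442a5) (nat_lit 772))
 (.leaf (nat_lit 0x8050201018245285) (nat_lit 772))
) (.node (nat_lit 0x80502010183452d5) (.leaf (nat_lit 0x80502010183442f5) (nat_lit 1284))
 (.leaf (nat_lit 0x80502010183452d5) (nat_lit 1284))
)))) (.node (nat_lit 0x8050301018040287) (.node (nat_lit 0x8050301008244267) (.node (nat_lit 0x8050301008140257) (.node (nat_lit 0x8050301008041237) (.leaf (nat_lit 0x8050301008040207) (nat_lit 514))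
 (.leaf (nat_lit 0x8050301008041237) (nat_lit 1027))
) (.node (nat_lit 0x8050301008141267) (.leaf (nat_lit 0x8050301008140257) (nat_lit 1027))
 (.leaf (nat_lit 0x8050301008141267) (nat_lit 1027))
)) (.node (nat_lit 0x8050301008344237) (.node (nat_lit 0x8050301008245257) (.leaf (nat_lit 0x8050301008244267) (nat_lit 770))
 (.leaf (nat_lit 0x8050301008245257) (nat_lit 768))
) (.node (nat_lit 0x8050301008345207) (.leaf (nat_lit 0x8050301008344237) (nat_lit 770))
 (.leaf (nat_lit 0x8050301008345207) (nat_lit 771))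
))) (.node (nat_lit 0x80503010182442e7) (.node (nat_lit 0x80503010181402d7) (.node (nat_lit 0x80503010180412b7) (.leaf (nat_lit 0x8050301018040287) (nat_lit 772))
 (.leaf (nat_lit 0x80503010180412b7) (nat_lit 1284))
) (.node (nat_lit 0x80503010181412e7) (.leaf (nat_lit 0x80503010181402d7) (nat_lit 1285))
 (.leaf (nat_lit 0x80503010181412e7) (nat_lit 1284))
)) (.node (nat_lit 0x80503010183442b7) (.node (nat_lit 0x80503010182452d7) (.leaf (nat_lit 0x80503010182442e7) (nat_lit 1028))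
 (.leaf (nat_lit 0x80503010182452d7) (nat_lit 1028))
) (.node (nat_lit 0x8050301018345287) (.leaf (nat_lit 0x80503010183442b7) (nat_lit 1028))
 (.leaf (nat_lit 0x8050301018345287) (nat_lit 1028))
)))))) (.node (nat_lit 0x8070201008040605) (.node (nat_lit 0x8060301008040607) (.node (nat_lit 0x8060201018040681) (.node (nat_lit 0x8060201008246601) (.node (nat_lit 0x8060201008140661) (.node (nat_lit 0x8060201008041621) (.leaf (nat_lit 0x8060201008040601) (nat_lit 257))
 (.leaf (nat_lit 0x8060201008041621) (nat_lit 1283))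
) (.node (nat_lit 0x8060201008141641) (.leaf (nat_lit 0x8060201008140661) (nat_lit 1283))
 (.leaf (nat_lit 0x8060201008141641) (nat_lit 1283))
)) (.node (nat_lit 0x8060201008346661) (.node (nat_lit 0x8060201008247621) (.leaf (nat_lit 0x8060201008246601) (nat_lit 515))
 (.leaf (nat_lit 0x8060201008247621) (nat_lit 1026))
) (.node (nat_lit 0x8060201008347641) (.leaf (nat_lit 0x8060201008346661) (nat_lit 1024))
 (.leaf (nat_lit 0x8060201008347641) (nat_lit 1025))
))) (.node (nat_lit 0x8060201018246681) (.node (nat_lit 0x80602010181406e1) (.node (nat_lit 0x80602010180416a1) (.leaf (nat_lit 0x8060201018040681) (nat_lit 516))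
 (.leaf (nat_lit 0x80602010180416a1) (nat_lit 1540))
) (.node (nat_lit 0x80602010181416c1) (.leaf (nat_lit 0x80602010181406e1) (nat_lit 1029))
 (.leaf (nat_lit 0x80602010181416c1) (nat_lit 1025))
)) (.node (nat_lit 0x80602010183466e1) (.node (nat_lit 0x80602010182476a1) (.leaf (nat_lit 0x8060201018246681) (nat_lit 772))
 (.leaf (nat_lit 0x80602010182476a1) (nat_lit 1284))
) (.node (nat_lit 0x80602010183476c1) (.leaf (nat_lit 0x80602010183466e1) (nat_lit 1284))
 (.leaf (nat_lit 0x80602010183476c1) (nat_lit 1284))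
)))) (.node (nat_lit 0x8060301018040687) (.node (nat_lit 0x8060301008246667) (.node (nat_lit 0x8060301008140667) (.node (nat_lit 0x8060301008041637) (.leaf (nat_lit 0x8060301008040607) (nat_lit 512))
 (.leaf (nat_lit 0x8060301008041637) (nat_lit 1283))
) (.node (nat_lit 0x8060301008141657) (.leaf (nat_lit 0x8060301008140667) (nat_lit 1027))
 (.leaf (nat_lit 0x8060301008141657) (nat_lit 1283))
)) (.node (nat_lit 0x8060301008346607) (.node (nat_lit 0x8060301008247657) (.leaf (nat_lit 0x8060301008246667) (nat_lit 768))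
 (.leaf (nat_lit 0x8060301008247657) (nat_lit 1025))
) (.node (nat_lit 0x8060301008347637) (.leaf (nat_lit 0x8060301008346607) (nat_lit 771))
 (.leaf (nat_lit 0x8060301008347637) (nat_lit 1026))
))) (.node (nat_lit 0x80603010182466e7) (.node (nat_lit 0x80603010181406e7) (.node (nat_lit 0x80603010180416b7) (.leaf (nat_lit 0x8060301018040687) (nat_lit 772))
 (.leaf (nat_lit 0x80603010180416b7) (nat_lit 1540))
) (.node (nat_lit 0x80603010181416d7) (.leaf (nat_lit 0x80603010181406e7) (nat_lit 1285))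
 (.leaf (nat_lit 0x80603010181416d7) (nat_lit 1280))
)) (.node (nat_lit 0x8060301018346687) (.node (nat_lit 0x80603010182476d7) (.leaf (nat_lit 0x80603010182466e7) (nat_lit 1028))
 (.leaf (nat_lit 0x80603010182476d7) (nat_lit 1284))
) (.node (nat_lit 0x80603010183476b7) (.leaf (nat_lit 0x8060301018346687) (nat_lit 1028))
 (.leaf (nat_lit 0x80603010183476b7) (nat_lit 1284))
))))) (.node (nat_lit 0x8070301008040603) (.node (nat_lit 0x8070201018040685) (.node (nat_lit 0x8070201008246625) (.node (nat_lit 0x8070201008140675) (.node (nat_lit 0x8070201008041625) (.leaf (nat_lit 0x8070201008040605) (nat_lit 514))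
 (.leaf (nat_lit 0x8070201008041625) (nat_lit 1027))
) (.node (nat_lit 0x8070201008141655) (.leaf (nat_lit 0x8070201008140675) (nat_lit 1283))
 (.leaf (nat_lit 0x8070201008141655) (nat_lit 1280))
)) (.node (nat_lit 0x8070201008346655) (.node (nat_lit 0x8070201008247605) (.leaf (nat_lit 0x8070201008246625) (nat_lit 770))
 (.leaf (nat_lit 0x8070201008247605) (nat_lit 771))
) (.node (nat_lit 0x8070201008347675) (.leaf (nat_lit 0x8070201008346655) (nat_lit 1281))
 (.leaf (nat_lit 0x8070201008347675) (nat_lit 1024))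
))) (.node (nat_lit 0x80702010182466a5) (.node (nat_lit 0x80702010181406f5) (.node (nat_lit 0x80702010180416a5) (.leaf (nat_lit 0x8070201018040685) (nat_lit 772))
 (.leaf (nat_lit 0x80702010180416a5) (nat_lit 1284))
) (.node (nat_lit 0x80702010181416d5) (.leaf (nat_lit 0x80702010181406f5) (nat_lit 1285))
 (.leaf (nat_lit 0x80702010181416d5) (nat_lit 1281))
)) (.node (nat_lit 0x80702010183466d5) (.node (nat_lit 0x8070201018247685) (.leaf (nat_lit 0x80702010182466a5) (nat_lit 1028))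
 (.leaf (nat_lit 0x8070201018247685) (nat_lit 1028))
) (.node (nat_lit 0x80702010183476f5) (.leaf (nat_lit 0x80702010183466d5) (nat_lit 1540))
 (.leaf (nat_lit 0x80702010183476f5) (nat_lit 1284))
)))) (.node (nat_lit 0x8070301018040683) (.node (nat_lit 0x8070301008246643) (.node (nat_lit 0x8070301008140673) (.node (nat_lit 0x8070301008041633) (.leaf (nat_lit 0x8070301008040603) (nat_lit 513))
 (.leaf (nat_lit 0x8070301008041633) (nat_lit 1283))
) (.node (nat_lit 0x8070301008141643) (.leaf (nat_lit 0x8070301008140673) (nat_lit 1283))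
 (.leaf (nat_lit 0x8070301008141643) (nat_lit 1027))
)) (.node (nat_lit 0x8070301008346633) (.node (nat_lit 0x8070301008247673) (.leaf (nat_lit 0x8070301008246643) (nat_lit 769))
 (.leaf (nat_lit 0x8070301008247673) (nat_lit 1024))
) (.node (nat_lit 0x8070301008347603) (.leaf (nat_lit 0x8070301008346633) (nat_lit 1026))
 (.leaf (nat_lit 0x8070301008347603) (nat_lit 771))
))) (.node (nat_lit 0x80703010182466c3) (.node (nat_lit 0x80703010181406f3) (.node (nat_lit 0x80703010180416b3) (.leaf (nat_lit 0x8070301018040683) (nat_lit 772))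
 (.leaf (nat_lit 0x80703010180416b3) (nat_lit 1540))
) (.node (nat_lit 0x80703010181416c3) (.leaf (nat_lit 0x80703010181406f3) (nat_lit 1285))
 (.leaf (nat_lit 0x80703010181416c3) (nat_lit 1281))
)) (.node (nat_lit 0x80703010183466b3) (.node (nat_lit 0x80703010182476f3) (.leaf (nat_lit 0x80703010182466c3) (nat_lit 1028))
 (.leaf (nat_lit 0x80703010182476f3) (nat_lit 1284))
) (.node (nat_lit 0x8070301018347683) (.leaf (nat_lit 0x80703010183466b3) (nat_lit 1284))
 (.leaf (nat_lit 0x8070301018347683) (nat_lit 1028))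
))))))) (.node (nat_lit 0x9060201008040609) (.node (nat_lit 0x905020100804020d) (.node (nat_lit 0x904030100804020b) (.node (nat_lit 0x9040201018040299) (.node (nat_lit 0x9040201008244209) (.node (nat_lit 0x9040201008140249) (.node (nat_lit 0x9040201008041229) (.leaf (nat_lit 0x9040201008040209) (nat_lit 1285))
 (.leaf (nat_lit 0x9040201008041229) (nat_lit 1797))
) (.node (nat_lit 0x9040201008141269) (.leaf (nat_lit 0x9040201008140249) (nat_lit 1285))
 (.leaf (nat_lit 0x9040201008141269) (nat_lit 1793))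
)) (.node (nat_lit 0x9040201008344249) (.node (nat_lit 0x9040201008245229) (.leaf (nat_lit 0x9040201008244209) (nat_lit 1541))
 (.leaf (nat_lit 0x9040201008245229) (nat_lit 1541))
) (.node (nat_lit 0x9040201008345269) (.leaf (nat_lit 0x9040201008344249) (nat_lit 1541))
 (.leaf (nat_lit 0x9040201008345269) (nat_lit 1541))
))) (.node (nat_lit 0x9040201018244299) (.node (nat_lit 0x90402010181402d9) (.node (nat_lit 0x90402010180412b9) (.leaf (nat_lit 0x9040201018040299) (nat_lit 1541))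
 (.leaf (nat_lit 0x90402010180412b9) (nat_lit 2053))
) (.node (nat_lit 0x90402010181412f9) (.leaf (nat_lit 0x90402010181402d9) (nat_lit 1029))
 (.leaf (nat_lit 0x90402010181412f9) (nat_lit 1537))
)) (.node (nat_lit 0x90402010183442d9) (.node (nat_lit 0x90402010182452b9) (.leaf (nat_lit 0x9040201018244299) (nat_lit 1797))
 (.leaf (nat_lit 0x90402010182452b9) (nat_lit 1797))
) (.node (nat_lit 0x90402010183452f9) (.leaf (nat_lit 0x90402010183442d9) (nat_lit 1285))
 (.leaf (nat_lit 0x90402010183452f9) (nat_lit 1285))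
)))) (.node (nat_lit 0x904030101804029b) (.node (nat_lit 0x904030100824424b) (.node (nat_lit 0x904030100814024b) (.node (nat_lit 0x904030100804123b) (.leaf (nat_lit 0x904030100804020b) (nat_lit 1541))
 (.leaf (nat_lit 0x904030100804123b) (nat_lit 2053))
) (.node (nat_lit 0x904030100814127b) (.leaf (nat_lit 0x904030100814024b) (nat_lit 1541))
 (.leaf (nat_lit 0x904030100814127b) (nat_lit 1793))
)) (.node (nat_lit 0x904030100834420b) (.node (nat_lit 0x904030100824527b) (.leaf (nat_lit 0x904030100824424b) (nat_lit 1797))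
 (.leaf (nat_lit 0x904030100824527b) (nat_lit 1797))
) (.node (nat_lit 0x904030100834523b) (.leaf (nat_lit 0x904030100834420b) (nat_lit 1797))
 (.leaf (nat_lit 0x904030100834523b) (nat_lit 1797))
))) (.node (nat_lit 0x90403010182442db) (.node (nat_lit 0x90403010181402db) (.node (nat_lit 0x90403010180412ab) (.leaf (nat_lit 0x904030101804029b) (nat_lit 1797))
 (.leaf (nat_lit 0x90403010180412ab) (nat_lit 1797))
) (.node (nat_lit 0x90403010181412eb) (.leaf (nat_lit 0x90403010181402db) (nat_lit 1285))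
 (.leaf (nat_lit 0x90403010181412eb) (nat_lit 1537))
)) (.node (nat_lit 0x904030101834429b) (.node (nat_lit 0x90403010182452eb) (.leaf (nat_lit 0x90403010182442db) (nat_lit 1541))
 (.leaf (nat_lit 0x90403010182452eb) (nat_lit 1541))
) (.node (nat_lit 0x90403010183452ab) (.leaf (nat_lit 0x904030101834429b) (nat_lit 1541))
 (.leaf (nat_lit 0x90403010183452ab) (nat_lit 1541))
))))) (.node (nat_lit 0x905030100804020f) (.node (nat_lit 0x905020101804029d) (.node (nat_lit 0x905020100824422d) (.node (nat_lit 0x905020100814025d) (.node (nat_lit 0x905020100804122d) (.leaf (nat_lit 0x905020100804020d) (nat_lit 1029))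
 (.leaf (nat_lit 0x905020100804122d) (nat_lit 1541))
) (.node (nat_lit 0x905020100814127d) (.leaf (nat_lit 0x905020100814025d) (nat_lit 1029))
 (.leaf (nat_lit 0x905020100814127d) (nat_lit 1537))
)) (.node (nat_lit 0x905020100834427d) (.node (nat_lit 0x905020100824520d) (.leaf (nat_lit 0x905020100824422d) (nat_lit 1285))
 (.leaf (nat_lit 0x905020100824520d) (nat_lit 1285))
) (.node (nat_lit 0x905020100834525d) (.leaf (nat_lit 0x905020100834427d) (nat_lit 1285))
 (.leaf (nat_lit 0x905020100834525d) (nat_lit 1285))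
))) (.node (nat_lit 0x90502010182442bd) (.node (nat_lit 0x90502010181402cd) (.node (nat_lit 0x90502010180412bd) (.leaf (nat_lit 0x905020101804029d) (nat_lit 1285))
 (.leaf (nat_lit 0x90502010180412bd) (nat_lit 1797))
) (.node (nat_lit 0x90502010181412ed) (.leaf (nat_lit 0x90502010181402cd) (nat_lit 773))
 (.leaf (nat_lit 0x90502010181412ed) (nat_lit 1281))
)) (.node (nat_lit 0x90502010183442ed) (.node (nat_lit 0x905020101824529d) (.leaf (nat_lit 0x90502010182442bd) (nat_lit 1541))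
 (.leaf (nat_lit 0x905020101824529d) (nat_lit 1541))
) (.node (nat_lit 0x90502010183452cd) (.leaf (nat_lit 0x90502010183442ed) (nat_lit 1029))
 (.leaf (nat_lit 0x90502010183452cd) (nat_lit 1029))
)))) (.node (nat_lit 0x905030101804029f) (.node (nat_lit 0x905030100824426f) (.node (nat_lit 0x905030100814025f) (.node (nat_lit 0x905030100804123f) (.leaf (nat_lit 0x905030100804020f) (nat_lit 1285))
 (.leaf (nat_lit 0x905030100804123f) (nat_lit 1797))
) (.node (nat_lit 0x905030100814126f) (.leaf (nat_lit 0x905030100814025f) (nat_lit 1285))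
 (.leaf (nat_lit 0x905030100814126f) (nat_lit 1793))
)) (.node (nat_lit 0x905030100834423f) (.node (nat_lit 0x905030100824525f) (.leaf (nat_lit 0x905030100824426f) (nat_lit 1541))
 (.leaf (nat_lit 0x905030100824525f) (nat_lit 1541))
) (.node (nat_lit 0x905030100834520f) (.leaf (nat_lit 0x905030100834423f) (nat_lit 1541))
 (.leaf (nat_lit 0x905030100834520f) (nat_lit 1541))
))) (.node (nat_lit 0x90503010182442ff) (.node (nat_lit 0x90503010181402cf) (.node (nat_lit 0x90503010180412af) (.leaf (nat_lit 0x905030101804029f) (nat_lit 1541))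
 (.leaf (nat_lit 0x90503010180412af) (nat_lit 1541))
) (.node (nat_lit 0x90503010181412ff) (.leaf (nat_lit 0x90503010181402cf) (nat_lit 1029))
 (.leaf (nat_lit 0x90503010181412ff) (nat_lit 1537))
)) (.node (nat_lit 0x90503010183442af) (.node (nat_lit 0x90503010182452cf) (.leaf (nat_lit 0x90503010182442ff) (nat_lit 1285))
 (.leaf (nat_lit 0x90503010182452cf) (nat_lit 1285))
) (.node (nat_lit 0x905030101834529f) (.leaf (nat_lit 0x90503010183442af) (nat_lit 1285))
 (.leaf (nat_lit 0x905030101834529f) (nat_lit 1285))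
)))))) (.node (nat_lit 0x907020100804060d) (.node (nat_lit 0x906030100804060f) (.node (nat_lit 0x9060201018040699) (.node (nat_lit 0x9060201008246609) (.node (nat_lit 0x9060201008140669) (.node (nat_lit 0x9060201008041629) (.leaf (nat_lit 0x9060201008040609) (nat_lit 1541))
 (.leaf (nat_lit 0x9060201008041629) (nat_lit 2053))
) (.node (nat_lit 0x9060201008141649) (.leaf (nat_lit 0x9060201008140669) (nat_lit 1541))
 (.leaf (nat_lit 0x9060201008141649) (nat_lit 1537))
)) (.node (nat_lit 0x9060201008346669) (.node (nat_lit 0x9060201008247629) (.leaf (nat_lit 0x9060201008246609) (nat_lit 1797))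
 (.leaf (nat_lit 0x9060201008247629) (nat_lit 1797))
) (.node (nat_lit 0x9060201008347649) (.leaf (nat_lit 0x9060201008346669) (nat_lit 1797))
 (.leaf (nat_lit 0x9060201008347649) (nat_lit 1797))
))) (.node (nat_lit 0x9060201018246699) (.node (nat_lit 0x90602010181406f9) (.node (nat_lit 0x90602010180416b9) (.leaf (nat_lit 0x9060201018040699) (nat_lit 1797))
 (.leaf (nat_lit 0x90602010180416b9) (nat_lit 2053))
) (.node (nat_lit 0x90602010181416d9) (.leaf (nat_lit 0x90602010181406f9) (nat_lit 1285))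
 (.leaf (nat_lit 0x90602010181416d9) (nat_lit 1281))
)) (.node (nat_lit 0x90602010183466f9) (.node (nat_lit 0x90602010182476b9) (.leaf (nat_lit 0x9060201018246699) (nat_lit 1797))
 (.leaf (nat_lit 0x90602010182476b9) (nat_lit 1797))
) (.node (nat_lit 0x90602010183476d9) (.leaf (nat_lit 0x90602010183466f9) (nat_lit 1541))
 (.leaf (nat_lit 0x90602010183476d9) (nat_lit 1541))
)))) (.node (nat_lit 0x906030101804069f) (.node (nat_lit 0x906030100824666f) (.node (nat_lit 0x906030100814066f) (.node (nat_lit 0x906030100804163f) (.leaf (nat_lit 0x906030100804060f) (nat_lit 1541))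
 (.leaf (nat_lit 0x906030100804163f) (nat_lit 2053))
) (.node (nat_lit 0x906030100814165f) (.leaf (nat_lit 0x906030100814066f) (nat_lit 1541))
 (.leaf (nat_lit 0x906030100814165f) (nat_lit 1537))
)) (.node (nat_lit 0x906030100834660f) (.node (nat_lit 0x906030100824765f) (.leaf (nat_lit 0x906030100824666f) (nat_lit 1797))
 (.leaf (nat_lit 0x906030100824765f) (nat_lit 1797))
) (.node (nat_lit 0x906030100834763f) (.leaf (nat_lit 0x906030100834660f) (nat_lit 1797))
 (.leaf (nat_lit 0x906030100834763f) (nat_lit 1797))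
))) (.node (nat_lit 0x90603010182466ff) (.node (nat_lit 0x90603010181406ff) (.node (nat_lit 0x90603010180416af) (.leaf (nat_lit 0x906030101804069f) (nat_lit 1797))
 (.leaf (nat_lit 0x90603010180416af) (nat_lit 1797))
) (.node (nat_lit 0x90603010181416cf) (.leaf (nat_lit 0x90603010181406ff) (nat_lit 1285))
 (.leaf (nat_lit 0x90603010181416cf) (nat_lit 1281))
)) (.node (nat_lit 0x906030101834669f) (.node (nat_lit 0x90603010182476cf) (.leaf (nat_lit 0x90603010182466ff) (nat_lit 1541))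
 (.leaf (nat_lit 0x90603010182476cf) (nat_lit 1541))
) (.node (nat_lit 0x90603010183476af) (.leaf (nat_lit 0x906030101834669f) (nat_lit 1541))
 (.leaf (nat_lit 0x90603010183476af) (nat_lit 1537))
))))) (.node (nat_lit 0x907030100804060b) (.node (nat_lit 0x907020101804069d) (.node (nat_lit 0x907020100824662d) (.node (nat_lit 0x907020100814067d) (.node (nat_lit 0x907020100804162d) (.leaf (nat_lit 0x907020100804060d) (nat_lit 1285))
 (.leaf (nat_lit 0x907020100804162d) (nat_lit 1797))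
) (.node (nat_lit 0x907020100814165d) (.leaf (nat_lit 0x907020100814067d) (nat_lit 1285))
 (.leaf (nat_lit 0x907020100814165d) (nat_lit 1281))
)) (.node (nat_lit 0x907020100834665d) (.node (nat_lit 0x907020100824760d) (.leaf (nat_lit 0x907020100824662d) (nat_lit 1541))
 (.leaf (nat_lit 0x907020100824760d) (nat_lit 1541))
) (.node (nat_lit 0x907020100834767d) (.leaf (nat_lit 0x907020100834665d) (nat_lit 1541))
 (.leaf (nat_lit 0x907020100834767d) (nat_lit 1541))
))) (.node (nat_lit 0x90702010182466bd) (.node (nat_lit 0x90702010181406ed) (.node (nat_lit 0x90702010180416bd) (.leaf (nat_lit 0x907020101804069d) (nat_lit 1541))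
 (.leaf (nat_lit 0x90702010180416bd) (nat_lit 2053))
) (.node (nat_lit 0x90702010181416cd) (.leaf (nat_lit 0x90702010181406ed) (nat_lit 1029))
 (.leaf (nat_lit 0x90702010181416cd) (nat_lit 1025))
)) (.node (nat_lit 0x90702010183466cd) (.node (nat_lit 0x907020101824769d) (.leaf (nat_lit 0x90702010182466bd) (nat_lit 1793))
 (.leaf (nat_lit 0x907020101824769d) (nat_lit 1797))
) (.node (nat_lit 0x90702010183476ed) (.leaf (nat_lit 0x90702010183466cd) (nat_lit 1285))
 (.leaf (nat_lit 0x90702010183476ed) (nat_lit 1285))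
)))) (.node (nat_lit 0x907030101804069b) (.node (nat_lit 0x907030100824664b) (.node (nat_lit 0x907030100814067b) (.node (nat_lit 0x907030100804163b) (.leaf (nat_lit 0x907030100804060b) (nat_lit 1541))
 (.leaf (nat_lit 0x907030100804163b) (nat_lit 2053))
) (.node (nat_lit 0x907030100814164b) (.leaf (nat_lit 0x907030100814067b) (nat_lit 1541))
 (.leaf (nat_lit 0x907030100814164b) (nat_lit 1536))
)) (.node (nat_lit 0x907030100834663b) (.node (nat_lit 0x907030100824767b) (.leaf (nat_lit 0x907030100824664b) (nat_lit 1797))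
 (.leaf (nat_lit 0x907030100824767b) (nat_lit 1797))
) (.node (nat_lit 0x907030100834760b) (.leaf (nat_lit 0x907030100834663b) (nat_lit 1797))
 (.leaf (nat_lit 0x907030100834760b) (nat_lit 1797))
))) (.node (nat_lit 0x90703010182466db) (.node (nat_lit 0x90703010181406eb) (.node (nat_lit 0x90703010180416ab) (.leaf (nat_lit 0x907030101804069b) (nat_lit 1797))
 (.leaf (nat_lit 0x90703010180416ab) (nat_lit 1797))
) (.node (nat_lit 0x90703010181416db) (.leaf (nat_lit 0x90703010181406eb) (nat_lit 1285))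
 (.leaf (nat_lit 0x90703010181416db) (nat_lit 1280))
)) (.node (nat_lit 0x90703010183466ab) (.node (nat_lit 0x90703010182476eb) (.leaf (nat_lit 0x90703010182466db) (nat_lit 1541))
 (.leaf (nat_lit 0x90703010182476eb) (nat_lit 1541))
) (.node (nat_lit 0x907030101834769b) (.leaf (nat_lit 0x90703010183466ab) (nat_lit 1541))
 (.leaf (nat_lit 0x907030101834769b) (nat_lit 1541))
)))))))) (.node (nat_lit 0xb04020102804aa29) (.node (nat_lit 0xa06020102804ae01) (.node (nat_lit 0xa05020102804aa05) (.node (nat_lit 0xa04030102804aaab) (.node (nat_lit 0xa04020103804aaa1) (.node (nat_lit 0xa04020102824ea01) (.node (nat_lit 0xa04020102814aa41) (.node (nat_lit 0xa04020102804ba21) (.leaf (nat_lit 0xa04020102804aa01) (nat_lit 1285))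
 (.leaf (nat_lit 0xa04020102804ba21) (nat_lit 1797))
) (.node (nat_lit 0xa04020102814ba61) (.leaf (nat_lit 0xa04020102814aa41) (nat_lit 1797))
 (.leaf (nat_lit 0xa04020102814ba61) (nat_lit 1797))
)) (.node (nat_lit 0xa04020102834ea41) (.node (nat_lit 0xa04020102824fa21) (.leaf (nat_lit 0xa04020102824ea01) (nat_lit 1029))
 (.leaf (nat_lit 0xa04020102824fa21) (nat_lit 1538))
) (.node (nat_lit 0xa04020102834fa61) (.leaf (nat_lit 0xa04020102834ea41) (nat_lit 1540))
 (.leaf (nat_lit 0xa04020102834fa61) (nat_lit 1541))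
))) (.node (nat_lit 0xa04020103824eaa1) (.node (nat_lit 0xa04020103814aae1) (.node (nat_lit 0xa04020103804ba81) (.leaf (nat_lit 0xa04020103804aaa1) (nat_lit 1540))
 (.leaf (nat_lit 0xa04020103804ba81) (nat_lit 1541))
) (.node (nat_lit 0xa04020103814bac1) (.leaf (nat_lit 0xa04020103814aae1) (nat_lit 1541))
 (.leaf (nat_lit 0xa04020103814bac1) (nat_lit 1537))
)) (.node (nat_lit 0xa04020103834eae1) (.node (nat_lit 0xa04020103824fa81) (.leaf (nat_lit 0xa04020103824eaa1) (nat_lit 1284))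
 (.leaf (nat_lit 0xa04020103824fa81) (nat_lit 1285))
) (.node (nat_lit 0xa04020103834fac1) (.leaf (nat_lit 0xa04020103834eae1) (nat_lit 1285))
 (.leaf (nat_lit 0xa04020103834fac1) (nat_lit 1281))
)))) (.node (nat_lit 0xa04030103804aa0b) (.node (nat_lit 0xa04030102824eaeb) (.node (nat_lit 0xa04030102814aaeb) (.node (nat_lit 0xa04030102804ba9b) (.leaf (nat_lit 0xa04030102804aaab) (nat_lit 1541))
 (.leaf (nat_lit 0xa04030102804ba9b) (nat_lit 1797))
) (.node (nat_lit 0xa04030102814badb) (.leaf (nat_lit 0xa04030102814aaeb) (nat_lit 1541))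
 (.leaf (nat_lit 0xa04030102814badb) (nat_lit 1797))
)) (.node (nat_lit 0xa04030102834eaab) (.node (nat_lit 0xa04030102824fadb) (.leaf (nat_lit 0xa04030102824eaeb) (nat_lit 1285))
 (.leaf (nat_lit 0xa04030102824fadb) (nat_lit 1537))
) (.node (nat_lit 0xa04030102834fa9b) (.leaf (nat_lit 0xa04030102834eaab) (nat_lit 1797))
 (.leaf (nat_lit 0xa04030102834fa9b) (nat_lit 1797))
))) (.node (nat_lit 0xa04030103824ea4b) (.node (nat_lit 0xa04030103814aa4b) (.node (nat_lit 0xa04030103804ba3b) (.leaf (nat_lit 0xa04030103804aa0b) (nat_lit 1796))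
 (.leaf (nat_lit 0xa04030103804ba3b) (nat_lit 1797))
) (.node (nat_lit 0xa04030103814ba7b) (.leaf (nat_lit 0xa04030103814aa4b) (nat_lit 1797))
 (.leaf (nat_lit 0xa04030103814ba7b) (nat_lit 1797))
)) (.node (nat_lit 0xa04030103834ea0b) (.node (nat_lit 0xa04030103824fa7b) (.leaf (nat_lit 0xa04030103824ea4b) (nat_lit 1540))
 (.leaf (nat_lit 0xa04030103824fa7b) (nat_lit 1541))
) (.node (nat_lit 0xa04030103834fa3b) (.leaf (nat_lit 0xa04030103834ea0b) (nat_lit 1541))
 (.leaf (nat_lit 0xa04030103834fa3b) (nat_lit 1536))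
))))) (.node (nat_lit 0xa05030102804aaaf) (.node (nat_lit 0xa05020103804aaa5) (.node (nat_lit 0xa05020102824ea25) (.node (nat_lit 0xa05020102814aa55) (.node (nat_lit 0xa05020102804ba25) (.leaf (nat_lit 0xa05020102804aa05) (nat_lit 1541))
 (.leaf (nat_lit 0xa05020102804ba25) (nat_lit 1541))
) (.node (nat_lit 0xa05020102814ba75) (.leaf (nat_lit 0xa05020102814aa55) (nat_lit 2053))
 (.leaf (nat_lit 0xa05020102814ba75) (nat_lit 1797))
)) (.node (nat_lit 0xa05020102834ea75) (.node (nat_lit 0xa05020102824fa05) (.leaf (nat_lit 0xa05020102824ea25) (nat_lit 1282))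
 (.leaf (nat_lit 0xa05020102824fa05) (nat_lit 1285))
) (.node (nat_lit 0xa05020102834fa55) (.leaf (nat_lit 0xa05020102834ea75) (nat_lit 1797))
 (.leaf (nat_lit 0xa05020102834fa55) (nat_lit 1796))
))) (.node (nat_lit 0xa05020103824ea85) (.node (nat_lit 0xa05020103814aaf5) (.node (nat_lit 0xa05020103804ba85) (.leaf (nat_lit 0xa05020103804aaa5) (nat_lit 1796))
 (.leaf (nat_lit 0xa05020103804ba85) (nat_lit 1797))
) (.node (nat_lit 0xa05020103814bad5) (.leaf (nat_lit 0xa05020103814aaf5) (nat_lit 1797))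
 (.leaf (nat_lit 0xa05020103814bad5) (nat_lit 1797))
)) (.node (nat_lit 0xa05020103834ead5) (.node (nat_lit 0xa05020103824faa5) (.leaf (nat_lit 0xa05020103824ea85) (nat_lit 1541))
 (.leaf (nat_lit 0xa05020103824faa5) (nat_lit 1540))
) (.node (nat_lit 0xa05020103834faf5) (.leaf (nat_lit 0xa05020103834ead5) (nat_lit 1538))
 (.leaf (nat_lit 0xa05020103834faf5) (nat_lit 1541))
)))) (.node (nat_lit 0xa05030103804aa0f) (.node (nat_lit 0xa05030102824eacf) (.node (nat_lit 0xa05030102814aaff) (.node (nat_lit 0xa05030102804ba9f) (.leaf (nat_lit 0xa05030102804aaaf) (nat_lit 1537))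
 (.leaf (nat_lit 0xa05030102804ba9f) (nat_lit 1797))
) (.node (nat_lit 0xa05030102814bacf) (.leaf (nat_lit 0xa05030102814aaff) (nat_lit 1797))
 (.leaf (nat_lit 0xa05030102814bacf) (nat_lit 1537))
)) (.node (nat_lit 0xa05030102834ea9f) (.node (nat_lit 0xa05030102824faff) (.leaf (nat_lit 0xa05030102824eacf) (nat_lit 1281))
 (.leaf (nat_lit 0xa05030102824faff) (nat_lit 1541))
) (.node (nat_lit 0xa05030102834faaf) (.leaf (nat_lit 0xa05030102834ea9f) (nat_lit 1793))
 (.leaf (nat_lit 0xa05030102834faaf) (nat_lit 1793))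
))) (.node (nat_lit 0xa05030103824ea6f) (.node (nat_lit 0xa05030103814aa5f) (.node (nat_lit 0xa05030103804ba3f) (.leaf (nat_lit 0xa05030103804aa0f) (nat_lit 1796))
 (.leaf (nat_lit 0xa05030103804ba3f) (nat_lit 1793))
) (.node (nat_lit 0xa05030103814ba6f) (.leaf (nat_lit 0xa05030103814aa5f) (nat_lit 1793))
 (.leaf (nat_lit 0xa05030103814ba6f) (nat_lit 1793))
)) (.node (nat_lit 0xa05030103834ea3f) (.node (nat_lit 0xa05030103824fa5f) (.leaf (nat_lit 0xa05030103824ea6f) (nat_lit 1540))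
 (.leaf (nat_lit 0xa05030103824fa5f) (nat_lit 1537))
) (.node (nat_lit 0xa05030103834fa0f) (.leaf (nat_lit 0xa05030103834ea3f) (nat_lit 1794))
 (.leaf (nat_lit 0xa05030103834fa0f) (nat_lit 1537))
)))))) (.node (nat_lit 0xa07020102804ae05) (.node (nat_lit 0xa06030102804aeaf) (.node (nat_lit 0xa06020103804aea1) (.node (nat_lit 0xa06020102824ce01) (.node (nat_lit 0xa06020102814ae61) (.node (nat_lit 0xa06020102804be21) (.leaf (nat_lit 0xa06020102804ae01) (nat_lit 1029))
 (.leaf (nat_lit 0xa06020102804be21) (nat_lit 1541))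
) (.node (nat_lit 0xa06020102814be41) (.leaf (nat_lit 0xa06020102814ae61) (nat_lit 1540))
 (.leaf (nat_lit 0xa06020102814be41) (nat_lit 1541))
)) (.node (nat_lit 0xa06020102834ce61) (.node (nat_lit 0xa06020102824de21) (.leaf (nat_lit 0xa06020102824ce01) (nat_lit 773))
 (.leaf (nat_lit 0xa06020102824de21) (nat_lit 1282))
) (.node (nat_lit 0xa06020102834de41) (.leaf (nat_lit 0xa06020102834ce61) (nat_lit 1284))
 (.leaf (nat_lit 0xa06020102834de41) (nat_lit 1285))
))) (.node (nat_lit 0xa06020103824cea1) (.node (nat_lit 0xa06020103814aec1) (.node (nat_lit 0xa06020103804be81) (.leaf (nat_lit 0xa06020103804aea1) (nat_lit 1284))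
 (.leaf (nat_lit 0xa06020103804be81) (nat_lit 1285))
) (.node (nat_lit 0xa06020103814bee1) (.leaf (nat_lit 0xa06020103814aec1) (nat_lit 1285))
 (.leaf (nat_lit 0xa06020103814bee1) (nat_lit 1796))
)) (.node (nat_lit 0xa06020103834cec1) (.node (nat_lit 0xa06020103824de81) (.leaf (nat_lit 0xa06020103824cea1) (nat_lit 1028))
 (.leaf (nat_lit 0xa06020103824de81) (nat_lit 1029))
) (.node (nat_lit 0xa06020103834dee1) (.leaf (nat_lit 0xa06020103834cec1) (nat_lit 1029))
 (.leaf (nat_lit 0xa06020103834dee1) (nat_lit 1537))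
)))) (.node (nat_lit 0xa06030103804ae0f) (.node (nat_lit 0xa06030102824cecf) (.node (nat_lit 0xa06030102814aecf) (.node (nat_lit 0xa06030102804be9f) (.leaf (nat_lit 0xa06030102804aeaf) (nat_lit 1285))
 (.leaf (nat_lit 0xa06030102804be9f) (nat_lit 1541))
) (.node (nat_lit 0xa06030102814beff) (.leaf (nat_lit 0xa06030102814aecf) (nat_lit 1285))
 (.leaf (nat_lit 0xa06030102814beff) (nat_lit 1541))
)) (.node (nat_lit 0xa06030102834ceaf) (.node (nat_lit 0xa06030102824deff) (.leaf (nat_lit 0xa06030102824cecf) (nat_lit 1029))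
 (.leaf (nat_lit 0xa06030102824deff) (nat_lit 1538))
) (.node (nat_lit 0xa06030102834de9f) (.leaf (nat_lit 0xa06030102834ceaf) (nat_lit 1541))
 (.leaf (nat_lit 0xa06030102834de9f) (nat_lit 1541))
))) (.node (nat_lit 0xa06030103824ce6f) (.node (nat_lit 0xa06030103814ae6f) (.node (nat_lit 0xa06030103804be3f) (.leaf (nat_lit 0xa06030103804ae0f) (nat_lit 1540))
 (.leaf (nat_lit 0xa06030103804be3f) (nat_lit 1541))
) (.node (nat_lit 0xa06030103814be5f) (.leaf (nat_lit 0xa06030103814ae6f) (nat_lit 1541))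
 (.leaf (nat_lit 0xa06030103814be5f) (nat_lit 1541))
)) (.node (nat_lit 0xa06030103834ce0f) (.node (nat_lit 0xa06030103824de5f) (.leaf (nat_lit 0xa06030103824ce6f) (nat_lit 1284))
 (.leaf (nat_lit 0xa06030103824de5f) (nat_lit 1285))
) (.node (nat_lit 0xa06030103834de3f) (.leaf (nat_lit 0xa06030103834ce0f) (nat_lit 1285))
 (.leaf (nat_lit 0xa06030103834de3f) (nat_lit 1792))
))))) (.node (nat_lit 0xa07030102804aeab) (.node (nat_lit 0xa07020103804aea5) (.node (nat_lit 0xa07020102824ce25) (.node (nat_lit 0xa07020102814ae75) (.node (nat_lit 0xa07020102804be25) (.leaf (nat_lit 0xa07020102804ae05) (nat_lit 1285))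
 (.leaf (nat_lit 0xa07020102804be25) (nat_lit 1285))
) (.node (nat_lit 0xa07020102814be55) (.leaf (nat_lit 0xa07020102814ae75) (nat_lit 1797))
 (.leaf (nat_lit 0xa07020102814be55) (nat_lit 1797))
)) (.node (nat_lit 0xa07020102834ce55) (.node (nat_lit 0xa07020102824de05) (.leaf (nat_lit 0xa07020102824ce25) (nat_lit 1026))
 (.leaf (nat_lit 0xa07020102824de05) (nat_lit 1029))
) (.node (nat_lit 0xa07020102834de75) (.leaf (nat_lit 0xa07020102834ce55) (nat_lit 1541))
 (.leaf (nat_lit 0xa07020102834de75) (nat_lit 1540))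
))) (.node (nat_lit 0xa07020103824ce85) (.node (nat_lit 0xa07020103814aed5) (.node (nat_lit 0xa07020103804be85) (.leaf (nat_lit 0xa07020103804aea5) (nat_lit 1540))
 (.leaf (nat_lit 0xa07020103804be85) (nat_lit 1541))
) (.node (nat_lit 0xa07020103814bef5) (.leaf (nat_lit 0xa07020103814aed5) (nat_lit 1541))
 (.leaf (nat_lit 0xa07020103814bef5) (nat_lit 1541))
)) (.node (nat_lit 0xa07020103834cef5) (.node (nat_lit 0xa07020103824dea5) (.leaf (nat_lit 0xa07020103824ce85) (nat_lit 1285))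
 (.leaf (nat_lit 0xa07020103824dea5) (nat_lit 1284))
) (.node (nat_lit 0xa07020103834ded5) (.leaf (nat_lit 0xa07020103834cef5) (nat_lit 1282))
 (.leaf (nat_lit 0xa07020103834ded5) (nat_lit 1285))
)))) (.node (nat_lit 0xa07030103804ae0b) (.node (nat_lit 0xa07030102824ceeb) (.node (nat_lit 0xa07030102814aedb) (.node (nat_lit 0xa07030102804be9b) (.leaf (nat_lit 0xa07030102804aeab) (nat_lit 1541))
 (.leaf (nat_lit 0xa07030102804be9b) (nat_lit 1541))
) (.node (nat_lit 0xa07030102814beeb) (.leaf (nat_lit 0xa07030102814aedb) (nat_lit 1541))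
 (.leaf (nat_lit 0xa07030102814beeb) (nat_lit 1539))
)) (.node (nat_lit 0xa07030102834ce9b) (.node (nat_lit 0xa07030102824dedb) (.leaf (nat_lit 0xa07030102824ceeb) (nat_lit 1282))
 (.leaf (nat_lit 0xa07030102824dedb) (nat_lit 1285))
) (.node (nat_lit 0xa07030102834deab) (.leaf (nat_lit 0xa07030102834ce9b) (nat_lit 1797))
 (.leaf (nat_lit 0xa07030102834deab) (nat_lit 1797))
))) (.node (nat_lit 0xa07030103824ce4b) (.node (nat_lit 0xa07030103814ae7b) (.node (nat_lit 0xa07030103804be3b) (.leaf (nat_lit 0xa07030103804ae0b) (nat_lit 1796))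
 (.leaf (nat_lit 0xa07030103804be3b) (nat_lit 1797))
) (.node (nat_lit 0xa07030103814be4b) (.leaf (nat_lit 0xa07030103814ae7b) (nat_lit 1797))
 (.leaf (nat_lit 0xa07030103814be4b) (nat_lit 1797))
)) (.node (nat_lit 0xa07030103834ce3b) (.node (nat_lit 0xa07030103824de7b) (.leaf (nat_lit 0xa07030103824ce4b) (nat_lit 1541))
 (.leaf (nat_lit 0xa07030103824de7b) (nat_lit 1540))
) (.node (nat_lit 0xa07030103834de0b) (.leaf (nat_lit 0xa07030103834ce3b) (nat_lit 1538))
 (.leaf (nat_lit 0xa07030103834de0b) (nat_lit 1541))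
))))))) (.node (nat_lit 0xb06020102804ae29) (.node (nat_lit 0xb05020102804aa2d) (.node (nat_lit 0xb04030102804aa83) (.node (nat_lit 0xb04020103804aa99) (.node (nat_lit 0xb04020102824ea29) (.node (nat_lit 0xb04020102814aa69) (.node (nat_lit 0xb04020102804ba09) (.leaf (nat_lit 0xb04020102804aa29) (nat_lit 2053))
 (.leaf (nat_lit 0xb04020102804ba09) (nat_lit 2052))
) (.node (nat_lit 0xb04020102814ba49) (.leaf (nat_lit 0xb04020102814aa69) (nat_lit 2053))
 (.leaf (nat_lit 0xb04020102814ba49) (nat_lit 2053))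
)) (.node (nat_lit 0xb04020102834ea69) (.node (nat_lit 0xb04020102824fa09) (.leaf (nat_lit 0xb04020102824ea29) (nat_lit 1792))
 (.leaf (nat_lit 0xb04020102824fa09) (nat_lit 1797))
) (.node (nat_lit 0xb04020102834fa49) (.leaf (nat_lit 0xb04020102834ea69) (nat_lit 1797))
 (.leaf (nat_lit 0xb04020102834fa49) (nat_lit 1796))
))) (.node (nat_lit 0xb04020103824ea99) (.node (nat_lit 0xb04020103814aad9) (.node (nat_lit 0xb04020103804bab9) (.leaf (nat_lit 0xb04020103804aa99) (nat_lit 2053))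
 (.leaf (nat_lit 0xb04020103804bab9) (nat_lit 1797))
) (.node (nat_lit 0xb04020103814baf9) (.leaf (nat_lit 0xb04020103814aad9) (nat_lit 1797))
 (.leaf (nat_lit 0xb04020103814baf9) (nat_lit 1797))
)) (.node (nat_lit 0xb04020103834ead9) (.node (nat_lit 0xb04020103824fab9) (.leaf (nat_lit 0xb04020103824ea99) (nat_lit 2053))
 (.leaf (nat_lit 0xb04020103824fab9) (nat_lit 2053))
) (.node (nat_lit 0xb04020103834faf9) (.leaf (nat_lit 0xb04020103834ead9) (nat_lit 1538))
 (.leaf (nat_lit 0xb04020103834faf9) (nat_lit 1541))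
)))) (.node (nat_lit 0xb04030103804aa33) (.node (nat_lit 0xb04030102824eac3) (.node (nat_lit 0xb04030102814aac3) (.node (nat_lit 0xb04030102804bab3) (.leaf (nat_lit 0xb04030102804aa83) (nat_lit 1797))
 (.leaf (nat_lit 0xb04030102804bab3) (nat_lit 1796))
) (.node (nat_lit 0xb04030102814baf3) (.leaf (nat_lit 0xb04030102814aac3) (nat_lit 1793))
 (.leaf (nat_lit 0xb04030102814baf3) (nat_lit 1797))
)) (.node (nat_lit 0xb04030102834ea83) (.node (nat_lit 0xb04030102824faf3) (.leaf (nat_lit 0xb04030102824eac3) (nat_lit 1537))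
 (.leaf (nat_lit 0xb04030102824faf3) (nat_lit 1541))
) (.node (nat_lit 0xb04030102834fab3) (.leaf (nat_lit 0xb04030102834ea83) (nat_lit 1541))
 (.leaf (nat_lit 0xb04030102834fab3) (nat_lit 1540))
))) (.node (nat_lit 0xb04030103824ea73) (.node (nat_lit 0xb04030103814aa73) (.node (nat_lit 0xb04030103804ba03) (.leaf (nat_lit 0xb04030103804aa33) (nat_lit 1797))
 (.leaf (nat_lit 0xb04030103804ba03) (nat_lit 1541))
) (.node (nat_lit 0xb04030103814ba43) (.leaf (nat_lit 0xb04030103814aa73) (nat_lit 1797))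
 (.leaf (nat_lit 0xb04030103814ba43) (nat_lit 1541))
)) (.node (nat_lit 0xb04030103834ea33) (.node (nat_lit 0xb04030103824fa43) (.leaf (nat_lit 0xb04030103824ea73) (nat_lit 1797))
 (.leaf (nat_lit 0xb04030103824fa43) (nat_lit 1796))
) (.node (nat_lit 0xb04030103834fa03) (.leaf (nat_lit 0xb04030103834ea33) (nat_lit 1538))
 (.leaf (nat_lit 0xb04030103834fa03) (nat_lit 1285))
))))) (.node (nat_lit 0xb05030102804aa87) (.node (nat_lit 0xb05020103804aa9d) (.node (nat_lit 0xb05020102824ea0d) (.node (nat_lit 0xb05020102814aa7d) (.node (nat_lit 0xb05020102804ba0d) (.leaf (nat_lit 0xb05020102804aa2d) (nat_lit 1797))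
 (.leaf (nat_lit 0xb05020102804ba0d) (nat_lit 1797))
) (.node (nat_lit 0xb05020102814ba5d) (.leaf (nat_lit 0xb05020102814aa7d) (nat_lit 1796))
 (.leaf (nat_lit 0xb05020102814ba5d) (nat_lit 1797))
)) (.node (nat_lit 0xb05020102834ea5d) (.node (nat_lit 0xb05020102824fa2d) (.leaf (nat_lit 0xb05020102824ea0d) (nat_lit 1541))
 (.leaf (nat_lit 0xb05020102824fa2d) (nat_lit 2050))
) (.node (nat_lit 0xb05020102834fa7d) (.leaf (nat_lit 0xb05020102834ea5d) (nat_lit 1540))
 (.leaf (nat_lit 0xb05020102834fa7d) (nat_lit 1541))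
))) (.node (nat_lit 0xb05020103824eabd) (.node (nat_lit 0xb05020103814aacd) (.node (nat_lit 0xb05020103804babd) (.leaf (nat_lit 0xb05020103804aa9d) (nat_lit 2053))
 (.leaf (nat_lit 0xb05020103804babd) (nat_lit 1793))
) (.node (nat_lit 0xb05020103814baed) (.leaf (nat_lit 0xb05020103814aacd) (nat_lit 1541))
 (.leaf (nat_lit 0xb05020103814baed) (nat_lit 1541))
)) (.node (nat_lit 0xb05020103834eaed) (.node (nat_lit 0xb05020103824fa9d) (.leaf (nat_lit 0xb05020103824eabd) (nat_lit 1796))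
 (.leaf (nat_lit 0xb05020103824fa9d) (nat_lit 1797))
) (.node (nat_lit 0xb05020103834facd) (.leaf (nat_lit 0xb05020103834eaed) (nat_lit 1285))
 (.leaf (nat_lit 0xb05020103834facd) (nat_lit 1281))
)))) (.node (nat_lit 0xb05030103804aa37) (.node (nat_lit 0xb05030102824eae7) (.node (nat_lit 0xb05030102814aad7) (.node (nat_lit 0xb05030102804bab7) (.leaf (nat_lit 0xb05030102804aa87) (nat_lit 1797))
 (.leaf (nat_lit 0xb05030102804bab7) (nat_lit 1796))
) (.node (nat_lit 0xb05030102814bae7) (.leaf (nat_lit 0xb05030102814aad7) (nat_lit 1796))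
 (.leaf (nat_lit 0xb05030102814bae7) (nat_lit 1797))
)) (.node (nat_lit 0xb05030102834eab7) (.node (nat_lit 0xb05030102824fad7) (.leaf (nat_lit 0xb05030102824eae7) (nat_lit 1541))
 (.leaf (nat_lit 0xb05030102824fad7) (nat_lit 1794))
) (.node (nat_lit 0xb05030102834fa87) (.leaf (nat_lit 0xb05030102834eab7) (nat_lit 1540))
 (.leaf (nat_lit 0xb05030102834fa87) (nat_lit 1541))
))) (.node (nat_lit 0xb05030103824ea57) (.node (nat_lit 0xb05030103814aa67) (.node (nat_lit 0xb05030103804ba07) (.leaf (nat_lit 0xb05030103804aa37) (nat_lit 1797))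
 (.leaf (nat_lit 0xb05030103804ba07) (nat_lit 1541))
) (.node (nat_lit 0xb05030103814ba57) (.leaf (nat_lit 0xb05030103814aa67) (nat_lit 1541))
 (.leaf (nat_lit 0xb05030103814ba57) (nat_lit 1797))
)) (.node (nat_lit 0xb05030103834ea07) (.node (nat_lit 0xb05030103824fa67) (.leaf (nat_lit 0xb05030103824ea57) (nat_lit 1796))
 (.leaf (nat_lit 0xb05030103824fa67) (nat_lit 1797))
) (.node (nat_lit 0xb05030103834fa37) (.leaf (nat_lit 0xb05030103834ea07) (nat_lit 1285))
 (.leaf (nat_lit 0xb05030103834fa37) (nat_lit 1538))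
)))))) (.node (nat_lit 0xb07020102804ae2d) (.node (nat_lit 0xb06030102804ae87) (.node (nat_lit 0xb06020103804ae99) (.node (nat_lit 0xb06020102824ce29) (.node (nat_lit 0xb06020102814ae49) (.node (nat_lit 0xb06020102804be09) (.leaf (nat_lit 0xb06020102804ae29) (nat_lit 1797))
 (.leaf (nat_lit 0xb06020102804be09) (nat_lit 1797))
) (.node (nat_lit 0xb06020102814be69) (.leaf (nat_lit 0xb06020102814ae49) (nat_lit 1796))
 (.leaf (nat_lit 0xb06020102814be69) (nat_lit 1797))
)) (.node (nat_lit 0xb06020102834ce49) (.node (nat_lit 0xb06020102824de09) (.leaf (nat_lit 0xb06020102824ce29) (nat_lit 1538))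
 (.leaf (nat_lit 0xb06020102824de09) (nat_lit 1541))
) (.node (nat_lit 0xb06020102834de69) (.leaf (nat_lit 0xb06020102834ce49) (nat_lit 1541))
 (.leaf (nat_lit 0xb06020102834de69) (nat_lit 1540))
))) (.node (nat_lit 0xb06020103824ce99) (.node (nat_lit 0xb06020103814aef9) (.node (nat_lit 0xb06020103804beb9) (.leaf (nat_lit 0xb06020103804ae99) (nat_lit 1797))
 (.leaf (nat_lit 0xb06020103804beb9) (nat_lit 1797))
) (.node (nat_lit 0xb06020103814bed9) (.leaf (nat_lit 0xb06020103814aef9) (nat_lit 1541))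
 (.leaf (nat_lit 0xb06020103814bed9) (nat_lit 1541))
)) (.node (nat_lit 0xb06020103834cef9) (.node (nat_lit 0xb06020103824deb9) (.leaf (nat_lit 0xb06020103824ce99) (nat_lit 1797))
 (.leaf (nat_lit 0xb06020103824deb9) (nat_lit 1796))
) (.node (nat_lit 0xb06020103834ded9) (.leaf (nat_lit 0xb06020103834cef9) (nat_lit 1282))
 (.leaf (nat_lit 0xb06020103834ded9) (nat_lit 1285))
)))) (.node (nat_lit 0xb06030103804ae37) (.node (nat_lit 0xb06030102824cee7) (.node (nat_lit 0xb06030102814aee7) (.node (nat_lit 0xb06030102804beb7) (.leaf (nat_lit 0xb06030102804ae87) (nat_lit 1797))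
 (.leaf (nat_lit 0xb06030102804beb7) (nat_lit 1796))
) (.node (nat_lit 0xb06030102814bed7) (.leaf (nat_lit 0xb06030102814aee7) (nat_lit 1797))
 (.leaf (nat_lit 0xb06030102814bed7) (nat_lit 1797))
)) (.node (nat_lit 0xb06030102834ce87) (.node (nat_lit 0xb06030102824ded7) (.leaf (nat_lit 0xb06030102824cee7) (nat_lit 1538))
 (.leaf (nat_lit 0xb06030102824ded7) (nat_lit 1541))
) (.node (nat_lit 0xb06030102834deb7) (.leaf (nat_lit 0xb06030102834ce87) (nat_lit 1541))
 (.leaf (nat_lit 0xb06030102834deb7) (nat_lit 1540))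
))) (.node (nat_lit 0xb06030103824ce57) (.node (nat_lit 0xb06030103814ae57) (.node (nat_lit 0xb06030103804be07) (.leaf (nat_lit 0xb06030103804ae37) (nat_lit 1541))
 (.leaf (nat_lit 0xb06030103804be07) (nat_lit 1541))
) (.node (nat_lit 0xb06030103814be67) (.leaf (nat_lit 0xb06030103814ae57) (nat_lit 1541))
 (.leaf (nat_lit 0xb06030103814be67) (nat_lit 1541))
)) (.node (nat_lit 0xb06030103834ce37) (.node (nat_lit 0xb06030103824de67) (.leaf (nat_lit 0xb06030103824ce57) (nat_lit 1797))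
 (.leaf (nat_lit 0xb06030103824de67) (nat_lit 1796))
) (.node (nat_lit 0xb06030103834de07) (.leaf (nat_lit 0xb06030103834ce37) (nat_lit 1282))
 (.leaf (nat_lit 0xb06030103834de07) (nat_lit 1285))
))))) (.node (nat_lit 0xb07030102804ae83) (.node (nat_lit 0xb07020103804ae9d) (.node (nat_lit 0xb07020102824ce0d) (.node (nat_lit 0xb07020102814ae5d) (.node (nat_lit 0xb07020102804be0d) (.leaf (nat_lit 0xb07020102804ae2d) (nat_lit 1541))
 (.leaf (nat_lit 0xb07020102804be0d) (nat_lit 1541))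
) (.node (nat_lit 0xb07020102814be7d) (.leaf (nat_lit 0xb07020102814ae5d) (nat_lit 1540))
 (.leaf (nat_lit 0xb07020102814be7d) (nat_lit 1541))
)) (.node (nat_lit 0xb07020102834ce7d) (.node (nat_lit 0xb07020102824de2d) (.leaf (nat_lit 0xb07020102824ce0d) (nat_lit 1285))
 (.leaf (nat_lit 0xb07020102824de2d) (nat_lit 1794))
) (.node (nat_lit 0xb07020102834de5d) (.leaf (nat_lit 0xb07020102834ce7d) (nat_lit 1284))
 (.leaf (nat_lit 0xb07020102834de5d) (nat_lit 1285))
))) (.node (nat_lit 0xb07020103824cebd) (.node (nat_lit 0xb07020103814aeed) (.node (nat_lit 0xb07020103804bebd) (.leaf (nat_lit 0xb07020103804ae9d) (nat_lit 1797))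
 (.leaf (nat_lit 0xb07020103804bebd) (nat_lit 1541))
) (.node (nat_lit 0xb07020103814becd) (.leaf (nat_lit 0xb07020103814aeed) (nat_lit 1285))
 (.leaf (nat_lit 0xb07020103814becd) (nat_lit 1285))
)) (.node (nat_lit 0xb07020103834cecd) (.node (nat_lit 0xb07020103824de9d) (.leaf (nat_lit 0xb07020103824cebd) (nat_lit 1540))
 (.leaf (nat_lit 0xb07020103824de9d) (nat_lit 1541))
) (.node (nat_lit 0xb07020103834deed) (.leaf (nat_lit 0xb07020103834cecd) (nat_lit 1029))
 (.leaf (nat_lit 0xb07020103834deed) (nat_lit 1537))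
)))) (.node (nat_lit 0xb07030103804ae33) (.node (nat_lit 0xb07030102824cec3) (.node (nat_lit 0xb07030102814aef3) (.node (nat_lit 0xb07030102804beb3) (.leaf (nat_lit 0xb07030102804ae83) (nat_lit 1541))
 (.leaf (nat_lit 0xb07030102804beb3) (nat_lit 1540))
) (.node (nat_lit 0xb07030102814bec3) (.leaf (nat_lit 0xb07030102814aef3) (nat_lit 1540))
 (.leaf (nat_lit 0xb07030102814bec3) (nat_lit 1541))
)) (.node (nat_lit 0xb07030102834ceb3) (.node (nat_lit 0xb07030102824def3) (.leaf (nat_lit 0xb07030102824cec3) (nat_lit 1285))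
 (.leaf (nat_lit 0xb07030102824def3) (nat_lit 1793))
) (.node (nat_lit 0xb07030102834de83) (.leaf (nat_lit 0xb07030102834ceb3) (nat_lit 1284))
 (.leaf (nat_lit 0xb07030102834de83) (nat_lit 1285))
))) (.node (nat_lit 0xb07030103824ce73) (.node (nat_lit 0xb07030103814ae43) (.node (nat_lit 0xb07030103804be03) (.leaf (nat_lit 0xb07030103804ae33) (nat_lit 1541))
 (.leaf (nat_lit 0xb07030103804be03) (nat_lit 1285))
) (.node (nat_lit 0xb07030103814be73) (.leaf (nat_lit 0xb07030103814ae43) (nat_lit 1285))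
 (.leaf (nat_lit 0xb07030103814be73) (nat_lit 1541))
)) (.node (nat_lit 0xb07030103834ce03) (.node (nat_lit 0xb07030103824de43) (.leaf (nat_lit 0xb07030103824ce73) (nat_lit 1540))
 (.leaf (nat_lit 0xb07030103824de43) (nat_lit 1541))
) (.node (nat_lit 0xb07030103834de33) (.leaf (nat_lit 0xb07030103834ce03) (nat_lit 1029))
 (.leaf (nat_lit 0xb07030103834de33) (nat_lit 1538))
))))))))) (.node (nat_lit 0xe040201068ccaa01) (.node (nat_lit 0xd040201048cc0249) (.node (nat_lit 0xc060201048ccce01) (.node (nat_lit 0xc050201048cc02cd) (.node (nat_lit 0xc040301048cc0203) (.node (nat_lit 0xc040201058cc02c1) (.node (nat_lit 0xc040201048ec4201) (.node (nat_lit 0xc040201048dc0241) (.node (nat_lit 0xc040201048cc1221) (.leaf (nat_lit 0xc040201048cc0201) (nat_lit 261))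
 (.leaf (nat_lit 0xc040201048cc1221) (nat_lit 1285))
) (.node (nat_lit 0xc040201048dc1261) (.leaf (nat_lit 0xc040201048dc0241) (nat_lit 772))
 (.leaf (nat_lit 0xc040201048dc1261) (nat_lit 1797))
)) (.node (nat_lit 0xc040201048fc4241) (.node (nat_lit 0xc040201048ec5221) (.leaf (nat_lit 0xc040201048ec4201) (nat_lit 517))
 (.leaf (nat_lit 0xc040201048ec5221) (nat_lit 1029))
) (.node (nat_lit 0xc040201048fc5261) (.leaf (nat_lit 0xc040201048fc4241) (nat_lit 1029))
 (.leaf (nat_lit 0xc040201048fc5261) (nat_lit 1541))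
))) (.node (nat_lit 0xc040201058ec42c1) (.node (nat_lit 0xc040201058dc0281) (.node (nat_lit 0xc040201058cc12e1) (.leaf (nat_lit 0xc040201058cc02c1) (nat_lit 516))
 (.leaf (nat_lit 0xc040201058cc12e1) (nat_lit 1541))
) (.node (nat_lit 0xc040201058dc12a1) (.leaf (nat_lit 0xc040201058dc0281) (nat_lit 517))
 (.leaf (nat_lit 0xc040201058dc12a1) (nat_lit 1541))
)) (.node (nat_lit 0xc040201058fc4281) (.node (nat_lit 0xc040201058ec52e1) (.leaf (nat_lit 0xc040201058ec42c1) (nat_lit 772))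
 (.leaf (nat_lit 0xc040201058ec52e1) (nat_lit 1284))
) (.node (nat_lit 0xc040201058fc52a1) (.leaf (nat_lit 0xc040201058fc4281) (nat_lit 773))
 (.leaf (nat_lit 0xc040201058fc52a1) (nat_lit 1285))
)))) (.node (nat_lit 0xc040301058cc02c3) (.node (nat_lit 0xc040301048ec4243) (.node (nat_lit 0xc040301048dc0243) (.node (nat_lit 0xc040301048cc1233) (.leaf (nat_lit 0xc040301048cc0203) (nat_lit 517))
 (.leaf (nat_lit 0xc040301048cc1233) (nat_lit 1541))
) (.node (nat_lit 0xc040301048dc1273) (.leaf (nat_lit 0xc040301048dc0243) (nat_lit 1028))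
 (.leaf (nat_lit 0xc040301048dc1273) (nat_lit 1541))
)) (.node (nat_lit 0xc040301048fc4203) (.node (nat_lit 0xc040301048ec5273) (.leaf (nat_lit 0xc040301048ec4243) (nat_lit 773))
 (.leaf (nat_lit 0xc040301048ec5273) (nat_lit 1285))
) (.node (nat_lit 0xc040301048fc5233) (.leaf (nat_lit 0xc040301048fc4203) (nat_lit 773))
 (.leaf (nat_lit 0xc040301048fc5233) (nat_lit 1285))
))) (.node (nat_lit 0xc040301058ec4283) (.node (nat_lit 0xc040301058dc0283) (.node (nat_lit 0xc040301058cc12f3) (.leaf (nat_lit 0xc040301058cc02c3) (nat_lit 772))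
 (.leaf (nat_lit 0xc040301058cc12f3) (nat_lit 1797))
) (.node (nat_lit 0xc040301058dc12b3) (.leaf (nat_lit 0xc040301058dc0283) (nat_lit 773))
 (.leaf (nat_lit 0xc040301058dc12b3) (nat_lit 1797))
)) (.node (nat_lit 0xc040301058fc42c3) (.node (nat_lit 0xc040301058ec52b3) (.leaf (nat_lit 0xc040301058ec4283) (nat_lit 1029))
 (.leaf (nat_lit 0xc040301058ec52b3) (nat_lit 1541))
) (.node (nat_lit 0xc040301058fc52f3) (.leaf (nat_lit 0xc040301058fc42c3) (nat_lit 1028))
 (.leaf (nat_lit 0xc040301058fc52f3) (nat_lit 1540))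
))))) (.node (nat_lit 0xc050301048cc02cf) (.node (nat_lit 0xc050201058cc020d) (.node (nat_lit 0xc050201048ec42ed) (.node (nat_lit 0xc050201048dc029d) (.node (nat_lit 0xc050201048cc12ed) (.leaf (nat_lit 0xc050201048cc02cd) (nat_lit 514))
 (.leaf (nat_lit 0xc050201048cc12ed) (nat_lit 1027))
) (.node (nat_lit 0xc050201048dc12bd) (.leaf (nat_lit 0xc050201048dc029d) (nat_lit 1028))
 (.leaf (nat_lit 0xc050201048dc12bd) (nat_lit 1539))
)) (.node (nat_lit 0xc050201048fc42bd) (.node (nat_lit 0xc050201048ec52cd) (.leaf (nat_lit 0xc050201048ec42ed) (nat_lit 770))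
 (.leaf (nat_lit 0xc050201048ec52cd) (nat_lit 771))
) (.node (nat_lit 0xc050201048fc529d) (.leaf (nat_lit 0xc050201048fc42bd) (nat_lit 1282))
 (.leaf (nat_lit 0xc050201048fc529d) (nat_lit 1280))
))) (.node (nat_lit 0xc050201058ec422d) (.node (nat_lit 0xc050201058dc025d) (.node (nat_lit 0xc050201058cc122d) (.leaf (nat_lit 0xc050201058cc020d) (nat_lit 772))
 (.leaf (nat_lit 0xc050201058cc122d) (nat_lit 1284))
) (.node (nat_lit 0xc050201058dc127d) (.leaf (nat_lit 0xc050201058dc025d) (nat_lit 770))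
 (.leaf (nat_lit 0xc050201058dc127d) (nat_lit 1283))
)) (.node (nat_lit 0xc050201058fc427d) (.node (nat_lit 0xc050201058ec520d) (.leaf (nat_lit 0xc050201058ec422d) (nat_lit 1028))
 (.leaf (nat_lit 0xc050201058ec520d) (nat_lit 1028))
) (.node (nat_lit 0xc050201058fc525d) (.leaf (nat_lit 0xc050201058fc427d) (nat_lit 1026))
 (.leaf (nat_lit 0xc050201058fc525d) (nat_lit 1027))
)))) (.node (nat_lit 0xc050301058cc020f) (.node (nat_lit 0xc050301048ec42af) (.node (nat_lit 0xc050301048dc029f) (.node (nat_lit 0xc050301048cc12ff) (.leaf (nat_lit 0xc050301048cc02cf) (nat_lit 770))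
 (.leaf (nat_lit 0xc050301048cc12ff) (nat_lit 1283))
) (.node (nat_lit 0xc050301048dc12af) (.leaf (nat_lit 0xc050301048dc029f) (nat_lit 1284))
 (.leaf (nat_lit 0xc050301048dc12af) (nat_lit 1283))
)) (.node (nat_lit 0xc050301048fc42ff) (.node (nat_lit 0xc050301048ec529f) (.leaf (nat_lit 0xc050301048ec42af) (nat_lit 1026))
 (.leaf (nat_lit 0xc050301048ec529f) (nat_lit 1024))
) (.node (nat_lit 0xc050301048fc52cf) (.leaf (nat_lit 0xc050301048fc42ff) (nat_lit 1026))
 (.leaf (nat_lit 0xc050301048fc52cf) (nat_lit 1027))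
))) (.node (nat_lit 0xc050301058ec426f) (.node (nat_lit 0xc050301058dc025f) (.node (nat_lit 0xc050301058cc123f) (.leaf (nat_lit 0xc050301058cc020f) (nat_lit 1028))
 (.leaf (nat_lit 0xc050301058cc123f) (nat_lit 1540))
) (.node (nat_lit 0xc050301058dc126f) (.leaf (nat_lit 0xc050301058dc025f) (nat_lit 1026))
 (.leaf (nat_lit 0xc050301058dc126f) (nat_lit 1539))
)) (.node (nat_lit 0xc050301058fc423f) (.node (nat_lit 0xc050301058ec525f) (.leaf (nat_lit 0xc050301058ec426f) (nat_lit 1282))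
 (.leaf (nat_lit 0xc050301058ec525f) (nat_lit 1283))
) (.node (nat_lit 0xc050301058fc520f) (.leaf (nat_lit 0xc050301058fc423f) (nat_lit 1284))
 (.leaf (nat_lit 0xc050301058fc520f) (nat_lit 1284))
)))))) (.node (nat_lit 0xc070201048cccecd) (.node (nat_lit 0xc060301048cccecf) (.node (nat_lit 0xc060201058cccec1) (.node (nat_lit 0xc060201048ecae01) (.node (nat_lit 0xc060201048dcce61) (.node (nat_lit 0xc060201048ccde21) (.leaf (nat_lit 0xc060201048ccce01) (nat_lit 513))
 (.leaf (nat_lit 0xc060201048ccde21) (nat_lit 1537))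
) (.node (nat_lit 0xc060201048dcde41) (.leaf (nat_lit 0xc060201048dcce61) (nat_lit 1536))
 (.leaf (nat_lit 0xc060201048dcde41) (nat_lit 1028))
)) (.node (nat_lit 0xc060201048fcae61) (.node (nat_lit 0xc060201048ecbe21) (.leaf (nat_lit 0xc060201048ecae01) (nat_lit 769))
 (.leaf (nat_lit 0xc060201048ecbe21) (nat_lit 1281))
) (.node (nat_lit 0xc060201048fcbe41) (.leaf (nat_lit 0xc060201048fcae61) (nat_lit 1280))
 (.leaf (nat_lit 0xc060201048fcbe41) (nat_lit 1281))
))) (.node (nat_lit 0xc060201058ecaec1) (.node (nat_lit 0xc060201058dccea1) (.node (nat_lit 0xc060201058ccdee1) (.leaf (nat_lit 0xc060201058cccec1) (nat_lit 772))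
 (.leaf (nat_lit 0xc060201058ccdee1) (nat_lit 1797))
) (.node (nat_lit 0xc060201058dcde81) (.leaf (nat_lit 0xc060201058dccea1) (nat_lit 1285))
 (.leaf (nat_lit 0xc060201058dcde81) (nat_lit 769))
)) (.node (nat_lit 0xc060201058fcaea1) (.node (nat_lit 0xc060201058ecbee1) (.leaf (nat_lit 0xc060201058ecaec1) (nat_lit 1028))
 (.leaf (nat_lit 0xc060201058ecbee1) (nat_lit 1540))
) (.node (nat_lit 0xc060201058fcbe81) (.leaf (nat_lit 0xc060201058fcaea1) (nat_lit 1537))
 (.leaf (nat_lit 0xc060201058fcbe81) (nat_lit 1025))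
)))) (.node (nat_lit 0xc060301058ccce0f) (.node (nat_lit 0xc060301048ecaeaf) (.node (nat_lit 0xc060301048dcceaf) (.node (nat_lit 0xc060301048ccdeff) (.leaf (nat_lit 0xc060301048cccecf) (nat_lit 768))
 (.leaf (nat_lit 0xc060301048ccdeff) (nat_lit 1539))
) (.node (nat_lit 0xc060301048dcde9f) (.leaf (nat_lit 0xc060301048dcceaf) (nat_lit 1283))
 (.leaf (nat_lit 0xc060301048dcde9f) (nat_lit 1284))
)) (.node (nat_lit 0xc060301048fcaecf) (.node (nat_lit 0xc060301048ecbe9f) (.leaf (nat_lit 0xc060301048ecaeaf) (nat_lit 1024))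
 (.leaf (nat_lit 0xc060301048ecbe9f) (nat_lit 1281))
) (.node (nat_lit 0xc060301048fcbeff) (.leaf (nat_lit 0xc060301048fcaecf) (nat_lit 1027))
 (.leaf (nat_lit 0xc060301048fcbeff) (nat_lit 1282))
))) (.node (nat_lit 0xc060301058ecae6f) (.node (nat_lit 0xc060301058dcce6f) (.node (nat_lit 0xc060301058ccde3f) (.leaf (nat_lit 0xc060301058ccce0f) (nat_lit 1028))
 (.leaf (nat_lit 0xc060301058ccde3f) (nat_lit 1539))
) (.node (nat_lit 0xc060301058dcde5f) (.leaf (nat_lit 0xc060301058dcce6f) (nat_lit 1540))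
 (.leaf (nat_lit 0xc060301058dcde5f) (nat_lit 1024))
)) (.node (nat_lit 0xc060301058fcae0f) (.node (nat_lit 0xc060301058ecbe5f) (.leaf (nat_lit 0xc060301058ecae6f) (nat_lit 1284))
 (.leaf (nat_lit 0xc060301058ecbe5f) (nat_lit 1283))
) (.node (nat_lit 0xc060301058fcbe3f) (.leaf (nat_lit 0xc060301058fcae0f) (nat_lit 1284))
 (.leaf (nat_lit 0xc060301058fcbe3f) (nat_lit 1280))
))))) (.node (nat_lit 0xc070301048ccce03) (.node (nat_lit 0xc070201058ccce0d) (.node (nat_lit 0xc070201048ecaeed) (.node (nat_lit 0xc070201048dccebd) (.node (nat_lit 0xc070201048ccdeed) (.leaf (nat_lit 0xc070201048cccecd) (nat_lit 770))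
 (.leaf (nat_lit 0xc070201048ccdeed) (nat_lit 1283))
) (.node (nat_lit 0xc070201048dcde9d) (.leaf (nat_lit 0xc070201048dccebd) (nat_lit 1539))
 (.leaf (nat_lit 0xc070201048dcde9d) (nat_lit 1284))
)) (.node (nat_lit 0xc070201048fcae9d) (.node (nat_lit 0xc070201048ecbecd) (.leaf (nat_lit 0xc070201048ecaeed) (nat_lit 1026))
 (.leaf (nat_lit 0xc070201048ecbecd) (nat_lit 1027))
) (.node (nat_lit 0xc070201048fcbebd) (.leaf (nat_lit 0xc070201048fcae9d) (nat_lit 1537))
 (.leaf (nat_lit 0xc070201048fcbebd) (nat_lit 1280))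
))) (.node (nat_lit 0xc070201058ecae2d) (.node (nat_lit 0xc070201058dcce7d) (.node (nat_lit 0xc070201058ccde2d) (.leaf (nat_lit 0xc070201058ccce0d) (nat_lit 1028))
 (.leaf (nat_lit 0xc070201058ccde2d) (nat_lit 1540))
) (.node (nat_lit 0xc070201058dcde5d) (.leaf (nat_lit 0xc070201058dcce7d) (nat_lit 1539))
 (.leaf (nat_lit 0xc070201058dcde5d) (nat_lit 1026))
)) (.node (nat_lit 0xc070201058fcae5d) (.node (nat_lit 0xc070201058ecbe0d) (.leaf (nat_lit 0xc070201058ecae2d) (nat_lit 1284))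
 (.leaf (nat_lit 0xc070201058ecbe0d) (nat_lit 1284))
) (.node (nat_lit 0xc070201058fcbe7d) (.leaf (nat_lit 0xc070201058fcae5d) (nat_lit 1283))
 (.leaf (nat_lit 0xc070201058fcbe7d) (nat_lit 1282))
)))) (.node (nat_lit 0xc070301058cccec3) (.node (nat_lit 0xc070301048ecae43) (.node (nat_lit 0xc070301048dcce73) (.node (nat_lit 0xc070301048ccde33) (.leaf (nat_lit 0xc070301048ccce03) (nat_lit 769))
 (.leaf (nat_lit 0xc070301048ccde33) (nat_lit 1536))
) (.node (nat_lit 0xc070301048dcde43) (.leaf (nat_lit 0xc070301048dcce73) (nat_lit 1538))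
 (.leaf (nat_lit 0xc070301048dcde43) (nat_lit 1284))
)) (.node (nat_lit 0xc070301048fcae33) (.node (nat_lit 0xc070301048ecbe73) (.leaf (nat_lit 0xc070301048ecae43) (nat_lit 1025))
 (.leaf (nat_lit 0xc070301048ecbe73) (nat_lit 1280))
) (.node (nat_lit 0xc070301048fcbe03) (.leaf (nat_lit 0xc070301048fcae33) (nat_lit 1282))
 (.leaf (nat_lit 0xc070301048fcbe03) (nat_lit 1025))
))) (.node (nat_lit 0xc070301058ecae83) (.node (nat_lit 0xc070301058dcceb3) (.node (nat_lit 0xc070301058ccdef3) (.leaf (nat_lit 0xc070301058cccec3) (nat_lit 1028))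
 (.leaf (nat_lit 0xc070301058ccdef3) (nat_lit 1794))
) (.node (nat_lit 0xc070301058dcde83) (.leaf (nat_lit 0xc070301058dcceb3) (nat_lit 1541))
 (.leaf (nat_lit 0xc070301058dcde83) (nat_lit 1025))
)) (.node (nat_lit 0xc070301058fcaef3) (.node (nat_lit 0xc070301058ecbeb3) (.leaf (nat_lit 0xc070301058ecae83) (nat_lit 1281))
 (.leaf (nat_lit 0xc070301058ecbeb3) (nat_lit 1538))
) (.node (nat_lit 0xc070301058fcbec3) (.leaf (nat_lit 0xc070301058fcaef3) (nat_lit 1536))
 (.leaf (nat_lit 0xc070301058fcbec3) (nat_lit 1284))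
))))))) (.node (nat_lit 0xd060201048ccce49) (.node (nat_lit 0xd050201048cc0285) (.node (nat_lit 0xd040301048cc024b) (.node (nat_lit 0xd040201058cc0299) (.node (nat_lit 0xd040201048ec4249) (.node (nat_lit 0xd040201048dc0209) (.node (nat_lit 0xd040201048cc1269) (.leaf (nat_lit 0xd040201048cc0249) (nat_lit 1026))
 (.leaf (nat_lit 0xd040201048cc1269) (nat_lit 1539))
) (.node (nat_lit 0xd040201048dc1229) (.leaf (nat_lit 0xd040201048dc0209) (nat_lit 1028))
 (.leaf (nat_lit 0xd040201048dc1229) (nat_lit 1540))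
)) (.node (nat_lit 0xd040201048fc4209) (.node (nat_lit 0xd040201048ec5269) (.leaf (nat_lit 0xd040201048ec4249) (nat_lit 1283))
 (.leaf (nat_lit 0xd040201048ec5269) (nat_lit 1282))
) (.node (nat_lit 0xd040201048fc5229) (.leaf (nat_lit 0xd040201048fc4209) (nat_lit 1284))
 (.leaf (nat_lit 0xd040201048fc5229) (nat_lit 1284))
))) (.node (nat_lit 0xd040201058ec4299) (.node (nat_lit 0xd040201058dc02d9) (.node (nat_lit 0xd040201058cc12b9) (.leaf (nat_lit 0xd040201058cc0299) (nat_lit 1284))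
 (.leaf (nat_lit 0xd040201058cc12b9) (nat_lit 1795))
) (.node (nat_lit 0xd040201058dc12f9) (.leaf (nat_lit 0xd040201058dc02d9) (nat_lit 770))
 (.leaf (nat_lit 0xd040201058dc12f9) (nat_lit 1283))
)) (.node (nat_lit 0xd040201058fc42d9) (.node (nat_lit 0xd040201058ec52b9) (.leaf (nat_lit 0xd040201058ec4299) (nat_lit 1536))
 (.leaf (nat_lit 0xd040201058ec52b9) (nat_lit 1538))
) (.node (nat_lit 0xd040201058fc52f9) (.leaf (nat_lit 0xd040201058fc42d9) (nat_lit 1027))
 (.leaf (nat_lit 0xd040201058fc52f9) (nat_lit 1026))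
)))) (.node (nat_lit 0xd040301058cc029b) (.node (nat_lit 0xd040301048ec420b) (.node (nat_lit 0xd040301048dc020b) (.node (nat_lit 0xd040301048cc127b) (.leaf (nat_lit 0xd040301048cc024b) (nat_lit 1282))
 (.leaf (nat_lit 0xd040301048cc127b) (nat_lit 1795))
) (.node (nat_lit 0xd040301048dc123b) (.leaf (nat_lit 0xd040301048dc020b) (nat_lit 1284))
 (.leaf (nat_lit 0xd040301048dc123b) (nat_lit 1796))
)) (.node (nat_lit 0xd040301048fc424b) (.node (nat_lit 0xd040301048ec523b) (.leaf (nat_lit 0xd040301048ec420b) (nat_lit 1540))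
 (.leaf (nat_lit 0xd040301048ec523b) (nat_lit 1540))
) (.node (nat_lit 0xd040301048fc527b) (.leaf (nat_lit 0xd040301048fc424b) (nat_lit 1539))
 (.leaf (nat_lit 0xd040301048fc527b) (nat_lit 1538))
))) (.node (nat_lit 0xd040301058ec42db) (.node (nat_lit 0xd040301058dc02db) (.node (nat_lit 0xd040301058cc12ab) (.leaf (nat_lit 0xd040301058cc029b) (nat_lit 1540))
 (.leaf (nat_lit 0xd040301058cc12ab) (nat_lit 1539))
) (.node (nat_lit 0xd040301058dc12eb) (.leaf (nat_lit 0xd040301058dc02db) (nat_lit 1026))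
 (.leaf (nat_lit 0xd040301058dc12eb) (nat_lit 1539))
)) (.node (nat_lit 0xd040301058fc429b) (.node (nat_lit 0xd040301058ec52eb) (.leaf (nat_lit 0xd040301058ec42db) (nat_lit 1283))
 (.leaf (nat_lit 0xd040301058ec52eb) (nat_lit 1282))
) (.node (nat_lit 0xd040301058fc52ab) (.leaf (nat_lit 0xd040301058fc429b) (nat_lit 1280))
 (.leaf (nat_lit 0xd040301058fc52ab) (nat_lit 1282))
))))) (.node (nat_lit 0xd050301048cc0287) (.node (nat_lit 0xd050201058cc0255) (.node (nat_lit 0xd050201048ec42a5) (.node (nat_lit 0xd050201048dc02d5) (.node (nat_lit 0xd050201048cc12a5) (.leaf (nat_lit 0xd050201048cc0285) (nat_lit 773))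
 (.leaf (nat_lit 0xd050201048cc12a5) (nat_lit 1285))
) (.node (nat_lit 0xd050201048dc12f5) (.leaf (nat_lit 0xd050201048dc02d5) (nat_lit 772))
 (.leaf (nat_lit 0xd050201048dc12f5) (nat_lit 1284))
)) (.node (nat_lit 0xd050201048fc42f5) (.node (nat_lit 0xd050201048ec5285) (.leaf (nat_lit 0xd050201048ec42a5) (nat_lit 1029))
 (.leaf (nat_lit 0xd050201048ec5285) (nat_lit 1029))
) (.node (nat_lit 0xd050201048fc52d5) (.leaf (nat_lit 0xd050201048fc42f5) (nat_lit 1028))
 (.leaf (nat_lit 0xd050201048fc52d5) (nat_lit 1028))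
))) (.node (nat_lit 0xd050201058ec4275) (.node (nat_lit 0xd050201058dc0205) (.node (nat_lit 0xd050201058cc1275) (.leaf (nat_lit 0xd050201058cc0255) (nat_lit 1028))
 (.leaf (nat_lit 0xd050201058cc1275) (nat_lit 1541))
) (.node (nat_lit 0xd050201058dc1225) (.leaf (nat_lit 0xd050201058dc0205) (nat_lit 517))
 (.leaf (nat_lit 0xd050201058dc1225) (nat_lit 1029))
)) (.node (nat_lit 0xd050201058fc4225) (.node (nat_lit 0xd050201058ec5255) (.leaf (nat_lit 0xd050201058ec4275) (nat_lit 1285))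
 (.leaf (nat_lit 0xd050201058ec5255) (nat_lit 1285))
) (.node (nat_lit 0xd050201058fc5205) (.leaf (nat_lit 0xd050201058fc4225) (nat_lit 773))
 (.leaf (nat_lit 0xd050201058fc5205) (nat_lit 773))
)))) (.node (nat_lit 0xd050301058cc0257) (.node (nat_lit 0xd050301048ec42e7) (.node (nat_lit 0xd050301048dc02d7) (.node (nat_lit 0xd050301048cc12b7) (.leaf (nat_lit 0xd050301048cc0287) (nat_lit 1029))
 (.leaf (nat_lit 0xd050301048cc12b7) (nat_lit 1541))
) (.node (nat_lit 0xd050301048dc12e7) (.leaf (nat_lit 0xd050301048dc02d7) (nat_lit 1028))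
 (.leaf (nat_lit 0xd050301048dc12e7) (nat_lit 1540))
)) (.node (nat_lit 0xd050301048fc42b7) (.node (nat_lit 0xd050301048ec52d7) (.leaf (nat_lit 0xd050301048ec42e7) (nat_lit 1284))
 (.leaf (nat_lit 0xd050301048ec52d7) (nat_lit 1284))
) (.node (nat_lit 0xd050301048fc5287) (.leaf (nat_lit 0xd050301048fc42b7) (nat_lit 1285))
 (.leaf (nat_lit 0xd050301048fc5287) (nat_lit 1285))
))) (.node (nat_lit 0xd050301058ec4237) (.node (nat_lit 0xd050301058dc0207) (.node (nat_lit 0xd050301058cc1267) (.leaf (nat_lit 0xd050301058cc0257) (nat_lit 1284))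
 (.leaf (nat_lit 0xd050301058cc1267) (nat_lit 1285))
) (.node (nat_lit 0xd050301058dc1237) (.leaf (nat_lit 0xd050301058dc0207) (nat_lit 773))
 (.leaf (nat_lit 0xd050301058dc1237) (nat_lit 1285))
)) (.node (nat_lit 0xd050301058fc4267) (.node (nat_lit 0xd050301058ec5207) (.leaf (nat_lit 0xd050301058ec4237) (nat_lit 1029))
 (.leaf (nat_lit 0xd050301058ec5207) (nat_lit 1029))
) (.node (nat_lit 0xd050301058fc5257) (.leaf (nat_lit 0xd050301058fc4267) (nat_lit 1029))
 (.leaf (nat_lit 0xd050301058fc5257) (nat_lit 1029))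
)))))) (.node (nat_lit 0xd070201048ccce85) (.node (nat_lit 0xd060301048ccce87) (.node (nat_lit 0xd060201058ccce99) (.node (nat_lit 0xd060201048ecae49) (.node (nat_lit 0xd060201048dcce29) (.node (nat_lit 0xd060201048ccde69) (.leaf (nat_lit 0xd060201048ccce49) (nat_lit 1282))
 (.leaf (nat_lit 0xd060201048ccde69) (nat_lit 1795))
) (.node (nat_lit 0xd060201048dcde09) (.leaf (nat_lit 0xd060201048dcce29) (nat_lit 1796))
 (.leaf (nat_lit 0xd060201048dcde09) (nat_lit 1284))
)) (.node (nat_lit 0xd060201048fcae29) (.node (nat_lit 0xd060201048ecbe69) (.leaf (nat_lit 0xd060201048ecae49) (nat_lit 1539))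
 (.leaf (nat_lit 0xd060201048ecbe69) (nat_lit 1538))
) (.node (nat_lit 0xd060201048fcbe09) (.leaf (nat_lit 0xd060201048fcae29) (nat_lit 1540))
 (.leaf (nat_lit 0xd060201048fcbe09) (nat_lit 1540))
))) (.node (nat_lit 0xd060201058ecae99) (.node (nat_lit 0xd060201058dccef9) (.node (nat_lit 0xd060201058ccdeb9) (.leaf (nat_lit 0xd060201058ccce99) (nat_lit 1540))
 (.leaf (nat_lit 0xd060201058ccdeb9) (nat_lit 1795))
) (.node (nat_lit 0xd060201058dcded9) (.leaf (nat_lit 0xd060201058dccef9) (nat_lit 1539))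
 (.leaf (nat_lit 0xd060201058dcded9) (nat_lit 1026))
)) (.node (nat_lit 0xd060201058fcaef9) (.node (nat_lit 0xd060201058ecbeb9) (.leaf (nat_lit 0xd060201058ecae99) (nat_lit 1536))
 (.leaf (nat_lit 0xd060201058ecbeb9) (nat_lit 1536))
) (.node (nat_lit 0xd060201058fcbed9) (.leaf (nat_lit 0xd060201058fcaef9) (nat_lit 1282))
 (.leaf (nat_lit 0xd060201058fcbed9) (nat_lit 1283))
)))) (.node (nat_lit 0xd060301058ccce57) (.node (nat_lit 0xd060301048ecaee7) (.node (nat_lit 0xd060301048dccee7) (.node (nat_lit 0xd060301048ccdeb7) (.leaf (nat_lit 0xd060301048ccce87) (nat_lit 1281))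
 (.leaf (nat_lit 0xd060301048ccdeb7) (nat_lit 1797))
) (.node (nat_lit 0xd060301048dcded7) (.leaf (nat_lit 0xd060301048dccee7) (nat_lit 1796))
 (.leaf (nat_lit 0xd060301048dcded7) (nat_lit 1284))
)) (.node (nat_lit 0xd060301048fcae87) (.node (nat_lit 0xd060301048ecbed7) (.leaf (nat_lit 0xd060301048ecaee7) (nat_lit 1540))
 (.leaf (nat_lit 0xd060301048ecbed7) (nat_lit 1540))
) (.node (nat_lit 0xd060301048fcbeb7) (.leaf (nat_lit 0xd060301048fcae87) (nat_lit 1537))
 (.leaf (nat_lit 0xd060301048fcbeb7) (nat_lit 1537))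
))) (.node (nat_lit 0xd060301058ecae37) (.node (nat_lit 0xd060301058dcce37) (.node (nat_lit 0xd060301058ccde67) (.leaf (nat_lit 0xd060301058ccce57) (nat_lit 1540))
 (.leaf (nat_lit 0xd060301058ccde67) (nat_lit 1537))
) (.node (nat_lit 0xd060301058dcde07) (.leaf (nat_lit 0xd060301058dcce37) (nat_lit 1537))
 (.leaf (nat_lit 0xd060301058dcde07) (nat_lit 1025))
)) (.node (nat_lit 0xd060301058fcae57) (.node (nat_lit 0xd060301058ecbe07) (.leaf (nat_lit 0xd060301058ecae37) (nat_lit 1281))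
 (.leaf (nat_lit 0xd060301058ecbe07) (nat_lit 1281))
) (.node (nat_lit 0xd060301058fcbe67) (.leaf (nat_lit 0xd060301058fcae57) (nat_lit 1281))
 (.leaf (nat_lit 0xd060301058fcbe67) (nat_lit 1281))
))))) (.node (nat_lit 0xd070301048ccce4b) (.node (nat_lit 0xd070201058ccce55) (.node (nat_lit 0xd070201048ecaea5) (.node (nat_lit 0xd070201048dccef5) (.node (nat_lit 0xd070201048ccdea5) (.leaf (nat_lit 0xd070201048ccce85) (nat_lit 1025))
 (.leaf (nat_lit 0xd070201048ccdea5) (nat_lit 1541))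
) (.node (nat_lit 0xd070201048dcded5) (.leaf (nat_lit 0xd070201048dccef5) (nat_lit 1540))
 (.leaf (nat_lit 0xd070201048dcded5) (nat_lit 1028))
)) (.node (nat_lit 0xd070201048fcaed5) (.node (nat_lit 0xd070201048ecbe85) (.leaf (nat_lit 0xd070201048ecaea5) (nat_lit 1281))
 (.leaf (nat_lit 0xd070201048ecbe85) (nat_lit 1281))
) (.node (nat_lit 0xd070201048fcbef5) (.leaf (nat_lit 0xd070201048fcaed5) (nat_lit 1284))
 (.leaf (nat_lit 0xd070201048fcbef5) (nat_lit 1284))
))) (.node (nat_lit 0xd070201058ecae75) (.node (nat_lit 0xd070201058dcce25) (.node (nat_lit 0xd070201058ccde75) (.leaf (nat_lit 0xd070201058ccce55) (nat_lit 1284))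
 (.leaf (nat_lit 0xd070201058ccde75) (nat_lit 1793))
) (.node (nat_lit 0xd070201058dcde05) (.leaf (nat_lit 0xd070201058dcce25) (nat_lit 1281))
 (.leaf (nat_lit 0xd070201058dcde05) (nat_lit 769))
)) (.node (nat_lit 0xd070201058fcae05) (.node (nat_lit 0xd070201058ecbe55) (.leaf (nat_lit 0xd070201058ecae75) (nat_lit 1537))
 (.leaf (nat_lit 0xd070201058ecbe55) (nat_lit 1537))
) (.node (nat_lit 0xd070201058fcbe25) (.leaf (nat_lit 0xd070201058fcae05) (nat_lit 1025))
 (.leaf (nat_lit 0xd070201058fcbe25) (nat_lit 1025))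
)))) (.node (nat_lit 0xd070301058ccce9b) (.node (nat_lit 0xd070301048ecae0b) (.node (nat_lit 0xd070301048dcce3b) (.node (nat_lit 0xd070301048ccde7b) (.leaf (nat_lit 0xd070301048ccce4b) (nat_lit 1280))
 (.leaf (nat_lit 0xd070301048ccde7b) (nat_lit 1796))
) (.node (nat_lit 0xd070301048dcde0b) (.leaf (nat_lit 0xd070301048dcce3b) (nat_lit 1795))
 (.leaf (nat_lit 0xd070301048dcde0b) (nat_lit 1284))
)) (.node (nat_lit 0xd070301048fcae7b) (.node (nat_lit 0xd070301048ecbe3b) (.leaf (nat_lit 0xd070301048ecae0b) (nat_lit 1540))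
 (.leaf (nat_lit 0xd070301048ecbe3b) (nat_lit 1536))
) (.node (nat_lit 0xd070301048fcbe4b) (.leaf (nat_lit 0xd070301048fcae7b) (nat_lit 1540))
 (.leaf (nat_lit 0xd070301048fcbe4b) (nat_lit 1539))
))) (.node (nat_lit 0xd070301058ecaedb) (.node (nat_lit 0xd070301058dcceeb) (.node (nat_lit 0xd070301058ccdeab) (.leaf (nat_lit 0xd070301058ccce9b) (nat_lit 1540))
 (.leaf (nat_lit 0xd070301058ccdeab) (nat_lit 1539))
) (.node (nat_lit 0xd070301058dcdedb) (.leaf (nat_lit 0xd070301058dcceeb) (nat_lit 1536))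
 (.leaf (nat_lit 0xd070301058dcdedb) (nat_lit 1024))
)) (.node (nat_lit 0xd070301058fcaeab) (.node (nat_lit 0xd070301058ecbeeb) (.leaf (nat_lit 0xd070301058ecaedb) (nat_lit 1283))
 (.leaf (nat_lit 0xd070301058ecbeeb) (nat_lit 1538))
) (.node (nat_lit 0xd070301058fcbe9b) (.leaf (nat_lit 0xd070301058fcaeab) (nat_lit 1280))
 (.leaf (nat_lit 0xd070301058fcbe9b) (nat_lit 1280))
)))))))) (.node (nat_lit 0xf040201068ccaa69) (.node (nat_lit 0xe060201068cc6601) (.node (nat_lit 0xe050201068ccaacd) (.node (nat_lit 0xe040301068ccaaab) (.node (nat_lit 0xe040201078ccaae1) (.node (nat_lit 0xe040201068ecea01) (.node (nat_lit 0xe040201068dcaa41) (.node (nat_lit 0xe040201068ccba21) (.leaf (nat_lit 0xe040201068ccaa01) (nat_lit 1025))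
 (.leaf (nat_lit 0xe040201068ccba21) (nat_lit 1537))
) (.node (nat_lit 0xe040201068dcba61) (.leaf (nat_lit 0xe040201068dcaa41) (nat_lit 1537))
 (.leaf (nat_lit 0xe040201068dcba61) (nat_lit 1537))
)) (.node (nat_lit 0xe040201068fcea41) (.node (nat_lit 0xe040201068ecfa21) (.leaf (nat_lit 0xe040201068ecea01) (nat_lit 769))
 (.leaf (nat_lit 0xe040201068ecfa21) (nat_lit 1793))
) (.node (nat_lit 0xe040201068fcfa61) (.leaf (nat_lit 0xe040201068fcea41) (nat_lit 1793))
 (.leaf (nat_lit 0xe040201068fcfa61) (nat_lit 1284))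
))) (.node (nat_lit 0xe040201078eceae1) (.node (nat_lit 0xe040201078dcaaa1) (.node (nat_lit 0xe040201078ccbac1) (.leaf (nat_lit 0xe040201078ccaae1) (nat_lit 1284))
 (.leaf (nat_lit 0xe040201078ccbac1) (nat_lit 1793))
) (.node (nat_lit 0xe040201078dcba81) (.leaf (nat_lit 0xe040201078dcaaa1) (nat_lit 1796))
 (.leaf (nat_lit 0xe040201078dcba81) (nat_lit 1281))
)) (.node (nat_lit 0xe040201078fceaa1) (.node (nat_lit 0xe040201078ecfac1) (.leaf (nat_lit 0xe040201078eceae1) (nat_lit 1028))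
 (.leaf (nat_lit 0xe040201078ecfac1) (nat_lit 1541))
) (.node (nat_lit 0xe040201078fcfa81) (.leaf (nat_lit 0xe040201078fceaa1) (nat_lit 1541))
 (.leaf (nat_lit 0xe040201078fcfa81) (nat_lit 1025))
)))) (.node (nat_lit 0xe040301078ccaa4b) (.node (nat_lit 0xe040301068eceaeb) (.node (nat_lit 0xe040301068dcaaeb) (.node (nat_lit 0xe040301068ccba9b) (.leaf (nat_lit 0xe040301068ccaaab) (nat_lit 1280))
 (.leaf (nat_lit 0xe040301068ccba9b) (nat_lit 1537))
) (.node (nat_lit 0xe040301068dcbadb) (.leaf (nat_lit 0xe040301068dcaaeb) (nat_lit 1283))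
 (.leaf (nat_lit 0xe040301068dcbadb) (nat_lit 1538))
)) (.node (nat_lit 0xe040301068fceaab) (.node (nat_lit 0xe040301068ecfadb) (.leaf (nat_lit 0xe040301068eceaeb) (nat_lit 1024))
 (.leaf (nat_lit 0xe040301068ecfadb) (nat_lit 1795))
) (.node (nat_lit 0xe040301068fcfa9b) (.leaf (nat_lit 0xe040301068fceaab) (nat_lit 1539))
 (.leaf (nat_lit 0xe040301068fcfa9b) (nat_lit 1540))
))) (.node (nat_lit 0xe040301078ecea0b) (.node (nat_lit 0xe040301078dcaa0b) (.node (nat_lit 0xe040301078ccba7b) (.leaf (nat_lit 0xe040301078ccaa4b) (nat_lit 1540))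
 (.leaf (nat_lit 0xe040301078ccba7b) (nat_lit 1539))
) (.node (nat_lit 0xe040301078dcba3b) (.leaf (nat_lit 0xe040301078dcaa0b) (nat_lit 1540))
 (.leaf (nat_lit 0xe040301078dcba3b) (nat_lit 1536))
)) (.node (nat_lit 0xe040301078fcea4b) (.node (nat_lit 0xe040301078ecfa3b) (.leaf (nat_lit 0xe040301078ecea0b) (nat_lit 1284))
 (.leaf (nat_lit 0xe040301078ecfa3b) (nat_lit 1795))
) (.node (nat_lit 0xe040301078fcfa7b) (.leaf (nat_lit 0xe040301078fcea4b) (nat_lit 1796))
 (.leaf (nat_lit 0xe040301078fcfa7b) (nat_lit 1280))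
))))) (.node (nat_lit 0xe050301068ccaa67) (.node (nat_lit 0xe050201078ccaa2d) (.node (nat_lit 0xe050201068eceaed) (.node (nat_lit 0xe050201068dcaa9d) (.node (nat_lit 0xe050201068ccbaed) (.leaf (nat_lit 0xe050201068ccaacd) (nat_lit 1282))
 (.leaf (nat_lit 0xe050201068ccbaed) (nat_lit 1283))
) (.node (nat_lit 0xe050201068dcbabd) (.leaf (nat_lit 0xe050201068dcaa9d) (nat_lit 1792))
 (.leaf (nat_lit 0xe050201068dcbabd) (nat_lit 1536))
)) (.node (nat_lit 0xe050201068fceabd) (.node (nat_lit 0xe050201068ecfacd) (.leaf (nat_lit 0xe050201068eceaed) (nat_lit 1026))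
 (.leaf (nat_lit 0xe050201068ecfacd) (nat_lit 1539))
) (.node (nat_lit 0xe050201068fcfa9d) (.leaf (nat_lit 0xe050201068fceabd) (nat_lit 1795))
 (.leaf (nat_lit 0xe050201068fcfa9d) (nat_lit 1540))
))) (.node (nat_lit 0xe050201078ecea0d) (.node (nat_lit 0xe050201078dcaa7d) (.node (nat_lit 0xe050201078ccba0d) (.leaf (nat_lit 0xe050201078ccaa2d) (nat_lit 1540))
 (.leaf (nat_lit 0xe050201078ccba0d) (nat_lit 1540))
) (.node (nat_lit 0xe050201078dcba5d) (.leaf (nat_lit 0xe050201078dcaa7d) (nat_lit 1539))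
 (.leaf (nat_lit 0xe050201078dcba5d) (nat_lit 1538))
)) (.node (nat_lit 0xe050201078fcea5d) (.node (nat_lit 0xe050201078ecfa2d) (.leaf (nat_lit 0xe050201078ecea0d) (nat_lit 1284))
 (.leaf (nat_lit 0xe050201078ecfa2d) (nat_lit 1796))
) (.node (nat_lit 0xe050201078fcfa7d) (.leaf (nat_lit 0xe050201078fcea5d) (nat_lit 1795))
 (.leaf (nat_lit 0xe050201078fcfa7d) (nat_lit 1282))
)))) (.node (nat_lit 0xe050301078ccaa87) (.node (nat_lit 0xe050301068ecea07) (.node (nat_lit 0xe050301068dcaa37) (.node (nat_lit 0xe050301068ccba57) (.leaf (nat_lit 0xe050301068ccaa67) (nat_lit 1281))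
 (.leaf (nat_lit 0xe050301068ccba57) (nat_lit 1536))
) (.node (nat_lit 0xe050301068dcba07) (.leaf (nat_lit 0xe050301068dcaa37) (nat_lit 1537))
 (.leaf (nat_lit 0xe050301068dcba07) (nat_lit 1281))
)) (.node (nat_lit 0xe050301068fcea57) (.node (nat_lit 0xe050301068ecfa37) (.leaf (nat_lit 0xe050301068ecea07) (nat_lit 1025))
 (.leaf (nat_lit 0xe050301068ecfa37) (nat_lit 1793))
) (.node (nat_lit 0xe050301068fcfa67) (.leaf (nat_lit 0xe050301068fcea57) (nat_lit 1794))
 (.leaf (nat_lit 0xe050301068fcfa67) (nat_lit 1540))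
))) (.node (nat_lit 0xe050301078eceae7) (.node (nat_lit 0xe050301078dcaad7) (.node (nat_lit 0xe050301078ccbab7) (.leaf (nat_lit 0xe050301078ccaa87) (nat_lit 1537))
 (.leaf (nat_lit 0xe050301078ccbab7) (nat_lit 1793))
) (.node (nat_lit 0xe050301078dcbae7) (.leaf (nat_lit 0xe050301078dcaad7) (nat_lit 1796))
 (.leaf (nat_lit 0xe050301078dcbae7) (nat_lit 1540))
)) (.node (nat_lit 0xe050301078fceab7) (.node (nat_lit 0xe050301078ecfad7) (.leaf (nat_lit 0xe050301078eceae7) (nat_lit 1284))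
 (.leaf (nat_lit 0xe050301078ecfad7) (nat_lit 1793))
) (.node (nat_lit 0xe050301078fcfa87) (.leaf (nat_lit 0xe050301078fceab7) (nat_lit 1797))
 (.leaf (nat_lit 0xe050301078fcfa87) (nat_lit 1281))
)))))) (.node (nat_lit 0xe070201068cc66cd) (.node (nat_lit 0xe060301068cc6667) (.node (nat_lit 0xe060201078cc66e1) (.node (nat_lit 0xe060201068ec0601) (.node (nat_lit 0xe060201068dc6661) (.node (nat_lit 0xe060201068cc7621) (.leaf (nat_lit 0xe060201068cc6601) (nat_lit 773))
 (.leaf (nat_lit 0xe060201068cc7621) (nat_lit 1285))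
) (.node (nat_lit 0xe060201068dc7641) (.leaf (nat_lit 0xe060201068dc6661) (nat_lit 1285))
 (.leaf (nat_lit 0xe060201068dc7641) (nat_lit 1285))
)) (.node (nat_lit 0xe060201068fc0661) (.node (nat_lit 0xe060201068ec1621) (.leaf (nat_lit 0xe060201068ec0601) (nat_lit 517))
 (.leaf (nat_lit 0xe060201068ec1621) (nat_lit 1541))
) (.node (nat_lit 0xe060201068fc1641) (.leaf (nat_lit 0xe060201068fc0661) (nat_lit 1028))
 (.leaf (nat_lit 0xe060201068fc1641) (nat_lit 1541))
))) (.node (nat_lit 0xe060201078ec06e1) (.node (nat_lit 0xe060201078dc6681) (.node (nat_lit 0xe060201078cc76c1) (.leaf (nat_lit 0xe060201078cc66e1) (nat_lit 1028))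
 (.leaf (nat_lit 0xe060201078cc76c1) (nat_lit 1541))
) (.node (nat_lit 0xe060201078dc76a1) (.leaf (nat_lit 0xe060201078dc6681) (nat_lit 1029))
 (.leaf (nat_lit 0xe060201078dc76a1) (nat_lit 1540))
)) (.node (nat_lit 0xe060201078fc0681) (.node (nat_lit 0xe060201078ec16c1) (.leaf (nat_lit 0xe060201078ec06e1) (nat_lit 772))
 (.leaf (nat_lit 0xe060201078ec16c1) (nat_lit 1285))
) (.node (nat_lit 0xe060201078fc16a1) (.leaf (nat_lit 0xe060201078fc0681) (nat_lit 773))
 (.leaf (nat_lit 0xe060201078fc16a1) (nat_lit 1796))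
)))) (.node (nat_lit 0xe060301078cc6687) (.node (nat_lit 0xe060301068ec0607) (.node (nat_lit 0xe060301068dc6607) (.node (nat_lit 0xe060301068cc7657) (.leaf (nat_lit 0xe060301068cc6667) (nat_lit 1029))
 (.leaf (nat_lit 0xe060301068cc7657) (nat_lit 1285))
) (.node (nat_lit 0xe060301068dc7637) (.leaf (nat_lit 0xe060301068dc6607) (nat_lit 1029))
 (.leaf (nat_lit 0xe060301068dc7637) (nat_lit 1285))
)) (.node (nat_lit 0xe060301068fc0667) (.node (nat_lit 0xe060301068ec1637) (.leaf (nat_lit 0xe060301068ec0607) (nat_lit 773))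
 (.leaf (nat_lit 0xe060301068ec1637) (nat_lit 1541))
) (.node (nat_lit 0xe060301068fc1657) (.leaf (nat_lit 0xe060301068fc0667) (nat_lit 1284))
 (.leaf (nat_lit 0xe060301068fc1657) (nat_lit 1541))
))) (.node (nat_lit 0xe060301078ec06e7) (.node (nat_lit 0xe060301078dc66e7) (.node (nat_lit 0xe060301078cc76b7) (.leaf (nat_lit 0xe060301078cc6687) (nat_lit 1285))
 (.leaf (nat_lit 0xe060301078cc76b7) (nat_lit 1541))
) (.node (nat_lit 0xe060301078dc76d7) (.leaf (nat_lit 0xe060301078dc66e7) (nat_lit 1284))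
 (.leaf (nat_lit 0xe060301078dc76d7) (nat_lit 1540))
)) (.node (nat_lit 0xe060301078fc0687) (.node (nat_lit 0xe060301078ec16d7) (.leaf (nat_lit 0xe060301078ec06e7) (nat_lit 1028))
 (.leaf (nat_lit 0xe060301078ec16d7) (nat_lit 1541))
) (.node (nat_lit 0xe060301078fc16b7) (.leaf (nat_lit 0xe060301078fc0687) (nat_lit 1029))
 (.leaf (nat_lit 0xe060301078fc16b7) (nat_lit 1797))
))))) (.node (nat_lit 0xe070301068cc66ab) (.node (nat_lit 0xe070201078cc662d) (.node (nat_lit 0xe070201068ec06ed) (.node (nat_lit 0xe070201068dc66bd) (.node (nat_lit 0xe070201068cc76ed) (.leaf (nat_lit 0xe070201068cc66cd) (nat_lit 1026))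
 (.leaf (nat_lit 0xe070201068cc76ed) (nat_lit 1027))
) (.node (nat_lit 0xe070201068dc769d) (.leaf (nat_lit 0xe070201068dc66bd) (nat_lit 1538))
 (.leaf (nat_lit 0xe070201068dc769d) (nat_lit 1538))
)) (.node (nat_lit 0xe070201068fc069d) (.node (nat_lit 0xe070201068ec16cd) (.leaf (nat_lit 0xe070201068ec06ed) (nat_lit 770))
 (.leaf (nat_lit 0xe070201068ec16cd) (nat_lit 1283))
) (.node (nat_lit 0xe070201068fc16bd) (.leaf (nat_lit 0xe070201068fc069d) (nat_lit 1284))
 (.leaf (nat_lit 0xe070201068fc16bd) (nat_lit 1794))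
))) (.node (nat_lit 0xe070201078ec060d) (.node (nat_lit 0xe070201078dc665d) (.node (nat_lit 0xe070201078cc760d) (.leaf (nat_lit 0xe070201078cc662d) (nat_lit 1284))
 (.leaf (nat_lit 0xe070201078cc760d) (nat_lit 1284))
) (.node (nat_lit 0xe070201078dc767d) (.leaf (nat_lit 0xe070201078dc665d) (nat_lit 1282))
 (.leaf (nat_lit 0xe070201078dc767d) (nat_lit 1283))
)) (.node (nat_lit 0xe070201078fc067d) (.node (nat_lit 0xe070201078ec162d) (.leaf (nat_lit 0xe070201078ec060d) (nat_lit 1028))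
 (.leaf (nat_lit 0xe070201078ec162d) (nat_lit 1540))
) (.node (nat_lit 0xe070201078fc165d) (.leaf (nat_lit 0xe070201078fc067d) (nat_lit 1026))
 (.leaf (nat_lit 0xe070201078fc165d) (nat_lit 1539))
)))) (.node (nat_lit 0xe070301078cc664b) (.node (nat_lit 0xe070301068ec06eb) (.node (nat_lit 0xe070301068dc66db) (.node (nat_lit 0xe070301068cc769b) (.leaf (nat_lit 0xe070301068cc66ab) (nat_lit 1282))
 (.leaf (nat_lit 0xe070301068cc769b) (nat_lit 1280))
) (.node (nat_lit 0xe070301068dc76eb) (.leaf (nat_lit 0xe070301068dc66db) (nat_lit 1282))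
 (.leaf (nat_lit 0xe070301068dc76eb) (nat_lit 1283))
)) (.node (nat_lit 0xe070301068fc069b) (.node (nat_lit 0xe070301068ec16db) (.leaf (nat_lit 0xe070301068ec06eb) (nat_lit 1026))
 (.leaf (nat_lit 0xe070301068ec16db) (nat_lit 1539))
) (.node (nat_lit 0xe070301068fc16ab) (.leaf (nat_lit 0xe070301068fc069b) (nat_lit 1540))
 (.leaf (nat_lit 0xe070301068fc16ab) (nat_lit 1539))
))) (.node (nat_lit 0xe070301078ec060b) (.node (nat_lit 0xe070301078dc663b) (.node (nat_lit 0xe070301078cc767b) (.leaf (nat_lit 0xe070301078cc664b) (nat_lit 1538))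
 (.leaf (nat_lit 0xe070301078cc767b) (nat_lit 1539))
) (.node (nat_lit 0xe070301078dc760b) (.leaf (nat_lit 0xe070301078dc663b) (nat_lit 1540))
 (.leaf (nat_lit 0xe070301078dc760b) (nat_lit 1540))
)) (.node (nat_lit 0xe070301078fc067b) (.node (nat_lit 0xe070301078ec163b) (.leaf (nat_lit 0xe070301078ec060b) (nat_lit 1284))
 (.leaf (nat_lit 0xe070301078ec163b) (nat_lit 1796))
) (.node (nat_lit 0xe070301078fc164b) (.leaf (nat_lit 0xe070301078fc067b) (nat_lit 1282))
 (.leaf (nat_lit 0xe070301078fc164b) (nat_lit 1795))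
))))))) (.node (nat_lit 0xf060201068cc6669) (.node (nat_lit 0xf050201068ccaaa5) (.node (nat_lit 0xf040301068ccaac3) (.node (nat_lit 0xf040201078ccaa99) (.node (nat_lit 0xf040201068ecea69) (.node (nat_lit 0xf040201068dcaa29) (.node (nat_lit 0xf040201068ccba49) (.leaf (nat_lit 0xf040201068ccaa69) (nat_lit 1795))
 (.leaf (nat_lit 0xf040201068ccba49) (nat_lit 1796))
) (.node (nat_lit 0xf040201068dcba09) (.leaf (nat_lit 0xf040201068dcaa29) (nat_lit 1792))
 (.leaf (nat_lit 0xf040201068dcba09) (nat_lit 1796))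
)) (.node (nat_lit 0xf040201068fcea29) (.node (nat_lit 0xf040201068ecfa49) (.leaf (nat_lit 0xf040201068ecea69) (nat_lit 1536))
 (.leaf (nat_lit 0xf040201068ecfa49) (nat_lit 2052))
) (.node (nat_lit 0xf040201068fcfa09) (.leaf (nat_lit 0xf040201068fcea29) (nat_lit 2051))
 (.leaf (nat_lit 0xf040201068fcfa09) (nat_lit 1540))
))) (.node (nat_lit 0xf040201078ecea99) (.node (nat_lit 0xf040201078dcaad9) (.node (nat_lit 0xf040201078ccbab9) (.leaf (nat_lit 0xf040201078ccaa99) (nat_lit 1793))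
 (.leaf (nat_lit 0xf040201078ccbab9) (nat_lit 1536))
) (.node (nat_lit 0xf040201078dcbaf9) (.leaf (nat_lit 0xf040201078dcaad9) (nat_lit 1538))
 (.leaf (nat_lit 0xf040201078dcbaf9) (nat_lit 1539))
)) (.node (nat_lit 0xf040201078fcead9) (.node (nat_lit 0xf040201078ecfab9) (.leaf (nat_lit 0xf040201078ecea99) (nat_lit 1796))
 (.leaf (nat_lit 0xf040201078ecfab9) (nat_lit 1795))
) (.node (nat_lit 0xf040201078fcfaf9) (.leaf (nat_lit 0xf040201078fcead9) (nat_lit 1795))
 (.leaf (nat_lit 0xf040201078fcfaf9) (nat_lit 1280))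
)))) (.node (nat_lit 0xf040301078ccaa33) (.node (nat_lit 0xf040301068ecea83) (.node (nat_lit 0xf040301068dcaa83) (.node (nat_lit 0xf040301068ccbaf3) (.leaf (nat_lit 0xf040301068ccaac3) (nat_lit 1537))
 (.leaf (nat_lit 0xf040301068ccbaf3) (nat_lit 1540))
) (.node (nat_lit 0xf040301068dcbab3) (.leaf (nat_lit 0xf040301068dcaa83) (nat_lit 1537))
 (.leaf (nat_lit 0xf040301068dcbab3) (nat_lit 1540))
)) (.node (nat_lit 0xf040301068fceac3) (.node (nat_lit 0xf040301068ecfab3) (.leaf (nat_lit 0xf040301068ecea83) (nat_lit 1281))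
 (.leaf (nat_lit 0xf040301068ecfab3) (nat_lit 1797))
) (.node (nat_lit 0xf040301068fcfaf3) (.leaf (nat_lit 0xf040301068fceac3) (nat_lit 1797))
 (.leaf (nat_lit 0xf040301068fcfaf3) (nat_lit 1284))
))) (.node (nat_lit 0xf040301078ecea73) (.node (nat_lit 0xf040301078dcaa73) (.node (nat_lit 0xf040301078ccba03) (.leaf (nat_lit 0xf040301078ccaa33) (nat_lit 1537))
 (.leaf (nat_lit 0xf040301078ccba03) (nat_lit 1281))
) (.node (nat_lit 0xf040301078dcba43) (.leaf (nat_lit 0xf040301078dcaa73) (nat_lit 1537))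
 (.leaf (nat_lit 0xf040301078dcba43) (nat_lit 1281))
)) (.node (nat_lit 0xf040301078fcea33) (.node (nat_lit 0xf040301078ecfa43) (.leaf (nat_lit 0xf040301078ecea73) (nat_lit 1540))
 (.leaf (nat_lit 0xf040301078ecfa43) (nat_lit 1537))
) (.node (nat_lit 0xf040301078fcfa03) (.leaf (nat_lit 0xf040301078fcea33) (nat_lit 1793))
 (.leaf (nat_lit 0xf040301078fcfa03) (nat_lit 1025))
))))) (.node (nat_lit 0xf050301068ccaa0f) (.node (nat_lit 0xf050201078ccaa55) (.node (nat_lit 0xf050201068ecea85) (.node (nat_lit 0xf050201068dcaaf5) (.node (nat_lit 0xf050201068ccba85) (.leaf (nat_lit 0xf050201068ccaaa5) (nat_lit 1537))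
 (.leaf (nat_lit 0xf050201068ccba85) (nat_lit 1537))
) (.node (nat_lit 0xf050201068dcbad5) (.leaf (nat_lit 0xf050201068dcaaf5) (nat_lit 1540))
 (.leaf (nat_lit 0xf050201068dcbad5) (nat_lit 1540))
)) (.node (nat_lit 0xf050201068fcead5) (.node (nat_lit 0xf050201068ecfaa5) (.leaf (nat_lit 0xf050201068ecea85) (nat_lit 1281))
 (.leaf (nat_lit 0xf050201068ecfaa5) (nat_lit 1797))
) (.node (nat_lit 0xf050201068fcfaf5) (.leaf (nat_lit 0xf050201068fcead5) (nat_lit 1796))
 (.leaf (nat_lit 0xf050201068fcfaf5) (nat_lit 1284))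
))) (.node (nat_lit 0xf050201078ecea75) (.node (nat_lit 0xf050201078dcaa05) (.node (nat_lit 0xf050201078ccba75) (.leaf (nat_lit 0xf050201078ccaa55) (nat_lit 1792))
 (.leaf (nat_lit 0xf050201078ccba75) (nat_lit 1537))
) (.node (nat_lit 0xf050201078dcba25) (.leaf (nat_lit 0xf050201078dcaa05) (nat_lit 1281))
 (.leaf (nat_lit 0xf050201078dcba25) (nat_lit 1281))
)) (.node (nat_lit 0xf050201078fcea25) (.node (nat_lit 0xf050201078ecfa55) (.leaf (nat_lit 0xf050201078ecea75) (nat_lit 1540))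
 (.leaf (nat_lit 0xf050201078ecfa55) (nat_lit 1793))
) (.node (nat_lit 0xf050201078fcfa05) (.leaf (nat_lit 0xf050201078fcea25) (nat_lit 1537))
 (.leaf (nat_lit 0xf050201078fcfa05) (nat_lit 1025))
)))) (.node (nat_lit 0xf050301078ccaaff) (.node (nat_lit 0xf050301068ecea6f) (.node (nat_lit 0xf050301068dcaa5f) (.node (nat_lit 0xf050301068ccba3f) (.leaf (nat_lit 0xf050301068ccaa0f) (nat_lit 1796))
 (.leaf (nat_lit 0xf050301068ccba3f) (nat_lit 1796))
) (.node (nat_lit 0xf050301068dcba6f) (.leaf (nat_lit 0xf050301068dcaa5f) (nat_lit 1794))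
 (.leaf (nat_lit 0xf050301068dcba6f) (nat_lit 1795))
)) (.node (nat_lit 0xf050301068fcea3f) (.node (nat_lit 0xf050301068ecfa5f) (.leaf (nat_lit 0xf050301068ecea6f) (nat_lit 1538))
 (.leaf (nat_lit 0xf050301068ecfa5f) (nat_lit 1797))
) (.node (nat_lit 0xf050301068fcfa0f) (.leaf (nat_lit 0xf050301068fcea3f) (nat_lit 1796))
 (.leaf (nat_lit 0xf050301068fcfa0f) (nat_lit 1540))
))) (.node (nat_lit 0xf050301078ecea9f) (.node (nat_lit 0xf050301078dcaaaf) (.node (nat_lit 0xf050301078ccbacf) (.leaf (nat_lit 0xf050301078ccaaff) (nat_lit 1539))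
 (.leaf (nat_lit 0xf050301078ccbacf) (nat_lit 1538))
) (.node (nat_lit 0xf050301078dcba9f) (.leaf (nat_lit 0xf050301078dcaaaf) (nat_lit 1536))
 (.leaf (nat_lit 0xf050301078dcba9f) (nat_lit 1536))
)) (.node (nat_lit 0xf050301078fceacf) (.node (nat_lit 0xf050301078ecfaaf) (.leaf (nat_lit 0xf050301078ecea9f) (nat_lit 1796))
 (.leaf (nat_lit 0xf050301078ecfaaf) (nat_lit 1795))
) (.node (nat_lit 0xf050301078fcfaff) (.leaf (nat_lit 0xf050301078fceacf) (nat_lit 1541))
 (.leaf (nat_lit 0xf050301078fcfaff) (nat_lit 1282))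
)))))) (.node (nat_lit 0xf070201068cc66a5) (.node (nat_lit 0xf060301068cc660f) (.node (nat_lit 0xf060201078cc6699) (.node (nat_lit 0xf060201068ec0669) (.node (nat_lit 0xf060201068dc6609) (.node (nat_lit 0xf060201068cc7649) (.leaf (nat_lit 0xf060201068cc6669) (nat_lit 1539))
 (.leaf (nat_lit 0xf060201068cc7649) (nat_lit 1538))
) (.node (nat_lit 0xf060201068dc7629) (.leaf (nat_lit 0xf060201068dc6609) (nat_lit 1540))
 (.leaf (nat_lit 0xf060201068dc7629) (nat_lit 1540))
)) (.node (nat_lit 0xf060201068fc0609) (.node (nat_lit 0xf060201068ec1649) (.leaf (nat_lit 0xf060201068ec0669) (nat_lit 1282))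
 (.leaf (nat_lit 0xf060201068ec1649) (nat_lit 1795))
) (.node (nat_lit 0xf060201068fc1629) (.leaf (nat_lit 0xf060201068fc0609) (nat_lit 1284))
 (.leaf (nat_lit 0xf060201068fc1629) (nat_lit 1796))
))) (.node (nat_lit 0xf060201078ec0699) (.node (nat_lit 0xf060201078dc66f9) (.node (nat_lit 0xf060201078cc76b9) (.leaf (nat_lit 0xf060201078cc6699) (nat_lit 1536))
 (.leaf (nat_lit 0xf060201078cc76b9) (nat_lit 1538))
) (.node (nat_lit 0xf060201078dc76d9) (.leaf (nat_lit 0xf060201078dc66f9) (nat_lit 1283))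
 (.leaf (nat_lit 0xf060201078dc76d9) (nat_lit 1282))
)) (.node (nat_lit 0xf060201078fc06f9) (.node (nat_lit 0xf060201078ec16b9) (.leaf (nat_lit 0xf060201078ec0699) (nat_lit 1540))
 (.leaf (nat_lit 0xf060201078ec16b9) (nat_lit 1795))
) (.node (nat_lit 0xf060201078fc16d9) (.leaf (nat_lit 0xf060201078fc06f9) (nat_lit 1026))
 (.leaf (nat_lit 0xf060201078fc16d9) (nat_lit 1539))
)))) (.node (nat_lit 0xf060301078cc66ff) (.node (nat_lit 0xf060301068ec066f) (.node (nat_lit 0xf060301068dc666f) (.node (nat_lit 0xf060301068cc763f) (.leaf (nat_lit 0xf060301068cc660f) (nat_lit 1540))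
 (.leaf (nat_lit 0xf060301068cc763f) (nat_lit 1540))
) (.node (nat_lit 0xf060301068dc765f) (.leaf (nat_lit 0xf060301068dc666f) (nat_lit 1539))
 (.leaf (nat_lit 0xf060301068dc765f) (nat_lit 1538))
)) (.node (nat_lit 0xf060301068fc060f) (.node (nat_lit 0xf060301068ec165f) (.leaf (nat_lit 0xf060301068ec066f) (nat_lit 1282))
 (.leaf (nat_lit 0xf060301068ec165f) (nat_lit 1795))
) (.node (nat_lit 0xf060301068fc163f) (.leaf (nat_lit 0xf060301068fc060f) (nat_lit 1284))
 (.leaf (nat_lit 0xf060301068fc163f) (nat_lit 1796))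
))) (.node (nat_lit 0xf060301078ec069f) (.node (nat_lit 0xf060301078dc669f) (.node (nat_lit 0xf060301078cc76cf) (.leaf (nat_lit 0xf060301078cc66ff) (nat_lit 1283))
 (.leaf (nat_lit 0xf060301078cc76cf) (nat_lit 1282))
) (.node (nat_lit 0xf060301078dc76af) (.leaf (nat_lit 0xf060301078dc669f) (nat_lit 1282))
 (.leaf (nat_lit 0xf060301078dc76af) (nat_lit 1538))
)) (.node (nat_lit 0xf060301078fc06ff) (.node (nat_lit 0xf060301078ec16af) (.leaf (nat_lit 0xf060301078ec069f) (nat_lit 1540))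
 (.leaf (nat_lit 0xf060301078ec16af) (nat_lit 1538))
) (.node (nat_lit 0xf060301078fc16cf) (.leaf (nat_lit 0xf060301078fc06ff) (nat_lit 1026))
 (.leaf (nat_lit 0xf060301078fc16cf) (nat_lit 1539))
))))) (.node (nat_lit 0xf070301068cc66c3) (.node (nat_lit 0xf070201078cc6655) (.node (nat_lit 0xf070201068ec0685) (.node (nat_lit 0xf070201068dc66d5) (.node (nat_lit 0xf070201068cc7685) (.leaf (nat_lit 0xf070201068cc66a5) (nat_lit 1285))
 (.leaf (nat_lit 0xf070201068cc7685) (nat_lit 1285))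
) (.node (nat_lit 0xf070201068dc76f5) (.leaf (nat_lit 0xf070201068dc66d5) (nat_lit 1284))
 (.leaf (nat_lit 0xf070201068dc76f5) (nat_lit 1284))
)) (.node (nat_lit 0xf070201068fc06f5) (.node (nat_lit 0xf070201068ec16a5) (.leaf (nat_lit 0xf070201068ec0685) (nat_lit 1029))
 (.leaf (nat_lit 0xf070201068ec16a5) (nat_lit 1541))
) (.node (nat_lit 0xf070201068fc16d5) (.leaf (nat_lit 0xf070201068fc06f5) (nat_lit 1028))
 (.leaf (nat_lit 0xf070201068fc16d5) (nat_lit 1540))
))) (.node (nat_lit 0xf070201078ec0675) (.node (nat_lit 0xf070201078dc6625) (.node (nat_lit 0xf070201078cc7675) (.leaf (nat_lit 0xf070201078cc6655) (nat_lit 1541))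
 (.leaf (nat_lit 0xf070201078cc7675) (nat_lit 1285))
) (.node (nat_lit 0xf070201078dc7605) (.leaf (nat_lit 0xf070201078dc6625) (nat_lit 1029))
 (.leaf (nat_lit 0xf070201078dc7605) (nat_lit 1029))
)) (.node (nat_lit 0xf070201078fc0605) (.node (nat_lit 0xf070201078ec1655) (.leaf (nat_lit 0xf070201078ec0675) (nat_lit 1284))
 (.leaf (nat_lit 0xf070201078ec1655) (nat_lit 1541))
) (.node (nat_lit 0xf070201078fc1625) (.leaf (nat_lit 0xf070201078fc0605) (nat_lit 773))
 (.leaf (nat_lit 0xf070201078fc1625) (nat_lit 1285))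
)))) (.node (nat_lit 0xf070301078cc6633) (.node (nat_lit 0xf070301068ec0683) (.node (nat_lit 0xf070301068dc66b3) (.node (nat_lit 0xf070301068cc76f3) (.leaf (nat_lit 0xf070301068cc66c3) (nat_lit 1285))
 (.leaf (nat_lit 0xf070301068cc76f3) (nat_lit 1284))
) (.node (nat_lit 0xf070301068dc7683) (.leaf (nat_lit 0xf070301068dc66b3) (nat_lit 1284))
 (.leaf (nat_lit 0xf070301068dc7683) (nat_lit 1285))
)) (.node (nat_lit 0xf070301068fc06f3) (.node (nat_lit 0xf070301068ec16b3) (.leaf (nat_lit 0xf070301068ec0683) (nat_lit 1029))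
 (.leaf (nat_lit 0xf070301068ec16b3) (nat_lit 1540))
) (.node (nat_lit 0xf070301068fc16c3) (.leaf (nat_lit 0xf070301068fc06f3) (nat_lit 1028))
 (.leaf (nat_lit 0xf070301068fc16c3) (nat_lit 1541))
))) (.node (nat_lit 0xf070301078ec0673) (.node (nat_lit 0xf070301078dc6643) (.node (nat_lit 0xf070301078cc7603) (.leaf (nat_lit 0xf070301078cc6633) (nat_lit 1285))
 (.leaf (nat_lit 0xf070301078cc7603) (nat_lit 1029))
) (.node (nat_lit 0xf070301078dc7673) (.leaf (nat_lit 0xf070301078dc6643) (nat_lit 1029))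
 (.leaf (nat_lit 0xf070301078dc7673) (nat_lit 1285))
)) (.node (nat_lit 0xf070301078fc0603) (.node (nat_lit 0xf070301078ec1643) (.leaf (nat_lit 0xf070301078ec0673) (nat_lit 1284))
 (.leaf (nat_lit 0xf070301078ec1643) (nat_lit 1285))
) (.node (nat_lit 0xf070301078fc1633) (.leaf (nat_lit 0xf070301078fc0603) (nat_lit 773))
 (.leaf (nat_lit 0xf070301078fc1633) (nat_lit 1541))
))))))))))

theorem Cc_ok : genOK B8.A [(nat_lit 0x8040301008040203), (nat_lit 0x8060201008040601), (nat_lit 0x8050201008040205), (nat_lit 0x8040201008244201), (nat_lit 0x8040201018040281), (nat_lit 0xc040201048cc0201)] Cc_t (nat_lit 1024) = true := by decide +kernel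

noncomputable def Ce_t : ST :=
(.node (nat_lit 0xc040201048cc0201) (.node (nat_lit 0xa04020102804aa01) (.node (nat_lit 0x9040201008040209) (.node (nat_lit 0x8060201008040601) (.node (nat_lit 0x8050201028048205) (.node (nat_lit 0x8040301048840203) (.node (nat_lit 0x8040201018040281) (.node (nat_lit 0x8040201008244201) (.node (nat_lit 0x8040201008140241) (.node (nat_lit 0x8040201008041221) (.leaf (nat_lit 0x8040201008040201) (nat_lit 0))
 (.leaf (nat_lit 0x8040201008041221) (nat_lit 2052))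
) (.node (nat_lit 0x8040201008141261) (.leaf (nat_lit 0x8040201008140241) (nat_lit 1029))
 (.leaf (nat_lit 0x8040201008141261) (nat_lit 1536))
)) (.node (nat_lit 0x8040201008344241) (.node (nat_lit 0x8040201008245221) (.leaf (nat_lit 0x8040201008244201) (nat_lit 257))
 (.leaf (nat_lit 0x8040201008245221) (nat_lit 1797))
) (.node (nat_lit 0x8040201008345261) (.leaf (nat_lit 0x8040201008344241) (nat_lit 773))
 (.leaf (nat_lit 0x8040201008345261) (nat_lit 1280))
))) (.node (nat_lit 0x8040201018244281) (.node (nat_lit 0x80402010181402c1) (.node (nat_lit 0x80402010180412a1) (.leaf (nat_lit 0x8040201018040281) (nat_lit 258))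
 (.leaf (nat_lit 0x80402010180412a1) (nat_lit 1796))
) (.node (nat_lit 0x80402010181412e1) (.leaf (nat_lit 0x80402010181402c1) (nat_lit 772))
 (.leaf (nat_lit 0x80402010181412e1) (nat_lit 1280))
)) (.node (nat_lit 0x80402010183442c1) (.node (nat_lit 0x80402010182452a1) (.leaf (nat_lit 0x8040201018244281) (nat_lit 514))
 (.leaf (nat_lit 0x80402010182452a1) (nat_lit 2053))
) (.node (nat_lit 0x80402010183452e1) (.leaf (nat_lit 0x80402010183442c1) (nat_lit 1028))
 (.leaf (nat_lit 0x80402010183452e1) (nat_lit 1536))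
)))) (.node (nat_lit 0x8040301058840283) (.node (nat_lit 0x8040301048a44243) (.node (nat_lit 0x8040301048940243) (.node (nat_lit 0x8040301048841233) (.leaf (nat_lit 0x8040301048840203) (nat_lit 261))
 (.leaf (nat_lit 0x8040301048841233) (nat_lit 1795))
) (.node (nat_lit 0x8040301048941273) (.leaf (nat_lit 0x8040301048940243) (nat_lit 769))
 (.leaf (nat_lit 0x8040301048941273) (nat_lit 1797))
)) (.node (nat_lit 0x8040301048b44203) (.node (nat_lit 0x8040301048a45273) (.leaf (nat_lit 0x8040301048a44243) (nat_lit 517))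
 (.leaf (nat_lit 0x8040301048a45273) (nat_lit 1536))
) (.node (nat_lit 0x8040301048b45233) (.leaf (nat_lit 0x8040301048b44203) (nat_lit 513))
 (.leaf (nat_lit 0x8040301048b45233) (nat_lit 1541))
))) (.node (nat_lit 0x8040301058a442c3) (.node (nat_lit 0x80403010589402c3) (.node (nat_lit 0x80403010588412b3) (.leaf (nat_lit 0x8040301058840283) (nat_lit 517))
 (.leaf (nat_lit 0x80403010588412b3) (nat_lit 2049))
) (.node (nat_lit 0x80403010589412f3) (.leaf (nat_lit 0x80403010589402c3) (nat_lit 1025))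
 (.leaf (nat_lit 0x80403010589412f3) (nat_lit 1541))
)) (.node (nat_lit 0x8040301058b44283) (.node (nat_lit 0x8040301058a452f3) (.leaf (nat_lit 0x8040301058a442c3) (nat_lit 773))
 (.leaf (nat_lit 0x8040301058a452f3) (nat_lit 1793))
) (.node (nat_lit 0x8040301058b452b3) (.leaf (nat_lit 0x8040301058b44283) (nat_lit 769))
 (.leaf (nat_lit 0x8040301058b452b3) (nat_lit 1797))
))))) (.node (nat_lit 0x8050301068848207) (.node (nat_lit 0x8050201038048285) (.node (nat_lit 0x805020102824c225) (.node (nat_lit 0x8050201028148255) (.node (nat_lit 0x8050201028049225) (.leaf (nat_lit 0x8050201028048205) (nat_lit 1285))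
 (.leaf (nat_lit 0x8050201028049225) (nat_lit 1793))
) (.node (nat_lit 0x8050201028149275) (.leaf (nat_lit 0x8050201028148255) (nat_lit 1793))
 (.leaf (nat_lit 0x8050201028149275) (nat_lit 1797))
)) (.node (nat_lit 0x805020102834c275) (.node (nat_lit 0x805020102824d205) (.leaf (nat_lit 0x805020102824c225) (nat_lit 1541))
 (.leaf (nat_lit 0x805020102824d205) (nat_lit 1537))
) (.node (nat_lit 0x805020102834d255) (.leaf (nat_lit 0x805020102834c275) (nat_lit 1536))
 (.leaf (nat_lit 0x805020102834d255) (nat_lit 1541))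
))) (.node (nat_lit 0x805020103824c2a5) (.node (nat_lit 0x80502010381482d5) (.node (nat_lit 0x80502010380492a5) (.leaf (nat_lit 0x8050201038048285) (nat_lit 1029))
 (.leaf (nat_lit 0x80502010380492a5) (nat_lit 1537))
) (.node (nat_lit 0x80502010381492f5) (.leaf (nat_lit 0x80502010381482d5) (nat_lit 1537))
 (.leaf (nat_lit 0x80502010381492f5) (nat_lit 1541))
)) (.node (nat_lit 0x805020103834c2f5) (.node (nat_lit 0x805020103824d285) (.leaf (nat_lit 0x805020103824c2a5) (nat_lit 1285))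
 (.leaf (nat_lit 0x805020103824d285) (nat_lit 1281))
) (.node (nat_lit 0x805020103834d2d5) (.leaf (nat_lit 0x805020103834c2f5) (nat_lit 1280))
 (.leaf (nat_lit 0x805020103834d2d5) (nat_lit 1285))
)))) (.node (nat_lit 0x8050301078848287) (.node (nat_lit 0x8050301068a4c267) (.node (nat_lit 0x8050301068948257) (.node (nat_lit 0x8050301068849237) (.leaf (nat_lit 0x8050301068848207) (nat_lit 768))
 (.leaf (nat_lit 0x8050301068849237) (nat_lit 1797))
) (.node (nat_lit 0x8050301068949267) (.leaf (nat_lit 0x8050301068948257) (nat_lit 1796))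
 (.leaf (nat_lit 0x8050301068949267) (nat_lit 1281))
)) (.node (nat_lit 0x8050301068b4c237) (.node (nat_lit 0x8050301068a4d257) (.leaf (nat_lit 0x8050301068a4c267) (nat_lit 1024))
 (.leaf (nat_lit 0x8050301068a4d257) (nat_lit 1541))
) (.node (nat_lit 0x8050301068b4d207) (.leaf (nat_lit 0x8050301068b4c237) (nat_lit 1541))
 (.leaf (nat_lit 0x8050301068b4d207) (nat_lit 1025))
))) (.node (nat_lit 0x8050301078a4c2e7) (.node (nat_lit 0x80503010789482d7) (.node (nat_lit 0x80503010788492b7) (.leaf (nat_lit 0x8050301078848287) (nat_lit 1024))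
 (.leaf (nat_lit 0x80503010788492b7) (nat_lit 1796))
) (.node (nat_lit 0x80503010789492e7) (.leaf (nat_lit 0x80503010789482d7) (nat_lit 1540))
 (.leaf (nat_lit 0x80503010789492e7) (nat_lit 1537))
)) (.node (nat_lit 0x8050301078b4c2b7) (.node (nat_lit 0x8050301078a4d2d7) (.leaf (nat_lit 0x8050301078a4c2e7) (nat_lit 1280))
 (.leaf (nat_lit 0x8050301078a4d2d7) (nat_lit 1540))
) (.node (nat_lit 0x8050301078b4d287) (.leaf (nat_lit 0x8050301078b4c2b7) (nat_lit 1539))
 (.leaf (nat_lit 0x8050301078b4d287) (nat_lit 1281))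
)))))) (.node (nat_lit 0x8070201028048605) (.node (nat_lit 0x8060301068840607) (.node (nat_lit 0x8060201018040681) (.node (nat_lit 0x8060201008246601) (.node (nat_lit 0x8060201008140661) (.node (nat_lit 0x8060201008041621) (.leaf (nat_lit 0x8060201008040601) (nat_lit 256))
 (.leaf (nat_lit 0x8060201008041621) (nat_lit 1796))
) (.node (nat_lit 0x8060201008141641) (.leaf (nat_lit 0x8060201008140661) (nat_lit 1285))
 (.leaf (nat_lit 0x8060201008141641) (nat_lit 1280))
)) (.node (nat_lit 0x8060201008346661) (.node (nat_lit 0x8060201008247621) (.leaf (nat_lit 0x8060201008246601) (nat_lit 513))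
 (.leaf (nat_lit 0x8060201008247621) (nat_lit 2053))
) (.node (nat_lit 0x8060201008347641) (.leaf (nat_lit 0x8060201008346661) (nat_lit 1029))
 (.leaf (nat_lit 0x8060201008347641) (nat_lit 1024))
))) (.node (nat_lit 0x8060201018246681) (.node (nat_lit 0x80602010181406e1) (.node (nat_lit 0x80602010180416a1) (.leaf (nat_lit 0x8060201018040681) (nat_lit 514))
 (.leaf (nat_lit 0x80602010180416a1) (nat_lit 2052))
) (.node (nat_lit 0x80602010181416c1) (.leaf (nat_lit 0x80602010181406e1) (nat_lit 1028))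
 (.leaf (nat_lit 0x80602010181416c1) (nat_lit 1024))
)) (.node (nat_lit 0x80602010183466e1) (.node (nat_lit 0x80602010182476a1) (.leaf (nat_lit 0x8060201018246681) (nat_lit 770))
 (.leaf (nat_lit 0x80602010182476a1) (nat_lit 1797))
) (.node (nat_lit 0x80602010183476c1) (.leaf (nat_lit 0x80602010183466e1) (nat_lit 1284))
 (.leaf (nat_lit 0x80602010183476c1) (nat_lit 1280))
)))) (.node (nat_lit 0x8060301078840687) (.node (nat_lit 0x8060301068a46667) (.node (nat_lit 0x8060301068940667) (.node (nat_lit 0x8060301068841637) (.leaf (nat_lit 0x8060301068840607) (nat_lit 517))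
 (.leaf (nat_lit 0x8060301068841637) (nat_lit 1539))
) (.node (nat_lit 0x8060301068941657) (.leaf (nat_lit 0x8060301068940667) (nat_lit 1025))
 (.leaf (nat_lit 0x8060301068941657) (nat_lit 1541))
)) (.node (nat_lit 0x8060301068b46607) (.node (nat_lit 0x8060301068a47657) (.leaf (nat_lit 0x8060301068a46667) (nat_lit 773))
 (.leaf (nat_lit 0x8060301068a47657) (nat_lit 1792))
) (.node (nat_lit 0x8060301068b47637) (.leaf (nat_lit 0x8060301068b46607) (nat_lit 769))
 (.leaf (nat_lit 0x8060301068b47637) (nat_lit 1285))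
))) (.node (nat_lit 0x8060301078a466e7) (.node (nat_lit 0x80603010789406e7) (.node (nat_lit 0x80603010788416b7) (.leaf (nat_lit 0x8060301078840687) (nat_lit 773))
 (.leaf (nat_lit 0x80603010788416b7) (nat_lit 1793))
) (.node (nat_lit 0x80603010789416d7) (.leaf (nat_lit 0x80603010789406e7) (nat_lit 1281))
 (.leaf (nat_lit 0x80603010789416d7) (nat_lit 1285))
)) (.node (nat_lit 0x8060301078b46687) (.node (nat_lit 0x8060301078a476d7) (.leaf (nat_lit 0x8060301078a466e7) (nat_lit 1029))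
 (.leaf (nat_lit 0x8060301078a476d7) (nat_lit 1537))
) (.node (nat_lit 0x8060301078b476b7) (.leaf (nat_lit 0x8060301078b46687) (nat_lit 1025))
 (.leaf (nat_lit 0x8060301078b476b7) (nat_lit 1541))
))))) (.node (nat_lit 0x8070301048848603) (.node (nat_lit 0x8070201038048685) (.node (nat_lit 0x807020102824e625) (.node (nat_lit 0x8070201028148675) (.node (nat_lit 0x8070201028049625) (.leaf (nat_lit 0x8070201028048605) (nat_lit 1029))
 (.leaf (nat_lit 0x8070201028049625) (nat_lit 1537))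
) (.node (nat_lit 0x8070201028149655) (.leaf (nat_lit 0x8070201028148675) (nat_lit 1537))
 (.leaf (nat_lit 0x8070201028149655) (nat_lit 1541))
)) (.node (nat_lit 0x807020102834e655) (.node (nat_lit 0x807020102824f605) (.leaf (nat_lit 0x807020102824e625) (nat_lit 1285))
 (.leaf (nat_lit 0x807020102824f605) (nat_lit 1281))
) (.node (nat_lit 0x807020102834f675) (.leaf (nat_lit 0x807020102834e655) (nat_lit 1792))
 (.leaf (nat_lit 0x807020102834f675) (nat_lit 1285))
))) (.node (nat_lit 0x807020103824e6a5) (.node (nat_lit 0x80702010381486f5) (.node (nat_lit 0x80702010380496a5) (.leaf (nat_lit 0x8070201038048685) (nat_lit 773))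
 (.leaf (nat_lit 0x80702010380496a5) (nat_lit 1281))
) (.node (nat_lit 0x80702010381496d5) (.leaf (nat_lit 0x80702010381486f5) (nat_lit 1281))
 (.leaf (nat_lit 0x80702010381496d5) (nat_lit 1285))
)) (.node (nat_lit 0x807020103834e6d5) (.node (nat_lit 0x807020103824f685) (.leaf (nat_lit 0x807020103824e6a5) (nat_lit 1029))
 (.leaf (nat_lit 0x807020103824f685) (nat_lit 1025))
) (.node (nat_lit 0x807020103834f6f5) (.leaf (nat_lit 0x807020103834e6d5) (nat_lit 1536))
 (.leaf (nat_lit 0x807020103834f6f5) (nat_lit 1029))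
)))) (.node (nat_lit 0x8070301058848683) (.node (nat_lit 0x8070301048a4e643) (.node (nat_lit 0x8070301048948673) (.node (nat_lit 0x8070301048849633) (.leaf (nat_lit 0x8070301048848603) (nat_lit 512))
 (.leaf (nat_lit 0x8070301048849633) (nat_lit 1541))
) (.node (nat_lit 0x8070301048949643) (.leaf (nat_lit 0x8070301048948673) (nat_lit 1540))
 (.leaf (nat_lit 0x8070301048949643) (nat_lit 1025))
)) (.node (nat_lit 0x8070301048b4e633) (.node (nat_lit 0x8070301048a4f673) (.leaf (nat_lit 0x8070301048a4e643) (nat_lit 768))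
 (.leaf (nat_lit 0x8070301048a4f673) (nat_lit 1285))
) (.node (nat_lit 0x8070301048b4f603) (.leaf (nat_lit 0x8070301048b4e633) (nat_lit 1797))
 (.leaf (nat_lit 0x8070301048b4f603) (nat_lit 769))
))) (.node (nat_lit 0x8070301058a4e6c3) (.node (nat_lit 0x80703010589486f3) (.node (nat_lit 0x80703010588496b3) (.leaf (nat_lit 0x8070301058848683) (nat_lit 768))
 (.leaf (nat_lit 0x80703010588496b3) (nat_lit 1797))
) (.node (nat_lit 0x80703010589496c3) (.leaf (nat_lit 0x80703010589486f3) (nat_lit 1284))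
 (.leaf (nat_lit 0x80703010589496c3) (nat_lit 1281))
)) (.node (nat_lit 0x8070301058b4e6b3) (.node (nat_lit 0x8070301058a4f6f3) (.leaf (nat_lit 0x8070301058a4e6c3) (nat_lit 1024))
 (.leaf (nat_lit 0x8070301058a4f6f3) (nat_lit 1541))
) (.node (nat_lit 0x8070301058b4f683) (.leaf (nat_lit 0x8070301058b4e6b3) (nat_lit 1540))
 (.leaf (nat_lit 0x8070301058b4f683) (nat_lit 1025))
))))))) (.node (nat_lit 0x9060201008040609) (.node (nat_lit 0x905020102804822d) (.node (nat_lit 0x904030104884024b) (.node (nat_lit 0x9040201018040299) (.node (nat_lit 0x9040201008244209) (.node (nat_lit 0x9040201008140249) (.node (nat_lit 0x9040201008041229) (.leaf (nat_lit 0x9040201008040209) (nat_lit 259))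
 (.leaf (nat_lit 0x9040201008041229) (nat_lit 1796))
) (.node (nat_lit 0x9040201008141269) (.leaf (nat_lit 0x9040201008140249) (nat_lit 772))
 (.leaf (nat_lit 0x9040201008141269) (nat_lit 1280))
)) (.node (nat_lit 0x9040201008344249) (.node (nat_lit 0x9040201008245229) (.leaf (nat_lit 0x9040201008244209) (nat_lit 515))
 (.leaf (nat_lit 0x9040201008245229) (nat_lit 2053))
) (.node (nat_lit 0x9040201008345269) (.leaf (nat_lit 0x9040201008344249) (nat_lit 1028))
 (.leaf (nat_lit 0x9040201008345269) (nat_lit 1536))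
))) (.node (nat_lit 0x9040201018244299) (.node (nat_lit 0x90402010181402d9) (.node (nat_lit 0x90402010180412b9) (.leaf (nat_lit 0x9040201018040299) (nat_lit 515))
 (.leaf (nat_lit 0x90402010180412b9) (nat_lit 2052))
) (.node (nat_lit 0x90402010181412f9) (.leaf (nat_lit 0x90402010181402d9) (nat_lit 1028))
 (.leaf (nat_lit 0x90402010181412f9) (nat_lit 1536))
)) (.node (nat_lit 0x90402010183442d9) (.node (nat_lit 0x90402010182452b9) (.leaf (nat_lit 0x9040201018244299) (nat_lit 771))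
 (.leaf (nat_lit 0x90402010182452b9) (nat_lit 2053))
) (.node (nat_lit 0x90402010183452f9) (.leaf (nat_lit 0x90402010183442d9) (nat_lit 1284))
 (.leaf (nat_lit 0x90402010183452f9) (nat_lit 1792))
)))) (.node (nat_lit 0x90403010588402db) (.node (nat_lit 0x9040301048a4420b) (.node (nat_lit 0x904030104894020b) (.node (nat_lit 0x904030104884127b) (.leaf (nat_lit 0x904030104884024b) (nat_lit 515))
 (.leaf (nat_lit 0x904030104884127b) (nat_lit 1541))
) (.node (nat_lit 0x904030104894123b) (.leaf (nat_lit 0x904030104894020b) (nat_lit 517))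
 (.leaf (nat_lit 0x904030104894123b) (nat_lit 1536))
)) (.node (nat_lit 0x9040301048b4424b) (.node (nat_lit 0x9040301048a4523b) (.leaf (nat_lit 0x9040301048a4420b) (nat_lit 771))
 (.leaf (nat_lit 0x9040301048a4523b) (nat_lit 1797))
) (.node (nat_lit 0x9040301048b4527b) (.leaf (nat_lit 0x9040301048b4424b) (nat_lit 773))
 (.leaf (nat_lit 0x9040301048b4527b) (nat_lit 1793))
))) (.node (nat_lit 0x9040301058a4429b) (.node (nat_lit 0x904030105894029b) (.node (nat_lit 0x90403010588412eb) (.leaf (nat_lit 0x90403010588402db) (nat_lit 771))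
 (.leaf (nat_lit 0x90403010588412eb) (nat_lit 1797))
) (.node (nat_lit 0x90403010589412ab) (.leaf (nat_lit 0x904030105894029b) (nat_lit 773))
 (.leaf (nat_lit 0x90403010589412ab) (nat_lit 1795))
)) (.node (nat_lit 0x9040301058b442db) (.node (nat_lit 0x9040301058a452ab) (.leaf (nat_lit 0x9040301058a4429b) (nat_lit 1027))
 (.leaf (nat_lit 0x9040301058a452ab) (nat_lit 2053))
) (.node (nat_lit 0x9040301058b452eb) (.leaf (nat_lit 0x9040301058b442db) (nat_lit 1029))
 (.leaf (nat_lit 0x9040301058b452eb) (nat_lit 1792))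
))))) (.node (nat_lit 0x905030106884826f) (.node (nat_lit 0x90502010380482bd) (.node (nat_lit 0x905020102824c20d) (.node (nat_lit 0x905020102814827d) (.node (nat_lit 0x905020102804920d) (.leaf (nat_lit 0x905020102804822d) (nat_lit 1539))
 (.leaf (nat_lit 0x905020102804920d) (nat_lit 1541))
) (.node (nat_lit 0x905020102814925d) (.leaf (nat_lit 0x905020102814827d) (nat_lit 1541))
 (.leaf (nat_lit 0x905020102814925d) (nat_lit 1536))
)) (.node (nat_lit 0x905020102834c25d) (.node (nat_lit 0x905020102824d22d) (.leaf (nat_lit 0x905020102824c20d) (nat_lit 1541))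
 (.leaf (nat_lit 0x905020102824d22d) (nat_lit 1797))
) (.node (nat_lit 0x905020102834d27d) (.leaf (nat_lit 0x905020102834c25d) (nat_lit 1797))
 (.leaf (nat_lit 0x905020102834d27d) (nat_lit 1795))
))) (.node (nat_lit 0x905020103824c29d) (.node (nat_lit 0x90502010381482ed) (.node (nat_lit 0x905020103804929d) (.leaf (nat_lit 0x90502010380482bd) (nat_lit 1283))
 (.leaf (nat_lit 0x905020103804929d) (nat_lit 1285))
) (.node (nat_lit 0x90502010381492cd) (.leaf (nat_lit 0x90502010381482ed) (nat_lit 1285))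
 (.leaf (nat_lit 0x90502010381492cd) (nat_lit 1280))
)) (.node (nat_lit 0x905020103834c2cd) (.node (nat_lit 0x905020103824d2bd) (.leaf (nat_lit 0x905020103824c29d) (nat_lit 1539))
 (.leaf (nat_lit 0x905020103824d2bd) (nat_lit 1541))
) (.node (nat_lit 0x905020103834d2ed) (.leaf (nat_lit 0x905020103834c2cd) (nat_lit 1541))
 (.leaf (nat_lit 0x905020103834d2ed) (nat_lit 1539))
)))) (.node (nat_lit 0x90503010788482ff) (.node (nat_lit 0x9050301068a4c20f) (.node (nat_lit 0x905030106894823f) (.node (nat_lit 0x905030106884925f) (.leaf (nat_lit 0x905030106884826f) (nat_lit 1027))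
 (.leaf (nat_lit 0x905030106884925f) (nat_lit 1536))
) (.node (nat_lit 0x905030106894920f) (.leaf (nat_lit 0x905030106894823f) (nat_lit 1540))
 (.leaf (nat_lit 0x905030106894920f) (nat_lit 1024))
)) (.node (nat_lit 0x9050301068b4c25f) (.node (nat_lit 0x9050301068a4d23f) (.leaf (nat_lit 0x9050301068a4c20f) (nat_lit 1283))
 (.leaf (nat_lit 0x9050301068a4d23f) (nat_lit 1796))
) (.node (nat_lit 0x9050301068b4d26f) (.leaf (nat_lit 0x9050301068b4c25f) (nat_lit 1540))
 (.leaf (nat_lit 0x9050301068b4d26f) (nat_lit 1280))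
))) (.node (nat_lit 0x9050301078a4c29f) (.node (nat_lit 0x90503010789482af) (.node (nat_lit 0x90503010788492cf) (.leaf (nat_lit 0x90503010788482ff) (nat_lit 1283))
 (.leaf (nat_lit 0x90503010788492cf) (nat_lit 1540))
) (.node (nat_lit 0x905030107894929f) (.leaf (nat_lit 0x90503010789482af) (nat_lit 1540))
 (.leaf (nat_lit 0x905030107894929f) (nat_lit 1280))
)) (.node (nat_lit 0x9050301078b4c2cf) (.node (nat_lit 0x9050301078a4d2af) (.leaf (nat_lit 0x9050301078a4c29f) (nat_lit 1539))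
 (.leaf (nat_lit 0x9050301078a4d2af) (nat_lit 1796))
) (.node (nat_lit 0x9050301078b4d2ff) (.leaf (nat_lit 0x9050301078b4c2cf) (nat_lit 1284))
 (.leaf (nat_lit 0x9050301078b4d2ff) (nat_lit 1536))
)))))) (.node (nat_lit 0x907020102804862d) (.node (nat_lit 0x906030106884066f) (.node (nat_lit 0x9060201018040699) (.node (nat_lit 0x9060201008246609) (.node (nat_lit 0x9060201008140669) (.node (nat_lit 0x9060201008041629) (.leaf (nat_lit 0x9060201008040609) (nat_lit 515))
 (.leaf (nat_lit 0x9060201008041629) (nat_lit 2052))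
) (.node (nat_lit 0x9060201008141649) (.leaf (nat_lit 0x9060201008140669) (nat_lit 1028))
 (.leaf (nat_lit 0x9060201008141649) (nat_lit 1024))
)) (.node (nat_lit 0x9060201008346669) (.node (nat_lit 0x9060201008247629) (.leaf (nat_lit 0x9060201008246609) (nat_lit 771))
 (.leaf (nat_lit 0x9060201008247629) (nat_lit 1797))
) (.node (nat_lit 0x9060201008347649) (.leaf (nat_lit 0x9060201008346669) (nat_lit 1284))
 (.leaf (nat_lit 0x9060201008347649) (nat_lit 1280))
))) (.node (nat_lit 0x9060201018246699) (.node (nat_lit 0x90602010181406f9) (.node (nat_lit 0x90602010180416b9) (.leaf (nat_lit 0x9060201018040699) (nat_lit 771))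
 (.leaf (nat_lit 0x90602010180416b9) (nat_lit 1796))
) (.node (nat_lit 0x90602010181416d9) (.leaf (nat_lit 0x90602010181406f9) (nat_lit 1284))
 (.leaf (nat_lit 0x90602010181416d9) (nat_lit 1280))
)) (.node (nat_lit 0x90602010183466f9) (.node (nat_lit 0x90602010182476b9) (.leaf (nat_lit 0x9060201018246699) (nat_lit 1027))
 (.leaf (nat_lit 0x90602010182476b9) (nat_lit 1797))
) (.node (nat_lit 0x90602010183476d9) (.leaf (nat_lit 0x90602010183466f9) (nat_lit 1540))
 (.leaf (nat_lit 0x90602010183476d9) (nat_lit 1536))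
)))) (.node (nat_lit 0x90603010788406ff) (.node (nat_lit 0x9060301068a4660f) (.node (nat_lit 0x906030106894060f) (.node (nat_lit 0x906030106884165f) (.leaf (nat_lit 0x906030106884066f) (nat_lit 771))
 (.leaf (nat_lit 0x906030106884165f) (nat_lit 1285))
) (.node (nat_lit 0x906030106894163f) (.leaf (nat_lit 0x906030106894060f) (nat_lit 773))
 (.leaf (nat_lit 0x906030106894163f) (nat_lit 1792))
)) (.node (nat_lit 0x9060301068b4666f) (.node (nat_lit 0x9060301068a4763f) (.leaf (nat_lit 0x9060301068a4660f) (nat_lit 1027))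
 (.leaf (nat_lit 0x9060301068a4763f) (nat_lit 1541))
) (.node (nat_lit 0x9060301068b4765f) (.leaf (nat_lit 0x9060301068b4666f) (nat_lit 1029))
 (.leaf (nat_lit 0x9060301068b4765f) (nat_lit 1537))
))) (.node (nat_lit 0x9060301078a4669f) (.node (nat_lit 0x906030107894069f) (.node (nat_lit 0x90603010788416cf) (.leaf (nat_lit 0x90603010788406ff) (nat_lit 1027))
 (.leaf (nat_lit 0x90603010788416cf) (nat_lit 1541))
) (.node (nat_lit 0x90603010789416af) (.leaf (nat_lit 0x906030107894069f) (nat_lit 1029))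
 (.leaf (nat_lit 0x90603010789416af) (nat_lit 1539))
)) (.node (nat_lit 0x9060301078b466ff) (.node (nat_lit 0x9060301078a476af) (.leaf (nat_lit 0x9060301078a4669f) (nat_lit 1283))
 (.leaf (nat_lit 0x9060301078a476af) (nat_lit 1797))
) (.node (nat_lit 0x9060301078b476cf) (.leaf (nat_lit 0x9060301078b466ff) (nat_lit 1285))
 (.leaf (nat_lit 0x9060301078b476cf) (nat_lit 1536))
))))) (.node (nat_lit 0x907030104884864b) (.node (nat_lit 0x90702010380486bd) (.node (nat_lit 0x907020102824e60d) (.node (nat_lit 0x907020102814865d) (.node (nat_lit 0x907020102804960d) (.leaf (nat_lit 0x907020102804862d) (nat_lit 1283))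
 (.leaf (nat_lit 0x907020102804960d) (nat_lit 1285))
) (.node (nat_lit 0x907020102814967d) (.leaf (nat_lit 0x907020102814865d) (nat_lit 1285))
 (.leaf (nat_lit 0x907020102814967d) (nat_lit 1792))
)) (.node (nat_lit 0x907020102834e67d) (.node (nat_lit 0x907020102824f62d) (.leaf (nat_lit 0x907020102824e60d) (nat_lit 1539))
 (.leaf (nat_lit 0x907020102824f62d) (nat_lit 1541))
) (.node (nat_lit 0x907020102834f65d) (.leaf (nat_lit 0x907020102834e67d) (nat_lit 1541))
 (.leaf (nat_lit 0x907020102834f65d) (nat_lit 1539))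
))) (.node (nat_lit 0x907020103824e69d) (.node (nat_lit 0x90702010381486cd) (.node (nat_lit 0x907020103804969d) (.leaf (nat_lit 0x90702010380486bd) (nat_lit 1027))
 (.leaf (nat_lit 0x907020103804969d) (nat_lit 1029))
) (.node (nat_lit 0x90702010381496ed) (.leaf (nat_lit 0x90702010381486cd) (nat_lit 1029))
 (.leaf (nat_lit 0x90702010381496ed) (nat_lit 1536))
)) (.node (nat_lit 0x907020103834e6ed) (.node (nat_lit 0x907020103824f6bd) (.leaf (nat_lit 0x907020103824e69d) (nat_lit 1283))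
 (.leaf (nat_lit 0x907020103824f6bd) (nat_lit 1285))
) (.node (nat_lit 0x907020103834f6cd) (.leaf (nat_lit 0x907020103834e6ed) (nat_lit 1285))
 (.leaf (nat_lit 0x907020103834f6cd) (nat_lit 1283))
)))) (.node (nat_lit 0x90703010588486db) (.node (nat_lit 0x9070301048a4e60b) (.node (nat_lit 0x907030104894863b) (.node (nat_lit 0x907030104884967b) (.leaf (nat_lit 0x907030104884864b) (nat_lit 771))
 (.leaf (nat_lit 0x907030104884967b) (nat_lit 1792))
) (.node (nat_lit 0x907030104894960b) (.leaf (nat_lit 0x907030104894863b) (nat_lit 1284))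
 (.leaf (nat_lit 0x907030104894960b) (nat_lit 768))
)) (.node (nat_lit 0x9070301048b4e67b) (.node (nat_lit 0x9070301048a4f63b) (.leaf (nat_lit 0x9070301048a4e60b) (nat_lit 1027))
 (.leaf (nat_lit 0x9070301048a4f63b) (nat_lit 1540))
) (.node (nat_lit 0x9070301048b4f64b) (.leaf (nat_lit 0x9070301048b4e67b) (nat_lit 1540))
 (.leaf (nat_lit 0x9070301048b4f64b) (nat_lit 1024))
))) (.node (nat_lit 0x9070301058a4e69b) (.node (nat_lit 0x90703010589486ab) (.node (nat_lit 0x90703010588496eb) (.leaf (nat_lit 0x90703010588486db) (nat_lit 1027))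
 (.leaf (nat_lit 0x90703010588496eb) (nat_lit 1540))
) (.node (nat_lit 0x907030105894969b) (.leaf (nat_lit 0x90703010589486ab) (nat_lit 1540))
 (.leaf (nat_lit 0x907030105894969b) (nat_lit 1024))
)) (.node (nat_lit 0x9070301058b4e6eb) (.node (nat_lit 0x9070301058a4f6ab) (.leaf (nat_lit 0x9070301058a4e69b) (nat_lit 1283))
 (.leaf (nat_lit 0x9070301058a4f6ab) (nat_lit 1796))
) (.node (nat_lit 0x9070301058b4f6db) (.leaf (nat_lit 0x9070301058b4e6eb) (nat_lit 1540))
 (.leaf (nat_lit 0x9070301058b4f6db) (nat_lit 1280))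
)))))))) (.node (nat_lit 0xb04020102804aa29) (.node (nat_lit 0xa06020102804ae01) (.node (nat_lit 0xa050201008040a05) (.node (nat_lit 0xa04030106884eaeb) (.node (nat_lit 0xa04020103804aaa1) (.node (nat_lit 0xa04020102824ea01) (.node (nat_lit 0xa04020102814aa41) (.node (nat_lit 0xa04020102804ba21) (.leaf (nat_lit 0xa04020102804aa01) (nat_lit 1284))
 (.leaf (nat_lit 0xa04020102804ba21) (nat_lit 1794))
) (.node (nat_lit 0xa04020102814ba61) (.leaf (nat_lit 0xa04020102814aa41) (nat_lit 1794))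
 (.leaf (nat_lit 0xa04020102814ba61) (nat_lit 1796))
)) (.node (nat_lit 0xa04020102834ea41) (.node (nat_lit 0xa04020102824fa21) (.leaf (nat_lit 0xa04020102824ea01) (nat_lit 1028))
 (.leaf (nat_lit 0xa04020102824fa21) (nat_lit 1538))
) (.node (nat_lit 0xa04020102834fa61) (.leaf (nat_lit 0xa04020102834ea41) (nat_lit 1538))
 (.leaf (nat_lit 0xa04020102834fa61) (nat_lit 1540))
))) (.node (nat_lit 0xa04020103824eaa1) (.node (nat_lit 0xa04020103814aae1) (.node (nat_lit 0xa04020103804ba81) (.leaf (nat_lit 0xa04020103804aaa1) (nat_lit 1538))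
 (.leaf (nat_lit 0xa04020103804ba81) (nat_lit 1540))
) (.node (nat_lit 0xa04020103814bac1) (.leaf (nat_lit 0xa04020103814aae1) (nat_lit 1540))
 (.leaf (nat_lit 0xa04020103814bac1) (nat_lit 1536))
)) (.node (nat_lit 0xa04020103834eae1) (.node (nat_lit 0xa04020103824fa81) (.leaf (nat_lit 0xa04020103824eaa1) (nat_lit 1282))
 (.leaf (nat_lit 0xa04020103824fa81) (nat_lit 1284))
) (.node (nat_lit 0xa04020103834fac1) (.leaf (nat_lit 0xa04020103834eae1) (nat_lit 1284))
 (.leaf (nat_lit 0xa04020103834fac1) (nat_lit 1280))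
)))) (.node (nat_lit 0xa04030107884ea4b) (.node (nat_lit 0xa040301068a4aaab) (.node (nat_lit 0xa04030106894eaab) (.node (nat_lit 0xa04030106884fadb) (.leaf (nat_lit 0xa04030106884eaeb) (nat_lit 1285))
 (.leaf (nat_lit 0xa04030106884fadb) (nat_lit 1797))
) (.node (nat_lit 0xa04030106894fa9b) (.leaf (nat_lit 0xa04030106894eaab) (nat_lit 1793))
 (.leaf (nat_lit 0xa04030106894fa9b) (nat_lit 1797))
)) (.node (nat_lit 0xa040301068b4aaeb) (.node (nat_lit 0xa040301068a4ba9b) (.leaf (nat_lit 0xa040301068a4aaab) (nat_lit 1541))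
 (.leaf (nat_lit 0xa040301068a4ba9b) (nat_lit 1792))
) (.node (nat_lit 0xa040301068b4badb) (.leaf (nat_lit 0xa040301068b4aaeb) (nat_lit 1537))
 (.leaf (nat_lit 0xa040301068b4badb) (nat_lit 1792))
))) (.node (nat_lit 0xa040301078a4aa0b) (.node (nat_lit 0xa04030107894ea0b) (.node (nat_lit 0xa04030107884fa7b) (.leaf (nat_lit 0xa04030107884ea4b) (nat_lit 1541))
 (.leaf (nat_lit 0xa04030107884fa7b) (nat_lit 1541))
) (.node (nat_lit 0xa04030107894fa3b) (.leaf (nat_lit 0xa04030107894ea0b) (nat_lit 1541))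
 (.leaf (nat_lit 0xa04030107894fa3b) (nat_lit 1541))
)) (.node (nat_lit 0xa040301078b4aa4b) (.node (nat_lit 0xa040301078a4ba3b) (.leaf (nat_lit 0xa040301078a4aa0b) (nat_lit 1536))
 (.leaf (nat_lit 0xa040301078a4ba3b) (nat_lit 1540))
) (.node (nat_lit 0xa040301078b4ba7b) (.leaf (nat_lit 0xa040301078b4aa4b) (nat_lit 1536))
 (.leaf (nat_lit 0xa040301078b4ba7b) (nat_lit 1539))
))))) (.node (nat_lit 0xa050301048844acf) (.node (nat_lit 0xa050201018040aa5) (.node (nat_lit 0xa050201008244a25) (.node (nat_lit 0xa050201008140a55) (.node (nat_lit 0xa050201008041a25) (.leaf (nat_lit 0xa050201008040a05) (nat_lit 1797))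
 (.leaf (nat_lit 0xa050201008041a25) (nat_lit 2053))
) (.node (nat_lit 0xa050201008141a75) (.leaf (nat_lit 0xa050201008140a55) (nat_lit 1797))
 (.leaf (nat_lit 0xa050201008141a75) (nat_lit 1797))
)) (.node (nat_lit 0xa050201008344a75) (.node (nat_lit 0xa050201008245a05) (.leaf (nat_lit 0xa050201008244a25) (nat_lit 1797))
 (.leaf (nat_lit 0xa050201008245a05) (nat_lit 1797))
) (.node (nat_lit 0xa050201008345a55) (.leaf (nat_lit 0xa050201008344a75) (nat_lit 1796))
 (.leaf (nat_lit 0xa050201008345a55) (nat_lit 1797))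
))) (.node (nat_lit 0xa050201018244a85) (.node (nat_lit 0xa050201018140af5) (.node (nat_lit 0xa050201018041a85) (.leaf (nat_lit 0xa050201018040aa5) (nat_lit 1797))
 (.leaf (nat_lit 0xa050201018041a85) (nat_lit 1793))
) (.node (nat_lit 0xa050201018141ad5) (.leaf (nat_lit 0xa050201018140af5) (nat_lit 1796))
 (.leaf (nat_lit 0xa050201018141ad5) (nat_lit 1797))
)) (.node (nat_lit 0xa050201018344ad5) (.node (nat_lit 0xa050201018245aa5) (.leaf (nat_lit 0xa050201018244a85) (nat_lit 1541))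
 (.leaf (nat_lit 0xa050201018245aa5) (nat_lit 2049))
) (.node (nat_lit 0xa050201018345af5) (.leaf (nat_lit 0xa050201018344ad5) (nat_lit 2052))
 (.leaf (nat_lit 0xa050201018345af5) (nat_lit 2053))
)))) (.node (nat_lit 0xa050301058844a6f) (.node (nat_lit 0xa050301048a40aaf) (.node (nat_lit 0xa050301048944a9f) (.node (nat_lit 0xa050301048845aff) (.leaf (nat_lit 0xa050301048844acf) (nat_lit 1280))
 (.leaf (nat_lit 0xa050301048845aff) (nat_lit 1792))
) (.node (nat_lit 0xa050301048945aaf) (.leaf (nat_lit 0xa050301048944a9f) (nat_lit 1792))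
 (.leaf (nat_lit 0xa050301048945aaf) (nat_lit 1793))
)) (.node (nat_lit 0xa050301048b40aff) (.node (nat_lit 0xa050301048a41a9f) (.leaf (nat_lit 0xa050301048a40aaf) (nat_lit 1536))
 (.leaf (nat_lit 0xa050301048a41a9f) (nat_lit 1796))
) (.node (nat_lit 0xa050301048b41acf) (.leaf (nat_lit 0xa050301048b40aff) (nat_lit 1796))
 (.leaf (nat_lit 0xa050301048b41acf) (nat_lit 1537))
))) (.node (nat_lit 0xa050301058a40a0f) (.node (nat_lit 0xa050301058944a3f) (.node (nat_lit 0xa050301058845a5f) (.leaf (nat_lit 0xa050301058844a6f) (nat_lit 1536))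
 (.leaf (nat_lit 0xa050301058845a5f) (nat_lit 1536))
) (.node (nat_lit 0xa050301058945a0f) (.leaf (nat_lit 0xa050301058944a3f) (nat_lit 1795))
 (.leaf (nat_lit 0xa050301058945a0f) (nat_lit 1536))
)) (.node (nat_lit 0xa050301058b40a5f) (.node (nat_lit 0xa050301058a41a3f) (.leaf (nat_lit 0xa050301058a40a0f) (nat_lit 1540))
 (.leaf (nat_lit 0xa050301058a41a3f) (nat_lit 1792))
) (.node (nat_lit 0xa050301058b41a6f) (.leaf (nat_lit 0xa050301058b40a5f) (nat_lit 1539))
 (.leaf (nat_lit 0xa050301058b41a6f) (nat_lit 1540))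
)))))) (.node (nat_lit 0xa070201008040e05) (.node (nat_lit 0xa06030104884cecf) (.node (nat_lit 0xa06020103804aea1) (.node (nat_lit 0xa06020102824ce01) (.node (nat_lit 0xa06020102814ae61) (.node (nat_lit 0xa06020102804be21) (.leaf (nat_lit 0xa06020102804ae01) (nat_lit 1028))
 (.leaf (nat_lit 0xa06020102804be21) (nat_lit 1538))
) (.node (nat_lit 0xa06020102814be41) (.leaf (nat_lit 0xa06020102814ae61) (nat_lit 1538))
 (.leaf (nat_lit 0xa06020102814be41) (nat_lit 1540))
)) (.node (nat_lit 0xa06020102834ce61) (.node (nat_lit 0xa06020102824de21) (.leaf (nat_lit 0xa06020102824ce01) (nat_lit 772))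
 (.leaf (nat_lit 0xa06020102824de21) (nat_lit 1282))
) (.node (nat_lit 0xa06020102834de41) (.leaf (nat_lit 0xa06020102834ce61) (nat_lit 1282))
 (.leaf (nat_lit 0xa06020102834de41) (nat_lit 1284))
))) (.node (nat_lit 0xa06020103824cea1) (.node (nat_lit 0xa06020103814aec1) (.node (nat_lit 0xa06020103804be81) (.leaf (nat_lit 0xa06020103804aea1) (nat_lit 1282))
 (.leaf (nat_lit 0xa06020103804be81) (nat_lit 1284))
) (.node (nat_lit 0xa06020103814bee1) (.leaf (nat_lit 0xa06020103814aec1) (nat_lit 1284))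
 (.leaf (nat_lit 0xa06020103814bee1) (nat_lit 1792))
)) (.node (nat_lit 0xa06020103834cec1) (.node (nat_lit 0xa06020103824de81) (.leaf (nat_lit 0xa06020103824cea1) (nat_lit 1026))
 (.leaf (nat_lit 0xa06020103824de81) (nat_lit 1028))
) (.node (nat_lit 0xa06020103834dee1) (.leaf (nat_lit 0xa06020103834cec1) (nat_lit 1028))
 (.leaf (nat_lit 0xa06020103834dee1) (nat_lit 1536))
)))) (.node (nat_lit 0xa06030105884ce6f) (.node (nat_lit 0xa060301048a4aeaf) (.node (nat_lit 0xa06030104894ceaf) (.node (nat_lit 0xa06030104884deff) (.leaf (nat_lit 0xa06030104884cecf) (nat_lit 1029))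
 (.leaf (nat_lit 0xa06030104884deff) (nat_lit 1541))
) (.node (nat_lit 0xa06030104894de9f) (.leaf (nat_lit 0xa06030104894ceaf) (nat_lit 1537))
 (.leaf (nat_lit 0xa06030104894de9f) (nat_lit 1541))
)) (.node (nat_lit 0xa060301048b4aecf) (.node (nat_lit 0xa060301048a4be9f) (.leaf (nat_lit 0xa060301048a4aeaf) (nat_lit 1285))
 (.leaf (nat_lit 0xa060301048a4be9f) (nat_lit 1797))
) (.node (nat_lit 0xa060301048b4beff) (.leaf (nat_lit 0xa060301048b4aecf) (nat_lit 1281))
 (.leaf (nat_lit 0xa060301048b4beff) (nat_lit 1797))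
))) (.node (nat_lit 0xa060301058a4ae0f) (.node (nat_lit 0xa06030105894ce0f) (.node (nat_lit 0xa06030105884de5f) (.leaf (nat_lit 0xa06030105884ce6f) (nat_lit 1285))
 (.leaf (nat_lit 0xa06030105884de5f) (nat_lit 1285))
) (.node (nat_lit 0xa06030105894de3f) (.leaf (nat_lit 0xa06030105894ce0f) (nat_lit 1285))
 (.leaf (nat_lit 0xa06030105894de3f) (nat_lit 1797))
)) (.node (nat_lit 0xa060301058b4ae6f) (.node (nat_lit 0xa060301058a4be3f) (.leaf (nat_lit 0xa060301058a4ae0f) (nat_lit 1541))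
 (.leaf (nat_lit 0xa060301058a4be3f) (nat_lit 1541))
) (.node (nat_lit 0xa060301058b4be5f) (.leaf (nat_lit 0xa060301058b4ae6f) (nat_lit 1541))
 (.leaf (nat_lit 0xa060301058b4be5f) (nat_lit 1537))
))))) (.node (nat_lit 0xa070301068846eeb) (.node (nat_lit 0xa070201018040ea5) (.node (nat_lit 0xa070201008246e25) (.node (nat_lit 0xa070201008140e75) (.node (nat_lit 0xa070201008041e25) (.leaf (nat_lit 0xa070201008040e05) (nat_lit 1541))
 (.leaf (nat_lit 0xa070201008041e25) (nat_lit 2049))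
) (.node (nat_lit 0xa070201008141e55) (.leaf (nat_lit 0xa070201008140e75) (nat_lit 1541))
 (.leaf (nat_lit 0xa070201008141e55) (nat_lit 1541))
)) (.node (nat_lit 0xa070201008346e55) (.node (nat_lit 0xa070201008247e05) (.leaf (nat_lit 0xa070201008246e25) (nat_lit 1797))
 (.leaf (nat_lit 0xa070201008247e05) (nat_lit 1793))
) (.node (nat_lit 0xa070201008347e75) (.leaf (nat_lit 0xa070201008346e55) (nat_lit 1797))
 (.leaf (nat_lit 0xa070201008347e75) (nat_lit 1797))
))) (.node (nat_lit 0xa070201018246e85) (.node (nat_lit 0xa070201018140ed5) (.node (nat_lit 0xa070201018041e85) (.leaf (nat_lit 0xa070201018040ea5) (nat_lit 1797))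
 (.leaf (nat_lit 0xa070201018041e85) (nat_lit 1797))
) (.node (nat_lit 0xa070201018141ef5) (.leaf (nat_lit 0xa070201018140ed5) (nat_lit 1797))
 (.leaf (nat_lit 0xa070201018141ef5) (nat_lit 1797))
)) (.node (nat_lit 0xa070201018346ef5) (.node (nat_lit 0xa070201018247ea5) (.leaf (nat_lit 0xa070201018246e85) (nat_lit 1797))
 (.leaf (nat_lit 0xa070201018247ea5) (nat_lit 2053))
) (.node (nat_lit 0xa070201018347ed5) (.leaf (nat_lit 0xa070201018346ef5) (nat_lit 2053))
 (.leaf (nat_lit 0xa070201018347ed5) (nat_lit 2053))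
)))) (.node (nat_lit 0xa070301078846e4b) (.node (nat_lit 0xa070301068a40eab) (.node (nat_lit 0xa070301068946e9b) (.node (nat_lit 0xa070301068847edb) (.leaf (nat_lit 0xa070301068846eeb) (nat_lit 1536))
 (.leaf (nat_lit 0xa070301068847edb) (nat_lit 1796))
) (.node (nat_lit 0xa070301068947eab) (.leaf (nat_lit 0xa070301068946e9b) (nat_lit 1796))
 (.leaf (nat_lit 0xa070301068947eab) (nat_lit 1795))
)) (.node (nat_lit 0xa070301068b40edb) (.node (nat_lit 0xa070301068a41e9b) (.leaf (nat_lit 0xa070301068a40eab) (nat_lit 1538))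
 (.leaf (nat_lit 0xa070301068a41e9b) (nat_lit 1540))
) (.node (nat_lit 0xa070301068b41eeb) (.leaf (nat_lit 0xa070301068b40edb) (nat_lit 1540))
 (.leaf (nat_lit 0xa070301068b41eeb) (nat_lit 1539))
))) (.node (nat_lit 0xa070301078a40e0b) (.node (nat_lit 0xa070301078946e3b) (.node (nat_lit 0xa070301078847e7b) (.leaf (nat_lit 0xa070301078846e4b) (nat_lit 1540))
 (.leaf (nat_lit 0xa070301078847e7b) (nat_lit 1539))
) (.node (nat_lit 0xa070301078947e0b) (.leaf (nat_lit 0xa070301078946e3b) (nat_lit 1539))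
 (.leaf (nat_lit 0xa070301078947e0b) (nat_lit 1540))
)) (.node (nat_lit 0xa070301078b40e7b) (.node (nat_lit 0xa070301078a41e3b) (.leaf (nat_lit 0xa070301078a40e0b) (nat_lit 1284))
 (.leaf (nat_lit 0xa070301078a41e3b) (nat_lit 1795))
) (.node (nat_lit 0xa070301078b41e4b) (.leaf (nat_lit 0xa070301078b40e7b) (nat_lit 1283))
 (.leaf (nat_lit 0xa070301078b41e4b) (nat_lit 1284))
))))))) (.node (nat_lit 0xb06020102804ae29) (.node (nat_lit 0xb050201008040a0d) (.node (nat_lit 0xb04030106884ea83) (.node (nat_lit 0xb04020103804aa99) (.node (nat_lit 0xb04020102824ea29) (.node (nat_lit 0xb04020102814aa69) (.node (nat_lit 0xb04020102804ba09) (.leaf (nat_lit 0xb04020102804aa29) (nat_lit 1539))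
 (.leaf (nat_lit 0xb04020102804ba09) (nat_lit 1540))
) (.node (nat_lit 0xb04020102814ba49) (.leaf (nat_lit 0xb04020102814aa69) (nat_lit 1540))
 (.leaf (nat_lit 0xb04020102814ba49) (nat_lit 1536))
)) (.node (nat_lit 0xb04020102834ea69) (.node (nat_lit 0xb04020102824fa09) (.leaf (nat_lit 0xb04020102824ea29) (nat_lit 1283))
 (.leaf (nat_lit 0xb04020102824fa09) (nat_lit 1284))
) (.node (nat_lit 0xb04020102834fa49) (.leaf (nat_lit 0xb04020102834ea69) (nat_lit 1284))
 (.leaf (nat_lit 0xb04020102834fa49) (nat_lit 1280))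
))) (.node (nat_lit 0xb04020103824ea99) (.node (nat_lit 0xb04020103814aad9) (.node (nat_lit 0xb04020103804bab9) (.leaf (nat_lit 0xb04020103804aa99) (nat_lit 1796))
 (.leaf (nat_lit 0xb04020103804bab9) (nat_lit 1541))
) (.node (nat_lit 0xb04020103814baf9) (.leaf (nat_lit 0xb04020103814aad9) (nat_lit 1795))
 (.leaf (nat_lit 0xb04020103814baf9) (nat_lit 1796))
)) (.node (nat_lit 0xb04020103834ead9) (.node (nat_lit 0xb04020103824fab9) (.leaf (nat_lit 0xb04020103824ea99) (nat_lit 1540))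
 (.leaf (nat_lit 0xb04020103824fab9) (nat_lit 1539))
) (.node (nat_lit 0xb04020103834faf9) (.leaf (nat_lit 0xb04020103834ead9) (nat_lit 1539))
 (.leaf (nat_lit 0xb04020103834faf9) (nat_lit 1540))
)))) (.node (nat_lit 0xb04030107884ea33) (.node (nat_lit 0xb040301068a4aac3) (.node (nat_lit 0xb04030106894eac3) (.node (nat_lit 0xb04030106884fab3) (.leaf (nat_lit 0xb04030106884ea83) (nat_lit 1541))
 (.leaf (nat_lit 0xb04030106884fab3) (nat_lit 1541))
) (.node (nat_lit 0xb04030106894faf3) (.leaf (nat_lit 0xb04030106894eac3) (nat_lit 1541))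
 (.leaf (nat_lit 0xb04030106894faf3) (nat_lit 1541))
)) (.node (nat_lit 0xb040301068b4aa83) (.node (nat_lit 0xb040301068a4baf3) (.leaf (nat_lit 0xb040301068a4aac3) (nat_lit 1536))
 (.leaf (nat_lit 0xb040301068a4baf3) (nat_lit 1540))
) (.node (nat_lit 0xb040301068b4bab3) (.leaf (nat_lit 0xb040301068b4aa83) (nat_lit 1536))
 (.leaf (nat_lit 0xb040301068b4bab3) (nat_lit 1538))
))) (.node (nat_lit 0xb040301078a4aa73) (.node (nat_lit 0xb04030107894ea73) (.node (nat_lit 0xb04030107884fa03) (.leaf (nat_lit 0xb04030107884ea33) (nat_lit 1797))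
 (.leaf (nat_lit 0xb04030107884fa03) (nat_lit 1536))
) (.node (nat_lit 0xb04030107894fa43) (.leaf (nat_lit 0xb04030107894ea73) (nat_lit 1797))
 (.leaf (nat_lit 0xb04030107894fa43) (nat_lit 1536))
)) (.node (nat_lit 0xb040301078b4aa33) (.node (nat_lit 0xb040301078a4ba43) (.leaf (nat_lit 0xb040301078a4aa73) (nat_lit 1796))
 (.leaf (nat_lit 0xb040301078a4ba43) (nat_lit 1792))
) (.node (nat_lit 0xb040301078b4ba03) (.leaf (nat_lit 0xb040301078b4aa33) (nat_lit 1794))
 (.leaf (nat_lit 0xb040301078b4ba03) (nat_lit 1280))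
))))) (.node (nat_lit 0xb050301048844a87) (.node (nat_lit 0xb050201018040abd) (.node (nat_lit 0xb050201008244a2d) (.node (nat_lit 0xb050201008140a5d) (.node (nat_lit 0xb050201008041a2d) (.leaf (nat_lit 0xb050201008040a0d) (nat_lit 1541))
 (.leaf (nat_lit 0xb050201008041a2d) (nat_lit 2049))
) (.node (nat_lit 0xb050201008141a7d) (.leaf (nat_lit 0xb050201008140a5d) (nat_lit 2053))
 (.leaf (nat_lit 0xb050201008141a7d) (nat_lit 2053))
)) (.node (nat_lit 0xb050201008344a7d) (.node (nat_lit 0xb050201008245a0d) (.leaf (nat_lit 0xb050201008244a2d) (nat_lit 1797))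
 (.leaf (nat_lit 0xb050201008245a0d) (nat_lit 1793))
) (.node (nat_lit 0xb050201008345a5d) (.leaf (nat_lit 0xb050201008344a7d) (nat_lit 1792))
 (.leaf (nat_lit 0xb050201008345a5d) (nat_lit 1797))
))) (.node (nat_lit 0xb050201018244a9d) (.node (nat_lit 0xb050201018140aed) (.node (nat_lit 0xb050201018041a9d) (.leaf (nat_lit 0xb050201018040abd) (nat_lit 1797))
 (.leaf (nat_lit 0xb050201018041a9d) (nat_lit 1797))
) (.node (nat_lit 0xb050201018141acd) (.leaf (nat_lit 0xb050201018140aed) (nat_lit 1797))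
 (.leaf (nat_lit 0xb050201018141acd) (nat_lit 1792))
)) (.node (nat_lit 0xb050201018344acd) (.node (nat_lit 0xb050201018245abd) (.leaf (nat_lit 0xb050201018244a9d) (nat_lit 1797))
 (.leaf (nat_lit 0xb050201018245abd) (nat_lit 1797))
) (.node (nat_lit 0xb050201018345aed) (.leaf (nat_lit 0xb050201018344acd) (nat_lit 1797))
 (.leaf (nat_lit 0xb050201018345aed) (nat_lit 2049))
)))) (.node (nat_lit 0xb050301058844a37) (.node (nat_lit 0xb050301048a40ae7) (.node (nat_lit 0xb050301048944ad7) (.node (nat_lit 0xb050301048845ab7) (.leaf (nat_lit 0xb050301048844a87) (nat_lit 1536))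
 (.leaf (nat_lit 0xb050301048845ab7) (nat_lit 1794))
) (.node (nat_lit 0xb050301048945ae7) (.leaf (nat_lit 0xb050301048944ad7) (nat_lit 1536))
 (.leaf (nat_lit 0xb050301048945ae7) (nat_lit 1536))
)) (.node (nat_lit 0xb050301048b40ab7) (.node (nat_lit 0xb050301048a41ad7) (.leaf (nat_lit 0xb050301048a40ae7) (nat_lit 1540))
 (.leaf (nat_lit 0xb050301048a41ad7) (nat_lit 1793))
) (.node (nat_lit 0xb050301048b41a87) (.leaf (nat_lit 0xb050301048b40ab7) (nat_lit 1538))
 (.leaf (nat_lit 0xb050301048b41a87) (nat_lit 1540))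
))) (.node (nat_lit 0xb050301058a40a57) (.node (nat_lit 0xb050301058944a67) (.node (nat_lit 0xb050301058845a07) (.leaf (nat_lit 0xb050301058844a37) (nat_lit 1792))
 (.leaf (nat_lit 0xb050301058845a07) (nat_lit 1540))
) (.node (nat_lit 0xb050301058945a57) (.leaf (nat_lit 0xb050301058944a67) (nat_lit 1540))
 (.leaf (nat_lit 0xb050301058945a57) (nat_lit 1792))
)) (.node (nat_lit 0xb050301058b40a07) (.node (nat_lit 0xb050301058a41a67) (.leaf (nat_lit 0xb050301058a40a57) (nat_lit 1795))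
 (.leaf (nat_lit 0xb050301058a41a67) (nat_lit 1796))
) (.node (nat_lit 0xb050301058b41a37) (.leaf (nat_lit 0xb050301058b40a07) (nat_lit 1284))
 (.leaf (nat_lit 0xb050301058b41a37) (nat_lit 1794))
)))))) (.node (nat_lit 0xb070201008040e0d) (.node (nat_lit 0xb06030104884ce87) (.node (nat_lit 0xb06020103804ae99) (.node (nat_lit 0xb06020102824ce29) (.node (nat_lit 0xb06020102814ae49) (.node (nat_lit 0xb06020102804be09) (.leaf (nat_lit 0xb06020102804ae29) (nat_lit 1283))
 (.leaf (nat_lit 0xb06020102804be09) (nat_lit 1284))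
) (.node (nat_lit 0xb06020102814be69) (.leaf (nat_lit 0xb06020102814ae49) (nat_lit 1284))
 (.leaf (nat_lit 0xb06020102814be69) (nat_lit 1792))
)) (.node (nat_lit 0xb06020102834ce49) (.node (nat_lit 0xb06020102824de09) (.leaf (nat_lit 0xb06020102824ce29) (nat_lit 1027))
 (.leaf (nat_lit 0xb06020102824de09) (nat_lit 1028))
) (.node (nat_lit 0xb06020102834de69) (.leaf (nat_lit 0xb06020102834ce49) (nat_lit 1028))
 (.leaf (nat_lit 0xb06020102834de69) (nat_lit 1536))
))) (.node (nat_lit 0xb06020103824ce99) (.node (nat_lit 0xb06020103814aef9) (.node (nat_lit 0xb06020103804beb9) (.leaf (nat_lit 0xb06020103804ae99) (nat_lit 1540))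
 (.leaf (nat_lit 0xb06020103804beb9) (nat_lit 1539))
) (.node (nat_lit 0xb06020103814bed9) (.leaf (nat_lit 0xb06020103814aef9) (nat_lit 1539))
 (.leaf (nat_lit 0xb06020103814bed9) (nat_lit 1540))
)) (.node (nat_lit 0xb06020103834cef9) (.node (nat_lit 0xb06020103824deb9) (.leaf (nat_lit 0xb06020103824ce99) (nat_lit 1284))
 (.leaf (nat_lit 0xb06020103824deb9) (nat_lit 1283))
) (.node (nat_lit 0xb06020103834ded9) (.leaf (nat_lit 0xb06020103834cef9) (nat_lit 1283))
 (.leaf (nat_lit 0xb06020103834ded9) (nat_lit 1284))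
)))) (.node (nat_lit 0xb06030105884ce37) (.node (nat_lit 0xb060301048a4aee7) (.node (nat_lit 0xb06030104894cee7) (.node (nat_lit 0xb06030104884deb7) (.leaf (nat_lit 0xb06030104884ce87) (nat_lit 1285))
 (.leaf (nat_lit 0xb06030104884deb7) (nat_lit 1797))
) (.node (nat_lit 0xb06030104894ded7) (.leaf (nat_lit 0xb06030104894cee7) (nat_lit 1285))
 (.leaf (nat_lit 0xb06030104894ded7) (nat_lit 1285))
)) (.node (nat_lit 0xb060301048b4ae87) (.node (nat_lit 0xb060301048a4bed7) (.leaf (nat_lit 0xb060301048a4aee7) (nat_lit 1541))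
 (.leaf (nat_lit 0xb060301048a4bed7) (nat_lit 1537))
) (.node (nat_lit 0xb060301048b4beb7) (.leaf (nat_lit 0xb060301048b4ae87) (nat_lit 1541))
 (.leaf (nat_lit 0xb060301048b4beb7) (nat_lit 1541))
))) (.node (nat_lit 0xb060301058a4ae57) (.node (nat_lit 0xb06030105894ce57) (.node (nat_lit 0xb06030105884de07) (.leaf (nat_lit 0xb06030105884ce37) (nat_lit 1541))
 (.leaf (nat_lit 0xb06030105884de07) (nat_lit 1541))
) (.node (nat_lit 0xb06030105894de67) (.leaf (nat_lit 0xb06030105894ce57) (nat_lit 1541))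
 (.leaf (nat_lit 0xb06030105894de67) (nat_lit 1541))
)) (.node (nat_lit 0xb060301058b4ae37) (.node (nat_lit 0xb060301058a4be67) (.leaf (nat_lit 0xb060301058a4ae57) (nat_lit 1797))
 (.leaf (nat_lit 0xb060301058a4be67) (nat_lit 1797))
) (.node (nat_lit 0xb060301058b4be07) (.leaf (nat_lit 0xb060301058b4ae37) (nat_lit 1797))
 (.leaf (nat_lit 0xb060301058b4be07) (nat_lit 1536))
))))) (.node (nat_lit 0xb070301068846e83) (.node (nat_lit 0xb070201018040ebd) (.node (nat_lit 0xb070201008246e2d) (.node (nat_lit 0xb070201008140e7d) (.node (nat_lit 0xb070201008041e2d) (.leaf (nat_lit 0xb070201008040e0d) (nat_lit 1285))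
 (.leaf (nat_lit 0xb070201008041e2d) (nat_lit 1793))
) (.node (nat_lit 0xb070201008141e5d) (.leaf (nat_lit 0xb070201008140e7d) (nat_lit 1797))
 (.leaf (nat_lit 0xb070201008141e5d) (nat_lit 1797))
)) (.node (nat_lit 0xb070201008346e5d) (.node (nat_lit 0xb070201008247e0d) (.leaf (nat_lit 0xb070201008246e2d) (nat_lit 1541))
 (.leaf (nat_lit 0xb070201008247e0d) (nat_lit 1537))
) (.node (nat_lit 0xb070201008347e7d) (.leaf (nat_lit 0xb070201008346e5d) (nat_lit 2048))
 (.leaf (nat_lit 0xb070201008347e7d) (nat_lit 1541))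
))) (.node (nat_lit 0xb070201018246e9d) (.node (nat_lit 0xb070201018140ecd) (.node (nat_lit 0xb070201018041e9d) (.leaf (nat_lit 0xb070201018040ebd) (nat_lit 1541))
 (.leaf (nat_lit 0xb070201018041e9d) (nat_lit 1541))
) (.node (nat_lit 0xb070201018141eed) (.leaf (nat_lit 0xb070201018140ecd) (nat_lit 1541))
 (.leaf (nat_lit 0xb070201018141eed) (nat_lit 2048))
)) (.node (nat_lit 0xb070201018346eed) (.node (nat_lit 0xb070201018247ebd) (.leaf (nat_lit 0xb070201018246e9d) (nat_lit 1797))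
 (.leaf (nat_lit 0xb070201018247ebd) (nat_lit 1797))
) (.node (nat_lit 0xb070201018347ecd) (.leaf (nat_lit 0xb070201018346eed) (nat_lit 1797))
 (.leaf (nat_lit 0xb070201018347ecd) (nat_lit 1793))
)))) (.node (nat_lit 0xb070301078846e33) (.node (nat_lit 0xb070301068a40ec3) (.node (nat_lit 0xb070301068946ef3) (.node (nat_lit 0xb070301068847eb3) (.leaf (nat_lit 0xb070301068846e83) (nat_lit 1540))
 (.leaf (nat_lit 0xb070301068847eb3) (nat_lit 1538))
) (.node (nat_lit 0xb070301068947ec3) (.leaf (nat_lit 0xb070301068946ef3) (nat_lit 1538))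
 (.leaf (nat_lit 0xb070301068947ec3) (nat_lit 1540))
)) (.node (nat_lit 0xb070301068b40eb3) (.node (nat_lit 0xb070301068a41ef3) (.leaf (nat_lit 0xb070301068a40ec3) (nat_lit 1284))
 (.leaf (nat_lit 0xb070301068a41ef3) (nat_lit 1794))
) (.node (nat_lit 0xb070301068b41e83) (.leaf (nat_lit 0xb070301068b40eb3) (nat_lit 1282))
 (.leaf (nat_lit 0xb070301068b41e83) (nat_lit 1284))
))) (.node (nat_lit 0xb070301078a40e73) (.node (nat_lit 0xb070301078946e43) (.node (nat_lit 0xb070301078847e03) (.leaf (nat_lit 0xb070301078846e33) (nat_lit 1795))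
 (.leaf (nat_lit 0xb070301078847e03) (nat_lit 1284))
) (.node (nat_lit 0xb070301078947e73) (.leaf (nat_lit 0xb070301078946e43) (nat_lit 1284))
 (.leaf (nat_lit 0xb070301078947e73) (nat_lit 1794))
)) (.node (nat_lit 0xb070301078b40e03) (.node (nat_lit 0xb070301078a41e43) (.leaf (nat_lit 0xb070301078a40e73) (nat_lit 1539))
 (.leaf (nat_lit 0xb070301078a41e43) (nat_lit 1540))
) (.node (nat_lit 0xb070301078b41e33) (.leaf (nat_lit 0xb070301078b40e03) (nat_lit 1028))
 (.leaf (nat_lit 0xb070301078b41e33) (nat_lit 1538))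
))))))))) (.node (nat_lit 0xe040201068ccaa01) (.node (nat_lit 0xd040201048cc0249) (.node (nat_lit 0xc060201048ccce01) (.node (nat_lit 0xc050201068ccc2cd) (.node (nat_lit 0xc0403010080c0203) (.node (nat_lit 0xc040201058cc02c1) (.node (nat_lit 0xc040201048ec4201) (.node (nat_lit 0xc040201048dc0241) (.node (nat_lit 0xc040201048cc1221) (.leaf (nat_lit 0xc040201048cc0201) (nat_lit 260))
 (.leaf (nat_lit 0xc040201048cc1221) (nat_lit 1794))
) (.node (nat_lit 0xc040201048dc1261) (.leaf (nat_lit 0xc040201048dc0241) (nat_lit 770))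
 (.leaf (nat_lit 0xc040201048dc1261) (nat_lit 1796))
)) (.node (nat_lit 0xc040201048fc4241) (.node (nat_lit 0xc040201048ec5221) (.leaf (nat_lit 0xc040201048ec4201) (nat_lit 516))
 (.leaf (nat_lit 0xc040201048ec5221) (nat_lit 2050))
) (.node (nat_lit 0xc040201048fc5261) (.leaf (nat_lit 0xc040201048fc4241) (nat_lit 1026))
 (.leaf (nat_lit 0xc040201048fc5261) (nat_lit 1540))
))) (.node (nat_lit 0xc040201058ec42c1) (.node (nat_lit 0xc040201058dc0281) (.node (nat_lit 0xc040201058cc12e1) (.leaf (nat_lit 0xc040201058cc02c1) (nat_lit 514))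
 (.leaf (nat_lit 0xc040201058cc12e1) (nat_lit 1540))
) (.node (nat_lit 0xc040201058dc12a1) (.leaf (nat_lit 0xc040201058dc0281) (nat_lit 516))
 (.leaf (nat_lit 0xc040201058dc12a1) (nat_lit 1536))
)) (.node (nat_lit 0xc040201058fc4281) (.node (nat_lit 0xc040201058ec52e1) (.leaf (nat_lit 0xc040201058ec42c1) (nat_lit 770))
 (.leaf (nat_lit 0xc040201058ec52e1) (nat_lit 1796))
) (.node (nat_lit 0xc040201058fc52a1) (.leaf (nat_lit 0xc040201058fc4281) (nat_lit 772))
 (.leaf (nat_lit 0xc040201058fc52a1) (nat_lit 1794))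
)))) (.node (nat_lit 0xc0403010180c02c3) (.node (nat_lit 0xc0403010082c4243) (.node (nat_lit 0xc0403010081c0243) (.node (nat_lit 0xc0403010080c1233) (.leaf (nat_lit 0xc0403010080c0203) (nat_lit 517))
 (.leaf (nat_lit 0xc0403010080c1233) (nat_lit 2053))
) (.node (nat_lit 0xc0403010081c1273) (.leaf (nat_lit 0xc0403010081c0243) (nat_lit 1025))
 (.leaf (nat_lit 0xc0403010081c1273) (nat_lit 2053))
)) (.node (nat_lit 0xc0403010083c4203) (.node (nat_lit 0xc0403010082c5273) (.leaf (nat_lit 0xc0403010082c4243) (nat_lit 773))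
 (.leaf (nat_lit 0xc0403010082c5273) (nat_lit 1792))
) (.node (nat_lit 0xc0403010083c5233) (.leaf (nat_lit 0xc0403010083c4203) (nat_lit 769))
 (.leaf (nat_lit 0xc0403010083c5233) (nat_lit 1797))
))) (.node (nat_lit 0xc0403010182c4283) (.node (nat_lit 0xc0403010181c0283) (.node (nat_lit 0xc0403010180c12f3) (.leaf (nat_lit 0xc0403010180c02c3) (nat_lit 773))
 (.leaf (nat_lit 0xc0403010180c12f3) (nat_lit 1797))
) (.node (nat_lit 0xc0403010181c12b3) (.leaf (nat_lit 0xc0403010181c0283) (nat_lit 773))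
 (.leaf (nat_lit 0xc0403010181c12b3) (nat_lit 1797))
)) (.node (nat_lit 0xc0403010183c42c3) (.node (nat_lit 0xc0403010182c52b3) (.leaf (nat_lit 0xc0403010182c4283) (nat_lit 1029))
 (.leaf (nat_lit 0xc0403010182c52b3) (nat_lit 2053))
) (.node (nat_lit 0xc0403010183c52f3) (.leaf (nat_lit 0xc0403010183c42c3) (nat_lit 1029))
 (.leaf (nat_lit 0xc0403010183c52f3) (nat_lit 2049))
))))) (.node (nat_lit 0xc0503010280cc2cf) (.node (nat_lit 0xc050201078ccc20d) (.node (nat_lit 0xc050201068ec82ed) (.node (nat_lit 0xc050201068dcc29d) (.node (nat_lit 0xc050201068ccd2ed) (.leaf (nat_lit 0xc050201068ccc2cd) (nat_lit 1541))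
 (.leaf (nat_lit 0xc050201068ccd2ed) (nat_lit 1797))
) (.node (nat_lit 0xc050201068dcd2bd) (.leaf (nat_lit 0xc050201068dcc29d) (nat_lit 1541))
 (.leaf (nat_lit 0xc050201068dcd2bd) (nat_lit 1797))
)) (.node (nat_lit 0xc050201068fc82bd) (.node (nat_lit 0xc050201068ec92cd) (.leaf (nat_lit 0xc050201068ec82ed) (nat_lit 1541))
 (.leaf (nat_lit 0xc050201068ec92cd) (nat_lit 1540))
) (.node (nat_lit 0xc050201068fc929d) (.leaf (nat_lit 0xc050201068fc82bd) (nat_lit 1541))
 (.leaf (nat_lit 0xc050201068fc929d) (nat_lit 1541))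
))) (.node (nat_lit 0xc050201078ec822d) (.node (nat_lit 0xc050201078dcc25d) (.node (nat_lit 0xc050201078ccd22d) (.leaf (nat_lit 0xc050201078ccc20d) (nat_lit 1285))
 (.leaf (nat_lit 0xc050201078ccd22d) (nat_lit 1793))
) (.node (nat_lit 0xc050201078dcd27d) (.leaf (nat_lit 0xc050201078dcc25d) (nat_lit 1792))
 (.leaf (nat_lit 0xc050201078dcd27d) (nat_lit 1797))
)) (.node (nat_lit 0xc050201078fc827d) (.node (nat_lit 0xc050201078ec920d) (.leaf (nat_lit 0xc050201078ec822d) (nat_lit 1541))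
 (.leaf (nat_lit 0xc050201078ec920d) (nat_lit 1537))
) (.node (nat_lit 0xc050201078fc925d) (.leaf (nat_lit 0xc050201078fc827d) (nat_lit 1536))
 (.leaf (nat_lit 0xc050201078fc925d) (nat_lit 1541))
)))) (.node (nat_lit 0xc0503010380cc20f) (.node (nat_lit 0xc0503010282c82af) (.node (nat_lit 0xc0503010281cc29f) (.node (nat_lit 0xc0503010280cd2ff) (.leaf (nat_lit 0xc0503010280cc2cf) (nat_lit 1024))
 (.leaf (nat_lit 0xc0503010280cd2ff) (nat_lit 1539))
) (.node (nat_lit 0xc0503010281cd2af) (.leaf (nat_lit 0xc0503010281cc29f) (nat_lit 1536))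
 (.leaf (nat_lit 0xc0503010281cd2af) (nat_lit 1537))
)) (.node (nat_lit 0xc0503010283c82ff) (.node (nat_lit 0xc0503010282c929f) (.leaf (nat_lit 0xc0503010282c82af) (nat_lit 1280))
 (.leaf (nat_lit 0xc0503010282c929f) (nat_lit 1540))
) (.node (nat_lit 0xc0503010283c92cf) (.leaf (nat_lit 0xc0503010283c82ff) (nat_lit 1540))
 (.leaf (nat_lit 0xc0503010283c92cf) (nat_lit 1281))
))) (.node (nat_lit 0xc0503010382c826f) (.node (nat_lit 0xc0503010381cc25f) (.node (nat_lit 0xc0503010380cd23f) (.leaf (nat_lit 0xc0503010380cc20f) (nat_lit 1280))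
 (.leaf (nat_lit 0xc0503010380cd23f) (nat_lit 1539))
) (.node (nat_lit 0xc0503010381cd26f) (.leaf (nat_lit 0xc0503010381cc25f) (nat_lit 1280))
 (.leaf (nat_lit 0xc0503010381cd26f) (nat_lit 1540))
)) (.node (nat_lit 0xc0503010383c823f) (.node (nat_lit 0xc0503010382c925f) (.leaf (nat_lit 0xc0503010382c826f) (nat_lit 1284))
 (.leaf (nat_lit 0xc0503010382c925f) (nat_lit 1537))
) (.node (nat_lit 0xc0503010383c920f) (.leaf (nat_lit 0xc0503010383c823f) (nat_lit 1283))
 (.leaf (nat_lit 0xc0503010383c920f) (nat_lit 1284))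
)))))) (.node (nat_lit 0xc070201068cc0ecd) (.node (nat_lit 0xc0603010280ccecf) (.node (nat_lit 0xc060201058cccec1) (.node (nat_lit 0xc060201048ecae01) (.node (nat_lit 0xc060201048dcce61) (.node (nat_lit 0xc060201048ccde21) (.leaf (nat_lit 0xc060201048ccce01) (nat_lit 512))
 (.leaf (nat_lit 0xc060201048ccde21) (nat_lit 1540))
) (.node (nat_lit 0xc060201048dcde41) (.leaf (nat_lit 0xc060201048dcce61) (nat_lit 1541))
 (.leaf (nat_lit 0xc060201048dcde41) (nat_lit 1026))
)) (.node (nat_lit 0xc060201048fcae61) (.node (nat_lit 0xc060201048ecbe21) (.leaf (nat_lit 0xc060201048ecae01) (nat_lit 768))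
 (.leaf (nat_lit 0xc060201048ecbe21) (nat_lit 1796))
) (.node (nat_lit 0xc060201048fcbe41) (.leaf (nat_lit 0xc060201048fcae61) (nat_lit 1285))
 (.leaf (nat_lit 0xc060201048fcbe41) (nat_lit 1282))
))) (.node (nat_lit 0xc060201058ecaec1) (.node (nat_lit 0xc060201058dccea1) (.node (nat_lit 0xc060201058ccdee1) (.leaf (nat_lit 0xc060201058cccec1) (nat_lit 770))
 (.leaf (nat_lit 0xc060201058ccdee1) (nat_lit 1796))
) (.node (nat_lit 0xc060201058dcde81) (.leaf (nat_lit 0xc060201058dccea1) (nat_lit 1284))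
 (.leaf (nat_lit 0xc060201058dcde81) (nat_lit 768))
)) (.node (nat_lit 0xc060201058fcaea1) (.node (nat_lit 0xc060201058ecbee1) (.leaf (nat_lit 0xc060201058ecaec1) (nat_lit 1026))
 (.leaf (nat_lit 0xc060201058ecbee1) (nat_lit 1541))
) (.node (nat_lit 0xc060201058fcbe81) (.leaf (nat_lit 0xc060201058fcaea1) (nat_lit 1540))
 (.leaf (nat_lit 0xc060201058fcbe81) (nat_lit 1024))
)))) (.node (nat_lit 0xc0603010380cce0f) (.node (nat_lit 0xc0603010282caeaf) (.node (nat_lit 0xc0603010281cceaf) (.node (nat_lit 0xc0603010280cdeff) (.leaf (nat_lit 0xc0603010280ccecf) (nat_lit 773))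
 (.leaf (nat_lit 0xc0603010280cdeff) (nat_lit 1283))
) (.node (nat_lit 0xc0603010281cde9f) (.leaf (nat_lit 0xc0603010281cceaf) (nat_lit 1281))
 (.leaf (nat_lit 0xc0603010281cde9f) (nat_lit 1285))
)) (.node (nat_lit 0xc0603010283caecf) (.node (nat_lit 0xc0603010282cbe9f) (.leaf (nat_lit 0xc0603010282caeaf) (nat_lit 1029))
 (.leaf (nat_lit 0xc0603010282cbe9f) (nat_lit 1539))
) (.node (nat_lit 0xc0603010283cbeff) (.leaf (nat_lit 0xc0603010283caecf) (nat_lit 1025))
 (.leaf (nat_lit 0xc0603010283cbeff) (nat_lit 1541))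
))) (.node (nat_lit 0xc0603010382cae6f) (.node (nat_lit 0xc0603010381cce6f) (.node (nat_lit 0xc0603010380cde3f) (.leaf (nat_lit 0xc0603010380cce0f) (nat_lit 1029))
 (.leaf (nat_lit 0xc0603010380cde3f) (nat_lit 1537))
) (.node (nat_lit 0xc0603010381cde5f) (.leaf (nat_lit 0xc0603010381cce6f) (nat_lit 1537))
 (.leaf (nat_lit 0xc0603010381cde5f) (nat_lit 1029))
)) (.node (nat_lit 0xc0603010383cae0f) (.node (nat_lit 0xc0603010382cbe5f) (.leaf (nat_lit 0xc0603010382cae6f) (nat_lit 1285))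
 (.leaf (nat_lit 0xc0603010382cbe5f) (nat_lit 1281))
) (.node (nat_lit 0xc0603010383cbe3f) (.leaf (nat_lit 0xc0603010383cae0f) (nat_lit 1281))
 (.leaf (nat_lit 0xc0603010383cbe3f) (nat_lit 1285))
))))) (.node (nat_lit 0xc0703010080c0e03) (.node (nat_lit 0xc070201078cc0e0d) (.node (nat_lit 0xc070201068ec6eed) (.node (nat_lit 0xc070201068dc0ebd) (.node (nat_lit 0xc070201068cc1eed) (.leaf (nat_lit 0xc070201068cc0ecd) (nat_lit 1285))
 (.leaf (nat_lit 0xc070201068cc1eed) (nat_lit 1793))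
) (.node (nat_lit 0xc070201068dc1e9d) (.leaf (nat_lit 0xc070201068dc0ebd) (nat_lit 1793))
 (.leaf (nat_lit 0xc070201068dc1e9d) (nat_lit 1285))
)) (.node (nat_lit 0xc070201068fc6e9d) (.node (nat_lit 0xc070201068ec7ecd) (.leaf (nat_lit 0xc070201068ec6eed) (nat_lit 1541))
 (.leaf (nat_lit 0xc070201068ec7ecd) (nat_lit 1537))
) (.node (nat_lit 0xc070201068fc7ebd) (.leaf (nat_lit 0xc070201068fc6e9d) (nat_lit 1537))
 (.leaf (nat_lit 0xc070201068fc7ebd) (nat_lit 1541))
))) (.node (nat_lit 0xc070201078ec6e2d) (.node (nat_lit 0xc070201078dc0e7d) (.node (nat_lit 0xc070201078cc1e2d) (.leaf (nat_lit 0xc070201078cc0e0d) (nat_lit 1029))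
 (.leaf (nat_lit 0xc070201078cc1e2d) (nat_lit 1537))
) (.node (nat_lit 0xc070201078dc1e5d) (.leaf (nat_lit 0xc070201078dc0e7d) (nat_lit 1539))
 (.leaf (nat_lit 0xc070201078dc1e5d) (nat_lit 1541))
)) (.node (nat_lit 0xc070201078fc6e5d) (.node (nat_lit 0xc070201078ec7e0d) (.leaf (nat_lit 0xc070201078ec6e2d) (nat_lit 1285))
 (.leaf (nat_lit 0xc070201078ec7e0d) (nat_lit 1281))
) (.node (nat_lit 0xc070201078fc7e7d) (.leaf (nat_lit 0xc070201078fc6e5d) (nat_lit 1795))
 (.leaf (nat_lit 0xc070201078fc7e7d) (nat_lit 1285))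
)))) (.node (nat_lit 0xc0703010180c0ec3) (.node (nat_lit 0xc0703010082c6e43) (.node (nat_lit 0xc0703010081c0e73) (.node (nat_lit 0xc0703010080c1e33) (.leaf (nat_lit 0xc0703010080c0e03) (nat_lit 768))
 (.leaf (nat_lit 0xc0703010080c1e33) (nat_lit 1797))
) (.node (nat_lit 0xc0703010081c1e43) (.leaf (nat_lit 0xc0703010081c0e73) (nat_lit 1796))
 (.leaf (nat_lit 0xc0703010081c1e43) (nat_lit 1281))
)) (.node (nat_lit 0xc0703010083c6e33) (.node (nat_lit 0xc0703010082c7e73) (.leaf (nat_lit 0xc0703010082c6e43) (nat_lit 1024))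
 (.leaf (nat_lit 0xc0703010082c7e73) (nat_lit 1541))
) (.node (nat_lit 0xc0703010083c7e03) (.leaf (nat_lit 0xc0703010083c6e33) (nat_lit 2048))
 (.leaf (nat_lit 0xc0703010083c7e03) (nat_lit 1025))
))) (.node (nat_lit 0xc0703010182c6e83) (.node (nat_lit 0xc0703010181c0eb3) (.node (nat_lit 0xc0703010180c1ef3) (.leaf (nat_lit 0xc0703010180c0ec3) (nat_lit 1024))
 (.leaf (nat_lit 0xc0703010180c1ef3) (nat_lit 2048))
) (.node (nat_lit 0xc0703010181c1e83) (.leaf (nat_lit 0xc0703010181c0eb3) (nat_lit 1540))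
 (.leaf (nat_lit 0xc0703010181c1e83) (nat_lit 1024))
)) (.node (nat_lit 0xc0703010183c6ef3) (.node (nat_lit 0xc0703010182c7eb3) (.leaf (nat_lit 0xc0703010182c6e83) (nat_lit 1280))
 (.leaf (nat_lit 0xc0703010182c7eb3) (nat_lit 1797))
) (.node (nat_lit 0xc0703010183c7ec3) (.leaf (nat_lit 0xc0703010183c6ef3) (nat_lit 1796))
 (.leaf (nat_lit 0xc0703010183c7ec3) (nat_lit 1280))
))))))) (.node (nat_lit 0xd060201048ccce49) (.node (nat_lit 0xd050201068ccc2a5) (.node (nat_lit 0xd0403010080c020b) (.node (nat_lit 0xd040201058cc0299) (.node (nat_lit 0xd040201048ec4249) (.node (nat_lit 0xd040201048dc0209) (.node (nat_lit 0xd040201048cc1269) (.leaf (nat_lit 0xd040201048cc0249) (nat_lit 515))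
 (.leaf (nat_lit 0xd040201048cc1269) (nat_lit 1540))
) (.node (nat_lit 0xd040201048dc1229) (.leaf (nat_lit 0xd040201048dc0209) (nat_lit 516))
 (.leaf (nat_lit 0xd040201048dc1229) (nat_lit 1536))
)) (.node (nat_lit 0xd040201048fc4209) (.node (nat_lit 0xd040201048ec5269) (.leaf (nat_lit 0xd040201048ec4249) (nat_lit 771))
 (.leaf (nat_lit 0xd040201048ec5269) (nat_lit 1796))
) (.node (nat_lit 0xd040201048fc5229) (.leaf (nat_lit 0xd040201048fc4209) (nat_lit 772))
 (.leaf (nat_lit 0xd040201048fc5229) (nat_lit 1795))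
))) (.node (nat_lit 0xd040201058ec4299) (.node (nat_lit 0xd040201058dc02d9) (.node (nat_lit 0xd040201058cc12b9) (.leaf (nat_lit 0xd040201058cc0299) (nat_lit 772))
 (.leaf (nat_lit 0xd040201058cc12b9) (nat_lit 1795))
) (.node (nat_lit 0xd040201058dc12f9) (.leaf (nat_lit 0xd040201058dc02d9) (nat_lit 771))
 (.leaf (nat_lit 0xd040201058dc12f9) (nat_lit 1796))
)) (.node (nat_lit 0xd040201058fc42d9) (.node (nat_lit 0xd040201058ec52b9) (.leaf (nat_lit 0xd040201058ec4299) (nat_lit 1028))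
 (.leaf (nat_lit 0xd040201058ec52b9) (nat_lit 1792))
) (.node (nat_lit 0xd040201058fc52f9) (.leaf (nat_lit 0xd040201058fc42d9) (nat_lit 1027))
 (.leaf (nat_lit 0xd040201058fc52f9) (nat_lit 2052))
)))) (.node (nat_lit 0xd0403010180c02db) (.node (nat_lit 0xd0403010082c424b) (.node (nat_lit 0xd0403010081c024b) (.node (nat_lit 0xd0403010080c123b) (.leaf (nat_lit 0xd0403010080c020b) (nat_lit 773))
 (.leaf (nat_lit 0xd0403010080c123b) (nat_lit 1797))
) (.node (nat_lit 0xd0403010081c127b) (.leaf (nat_lit 0xd0403010081c024b) (nat_lit 773))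
 (.leaf (nat_lit 0xd0403010081c127b) (nat_lit 1797))
)) (.node (nat_lit 0xd0403010083c420b) (.node (nat_lit 0xd0403010082c527b) (.leaf (nat_lit 0xd0403010082c424b) (nat_lit 1029))
 (.leaf (nat_lit 0xd0403010082c527b) (nat_lit 2049))
) (.node (nat_lit 0xd0403010083c523b) (.leaf (nat_lit 0xd0403010083c420b) (nat_lit 1029))
 (.leaf (nat_lit 0xd0403010083c523b) (nat_lit 2053))
))) (.node (nat_lit 0xd0403010182c429b) (.node (nat_lit 0xd0403010181c029b) (.node (nat_lit 0xd0403010180c12eb) (.leaf (nat_lit 0xd0403010180c02db) (nat_lit 1029))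
 (.leaf (nat_lit 0xd0403010180c12eb) (nat_lit 2053))
) (.node (nat_lit 0xd0403010181c12ab) (.leaf (nat_lit 0xd0403010181c029b) (nat_lit 1029))
 (.leaf (nat_lit 0xd0403010181c12ab) (nat_lit 2053))
)) (.node (nat_lit 0xd0403010183c42db) (.node (nat_lit 0xd0403010182c52ab) (.leaf (nat_lit 0xd0403010182c429b) (nat_lit 1285))
 (.leaf (nat_lit 0xd0403010182c52ab) (nat_lit 2309))
) (.node (nat_lit 0xd0403010183c52eb) (.leaf (nat_lit 0xd0403010183c42db) (nat_lit 1285))
 (.leaf (nat_lit 0xd0403010183c52eb) (nat_lit 2048))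
))))) (.node (nat_lit 0xd0503010280cc2e7) (.node (nat_lit 0xd050201078ccc275) (.node (nat_lit 0xd050201068ec8285) (.node (nat_lit 0xd050201068dcc2f5) (.node (nat_lit 0xd050201068ccd285) (.leaf (nat_lit 0xd050201068ccc2a5) (nat_lit 1541))
 (.leaf (nat_lit 0xd050201068ccd285) (nat_lit 1537))
) (.node (nat_lit 0xd050201068dcd2d5) (.leaf (nat_lit 0xd050201068dcc2f5) (nat_lit 1540))
 (.leaf (nat_lit 0xd050201068dcd2d5) (nat_lit 1541))
)) (.node (nat_lit 0xd050201068fc82d5) (.node (nat_lit 0xd050201068ec92a5) (.leaf (nat_lit 0xd050201068ec8285) (nat_lit 1285))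
 (.leaf (nat_lit 0xd050201068ec92a5) (nat_lit 1793))
) (.node (nat_lit 0xd050201068fc92f5) (.leaf (nat_lit 0xd050201068fc82d5) (nat_lit 1797))
 (.leaf (nat_lit 0xd050201068fc92f5) (nat_lit 1797))
))) (.node (nat_lit 0xd050201078ec8255) (.node (nat_lit 0xd050201078dcc225) (.node (nat_lit 0xd050201078ccd255) (.leaf (nat_lit 0xd050201078ccc275) (nat_lit 1539))
 (.leaf (nat_lit 0xd050201078ccd255) (nat_lit 1541))
) (.node (nat_lit 0xd050201078dcd205) (.leaf (nat_lit 0xd050201078dcc225) (nat_lit 1541))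
 (.leaf (nat_lit 0xd050201078dcd205) (nat_lit 1541))
)) (.node (nat_lit 0xd050201078fc8205) (.node (nat_lit 0xd050201078ec9275) (.leaf (nat_lit 0xd050201078ec8255) (nat_lit 1541))
 (.leaf (nat_lit 0xd050201078ec9275) (nat_lit 1797))
) (.node (nat_lit 0xd050201078fc9225) (.leaf (nat_lit 0xd050201078fc8205) (nat_lit 1541))
 (.leaf (nat_lit 0xd050201078fc9225) (nat_lit 1797))
)))) (.node (nat_lit 0xd0503010380cc237) (.node (nat_lit 0xd0503010282c8287) (.node (nat_lit 0xd0503010281cc2b7) (.node (nat_lit 0xd0503010280cd2d7) (.leaf (nat_lit 0xd0503010280cc2e7) (nat_lit 1283))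
 (.leaf (nat_lit 0xd0503010280cd2d7) (nat_lit 1280))
) (.node (nat_lit 0xd0503010281cd287) (.leaf (nat_lit 0xd0503010281cc2b7) (nat_lit 1538))
 (.leaf (nat_lit 0xd0503010281cd287) (nat_lit 1280))
)) (.node (nat_lit 0xd0503010283c82d7) (.node (nat_lit 0xd0503010282c92b7) (.leaf (nat_lit 0xd0503010282c8287) (nat_lit 1284))
 (.leaf (nat_lit 0xd0503010282c92b7) (nat_lit 1536))
) (.node (nat_lit 0xd0503010283c92e7) (.leaf (nat_lit 0xd0503010283c82d7) (nat_lit 1282))
 (.leaf (nat_lit 0xd0503010283c92e7) (nat_lit 1536))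
))) (.node (nat_lit 0xd0503010382c8257) (.node (nat_lit 0xd0503010381cc267) (.node (nat_lit 0xd0503010380cd207) (.leaf (nat_lit 0xd0503010380cc237) (nat_lit 1539))
 (.leaf (nat_lit 0xd0503010380cd207) (nat_lit 1284))
) (.node (nat_lit 0xd0503010381cd257) (.leaf (nat_lit 0xd0503010381cc267) (nat_lit 1284))
 (.leaf (nat_lit 0xd0503010381cd257) (nat_lit 1536))
)) (.node (nat_lit 0xd0503010383c8207) (.node (nat_lit 0xd0503010382c9267) (.leaf (nat_lit 0xd0503010382c8257) (nat_lit 1538))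
 (.leaf (nat_lit 0xd0503010382c9267) (nat_lit 1540))
) (.node (nat_lit 0xd0503010383c9237) (.leaf (nat_lit 0xd0503010383c8207) (nat_lit 1028))
 (.leaf (nat_lit 0xd0503010383c9237) (nat_lit 1539))
)))))) (.node (nat_lit 0xd070201068cc0ea5) (.node (nat_lit 0xd0603010280ccee7) (.node (nat_lit 0xd060201058ccce99) (.node (nat_lit 0xd060201048ecae49) (.node (nat_lit 0xd060201048dcce29) (.node (nat_lit 0xd060201048ccde69) (.leaf (nat_lit 0xd060201048ccce49) (nat_lit 771))
 (.leaf (nat_lit 0xd060201048ccde69) (nat_lit 1796))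
) (.node (nat_lit 0xd060201048dcde09) (.leaf (nat_lit 0xd060201048dcce29) (nat_lit 1284))
 (.leaf (nat_lit 0xd060201048dcde09) (nat_lit 768))
)) (.node (nat_lit 0xd060201048fcae29) (.node (nat_lit 0xd060201048ecbe69) (.leaf (nat_lit 0xd060201048ecae49) (nat_lit 1027))
 (.leaf (nat_lit 0xd060201048ecbe69) (nat_lit 1541))
) (.node (nat_lit 0xd060201048fcbe09) (.leaf (nat_lit 0xd060201048fcae29) (nat_lit 1540))
 (.leaf (nat_lit 0xd060201048fcbe09) (nat_lit 1024))
))) (.node (nat_lit 0xd060201058ecae99) (.node (nat_lit 0xd060201058dccef9) (.node (nat_lit 0xd060201058ccdeb9) (.leaf (nat_lit 0xd060201058ccce99) (nat_lit 1024))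
 (.leaf (nat_lit 0xd060201058ccdeb9) (nat_lit 1540))
) (.node (nat_lit 0xd060201058dcded9) (.leaf (nat_lit 0xd060201058dccef9) (nat_lit 1540))
 (.leaf (nat_lit 0xd060201058dcded9) (nat_lit 1027))
)) (.node (nat_lit 0xd060201058fcaef9) (.node (nat_lit 0xd060201058ecbeb9) (.leaf (nat_lit 0xd060201058ecae99) (nat_lit 1280))
 (.leaf (nat_lit 0xd060201058ecbeb9) (nat_lit 1541))
) (.node (nat_lit 0xd060201058fcbed9) (.leaf (nat_lit 0xd060201058fcaef9) (nat_lit 1796))
 (.leaf (nat_lit 0xd060201058fcbed9) (nat_lit 1283))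
)))) (.node (nat_lit 0xd0603010380cce37) (.node (nat_lit 0xd0603010282cae87) (.node (nat_lit 0xd0603010281cce87) (.node (nat_lit 0xd0603010280cded7) (.leaf (nat_lit 0xd0603010280ccee7) (nat_lit 1027))
 (.leaf (nat_lit 0xd0603010280cded7) (nat_lit 1029))
) (.node (nat_lit 0xd0603010281cdeb7) (.leaf (nat_lit 0xd0603010281cce87) (nat_lit 1029))
 (.leaf (nat_lit 0xd0603010281cdeb7) (nat_lit 1537))
)) (.node (nat_lit 0xd0603010283caee7) (.node (nat_lit 0xd0603010282cbeb7) (.leaf (nat_lit 0xd0603010282cae87) (nat_lit 1283))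
 (.leaf (nat_lit 0xd0603010282cbeb7) (nat_lit 1285))
) (.node (nat_lit 0xd0603010283cbed7) (.leaf (nat_lit 0xd0603010283caee7) (nat_lit 1285))
 (.leaf (nat_lit 0xd0603010283cbed7) (nat_lit 1281))
))) (.node (nat_lit 0xd0603010382cae57) (.node (nat_lit 0xd0603010381cce57) (.node (nat_lit 0xd0603010380cde07) (.leaf (nat_lit 0xd0603010380cce37) (nat_lit 1283))
 (.leaf (nat_lit 0xd0603010380cde07) (nat_lit 1285))
) (.node (nat_lit 0xd0603010381cde67) (.leaf (nat_lit 0xd0603010381cce57) (nat_lit 1285))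
 (.leaf (nat_lit 0xd0603010381cde67) (nat_lit 1283))
)) (.node (nat_lit 0xd0603010383cae37) (.node (nat_lit 0xd0603010382cbe67) (.leaf (nat_lit 0xd0603010382cae57) (nat_lit 1539))
 (.leaf (nat_lit 0xd0603010382cbe67) (nat_lit 1541))
) (.node (nat_lit 0xd0603010383cbe07) (.leaf (nat_lit 0xd0603010383cae37) (nat_lit 1541))
 (.leaf (nat_lit 0xd0603010383cbe07) (nat_lit 1280))
))))) (.node (nat_lit 0xd0703010080c0e0b) (.node (nat_lit 0xd070201078cc0e75) (.node (nat_lit 0xd070201068ec6e85) (.node (nat_lit 0xd070201068dc0ed5) (.node (nat_lit 0xd070201068cc1e85) (.leaf (nat_lit 0xd070201068cc0ea5) (nat_lit 1539))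
 (.leaf (nat_lit 0xd070201068cc1e85) (nat_lit 1541))
) (.node (nat_lit 0xd070201068dc1ef5) (.leaf (nat_lit 0xd070201068dc0ed5) (nat_lit 1541))
 (.leaf (nat_lit 0xd070201068dc1ef5) (nat_lit 1539))
)) (.node (nat_lit 0xd070201068fc6ef5) (.node (nat_lit 0xd070201068ec7ea5) (.leaf (nat_lit 0xd070201068ec6e85) (nat_lit 1536))
 (.leaf (nat_lit 0xd070201068ec7ea5) (nat_lit 1797))
) (.node (nat_lit 0xd070201068fc7ed5) (.leaf (nat_lit 0xd070201068fc6ef5) (nat_lit 1797))
 (.leaf (nat_lit 0xd070201068fc7ed5) (nat_lit 1795))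
))) (.node (nat_lit 0xd070201078ec6e55) (.node (nat_lit 0xd070201078dc0e05) (.node (nat_lit 0xd070201078cc1e55) (.leaf (nat_lit 0xd070201078cc0e75) (nat_lit 1283))
 (.leaf (nat_lit 0xd070201078cc1e55) (nat_lit 1285))
) (.node (nat_lit 0xd070201078dc1e25) (.leaf (nat_lit 0xd070201078dc0e05) (nat_lit 1285))
 (.leaf (nat_lit 0xd070201078dc1e25) (nat_lit 1793))
)) (.node (nat_lit 0xd070201078fc6e25) (.node (nat_lit 0xd070201078ec7e75) (.leaf (nat_lit 0xd070201078ec6e55) (nat_lit 1539))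
 (.leaf (nat_lit 0xd070201078ec7e75) (nat_lit 1541))
) (.node (nat_lit 0xd070201078fc7e05) (.leaf (nat_lit 0xd070201078fc6e25) (nat_lit 1541))
 (.leaf (nat_lit 0xd070201078fc7e05) (nat_lit 1537))
)))) (.node (nat_lit 0xd0703010180c0edb) (.node (nat_lit 0xd0703010082c6e4b) (.node (nat_lit 0xd0703010081c0e7b) (.node (nat_lit 0xd0703010080c1e3b) (.leaf (nat_lit 0xd0703010080c0e0b) (nat_lit 1024))
 (.leaf (nat_lit 0xd0703010080c1e3b) (nat_lit 2053))
) (.node (nat_lit 0xd0703010081c1e4b) (.leaf (nat_lit 0xd0703010081c0e7b) (nat_lit 1540))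
 (.leaf (nat_lit 0xd0703010081c1e4b) (nat_lit 1024))
)) (.node (nat_lit 0xd0703010083c6e3b) (.node (nat_lit 0xd0703010082c7e7b) (.leaf (nat_lit 0xd0703010082c6e4b) (nat_lit 1280))
 (.leaf (nat_lit 0xd0703010082c7e7b) (nat_lit 1797))
) (.node (nat_lit 0xd0703010083c7e0b) (.leaf (nat_lit 0xd0703010083c6e3b) (nat_lit 1796))
 (.leaf (nat_lit 0xd0703010083c7e0b) (nat_lit 1280))
))) (.node (nat_lit 0xd0703010182c6e9b) (.node (nat_lit 0xd0703010181c0eab) (.node (nat_lit 0xd0703010180c1eeb) (.leaf (nat_lit 0xd0703010180c0edb) (nat_lit 1280))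
 (.leaf (nat_lit 0xd0703010180c1eeb) (nat_lit 1796))
) (.node (nat_lit 0xd0703010181c1e9b) (.leaf (nat_lit 0xd0703010181c0eab) (nat_lit 1796))
 (.leaf (nat_lit 0xd0703010181c1e9b) (nat_lit 1280))
)) (.node (nat_lit 0xd0703010183c6eeb) (.node (nat_lit 0xd0703010182c7eab) (.leaf (nat_lit 0xd0703010182c6e9b) (nat_lit 1536))
 (.leaf (nat_lit 0xd0703010182c7eab) (nat_lit 2052))
) (.node (nat_lit 0xd0703010183c7edb) (.leaf (nat_lit 0xd0703010183c6eeb) (nat_lit 1796))
 (.leaf (nat_lit 0xd0703010183c7edb) (nat_lit 1536))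
)))))))) (.node (nat_lit 0xf040201068ccaa69) (.node (nat_lit 0xe060201068cc6601) (.node (nat_lit 0xe050201048cc4acd) (.node (nat_lit 0xe0403010280ceaeb) (.node (nat_lit 0xe040201078ccaae1) (.node (nat_lit 0xe040201068ecea01) (.node (nat_lit 0xe040201068dcaa41) (.node (nat_lit 0xe040201068ccba21) (.leaf (nat_lit 0xe040201068ccaa01) (nat_lit 1024))
 (.leaf (nat_lit 0xe040201068ccba21) (nat_lit 1797))
) (.node (nat_lit 0xe040201068dcba61) (.leaf (nat_lit 0xe040201068dcaa41) (nat_lit 1541))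
 (.leaf (nat_lit 0xe040201068dcba61) (nat_lit 1538))
)) (.node (nat_lit 0xe040201068fcea41) (.node (nat_lit 0xe040201068ecfa21) (.leaf (nat_lit 0xe040201068ecea01) (nat_lit 768))
 (.leaf (nat_lit 0xe040201068ecfa21) (nat_lit 1796))
) (.node (nat_lit 0xe040201068fcfa61) (.leaf (nat_lit 0xe040201068fcea41) (nat_lit 1797))
 (.leaf (nat_lit 0xe040201068fcfa61) (nat_lit 1282))
))) (.node (nat_lit 0xe040201078eceae1) (.node (nat_lit 0xe040201078dcaaa1) (.node (nat_lit 0xe040201078ccbac1) (.leaf (nat_lit 0xe040201078ccaae1) (nat_lit 1282))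
 (.leaf (nat_lit 0xe040201078ccbac1) (nat_lit 1539))
) (.node (nat_lit 0xe040201078dcba81) (.leaf (nat_lit 0xe040201078dcaaa1) (nat_lit 1541))
 (.leaf (nat_lit 0xe040201078dcba81) (nat_lit 1280))
)) (.node (nat_lit 0xe040201078fceaa1) (.node (nat_lit 0xe040201078ecfac1) (.leaf (nat_lit 0xe040201078eceae1) (nat_lit 1026))
 (.leaf (nat_lit 0xe040201078ecfac1) (nat_lit 1540))
) (.node (nat_lit 0xe040201078fcfa81) (.leaf (nat_lit 0xe040201078fceaa1) (nat_lit 1540))
 (.leaf (nat_lit 0xe040201078fcfa81) (nat_lit 1024))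
)))) (.node (nat_lit 0xe0403010380cea0b) (.node (nat_lit 0xe0403010282caaab) (.node (nat_lit 0xe0403010281ceaab) (.node (nat_lit 0xe0403010280cfadb) (.leaf (nat_lit 0xe0403010280ceaeb) (nat_lit 1029))
 (.leaf (nat_lit 0xe0403010280cfadb) (nat_lit 1539))
) (.node (nat_lit 0xe0403010281cfa9b) (.leaf (nat_lit 0xe0403010281ceaab) (nat_lit 1537))
 (.leaf (nat_lit 0xe0403010281cfa9b) (nat_lit 1541))
)) (.node (nat_lit 0xe0403010283caaeb) (.node (nat_lit 0xe0403010282cba9b) (.leaf (nat_lit 0xe0403010282caaab) (nat_lit 1285))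
 (.leaf (nat_lit 0xe0403010282cba9b) (nat_lit 1536))
) (.node (nat_lit 0xe0403010283cbadb) (.leaf (nat_lit 0xe0403010283caaeb) (nat_lit 1281))
 (.leaf (nat_lit 0xe0403010283cbadb) (nat_lit 1536))
))) (.node (nat_lit 0xe0403010382caa4b) (.node (nat_lit 0xe0403010381cea4b) (.node (nat_lit 0xe0403010380cfa3b) (.leaf (nat_lit 0xe0403010380cea0b) (nat_lit 1285))
 (.leaf (nat_lit 0xe0403010380cfa3b) (nat_lit 1539))
) (.node (nat_lit 0xe0403010381cfa7b) (.leaf (nat_lit 0xe0403010381cea4b) (nat_lit 1536))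
 (.leaf (nat_lit 0xe0403010381cfa7b) (nat_lit 1285))
)) (.node (nat_lit 0xe0403010383caa0b) (.node (nat_lit 0xe0403010382cba7b) (.leaf (nat_lit 0xe0403010382caa4b) (nat_lit 1280))
 (.leaf (nat_lit 0xe0403010382cba7b) (nat_lit 1537))
) (.node (nat_lit 0xe0403010383cba3b) (.leaf (nat_lit 0xe0403010383caa0b) (nat_lit 1280))
 (.leaf (nat_lit 0xe0403010383cba3b) (nat_lit 1283))
))))) (.node (nat_lit 0xe0503010080c0a07) (.node (nat_lit 0xe050201058cc4a2d) (.node (nat_lit 0xe050201048ec0aed) (.node (nat_lit 0xe050201048dc4a9d) (.node (nat_lit 0xe050201048cc5aed) (.leaf (nat_lit 0xe050201048cc4acd) (nat_lit 1536))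
 (.leaf (nat_lit 0xe050201048cc5aed) (nat_lit 1793))
) (.node (nat_lit 0xe050201048dc5abd) (.leaf (nat_lit 0xe050201048dc4a9d) (nat_lit 1536))
 (.leaf (nat_lit 0xe050201048dc5abd) (nat_lit 1536))
)) (.node (nat_lit 0xe050201048fc0abd) (.node (nat_lit 0xe050201048ec1acd) (.leaf (nat_lit 0xe050201048ec0aed) (nat_lit 1541))
 (.leaf (nat_lit 0xe050201048ec1acd) (nat_lit 1792))
) (.node (nat_lit 0xe050201048fc1a9d) (.leaf (nat_lit 0xe050201048fc0abd) (nat_lit 1792))
 (.leaf (nat_lit 0xe050201048fc1a9d) (nat_lit 1541))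
))) (.node (nat_lit 0xe050201058ec0a0d) (.node (nat_lit 0xe050201058dc4a7d) (.node (nat_lit 0xe050201058cc5a0d) (.leaf (nat_lit 0xe050201058cc4a2d) (nat_lit 1541))
 (.leaf (nat_lit 0xe050201058cc5a0d) (nat_lit 1537))
) (.node (nat_lit 0xe050201058dc5a5d) (.leaf (nat_lit 0xe050201058dc4a7d) (nat_lit 1792))
 (.leaf (nat_lit 0xe050201058dc5a5d) (nat_lit 1541))
)) (.node (nat_lit 0xe050201058fc0a5d) (.node (nat_lit 0xe050201058ec1a2d) (.leaf (nat_lit 0xe050201058ec0a0d) (nat_lit 1285))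
 (.leaf (nat_lit 0xe050201058ec1a2d) (nat_lit 1793))
) (.node (nat_lit 0xe050201058fc1a7d) (.leaf (nat_lit 0xe050201058fc0a5d) (nat_lit 1795))
 (.leaf (nat_lit 0xe050201058fc1a7d) (nat_lit 1797))
)))) (.node (nat_lit 0xe0503010180c0ae7) (.node (nat_lit 0xe0503010082c4a67) (.node (nat_lit 0xe0503010081c0a57) (.node (nat_lit 0xe0503010080c1a37) (.leaf (nat_lit 0xe0503010080c0a07) (nat_lit 1024))
 (.leaf (nat_lit 0xe0503010080c1a37) (nat_lit 2053))
) (.node (nat_lit 0xe0503010081c1a67) (.leaf (nat_lit 0xe0503010081c0a57) (nat_lit 2052))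
 (.leaf (nat_lit 0xe0503010081c1a67) (nat_lit 1537))
)) (.node (nat_lit 0xe0503010083c4a37) (.node (nat_lit 0xe0503010082c5a57) (.leaf (nat_lit 0xe0503010082c4a67) (nat_lit 1280))
 (.leaf (nat_lit 0xe0503010082c5a57) (nat_lit 1797))
) (.node (nat_lit 0xe0503010083c5a07) (.leaf (nat_lit 0xe0503010083c4a37) (nat_lit 1792))
 (.leaf (nat_lit 0xe0503010083c5a07) (nat_lit 1281))
))) (.node (nat_lit 0xe0503010182c4a87) (.node (nat_lit 0xe0503010181c0ab7) (.node (nat_lit 0xe0503010180c1ad7) (.leaf (nat_lit 0xe0503010180c0ae7) (nat_lit 1280))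
 (.leaf (nat_lit 0xe0503010180c1ad7) (nat_lit 1792))
) (.node (nat_lit 0xe0503010181c1a87) (.leaf (nat_lit 0xe0503010181c0ab7) (nat_lit 1796))
 (.leaf (nat_lit 0xe0503010181c1a87) (nat_lit 1280))
)) (.node (nat_lit 0xe0503010183c4ad7) (.node (nat_lit 0xe0503010182c5ab7) (.leaf (nat_lit 0xe0503010182c4a87) (nat_lit 1536))
 (.leaf (nat_lit 0xe0503010182c5ab7) (nat_lit 2053))
) (.node (nat_lit 0xe0503010183c5ae7) (.leaf (nat_lit 0xe0503010183c4ad7) (nat_lit 1796))
 (.leaf (nat_lit 0xe0503010183c5ae7) (nat_lit 1536))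
)))))) (.node (nat_lit 0xe070201048cc86cd) (.node (nat_lit 0xe0603010080c0607) (.node (nat_lit 0xe060201078cc66e1) (.node (nat_lit 0xe060201068ec0601) (.node (nat_lit 0xe060201068dc6661) (.node (nat_lit 0xe060201068cc7621) (.leaf (nat_lit 0xe060201068cc6601) (nat_lit 772))
 (.leaf (nat_lit 0xe060201068cc7621) (nat_lit 1794))
) (.node (nat_lit 0xe060201068dc7641) (.leaf (nat_lit 0xe060201068dc6661) (nat_lit 1282))
 (.leaf (nat_lit 0xe060201068dc7641) (nat_lit 1284))
)) (.node (nat_lit 0xe060201068fc0661) (.node (nat_lit 0xe060201068ec1621) (.leaf (nat_lit 0xe060201068ec0601) (nat_lit 516))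
 (.leaf (nat_lit 0xe060201068ec1621) (nat_lit 1538))
) (.node (nat_lit 0xe060201068fc1641) (.leaf (nat_lit 0xe060201068fc0661) (nat_lit 1026))
 (.leaf (nat_lit 0xe060201068fc1641) (nat_lit 1540))
))) (.node (nat_lit 0xe060201078ec06e1) (.node (nat_lit 0xe060201078dc6681) (.node (nat_lit 0xe060201078cc76c1) (.leaf (nat_lit 0xe060201078cc66e1) (nat_lit 1026))
 (.leaf (nat_lit 0xe060201078cc76c1) (nat_lit 1540))
) (.node (nat_lit 0xe060201078dc76a1) (.leaf (nat_lit 0xe060201078dc6681) (nat_lit 1028))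
 (.leaf (nat_lit 0xe060201078dc76a1) (nat_lit 1538))
)) (.node (nat_lit 0xe060201078fc0681) (.node (nat_lit 0xe060201078ec16c1) (.leaf (nat_lit 0xe060201078ec06e1) (nat_lit 770))
 (.leaf (nat_lit 0xe060201078ec16c1) (nat_lit 1284))
) (.node (nat_lit 0xe060201078fc16a1) (.leaf (nat_lit 0xe060201078fc0681) (nat_lit 772))
 (.leaf (nat_lit 0xe060201078fc16a1) (nat_lit 1792))
)))) (.node (nat_lit 0xe0603010180c06e7) (.node (nat_lit 0xe0603010082c6667) (.node (nat_lit 0xe0603010081c0667) (.node (nat_lit 0xe0603010080c1637) (.leaf (nat_lit 0xe0603010080c0607) (nat_lit 773))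
 (.leaf (nat_lit 0xe0603010080c1637) (nat_lit 1797))
) (.node (nat_lit 0xe0603010081c1657) (.leaf (nat_lit 0xe0603010081c0667) (nat_lit 1281))
 (.leaf (nat_lit 0xe0603010081c1657) (nat_lit 1797))
)) (.node (nat_lit 0xe0603010083c6607) (.node (nat_lit 0xe0603010082c7657) (.leaf (nat_lit 0xe0603010082c6667) (nat_lit 1029))
 (.leaf (nat_lit 0xe0603010082c7657) (nat_lit 2048))
) (.node (nat_lit 0xe0603010083c7637) (.leaf (nat_lit 0xe0603010083c6607) (nat_lit 1025))
 (.leaf (nat_lit 0xe0603010083c7637) (nat_lit 1541))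
))) (.node (nat_lit 0xe0603010182c6687) (.node (nat_lit 0xe0603010181c0687) (.node (nat_lit 0xe0603010180c16d7) (.leaf (nat_lit 0xe0603010180c06e7) (nat_lit 1029))
 (.leaf (nat_lit 0xe0603010180c16d7) (nat_lit 1541))
) (.node (nat_lit 0xe0603010181c16b7) (.leaf (nat_lit 0xe0603010181c0687) (nat_lit 1029))
 (.leaf (nat_lit 0xe0603010181c16b7) (nat_lit 2053))
)) (.node (nat_lit 0xe0603010183c66e7) (.node (nat_lit 0xe0603010182c76b7) (.leaf (nat_lit 0xe0603010182c6687) (nat_lit 1285))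
 (.leaf (nat_lit 0xe0603010182c76b7) (nat_lit 1797))
) (.node (nat_lit 0xe0603010183c76d7) (.leaf (nat_lit 0xe0603010183c66e7) (nat_lit 1285))
 (.leaf (nat_lit 0xe0603010183c76d7) (nat_lit 1793))
))))) (.node (nat_lit 0xe0703010280ce6eb) (.node (nat_lit 0xe070201058cc862d) (.node (nat_lit 0xe070201048ece6ed) (.node (nat_lit 0xe070201048dc86bd) (.node (nat_lit 0xe070201048cc96ed) (.leaf (nat_lit 0xe070201048cc86cd) (nat_lit 1285))
 (.leaf (nat_lit 0xe070201048cc96ed) (nat_lit 1796))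
) (.node (nat_lit 0xe070201048dc969d) (.leaf (nat_lit 0xe070201048dc86bd) (nat_lit 1285))
 (.leaf (nat_lit 0xe070201048dc969d) (nat_lit 1285))
)) (.node (nat_lit 0xe070201048fce69d) (.node (nat_lit 0xe070201048ecf6cd) (.leaf (nat_lit 0xe070201048ece6ed) (nat_lit 1541))
 (.leaf (nat_lit 0xe070201048ecf6cd) (nat_lit 1541))
) (.node (nat_lit 0xe070201048fcf6bd) (.leaf (nat_lit 0xe070201048fce69d) (nat_lit 1541))
 (.leaf (nat_lit 0xe070201048fcf6bd) (nat_lit 1541))
))) (.node (nat_lit 0xe070201058ece60d) (.node (nat_lit 0xe070201058dc865d) (.node (nat_lit 0xe070201058cc960d) (.leaf (nat_lit 0xe070201058cc862d) (nat_lit 1541))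
 (.leaf (nat_lit 0xe070201058cc960d) (nat_lit 1541))
) (.node (nat_lit 0xe070201058dc967d) (.leaf (nat_lit 0xe070201058dc865d) (nat_lit 1541))
 (.leaf (nat_lit 0xe070201058dc967d) (nat_lit 1541))
)) (.node (nat_lit 0xe070201058fce67d) (.node (nat_lit 0xe070201058ecf62d) (.leaf (nat_lit 0xe070201058ece60d) (nat_lit 1541))
 (.leaf (nat_lit 0xe070201058ecf62d) (nat_lit 1797))
) (.node (nat_lit 0xe070201058fcf65d) (.leaf (nat_lit 0xe070201058fce67d) (nat_lit 1797))
 (.leaf (nat_lit 0xe070201058fcf65d) (nat_lit 1797))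
)))) (.node (nat_lit 0xe0703010380ce60b) (.node (nat_lit 0xe0703010282c86ab) (.node (nat_lit 0xe0703010281ce69b) (.node (nat_lit 0xe0703010280cf6db) (.leaf (nat_lit 0xe0703010280ce6eb) (nat_lit 1280))
 (.leaf (nat_lit 0xe0703010280cf6db) (nat_lit 1540))
) (.node (nat_lit 0xe0703010281cf6ab) (.leaf (nat_lit 0xe0703010281ce69b) (nat_lit 1540))
 (.leaf (nat_lit 0xe0703010281cf6ab) (nat_lit 1538))
)) (.node (nat_lit 0xe0703010283c86db) (.node (nat_lit 0xe0703010282c969b) (.leaf (nat_lit 0xe0703010282c86ab) (nat_lit 1283))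
 (.leaf (nat_lit 0xe0703010282c969b) (nat_lit 1284))
) (.node (nat_lit 0xe0703010283c96eb) (.leaf (nat_lit 0xe0703010283c86db) (nat_lit 1284))
 (.leaf (nat_lit 0xe0703010283c96eb) (nat_lit 1282))
))) (.node (nat_lit 0xe0703010382c864b) (.node (nat_lit 0xe0703010381ce67b) (.node (nat_lit 0xe0703010380cf63b) (.leaf (nat_lit 0xe0703010380ce60b) (nat_lit 1284))
 (.leaf (nat_lit 0xe0703010380cf63b) (nat_lit 1283))
) (.node (nat_lit 0xe0703010381cf64b) (.leaf (nat_lit 0xe0703010381ce67b) (nat_lit 1283))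
 (.leaf (nat_lit 0xe0703010381cf64b) (nat_lit 1284))
)) (.node (nat_lit 0xe0703010383c863b) (.node (nat_lit 0xe0703010382c967b) (.leaf (nat_lit 0xe0703010382c864b) (nat_lit 1028))
 (.leaf (nat_lit 0xe0703010382c967b) (nat_lit 1539))
) (.node (nat_lit 0xe0703010383c960b) (.leaf (nat_lit 0xe0703010383c863b) (nat_lit 1027))
 (.leaf (nat_lit 0xe0703010383c960b) (nat_lit 1028))
))))))) (.node (nat_lit 0xf060201068cc6669) (.node (nat_lit 0xf050201048cc4a85) (.node (nat_lit 0xf0403010280ceac3) (.node (nat_lit 0xf040201078ccaa99) (.node (nat_lit 0xf040201068ecea69) (.node (nat_lit 0xf040201068dcaa29) (.node (nat_lit 0xf040201068ccba49) (.leaf (nat_lit 0xf040201068ccaa69) (nat_lit 1283))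
 (.leaf (nat_lit 0xf040201068ccba49) (nat_lit 1541))
) (.node (nat_lit 0xf040201068dcba09) (.leaf (nat_lit 0xf040201068dcaa29) (nat_lit 1541))
 (.leaf (nat_lit 0xf040201068dcba09) (nat_lit 1280))
)) (.node (nat_lit 0xf040201068fcea29) (.node (nat_lit 0xf040201068ecfa49) (.leaf (nat_lit 0xf040201068ecea69) (nat_lit 1027))
 (.leaf (nat_lit 0xf040201068ecfa49) (nat_lit 1540))
) (.node (nat_lit 0xf040201068fcfa09) (.leaf (nat_lit 0xf040201068fcea29) (nat_lit 1540))
 (.leaf (nat_lit 0xf040201068fcfa09) (nat_lit 1024))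
))) (.node (nat_lit 0xf040201078ecea99) (.node (nat_lit 0xf040201078dcaad9) (.node (nat_lit 0xf040201078ccbab9) (.leaf (nat_lit 0xf040201078ccaa99) (nat_lit 1536))
 (.leaf (nat_lit 0xf040201078ccbab9) (nat_lit 1285))
) (.node (nat_lit 0xf040201078dcbaf9) (.leaf (nat_lit 0xf040201078dcaad9) (nat_lit 1797))
 (.leaf (nat_lit 0xf040201078dcbaf9) (nat_lit 1539))
)) (.node (nat_lit 0xf040201078fcead9) (.node (nat_lit 0xf040201078ecfab9) (.leaf (nat_lit 0xf040201078ecea99) (nat_lit 1280))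
 (.leaf (nat_lit 0xf040201078ecfab9) (nat_lit 1541))
) (.node (nat_lit 0xf040201078fcfaf9) (.leaf (nat_lit 0xf040201078fcead9) (nat_lit 1796))
 (.leaf (nat_lit 0xf040201078fcfaf9) (nat_lit 1283))
)))) (.node (nat_lit 0xf0403010380cea33) (.node (nat_lit 0xf0403010282caa83) (.node (nat_lit 0xf0403010281cea83) (.node (nat_lit 0xf0403010280cfaf3) (.leaf (nat_lit 0xf0403010280ceac3) (nat_lit 1283))
 (.leaf (nat_lit 0xf0403010280cfaf3) (nat_lit 1285))
) (.node (nat_lit 0xf0403010281cfab3) (.leaf (nat_lit 0xf0403010281cea83) (nat_lit 1285))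
 (.leaf (nat_lit 0xf0403010281cfab3) (nat_lit 1538))
)) (.node (nat_lit 0xf0403010283caac3) (.node (nat_lit 0xf0403010282cbab3) (.leaf (nat_lit 0xf0403010282caa83) (nat_lit 1280))
 (.leaf (nat_lit 0xf0403010282cbab3) (nat_lit 1541))
) (.node (nat_lit 0xf0403010283cbaf3) (.leaf (nat_lit 0xf0403010283caac3) (nat_lit 1541))
 (.leaf (nat_lit 0xf0403010283cbaf3) (nat_lit 1282))
))) (.node (nat_lit 0xf0403010382caa73) (.node (nat_lit 0xf0403010381cea73) (.node (nat_lit 0xf0403010380cfa03) (.leaf (nat_lit 0xf0403010380cea33) (nat_lit 1539))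
 (.leaf (nat_lit 0xf0403010380cfa03) (nat_lit 1280))
) (.node (nat_lit 0xf0403010381cfa43) (.leaf (nat_lit 0xf0403010381cea73) (nat_lit 1541))
 (.leaf (nat_lit 0xf0403010381cfa43) (nat_lit 1280))
)) (.node (nat_lit 0xf0403010383caa33) (.node (nat_lit 0xf0403010382cba43) (.leaf (nat_lit 0xf0403010382caa73) (nat_lit 1538))
 (.leaf (nat_lit 0xf0403010382cba43) (nat_lit 1536))
) (.node (nat_lit 0xf0403010383cba03) (.leaf (nat_lit 0xf0403010383caa33) (nat_lit 1539))
 (.leaf (nat_lit 0xf0403010383cba03) (nat_lit 1024))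
))))) (.node (nat_lit 0xf0503010080c0a0f) (.node (nat_lit 0xf050201058cc4a75) (.node (nat_lit 0xf050201048ec0aa5) (.node (nat_lit 0xf050201048dc4ad5) (.node (nat_lit 0xf050201048cc5aa5) (.leaf (nat_lit 0xf050201048cc4a85) (nat_lit 1280))
 (.leaf (nat_lit 0xf050201048cc5aa5) (nat_lit 1793))
) (.node (nat_lit 0xf050201048dc5af5) (.leaf (nat_lit 0xf050201048dc4ad5) (nat_lit 1792))
 (.leaf (nat_lit 0xf050201048dc5af5) (nat_lit 1792))
)) (.node (nat_lit 0xf050201048fc0af5) (.node (nat_lit 0xf050201048ec1a85) (.leaf (nat_lit 0xf050201048ec0aa5) (nat_lit 1536))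
 (.leaf (nat_lit 0xf050201048ec1a85) (nat_lit 1537))
) (.node (nat_lit 0xf050201048fc1ad5) (.leaf (nat_lit 0xf050201048fc0af5) (nat_lit 1536))
 (.leaf (nat_lit 0xf050201048fc1ad5) (nat_lit 1795))
))) (.node (nat_lit 0xf050201058ec0a55) (.node (nat_lit 0xf050201058dc4a25) (.node (nat_lit 0xf050201058cc5a55) (.leaf (nat_lit 0xf050201058cc4a75) (nat_lit 1536))
 (.leaf (nat_lit 0xf050201058cc5a55) (nat_lit 1797))
) (.node (nat_lit 0xf050201058dc5a05) (.leaf (nat_lit 0xf050201058dc4a25) (nat_lit 1797))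
 (.leaf (nat_lit 0xf050201058dc5a05) (nat_lit 1536))
)) (.node (nat_lit 0xf050201058fc0a05) (.node (nat_lit 0xf050201058ec1a75) (.leaf (nat_lit 0xf050201058ec0a55) (nat_lit 1539))
 (.leaf (nat_lit 0xf050201058ec1a75) (nat_lit 1541))
) (.node (nat_lit 0xf050201058fc1a25) (.leaf (nat_lit 0xf050201058fc0a05) (nat_lit 1541))
 (.leaf (nat_lit 0xf050201058fc1a25) (nat_lit 1792))
)))) (.node (nat_lit 0xf0503010180c0aff) (.node (nat_lit 0xf0503010082c4a6f) (.node (nat_lit 0xf0503010081c0a5f) (.node (nat_lit 0xf0503010080c1a3f) (.leaf (nat_lit 0xf0503010080c0a0f) (nat_lit 1280))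
 (.leaf (nat_lit 0xf0503010080c1a3f) (nat_lit 2052))
) (.node (nat_lit 0xf0503010081c1a6f) (.leaf (nat_lit 0xf0503010081c0a5f) (nat_lit 1796))
 (.leaf (nat_lit 0xf0503010081c1a6f) (nat_lit 1280))
)) (.node (nat_lit 0xf0503010083c4a3f) (.node (nat_lit 0xf0503010082c5a5f) (.leaf (nat_lit 0xf0503010082c4a6f) (nat_lit 1536))
 (.leaf (nat_lit 0xf0503010082c5a5f) (nat_lit 1796))
) (.node (nat_lit 0xf0503010083c5a0f) (.leaf (nat_lit 0xf0503010083c4a3f) (nat_lit 1794))
 (.leaf (nat_lit 0xf0503010083c5a0f) (nat_lit 1536))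
))) (.node (nat_lit 0xf0503010182c4a9f) (.node (nat_lit 0xf0503010181c0aaf) (.node (nat_lit 0xf0503010180c1acf) (.leaf (nat_lit 0xf0503010180c0aff) (nat_lit 1536))
 (.leaf (nat_lit 0xf0503010180c1acf) (nat_lit 1796))
) (.node (nat_lit 0xf0503010181c1a9f) (.leaf (nat_lit 0xf0503010181c0aaf) (nat_lit 1796))
 (.leaf (nat_lit 0xf0503010181c1a9f) (nat_lit 1536))
)) (.node (nat_lit 0xf0503010183c4acf) (.node (nat_lit 0xf0503010182c5aaf) (.leaf (nat_lit 0xf0503010182c4a9f) (nat_lit 1792))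
 (.leaf (nat_lit 0xf0503010182c5aaf) (nat_lit 2052))
) (.node (nat_lit 0xf0503010183c5aff) (.leaf (nat_lit 0xf0503010183c4acf) (nat_lit 1540))
 (.leaf (nat_lit 0xf0503010183c5aff) (nat_lit 1792))
)))))) (.node (nat_lit 0xf070201048cc8685) (.node (nat_lit 0xf0603010080c060f) (.node (nat_lit 0xf060201078cc6699) (.node (nat_lit 0xf060201068ec0669) (.node (nat_lit 0xf060201068dc6609) (.node (nat_lit 0xf060201068cc7649) (.leaf (nat_lit 0xf060201068cc6669) (nat_lit 1027))
 (.leaf (nat_lit 0xf060201068cc7649) (nat_lit 1540))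
) (.node (nat_lit 0xf060201068dc7629) (.leaf (nat_lit 0xf060201068dc6609) (nat_lit 1028))
 (.leaf (nat_lit 0xf060201068dc7629) (nat_lit 1539))
)) (.node (nat_lit 0xf060201068fc0609) (.node (nat_lit 0xf060201068ec1649) (.leaf (nat_lit 0xf060201068ec0669) (nat_lit 771))
 (.leaf (nat_lit 0xf060201068ec1649) (nat_lit 1284))
) (.node (nat_lit 0xf060201068fc1629) (.leaf (nat_lit 0xf060201068fc0609) (nat_lit 772))
 (.leaf (nat_lit 0xf060201068fc1629) (nat_lit 1792))
))) (.node (nat_lit 0xf060201078ec0699) (.node (nat_lit 0xf060201078dc66f9) (.node (nat_lit 0xf060201078cc76b9) (.leaf (nat_lit 0xf060201078cc6699) (nat_lit 1284))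
 (.leaf (nat_lit 0xf060201078cc76b9) (nat_lit 1536))
) (.node (nat_lit 0xf060201078dc76d9) (.leaf (nat_lit 0xf060201078dc66f9) (nat_lit 1283))
 (.leaf (nat_lit 0xf060201078dc76d9) (nat_lit 1796))
)) (.node (nat_lit 0xf060201078fc06f9) (.node (nat_lit 0xf060201078ec16b9) (.leaf (nat_lit 0xf060201078ec0699) (nat_lit 1028))
 (.leaf (nat_lit 0xf060201078ec16b9) (nat_lit 1539))
) (.node (nat_lit 0xf060201078fc16d9) (.leaf (nat_lit 0xf060201078fc06f9) (nat_lit 1027))
 (.leaf (nat_lit 0xf060201078fc16d9) (nat_lit 1540))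
)))) (.node (nat_lit 0xf0603010180c06ff) (.node (nat_lit 0xf0603010082c666f) (.node (nat_lit 0xf0603010081c066f) (.node (nat_lit 0xf0603010080c163f) (.leaf (nat_lit 0xf0603010080c060f) (nat_lit 1029))
 (.leaf (nat_lit 0xf0603010080c163f) (nat_lit 2053))
) (.node (nat_lit 0xf0603010081c165f) (.leaf (nat_lit 0xf0603010081c066f) (nat_lit 1029))
 (.leaf (nat_lit 0xf0603010081c165f) (nat_lit 1541))
)) (.node (nat_lit 0xf0603010083c660f) (.node (nat_lit 0xf0603010082c765f) (.leaf (nat_lit 0xf0603010082c666f) (nat_lit 1285))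
 (.leaf (nat_lit 0xf0603010082c765f) (nat_lit 1793))
) (.node (nat_lit 0xf0603010083c763f) (.leaf (nat_lit 0xf0603010083c660f) (nat_lit 1285))
 (.leaf (nat_lit 0xf0603010083c763f) (nat_lit 1797))
))) (.node (nat_lit 0xf0603010182c669f) (.node (nat_lit 0xf0603010181c069f) (.node (nat_lit 0xf0603010180c16cf) (.leaf (nat_lit 0xf0603010180c06ff) (nat_lit 1285))
 (.leaf (nat_lit 0xf0603010180c16cf) (nat_lit 1797))
) (.node (nat_lit 0xf0603010181c16af) (.leaf (nat_lit 0xf0603010181c069f) (nat_lit 1285))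
 (.leaf (nat_lit 0xf0603010181c16af) (nat_lit 1797))
)) (.node (nat_lit 0xf0603010183c66ff) (.node (nat_lit 0xf0603010182c76af) (.leaf (nat_lit 0xf0603010182c669f) (nat_lit 1541))
 (.leaf (nat_lit 0xf0603010182c76af) (nat_lit 2053))
) (.node (nat_lit 0xf0603010183c76cf) (.leaf (nat_lit 0xf0603010183c66ff) (nat_lit 1541))
 (.leaf (nat_lit 0xf0603010183c76cf) (nat_lit 1792))
))))) (.node (nat_lit 0xf0703010280ce6c3) (.node (nat_lit 0xf070201058cc8675) (.node (nat_lit 0xf070201048ece6a5) (.node (nat_lit 0xf070201048dc86f5) (.node (nat_lit 0xf070201048cc96a5) (.leaf (nat_lit 0xf070201048cc8685) (nat_lit 1029))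
 (.leaf (nat_lit 0xf070201048cc96a5) (nat_lit 1537))
) (.node (nat_lit 0xf070201048dc96d5) (.leaf (nat_lit 0xf070201048dc86f5) (nat_lit 1541))
 (.leaf (nat_lit 0xf070201048dc96d5) (nat_lit 1541))
)) (.node (nat_lit 0xf070201048fce6d5) (.node (nat_lit 0xf070201048ecf685) (.leaf (nat_lit 0xf070201048ece6a5) (nat_lit 1285))
 (.leaf (nat_lit 0xf070201048ecf685) (nat_lit 1281))
) (.node (nat_lit 0xf070201048fcf6f5) (.leaf (nat_lit 0xf070201048fce6d5) (nat_lit 1796))
 (.leaf (nat_lit 0xf070201048fcf6f5) (nat_lit 1285))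
))) (.node (nat_lit 0xf070201058ece655) (.node (nat_lit 0xf070201058dc8605) (.node (nat_lit 0xf070201058cc9655) (.leaf (nat_lit 0xf070201058cc8675) (nat_lit 1285))
 (.leaf (nat_lit 0xf070201058cc9655) (nat_lit 1797))
) (.node (nat_lit 0xf070201058dc9625) (.leaf (nat_lit 0xf070201058dc8605) (nat_lit 1285))
 (.leaf (nat_lit 0xf070201058dc9625) (nat_lit 1793))
)) (.node (nat_lit 0xf070201058fce625) (.node (nat_lit 0xf070201058ecf675) (.leaf (nat_lit 0xf070201058ece655) (nat_lit 1541))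
 (.leaf (nat_lit 0xf070201058ecf675) (nat_lit 1541))
) (.node (nat_lit 0xf070201058fcf605) (.leaf (nat_lit 0xf070201058fce625) (nat_lit 1541))
 (.leaf (nat_lit 0xf070201058fcf605) (nat_lit 1537))
)))) (.node (nat_lit 0xf0703010380ce633) (.node (nat_lit 0xf0703010282c8683) (.node (nat_lit 0xf0703010281ce6b3) (.node (nat_lit 0xf0703010280cf6f3) (.leaf (nat_lit 0xf0703010280ce6c3) (nat_lit 1284))
 (.leaf (nat_lit 0xf0703010280cf6f3) (nat_lit 1282))
) (.node (nat_lit 0xf0703010281cf683) (.leaf (nat_lit 0xf0703010281ce6b3) (nat_lit 1282))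
 (.leaf (nat_lit 0xf0703010281cf683) (nat_lit 1284))
)) (.node (nat_lit 0xf0703010283c86f3) (.node (nat_lit 0xf0703010282c96b3) (.leaf (nat_lit 0xf0703010282c8683) (nat_lit 1028))
 (.leaf (nat_lit 0xf0703010282c96b3) (nat_lit 1538))
) (.node (nat_lit 0xf0703010283c96c3) (.leaf (nat_lit 0xf0703010283c86f3) (nat_lit 1026))
 (.leaf (nat_lit 0xf0703010283c96c3) (nat_lit 1540))
))) (.node (nat_lit 0xf0703010382c8673) (.node (nat_lit 0xf0703010381ce643) (.node (nat_lit 0xf0703010380cf603) (.leaf (nat_lit 0xf0703010380ce633) (nat_lit 1538))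
 (.leaf (nat_lit 0xf0703010380cf603) (nat_lit 1028))
) (.node (nat_lit 0xf0703010381cf673) (.leaf (nat_lit 0xf0703010381ce643) (nat_lit 1028))
 (.leaf (nat_lit 0xf0703010381cf673) (nat_lit 1539))
)) (.node (nat_lit 0xf0703010383c8603) (.node (nat_lit 0xf0703010382c9643) (.leaf (nat_lit 0xf0703010382c8673) (nat_lit 1282))
 (.leaf (nat_lit 0xf0703010382c9643) (nat_lit 1284))
) (.node (nat_lit 0xf0703010383c9633) (.leaf (nat_lit 0xf0703010383c8603) (nat_lit 772))
 (.leaf (nat_lit 0xf0703010383c9633) (nat_lit 1283))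
))))))))))

theorem Ce_ok : genOK B8.A [(nat_lit 0x8060201008040601), (nat_lit 0x8040201008244201), (nat_lit 0x8040201018040281), (nat_lit 0x9040201008040209), (nat_lit 0xc040201048cc0201), (nat_lit 0x8040301048840203)] Ce_t (nat_lit 1024) = true := by decide +kernel

end Cfsg.Agent.Tri8
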