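import Mathlib
import Cfsg.Agent.Rec.B8
import Cfsg.Agent.Rec.Orb
import Cfsg.Agent.Rec.Misc
import Cfsg.Agent.Rec.Sim

/-! Generated by tools/rec: the Sylow subgroup -/

set_option autoImplicit false
set_option maxRecDepth 100000
set_option linter.unusedVariables false
set_option exponentiation.threshold 100000

namespace Cfsg.Agent.Tri8

open Cfsg.Agent.Spor Cfsg.Agent.Rec

universe u

noncomputable def U_t : ST :=
(.node (nat_lit 0xc0402010080c0201) (.node (nat_lit 0xa040201008040a01) (.node (nat_lit 0x9040201008040209) (.node (nat_lit 0x8060201008040601) (.node (nat_lit 0x8050201008040205) (.node (nat_lit 0x8040301008040203) (.node (nat_lit 0x8040201048840201) (.node (nat_lit 0x8040201028048201) (.node (nat_lit 0x8040201018040281) (.node (nat_lit 0x8040201008244201) (.node (nat_lit 0x8040201008140241) (.node (nat_lit 0x8040201008041221) (.leaf (nat_lit 0x8040201008040201) (nat_lit 0))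
 (.leaf (nat_lit 0x8040201008041221) (nat_lit 4099))
) (.node (nat_lit 0x8040201008141261) (.leaf (nat_lit 0x8040201008140241) (nat_lit 4099))
 (.leaf (nat_lit 0x8040201008141261) (nat_lit 4099))
)) (.node (nat_lit 0x8040201008344241) (.node (nat_lit 0x8040201008245221) (.leaf (nat_lit 0x8040201008244201) (nat_lit 2051))
 (.leaf (nat_lit 0x8040201008245221) (nat_lit 3587))
) (.node (nat_lit 0x8040201008345261) (.leaf (nat_lit 0x8040201008344241) (nat_lit 2560))
 (.leaf (nat_lit 0x8040201008345261) (nat_lit 3075))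
))) (.node (nat_lit 0x8040201018244281) (.node (nat_lit 0x80402010181402c1) (.node (nat_lit 0x80402010180412a1) (.leaf (nat_lit 0x8040201018040281) (nat_lit 2051))
 (.leaf (nat_lit 0x80402010180412a1) (nat_lit 3587))
) (.node (nat_lit 0x80402010181412e1) (.leaf (nat_lit 0x80402010181402c1) (nat_lit 2561))
 (.leaf (nat_lit 0x80402010181412e1) (nat_lit 3075))
)) (.node (nat_lit 0x80402010183442c1) (.node (nat_lit 0x80402010182452a1) (.leaf (nat_lit 0x8040201018244281) (nat_lit 2561))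
 (.leaf (nat_lit 0x80402010182452a1) (nat_lit 3072))
) (.node (nat_lit 0x80402010183452e1) (.leaf (nat_lit 0x80402010183442c1) (nat_lit 2563))
 (.leaf (nat_lit 0x80402010183452e1) (nat_lit 2563))
)))) (.node (nat_lit 0x8040201038048281) (.node (nat_lit 0x804020102824c201) (.node (nat_lit 0x8040201028148241) (.node (nat_lit 0x8040201028049221) (.leaf (nat_lit 0x8040201028048201) (nat_lit 1027))
 (.leaf (nat_lit 0x8040201028049221) (nat_lit 3587))
) (.node (nat_lit 0x8040201028149261) (.leaf (nat_lit 0x8040201028148241) (nat_lit 3584))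
 (.leaf (nat_lit 0x8040201028149261) (nat_lit 3584))
)) (.node (nat_lit 0x804020102834c241) (.node (nat_lit 0x804020102824d221) (.leaf (nat_lit 0x804020102824c201) (nat_lit 1537))
 (.leaf (nat_lit 0x804020102824d221) (nat_lit 3072))
) (.node (nat_lit 0x804020102834d261) (.leaf (nat_lit 0x804020102834c241) (nat_lit 3075))
 (.leaf (nat_lit 0x804020102834d261) (nat_lit 3075))
))) (.node (nat_lit 0x804020103824c281) (.node (nat_lit 0x80402010381482c1) (.node (nat_lit 0x80402010380492a1) (.leaf (nat_lit 0x8040201038048281) (nat_lit 1536))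
 (.leaf (nat_lit 0x80402010380492a1) (nat_lit 3073))
) (.node (nat_lit 0x80402010381492e1) (.leaf (nat_lit 0x80402010381482c1) (nat_lit 3075))
 (.leaf (nat_lit 0x80402010381492e1) (nat_lit 3075))
)) (.node (nat_lit 0x804020103834c2c1) (.node (nat_lit 0x804020103824d2a1) (.leaf (nat_lit 0x804020103824c281) (nat_lit 3075))
 (.leaf (nat_lit 0x804020103824d2a1) (nat_lit 3587))
) (.node (nat_lit 0x804020103834d2e1) (.leaf (nat_lit 0x804020103834c2c1) (nat_lit 2049))
 (.leaf (nat_lit 0x804020103834d2e1) (nat_lit 2563))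
))))) (.node (nat_lit 0x8040201068848201) (.node (nat_lit 0x8040201058840281) (.node (nat_lit 0x8040201048a44201) (.node (nat_lit 0x8040201048940241) (.node (nat_lit 0x8040201048841221) (.leaf (nat_lit 0x8040201048840201) (nat_lit 258))
 (.leaf (nat_lit 0x8040201048841221) (nat_lit 3843))
) (.node (nat_lit 0x8040201048941261) (.leaf (nat_lit 0x8040201048940241) (nat_lit 3843))
 (.leaf (nat_lit 0x8040201048941261) (nat_lit 3843))
)) (.node (nat_lit 0x8040201048b44241) (.node (nat_lit 0x8040201048a45221) (.leaf (nat_lit 0x8040201048a44201) (nat_lit 1795))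
 (.leaf (nat_lit 0x8040201048a45221) (nat_lit 3843))
) (.node (nat_lit 0x8040201048b45261) (.leaf (nat_lit 0x8040201048b44241) (nat_lit 2304))
 (.leaf (nat_lit 0x8040201048b45261) (nat_lit 3331))
))) (.node (nat_lit 0x8040201058a44281) (.node (nat_lit 0x80402010589402c1) (.node (nat_lit 0x80402010588412a1) (.leaf (nat_lit 0x8040201058840281) (nat_lit 1795))
 (.leaf (nat_lit 0x80402010588412a1) (nat_lit 3843))
) (.node (nat_lit 0x80402010589412e1) (.leaf (nat_lit 0x80402010589402c1) (nat_lit 2305))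
 (.leaf (nat_lit 0x80402010589412e1) (nat_lit 3331))
)) (.node (nat_lit 0x8040201058b442c1) (.node (nat_lit 0x8040201058a452a1) (.leaf (nat_lit 0x8040201058a44281) (nat_lit 2817))
 (.leaf (nat_lit 0x8040201058a452a1) (nat_lit 2816))
) (.node (nat_lit 0x8040201058b452e1) (.leaf (nat_lit 0x8040201058b442c1) (nat_lit 2819))
 (.leaf (nat_lit 0x8040201058b452e1) (nat_lit 2307))
)))) (.node (nat_lit 0x8040201078848281) (.node (nat_lit 0x8040201068a4c201) (.node (nat_lit 0x8040201068948241) (.node (nat_lit 0x8040201068849221) (.leaf (nat_lit 0x8040201068848201) (nat_lit 771))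
 (.leaf (nat_lit 0x8040201068849221) (nat_lit 3843))
) (.node (nat_lit 0x8040201068949261) (.leaf (nat_lit 0x8040201068948241) (nat_lit 3329))
 (.leaf (nat_lit 0x8040201068949261) (nat_lit 3328))
)) (.node (nat_lit 0x8040201068b4c241) (.node (nat_lit 0x8040201068a4d221) (.leaf (nat_lit 0x8040201068a4c201) (nat_lit 1281))
 (.leaf (nat_lit 0x8040201068a4d221) (nat_lit 3328))
) (.node (nat_lit 0x8040201068b4d261) (.leaf (nat_lit 0x8040201068b4c241) (nat_lit 3331))
 (.leaf (nat_lit 0x8040201068b4d261) (nat_lit 2819))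
))) (.node (nat_lit 0x8040201078a4c281) (.node (nat_lit 0x80402010789482c1) (.node (nat_lit 0x80402010788492a1) (.leaf (nat_lit 0x8040201078848281) (nat_lit 1280))
 (.leaf (nat_lit 0x80402010788492a1) (nat_lit 3329))
) (.node (nat_lit 0x80402010789492e1) (.leaf (nat_lit 0x80402010789482c1) (nat_lit 3331))
 (.leaf (nat_lit 0x80402010789492e1) (nat_lit 2819))
)) (.node (nat_lit 0x8040201078b4c2c1) (.node (nat_lit 0x8040201078a4d2a1) (.leaf (nat_lit 0x8040201078a4c281) (nat_lit 3331))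
 (.leaf (nat_lit 0x8040201078a4d2a1) (nat_lit 3331))
) (.node (nat_lit 0x8040201078b4d2e1) (.leaf (nat_lit 0x8040201078b4c2c1) (nat_lit 1793))
 (.leaf (nat_lit 0x8040201078b4d2e1) (nat_lit 2819))
)))))) (.node (nat_lit 0x8040301048840203) (.node (nat_lit 0x8040301028048283) (.node (nat_lit 0x8040301018040283) (.node (nat_lit 0x8040301008244243) (.node (nat_lit 0x8040301008140243) (.node (nat_lit 0x8040301008041233) (.leaf (nat_lit 0x8040301008040203) (nat_lit 256))
 (.leaf (nat_lit 0x8040301008041233) (nat_lit 3843))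
) (.node (nat_lit 0x8040301008141273) (.leaf (nat_lit 0x8040301008140243) (nat_lit 3843))
 (.leaf (nat_lit 0x8040301008141273) (nat_lit 3843))
)) (.node (nat_lit 0x8040301008344203) (.node (nat_lit 0x8040301008245273) (.leaf (nat_lit 0x8040301008244243) (nat_lit 2304))
 (.leaf (nat_lit 0x8040301008245273) (nat_lit 3331))
) (.node (nat_lit 0x8040301008345233) (.leaf (nat_lit 0x8040301008344203) (nat_lit 2307))
 (.leaf (nat_lit 0x8040301008345233) (nat_lit 3331))
))) (.node (nat_lit 0x80403010182442c3) (.node (nat_lit 0x80403010181402c3) (.node (nat_lit 0x80403010180412b3) (.leaf (nat_lit 0x8040301018040283) (nat_lit 1795))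
 (.leaf (nat_lit 0x80403010180412b3) (nat_lit 3843))
) (.node (nat_lit 0x80403010181412f3) (.leaf (nat_lit 0x80403010181402c3) (nat_lit 2305))
 (.leaf (nat_lit 0x80403010181412f3) (nat_lit 3331))
)) (.node (nat_lit 0x8040301018344283) (.node (nat_lit 0x80403010182452f3) (.leaf (nat_lit 0x80403010182442c3) (nat_lit 2307))
 (.leaf (nat_lit 0x80403010182452f3) (nat_lit 2819))
) (.node (nat_lit 0x80403010183452b3) (.leaf (nat_lit 0x8040301018344283) (nat_lit 2305))
 (.leaf (nat_lit 0x80403010183452b3) (nat_lit 2816))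
)))) (.node (nat_lit 0x8040301038048203) (.node (nat_lit 0x804030102824c2c3) (.node (nat_lit 0x80403010281482c3) (.node (nat_lit 0x80403010280492b3) (.leaf (nat_lit 0x8040301028048283) (nat_lit 1280))
 (.leaf (nat_lit 0x80403010280492b3) (nat_lit 3329))
) (.node (nat_lit 0x80403010281492f3) (.leaf (nat_lit 0x80403010281482c3) (nat_lit 3331))
 (.leaf (nat_lit 0x80403010281492f3) (nat_lit 3331))
)) (.node (nat_lit 0x804030102834c283) (.node (nat_lit 0x804030102824d2f3) (.leaf (nat_lit 0x804030102824c2c3) (nat_lit 1793))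
 (.leaf (nat_lit 0x804030102824d2f3) (nat_lit 2819))
) (.node (nat_lit 0x804030102834d2b3) (.leaf (nat_lit 0x804030102834c283) (nat_lit 2819))
 (.leaf (nat_lit 0x804030102834d2b3) (nat_lit 3331))
))) (.node (nat_lit 0x804030103824c243) (.node (nat_lit 0x8040301038148243) (.node (nat_lit 0x8040301038049233) (.leaf (nat_lit 0x8040301038048203) (nat_lit 1283))
 (.leaf (nat_lit 0x8040301038049233) (nat_lit 3331))
) (.node (nat_lit 0x8040301038149273) (.leaf (nat_lit 0x8040301038148243) (nat_lit 3328))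
 (.leaf (nat_lit 0x8040301038149273) (nat_lit 3328))
)) (.node (nat_lit 0x804030103834c203) (.node (nat_lit 0x804030103824d273) (.leaf (nat_lit 0x804030103824c243) (nat_lit 2819))
 (.leaf (nat_lit 0x804030103824d273) (nat_lit 3331))
) (.node (nat_lit 0x804030103834d233) (.leaf (nat_lit 0x804030103834c203) (nat_lit 1793))
 (.leaf (nat_lit 0x804030103834d233) (nat_lit 2816))
))))) (.node (nat_lit 0x8040301068848283) (.node (nat_lit 0x8040301058840283) (.node (nat_lit 0x8040301048a44243) (.node (nat_lit 0x8040301048940243) (.node (nat_lit 0x8040301048841233) (.leaf (nat_lit 0x8040301048840203) (nat_lit 514))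
 (.leaf (nat_lit 0x8040301048841233) (nat_lit 3587))
) (.node (nat_lit 0x8040301048941273) (.leaf (nat_lit 0x8040301048940243) (nat_lit 4099))
 (.leaf (nat_lit 0x8040301048941273) (nat_lit 4099))
)) (.node (nat_lit 0x8040301048b44203) (.node (nat_lit 0x8040301048a45273) (.leaf (nat_lit 0x8040301048a44243) (nat_lit 2048))
 (.leaf (nat_lit 0x8040301048a45273) (nat_lit 3587))
) (.node (nat_lit 0x8040301048b45233) (.leaf (nat_lit 0x8040301048b44203) (nat_lit 2051))
 (.leaf (nat_lit 0x8040301048b45233) (nat_lit 3587))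
))) (.node (nat_lit 0x8040301058a442c3) (.node (nat_lit 0x80403010589402c3) (.node (nat_lit 0x80403010588412b3) (.leaf (nat_lit 0x8040301058840283) (nat_lit 2051))
 (.leaf (nat_lit 0x80403010588412b3) (nat_lit 4099))
) (.node (nat_lit 0x80403010589412f3) (.leaf (nat_lit 0x80403010589402c3) (nat_lit 2561))
 (.leaf (nat_lit 0x80403010589412f3) (nat_lit 3587))
)) (.node (nat_lit 0x8040301058b44283) (.node (nat_lit 0x8040301058a452f3) (.leaf (nat_lit 0x8040301058a442c3) (nat_lit 2563))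
 (.leaf (nat_lit 0x8040301058a452f3) (nat_lit 2563))
) (.node (nat_lit 0x8040301058b452b3) (.leaf (nat_lit 0x8040301058b44283) (nat_lit 2561))
 (.leaf (nat_lit 0x8040301058b452b3) (nat_lit 2560))
)))) (.node (nat_lit 0x8040301078848203) (.node (nat_lit 0x8040301068a4c2c3) (.node (nat_lit 0x80403010689482c3) (.node (nat_lit 0x80403010688492b3) (.leaf (nat_lit 0x8040301068848283) (nat_lit 1024))
 (.leaf (nat_lit 0x80403010688492b3) (nat_lit 3585))
) (.node (nat_lit 0x80403010689492f3) (.leaf (nat_lit 0x80403010689482c3) (nat_lit 3075))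
 (.leaf (nat_lit 0x80403010689492f3) (nat_lit 3075))
)) (.node (nat_lit 0x8040301068b4c283) (.node (nat_lit 0x8040301068a4d2f3) (.leaf (nat_lit 0x8040301068a4c2c3) (nat_lit 1537))
 (.leaf (nat_lit 0x8040301068a4d2f3) (nat_lit 3075))
) (.node (nat_lit 0x8040301068b4d2b3) (.leaf (nat_lit 0x8040301068b4c283) (nat_lit 3075))
 (.leaf (nat_lit 0x8040301068b4d2b3) (nat_lit 3075))
))) (.node (nat_lit 0x8040301078a4c243) (.node (nat_lit 0x8040301078948243) (.node (nat_lit 0x8040301078849233) (.leaf (nat_lit 0x8040301078848203) (nat_lit 1027))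
 (.leaf (nat_lit 0x8040301078849233) (nat_lit 3587))
) (.node (nat_lit 0x8040301078949273) (.leaf (nat_lit 0x8040301078948243) (nat_lit 3073))
 (.leaf (nat_lit 0x8040301078949273) (nat_lit 3072))
)) (.node (nat_lit 0x8040301078b4c203) (.node (nat_lit 0x8040301078a4d273) (.leaf (nat_lit 0x8040301078a4c243) (nat_lit 3075))
 (.leaf (nat_lit 0x8040301078a4d273) (nat_lit 3075))
) (.node (nat_lit 0x8040301078b4d233) (.leaf (nat_lit 0x8040301078b4c203) (nat_lit 1537))
 (.leaf (nat_lit 0x8040301078b4d233) (nat_lit 3072))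
))))))) (.node (nat_lit 0x8050301008040207) (.node (nat_lit 0x8050201048840285) (.node (nat_lit 0x8050201028048205) (.node (nat_lit 0x8050201018040285) (.node (nat_lit 0x8050201008244225) (.node (nat_lit 0x8050201008140255) (.node (nat_lit 0x8050201008041225) (.leaf (nat_lit 0x8050201008040205) (nat_lit 1027))
 (.leaf (nat_lit 0x8050201008041225) (nat_lit 3587))
) (.node (nat_lit 0x8050201008141275) (.leaf (nat_lit 0x8050201008140255) (nat_lit 3586))
 (.leaf (nat_lit 0x8050201008141275) (nat_lit 3585))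
)) (.node (nat_lit 0x8050201008344275) (.node (nat_lit 0x8050201008245205) (.leaf (nat_lit 0x8050201008244225) (nat_lit 2560))
 (.leaf (nat_lit 0x8050201008245205) (nat_lit 2562))
) (.node (nat_lit 0x8050201008345255) (.leaf (nat_lit 0x8050201008344275) (nat_lit 2563))
 (.leaf (nat_lit 0x8050201008345255) (nat_lit 2562))
))) (.node (nat_lit 0x80502010182442a5) (.node (nat_lit 0x80502010181402d5) (.node (nat_lit 0x80502010180412a5) (.leaf (nat_lit 0x8050201018040285) (nat_lit 1538))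
 (.leaf (nat_lit 0x80502010180412a5) (nat_lit 3073))
) (.node (nat_lit 0x80502010181412f5) (.leaf (nat_lit 0x80502010181402d5) (nat_lit 3075))
 (.leaf (nat_lit 0x80502010181412f5) (nat_lit 3075))
)) (.node (nat_lit 0x80502010183442f5) (.node (nat_lit 0x8050201018245285) (.leaf (nat_lit 0x80502010182442a5) (nat_lit 2563))
 (.leaf (nat_lit 0x8050201018245285) (nat_lit 2563))
) (.node (nat_lit 0x80502010183452d5) (.leaf (nat_lit 0x80502010183442f5) (nat_lit 2562))
 (.leaf (nat_lit 0x80502010183452d5) (nat_lit 2560))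
)))) (.node (nat_lit 0x8050201038048285) (.node (nat_lit 0x805020102824c225) (.node (nat_lit 0x8050201028148255) (.node (nat_lit 0x8050201028049225) (.leaf (nat_lit 0x8050201028048205) (nat_lit 1538))
 (.leaf (nat_lit 0x8050201028049225) (nat_lit 3584))
) (.node (nat_lit 0x8050201028149275) (.leaf (nat_lit 0x8050201028148255) (nat_lit 3587))
 (.leaf (nat_lit 0x8050201028149275) (nat_lit 3587))
)) (.node (nat_lit 0x805020102834c275) (.node (nat_lit 0x805020102824d205) (.leaf (nat_lit 0x805020102824c225) (nat_lit 2563))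
 (.leaf (nat_lit 0x805020102824d205) (nat_lit 2563))
) (.node (nat_lit 0x805020102834d255) (.leaf (nat_lit 0x805020102834c275) (nat_lit 2562))
 (.leaf (nat_lit 0x805020102834d255) (nat_lit 2561))
))) (.node (nat_lit 0x805020103824c2a5) (.node (nat_lit 0x80502010381482d5) (.node (nat_lit 0x80502010380492a5) (.leaf (nat_lit 0x8050201038048285) (nat_lit 1539))
 (.leaf (nat_lit 0x80502010380492a5) (nat_lit 3075))
) (.node (nat_lit 0x80502010381492f5) (.leaf (nat_lit 0x80502010381482d5) (nat_lit 3585))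
 (.leaf (nat_lit 0x80502010381492f5) (nat_lit 3586))
)) (.node (nat_lit 0x805020103834c2f5) (.node (nat_lit 0x805020103824d285) (.leaf (nat_lit 0x805020103824c2a5) (nat_lit 2562))
 (.leaf (nat_lit 0x805020103824d285) (nat_lit 2561))
) (.node (nat_lit 0x805020103834d2d5) (.leaf (nat_lit 0x805020103834c2f5) (nat_lit 2563))
 (.leaf (nat_lit 0x805020103834d2d5) (nat_lit 2560))
))))) (.node (nat_lit 0x8050201068848285) (.node (nat_lit 0x8050201058840205) (.node (nat_lit 0x8050201048a442a5) (.node (nat_lit 0x80502010489402d5) (.node (nat_lit 0x80502010488412a5) (.leaf (nat_lit 0x8050201048840285) (nat_lit 1283))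
 (.leaf (nat_lit 0x80502010488412a5) (nat_lit 3331))
) (.node (nat_lit 0x80502010489412f5) (.leaf (nat_lit 0x80502010489402d5) (nat_lit 3329))
 (.leaf (nat_lit 0x80502010489412f5) (nat_lit 3330))
)) (.node (nat_lit 0x8050201048b442f5) (.node (nat_lit 0x8050201048a45285) (.leaf (nat_lit 0x8050201048a442a5) (nat_lit 2304))
 (.leaf (nat_lit 0x8050201048a45285) (nat_lit 2818))
) (.node (nat_lit 0x8050201048b452d5) (.leaf (nat_lit 0x8050201048b442f5) (nat_lit 2307))
 (.leaf (nat_lit 0x8050201048b452d5) (nat_lit 2818))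
))) (.node (nat_lit 0x8050201058a44225) (.node (nat_lit 0x8050201058940255) (.node (nat_lit 0x8050201058841225) (.leaf (nat_lit 0x8050201058840205) (nat_lit 1282))
 (.leaf (nat_lit 0x8050201058841225) (nat_lit 3329))
) (.node (nat_lit 0x8050201058941275) (.leaf (nat_lit 0x8050201058940255) (nat_lit 3331))
 (.leaf (nat_lit 0x8050201058941275) (nat_lit 3331))
)) (.node (nat_lit 0x8050201058b44275) (.node (nat_lit 0x8050201058a45205) (.leaf (nat_lit 0x8050201058a44225) (nat_lit 2819))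
 (.leaf (nat_lit 0x8050201058a45205) (nat_lit 2307))
) (.node (nat_lit 0x8050201058b45255) (.leaf (nat_lit 0x8050201058b44275) (nat_lit 2818))
 (.leaf (nat_lit 0x8050201058b45255) (nat_lit 2304))
)))) (.node (nat_lit 0x8050201078848205) (.node (nat_lit 0x8050201068a4c2a5) (.node (nat_lit 0x80502010689482d5) (.node (nat_lit 0x80502010688492a5) (.leaf (nat_lit 0x8050201068848285) (nat_lit 1280))
 (.leaf (nat_lit 0x80502010688492a5) (nat_lit 3330))
) (.node (nat_lit 0x80502010689492f5) (.leaf (nat_lit 0x80502010689482d5) (nat_lit 3331))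
 (.leaf (nat_lit 0x80502010689492f5) (nat_lit 3331))
)) (.node (nat_lit 0x8050201068b4c2f5) (.node (nat_lit 0x8050201068a4d285) (.leaf (nat_lit 0x8050201068a4c2a5) (nat_lit 2307))
 (.leaf (nat_lit 0x8050201068a4d285) (nat_lit 2819))
) (.node (nat_lit 0x8050201068b4d2d5) (.leaf (nat_lit 0x8050201068b4c2f5) (nat_lit 2818))
 (.leaf (nat_lit 0x8050201068b4d2d5) (nat_lit 2305))
))) (.node (nat_lit 0x8050201078a4c225) (.node (nat_lit 0x8050201078948255) (.node (nat_lit 0x8050201078849225) (.leaf (nat_lit 0x8050201078848205) (nat_lit 1283))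
 (.leaf (nat_lit 0x8050201078849225) (nat_lit 3331))
) (.node (nat_lit 0x8050201078949275) (.leaf (nat_lit 0x8050201078948255) (nat_lit 3329))
 (.leaf (nat_lit 0x8050201078949275) (nat_lit 3328))
)) (.node (nat_lit 0x8050201078b4c275) (.node (nat_lit 0x8050201078a4d205) (.leaf (nat_lit 0x8050201078a4c225) (nat_lit 2818))
 (.leaf (nat_lit 0x8050201078a4d205) (nat_lit 2305))
) (.node (nat_lit 0x8050201078b4d255) (.leaf (nat_lit 0x8050201078b4c275) (nat_lit 2307))
 (.leaf (nat_lit 0x8050201078b4d255) (nat_lit 2816))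
)))))) (.node (nat_lit 0x8050301048840287) (.node (nat_lit 0x8050301028048287) (.node (nat_lit 0x8050301018040287) (.node (nat_lit 0x8050301008244267) (.node (nat_lit 0x8050301008140257) (.node (nat_lit 0x8050301008041237) (.leaf (nat_lit 0x8050301008040207) (nat_lit 771))
 (.leaf (nat_lit 0x8050301008041237) (nat_lit 3843))
) (.node (nat_lit 0x8050301008141267) (.leaf (nat_lit 0x8050301008140257) (nat_lit 3330))
 (.leaf (nat_lit 0x8050301008141267) (nat_lit 3329))
)) (.node (nat_lit 0x8050301008344237) (.node (nat_lit 0x8050301008245257) (.leaf (nat_lit 0x8050301008244267) (nat_lit 2307))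
 (.leaf (nat_lit 0x8050301008245257) (nat_lit 2818))
) (.node (nat_lit 0x8050301008345207) (.leaf (nat_lit 0x8050301008344237) (nat_lit 2816))
 (.leaf (nat_lit 0x8050301008345207) (nat_lit 2306))
))) (.node (nat_lit 0x80503010182442e7) (.node (nat_lit 0x80503010181402d7) (.node (nat_lit 0x80503010180412b7) (.leaf (nat_lit 0x8050301018040287) (nat_lit 1282))
 (.leaf (nat_lit 0x80503010180412b7) (nat_lit 3329))
) (.node (nat_lit 0x80503010181412e7) (.leaf (nat_lit 0x80503010181402d7) (nat_lit 3331))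
 (.leaf (nat_lit 0x80503010181412e7) (nat_lit 2819))
)) (.node (nat_lit 0x80503010183442b7) (.node (nat_lit 0x80503010182452d7) (.leaf (nat_lit 0x80503010182442e7) (nat_lit 2306))
 (.leaf (nat_lit 0x80503010182452d7) (nat_lit 2816))
) (.node (nat_lit 0x8050301018345287) (.leaf (nat_lit 0x80503010183442b7) (nat_lit 2819))
 (.leaf (nat_lit 0x8050301018345287) (nat_lit 2307))
)))) (.node (nat_lit 0x8050301038048207) (.node (nat_lit 0x805030102824c2e7) (.node (nat_lit 0x80503010281482d7) (.node (nat_lit 0x80503010280492b7) (.leaf (nat_lit 0x8050301028048287) (nat_lit 1283))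
 (.leaf (nat_lit 0x80503010280492b7) (nat_lit 3331))
) (.node (nat_lit 0x80503010281492e7) (.leaf (nat_lit 0x80503010281482d7) (nat_lit 3329))
 (.leaf (nat_lit 0x80503010281492e7) (nat_lit 3330))
)) (.node (nat_lit 0x805030102834c2b7) (.node (nat_lit 0x805030102824d2d7) (.leaf (nat_lit 0x805030102824c2e7) (nat_lit 2307))
 (.leaf (nat_lit 0x805030102824d2d7) (nat_lit 2816))
) (.node (nat_lit 0x805030102834d287) (.leaf (nat_lit 0x805030102834c2b7) (nat_lit 2818))
 (.leaf (nat_lit 0x805030102834d287) (nat_lit 2305))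
))) (.node (nat_lit 0x805030103824c267) (.node (nat_lit 0x8050301038148257) (.node (nat_lit 0x8050301038049237) (.leaf (nat_lit 0x8050301038048207) (nat_lit 1282))
 (.leaf (nat_lit 0x8050301038049237) (nat_lit 3328))
) (.node (nat_lit 0x8050301038149267) (.leaf (nat_lit 0x8050301038148257) (nat_lit 3331))
 (.leaf (nat_lit 0x8050301038149267) (nat_lit 3331))
)) (.node (nat_lit 0x805030103834c237) (.node (nat_lit 0x805030103824d257) (.leaf (nat_lit 0x805030103824c267) (nat_lit 2306))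
 (.leaf (nat_lit 0x805030103824d257) (nat_lit 2817))
) (.node (nat_lit 0x805030103834d207) (.leaf (nat_lit 0x805030103834c237) (nat_lit 2819))
 (.leaf (nat_lit 0x805030103834d207) (nat_lit 2307))
))))) (.node (nat_lit 0x8050301068848207) (.node (nat_lit 0x8050301058840207) (.node (nat_lit 0x8050301048a442e7) (.node (nat_lit 0x80503010489402d7) (.node (nat_lit 0x80503010488412b7) (.leaf (nat_lit 0x8050301048840287) (nat_lit 1027))
 (.leaf (nat_lit 0x80503010488412b7) (nat_lit 3587))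
) (.node (nat_lit 0x80503010489412e7) (.leaf (nat_lit 0x80503010489402d7) (nat_lit 3073))
 (.leaf (nat_lit 0x80503010489412e7) (nat_lit 3074))
)) (.node (nat_lit 0x8050301048b442b7) (.node (nat_lit 0x8050301048a452d7) (.leaf (nat_lit 0x8050301048a442e7) (nat_lit 2051))
 (.leaf (nat_lit 0x8050301048a452d7) (nat_lit 3074))
) (.node (nat_lit 0x8050301048b45287) (.leaf (nat_lit 0x8050301048b442b7) (nat_lit 2560))
 (.leaf (nat_lit 0x8050301048b45287) (nat_lit 2562))
))) (.node (nat_lit 0x8050301058a44267) (.node (nat_lit 0x8050301058940257) (.node (nat_lit 0x8050301058841237) (.leaf (nat_lit 0x8050301058840207) (nat_lit 1026))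
 (.leaf (nat_lit 0x8050301058841237) (nat_lit 3585))
) (.node (nat_lit 0x8050301058941267) (.leaf (nat_lit 0x8050301058940257) (nat_lit 3075))
 (.leaf (nat_lit 0x8050301058941267) (nat_lit 3075))
)) (.node (nat_lit 0x8050301058b44237) (.node (nat_lit 0x8050301058a45257) (.leaf (nat_lit 0x8050301058a44267) (nat_lit 2562))
 (.leaf (nat_lit 0x8050301058a45257) (nat_lit 2560))
) (.node (nat_lit 0x8050301058b45207) (.leaf (nat_lit 0x8050301058b44237) (nat_lit 3075))
 (.leaf (nat_lit 0x8050301058b45207) (nat_lit 2051))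
)))) (.node (nat_lit 0x8050301078848287) (.node (nat_lit 0x8050301068a4c267) (.node (nat_lit 0x8050301068948257) (.node (nat_lit 0x8050301068849237) (.leaf (nat_lit 0x8050301068848207) (nat_lit 1027))
 (.leaf (nat_lit 0x8050301068849237) (nat_lit 3587))
) (.node (nat_lit 0x8050301068949267) (.leaf (nat_lit 0x8050301068948257) (nat_lit 3585))
 (.leaf (nat_lit 0x8050301068949267) (nat_lit 3584))
)) (.node (nat_lit 0x8050301068b4c237) (.node (nat_lit 0x8050301068a4d257) (.leaf (nat_lit 0x8050301068a4c267) (nat_lit 2051))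
 (.leaf (nat_lit 0x8050301068a4d257) (nat_lit 3072))
) (.node (nat_lit 0x8050301068b4d207) (.leaf (nat_lit 0x8050301068b4c237) (nat_lit 3074))
 (.leaf (nat_lit 0x8050301068b4d207) (nat_lit 2049))
))) (.node (nat_lit 0x8050301078a4c2e7) (.node (nat_lit 0x80503010789482d7) (.node (nat_lit 0x80503010788492b7) (.leaf (nat_lit 0x8050301078848287) (nat_lit 1536))
 (.leaf (nat_lit 0x80503010788492b7) (nat_lit 3586))
) (.node (nat_lit 0x80503010789492e7) (.leaf (nat_lit 0x80503010789482d7) (nat_lit 3587))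
 (.leaf (nat_lit 0x80503010789492e7) (nat_lit 3075))
)) (.node (nat_lit 0x8050301078b4c2b7) (.node (nat_lit 0x8050301078a4d2d7) (.leaf (nat_lit 0x8050301078a4c2e7) (nat_lit 2562))
 (.leaf (nat_lit 0x8050301078a4d2d7) (nat_lit 2561))
) (.node (nat_lit 0x8050301078b4d287) (.leaf (nat_lit 0x8050301078b4c2b7) (nat_lit 2563))
 (.leaf (nat_lit 0x8050301078b4d287) (nat_lit 2563))
)))))))) (.node (nat_lit 0x8070201008040605) (.node (nat_lit 0x8060301008040607) (.node (nat_lit 0x8060201048848601) (.node (nat_lit 0x8060201028048601) (.node (nat_lit 0x8060201018040681) (.node (nat_lit 0x8060201008246601) (.node (nat_lit 0x8060201008140661) (.node (nat_lit 0x8060201008041621) (.leaf (nat_lit 0x8060201008040601) (nat_lit 259))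
 (.leaf (nat_lit 0x8060201008041621) (nat_lit 3842))
) (.node (nat_lit 0x8060201008141641) (.leaf (nat_lit 0x8060201008140661) (nat_lit 3842))
 (.leaf (nat_lit 0x8060201008141641) (nat_lit 3841))
)) (.node (nat_lit 0x8060201008346661) (.node (nat_lit 0x8060201008247621) (.leaf (nat_lit 0x8060201008246601) (nat_lit 1794))
 (.leaf (nat_lit 0x8060201008247621) (nat_lit 3328))
) (.node (nat_lit 0x8060201008347641) (.leaf (nat_lit 0x8060201008346661) (nat_lit 2816))
 (.leaf (nat_lit 0x8060201008347641) (nat_lit 2819))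
))) (.node (nat_lit 0x8060201018246681) (.node (nat_lit 0x80602010181406e1) (.node (nat_lit 0x80602010180416a1) (.leaf (nat_lit 0x8060201018040681) (nat_lit 1794))
 (.leaf (nat_lit 0x80602010180416a1) (nat_lit 3329))
) (.node (nat_lit 0x80602010181416c1) (.leaf (nat_lit 0x80602010181406e1) (nat_lit 2817))
 (.leaf (nat_lit 0x80602010181416c1) (nat_lit 2819))
)) (.node (nat_lit 0x80602010183466e1) (.node (nat_lit 0x80602010182476a1) (.leaf (nat_lit 0x8060201018246681) (nat_lit 2819))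
 (.leaf (nat_lit 0x80602010182476a1) (nat_lit 3331))
) (.node (nat_lit 0x80602010183476c1) (.leaf (nat_lit 0x80602010183466e1) (nat_lit 2305))
 (.leaf (nat_lit 0x80602010183476c1) (nat_lit 2306))
)))) (.node (nat_lit 0x8060201038048681) (.node (nat_lit 0x806020102824e601) (.node (nat_lit 0x8060201028148661) (.node (nat_lit 0x8060201028049621) (.leaf (nat_lit 0x8060201028048601) (nat_lit 770))
 (.leaf (nat_lit 0x8060201028049621) (nat_lit 3329))
) (.node (nat_lit 0x8060201028149641) (.leaf (nat_lit 0x8060201028148661) (nat_lit 3843))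
 (.leaf (nat_lit 0x8060201028149641) (nat_lit 3843))
)) (.node (nat_lit 0x806020102834e661) (.node (nat_lit 0x806020102824f621) (.leaf (nat_lit 0x806020102824e601) (nat_lit 1795))
 (.leaf (nat_lit 0x806020102824f621) (nat_lit 3331))
) (.node (nat_lit 0x806020102834f641) (.leaf (nat_lit 0x806020102834e661) (nat_lit 2816))
 (.leaf (nat_lit 0x806020102834f641) (nat_lit 2818))
))) (.node (nat_lit 0x806020103824e681) (.node (nat_lit 0x80602010381486e1) (.node (nat_lit 0x80602010380496a1) (.leaf (nat_lit 0x8060201038048681) (nat_lit 1795))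
 (.leaf (nat_lit 0x80602010380496a1) (nat_lit 3331))
) (.node (nat_lit 0x80602010381496c1) (.leaf (nat_lit 0x80602010381486e1) (nat_lit 2817))
 (.leaf (nat_lit 0x80602010381496c1) (nat_lit 2818))
)) (.node (nat_lit 0x806020103834e6e1) (.node (nat_lit 0x806020103824f6a1) (.leaf (nat_lit 0x806020103824e681) (nat_lit 2817))
 (.leaf (nat_lit 0x806020103824f6a1) (nat_lit 3328))
) (.node (nat_lit 0x806020103834f6c1) (.leaf (nat_lit 0x806020103834e6e1) (nat_lit 2305))
 (.leaf (nat_lit 0x806020103834f6c1) (nat_lit 2307))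
))))) (.node (nat_lit 0x8060201068840601) (.node (nat_lit 0x8060201058848681) (.node (nat_lit 0x8060201048a4e601) (.node (nat_lit 0x8060201048948661) (.node (nat_lit 0x8060201048849621) (.leaf (nat_lit 0x8060201048848601) (nat_lit 515))
 (.leaf (nat_lit 0x8060201048849621) (nat_lit 3586))
) (.node (nat_lit 0x8060201048949641) (.leaf (nat_lit 0x8060201048948661) (nat_lit 3585))
 (.leaf (nat_lit 0x8060201048949641) (nat_lit 3584))
)) (.node (nat_lit 0x8060201048b4e661) (.node (nat_lit 0x8060201048a4f621) (.leaf (nat_lit 0x8060201048a4e601) (nat_lit 1537))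
 (.leaf (nat_lit 0x8060201048a4f621) (nat_lit 3584))
) (.node (nat_lit 0x8060201048b4f641) (.leaf (nat_lit 0x8060201048b4e661) (nat_lit 3072))
 (.leaf (nat_lit 0x8060201048b4f641) (nat_lit 2563))
))) (.node (nat_lit 0x8060201058a4e681) (.node (nat_lit 0x80602010589486e1) (.node (nat_lit 0x80602010588496a1) (.leaf (nat_lit 0x8060201058848681) (nat_lit 1536))
 (.leaf (nat_lit 0x80602010588496a1) (nat_lit 3585))
) (.node (nat_lit 0x80602010589496c1) (.leaf (nat_lit 0x80602010589486e1) (nat_lit 3073))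
 (.leaf (nat_lit 0x80602010589496c1) (nat_lit 2563))
)) (.node (nat_lit 0x8060201058b4e6e1) (.node (nat_lit 0x8060201058a4f6a1) (.leaf (nat_lit 0x8060201058a4e681) (nat_lit 3075))
 (.leaf (nat_lit 0x8060201058a4f6a1) (nat_lit 3075))
) (.node (nat_lit 0x8060201058b4f6c1) (.leaf (nat_lit 0x8060201058b4e6e1) (nat_lit 2049))
 (.leaf (nat_lit 0x8060201058b4f6c1) (nat_lit 2562))
)))) (.node (nat_lit 0x8060201078840681) (.node (nat_lit 0x8060201068a46601) (.node (nat_lit 0x8060201068940661) (.node (nat_lit 0x8060201068841621) (.leaf (nat_lit 0x8060201068840601) (nat_lit 514))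
 (.leaf (nat_lit 0x8060201068841621) (nat_lit 3585))
) (.node (nat_lit 0x8060201068941641) (.leaf (nat_lit 0x8060201068940661) (nat_lit 3587))
 (.leaf (nat_lit 0x8060201068941641) (nat_lit 3587))
)) (.node (nat_lit 0x8060201068b46661) (.node (nat_lit 0x8060201068a47621) (.leaf (nat_lit 0x8060201068a46601) (nat_lit 1539))
 (.leaf (nat_lit 0x8060201068a47621) (nat_lit 3587))
) (.node (nat_lit 0x8060201068b47641) (.leaf (nat_lit 0x8060201068b46661) (nat_lit 2560))
 (.leaf (nat_lit 0x8060201068b47641) (nat_lit 3074))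
))) (.node (nat_lit 0x8060201078a46681) (.node (nat_lit 0x80602010789406e1) (.node (nat_lit 0x80602010788416a1) (.leaf (nat_lit 0x8060201078840681) (nat_lit 1539))
 (.leaf (nat_lit 0x80602010788416a1) (nat_lit 3587))
) (.node (nat_lit 0x80602010789416c1) (.leaf (nat_lit 0x80602010789406e1) (nat_lit 2561))
 (.leaf (nat_lit 0x80602010789416c1) (nat_lit 3074))
)) (.node (nat_lit 0x8060201078b466e1) (.node (nat_lit 0x8060201078a476a1) (.leaf (nat_lit 0x8060201078a46681) (nat_lit 3073))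
 (.leaf (nat_lit 0x8060201078a476a1) (nat_lit 3072))
) (.node (nat_lit 0x8060201078b476c1) (.leaf (nat_lit 0x8060201078b466e1) (nat_lit 2561))
 (.leaf (nat_lit 0x8060201078b476c1) (nat_lit 2051))
)))))) (.node (nat_lit 0x8060301048848687) (.node (nat_lit 0x8060301028048687) (.node (nat_lit 0x8060301018040687) (.node (nat_lit 0x8060301008246667) (.node (nat_lit 0x8060301008140667) (.node (nat_lit 0x8060301008041637) (.leaf (nat_lit 0x8060301008040607) (nat_lit 512))
 (.leaf (nat_lit 0x8060301008041637) (nat_lit 3586))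
) (.node (nat_lit 0x8060301008141657) (.leaf (nat_lit 0x8060301008140667) (nat_lit 3587))
 (.leaf (nat_lit 0x8060301008141657) (nat_lit 3587))
)) (.node (nat_lit 0x8060301008346607) (.node (nat_lit 0x8060301008247657) (.leaf (nat_lit 0x8060301008246667) (nat_lit 2050))
 (.leaf (nat_lit 0x8060301008247657) (nat_lit 3075))
) (.node (nat_lit 0x8060301008347637) (.leaf (nat_lit 0x8060301008346607) (nat_lit 2563))
 (.leaf (nat_lit 0x8060301008347637) (nat_lit 3075))
))) (.node (nat_lit 0x80603010182466e7) (.node (nat_lit 0x80603010181406e7) (.node (nat_lit 0x80603010180416b7) (.leaf (nat_lit 0x8060301018040687) (nat_lit 1539))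
 (.leaf (nat_lit 0x80603010180416b7) (nat_lit 3587))
) (.node (nat_lit 0x80603010181416d7) (.leaf (nat_lit 0x80603010181406e7) (nat_lit 2561))
 (.leaf (nat_lit 0x80603010181416d7) (nat_lit 3072))
)) (.node (nat_lit 0x8060301018346687) (.node (nat_lit 0x80603010182476d7) (.leaf (nat_lit 0x80603010182466e7) (nat_lit 2563))
 (.leaf (nat_lit 0x80603010182476d7) (nat_lit 3075))
) (.node (nat_lit 0x80603010183476b7) (.leaf (nat_lit 0x8060301018346687) (nat_lit 2049))
 (.leaf (nat_lit 0x80603010183476b7) (nat_lit 2562))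
)))) (.node (nat_lit 0x8060301038048607) (.node (nat_lit 0x806030102824e6e7) (.node (nat_lit 0x80603010281486e7) (.node (nat_lit 0x80603010280496b7) (.leaf (nat_lit 0x8060301028048687) (nat_lit 1026))
 (.leaf (nat_lit 0x80603010280496b7) (nat_lit 3073))
) (.node (nat_lit 0x80603010281496d7) (.leaf (nat_lit 0x80603010281486e7) (nat_lit 3587))
 (.leaf (nat_lit 0x80603010281496d7) (nat_lit 3587))
)) (.node (nat_lit 0x806030102834e687) (.node (nat_lit 0x806030102824f6d7) (.leaf (nat_lit 0x806030102824e6e7) (nat_lit 2048))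
 (.leaf (nat_lit 0x806030102824f6d7) (nat_lit 3075))
) (.node (nat_lit 0x806030102834f6b7) (.leaf (nat_lit 0x806030102834e687) (nat_lit 2563))
 (.leaf (nat_lit 0x806030102834f6b7) (nat_lit 3075))
))) (.node (nat_lit 0x806030103824e667) (.node (nat_lit 0x8060301038148667) (.node (nat_lit 0x8060301038049637) (.leaf (nat_lit 0x8060301038048607) (nat_lit 1539))
 (.leaf (nat_lit 0x8060301038049637) (nat_lit 3587))
) (.node (nat_lit 0x8060301038149657) (.leaf (nat_lit 0x8060301038148667) (nat_lit 3073))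
 (.leaf (nat_lit 0x8060301038149657) (nat_lit 3074))
)) (.node (nat_lit 0x806030103834e607) (.node (nat_lit 0x806030103824f657) (.leaf (nat_lit 0x806030103824e667) (nat_lit 2563))
 (.leaf (nat_lit 0x806030103824f657) (nat_lit 3075))
) (.node (nat_lit 0x806030103834f637) (.leaf (nat_lit 0x806030103834e607) (nat_lit 2049))
 (.leaf (nat_lit 0x806030103834f637) (nat_lit 2560))
))))) (.node (nat_lit 0x8060301068840607) (.node (nat_lit 0x8060301058848607) (.node (nat_lit 0x8060301048a4e6e7) (.node (nat_lit 0x80603010489486e7) (.node (nat_lit 0x80603010488496b7) (.leaf (nat_lit 0x8060301048848687) (nat_lit 768))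
 (.leaf (nat_lit 0x80603010488496b7) (nat_lit 3330))
) (.node (nat_lit 0x80603010489496d7) (.leaf (nat_lit 0x80603010489486e7) (nat_lit 3331))
 (.leaf (nat_lit 0x80603010489496d7) (nat_lit 3331))
)) (.node (nat_lit 0x8060301048b4e687) (.node (nat_lit 0x8060301048a4f6d7) (.leaf (nat_lit 0x8060301048a4e6e7) (nat_lit 1793))
 (.leaf (nat_lit 0x8060301048a4f6d7) (nat_lit 3331))
) (.node (nat_lit 0x8060301048b4f6b7) (.leaf (nat_lit 0x8060301048b4e687) (nat_lit 2819))
 (.leaf (nat_lit 0x8060301048b4f6b7) (nat_lit 2819))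
))) (.node (nat_lit 0x8060301058a4e667) (.node (nat_lit 0x8060301058948667) (.node (nat_lit 0x8060301058849637) (.leaf (nat_lit 0x8060301058848607) (nat_lit 1283))
 (.leaf (nat_lit 0x8060301058849637) (nat_lit 3843))
) (.node (nat_lit 0x8060301058949657) (.leaf (nat_lit 0x8060301058948667) (nat_lit 2817))
 (.leaf (nat_lit 0x8060301058949657) (nat_lit 2816))
)) (.node (nat_lit 0x8060301058b4e607) (.node (nat_lit 0x8060301058a4f657) (.leaf (nat_lit 0x8060301058a4e667) (nat_lit 2819))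
 (.leaf (nat_lit 0x8060301058a4f657) (nat_lit 2819))
) (.node (nat_lit 0x8060301058b4f637) (.leaf (nat_lit 0x8060301058b4e607) (nat_lit 1793))
 (.leaf (nat_lit 0x8060301058b4f637) (nat_lit 2818))
)))) (.node (nat_lit 0x8060301078840687) (.node (nat_lit 0x8060301068a46667) (.node (nat_lit 0x8060301068940667) (.node (nat_lit 0x8060301068841637) (.leaf (nat_lit 0x8060301068840607) (nat_lit 770))
 (.leaf (nat_lit 0x8060301068841637) (nat_lit 3329))
) (.node (nat_lit 0x8060301068941657) (.leaf (nat_lit 0x8060301068940667) (nat_lit 3843))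
 (.leaf (nat_lit 0x8060301068941657) (nat_lit 3843))
)) (.node (nat_lit 0x8060301068b46607) (.node (nat_lit 0x8060301068a47657) (.leaf (nat_lit 0x8060301068a46667) (nat_lit 1792))
 (.leaf (nat_lit 0x8060301068a47657) (nat_lit 3331))
) (.node (nat_lit 0x8060301068b47637) (.leaf (nat_lit 0x8060301068b46607) (nat_lit 2307))
 (.leaf (nat_lit 0x8060301068b47637) (nat_lit 3331))
))) (.node (nat_lit 0x8060301078a466e7) (.node (nat_lit 0x80603010789406e7) (.node (nat_lit 0x80603010788416b7) (.leaf (nat_lit 0x8060301078840687) (nat_lit 1795))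
 (.leaf (nat_lit 0x80603010788416b7) (nat_lit 3843))
) (.node (nat_lit 0x80603010789416d7) (.leaf (nat_lit 0x80603010789406e7) (nat_lit 2817))
 (.leaf (nat_lit 0x80603010789416d7) (nat_lit 3330))
)) (.node (nat_lit 0x8060301078b46687) (.node (nat_lit 0x8060301078a476d7) (.leaf (nat_lit 0x8060301078a466e7) (nat_lit 2819))
 (.leaf (nat_lit 0x8060301078a476d7) (nat_lit 2819))
) (.node (nat_lit 0x8060301078b476b7) (.leaf (nat_lit 0x8060301078b46687) (nat_lit 2305))
 (.leaf (nat_lit 0x8060301078b476b7) (nat_lit 2304))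
))))))) (.node (nat_lit 0x8070301008040603) (.node (nat_lit 0x8070201048848685) (.node (nat_lit 0x8070201028048605) (.node (nat_lit 0x8070201018040685) (.node (nat_lit 0x8070201008246625) (.node (nat_lit 0x8070201008140675) (.node (nat_lit 0x8070201008041625) (.leaf (nat_lit 0x8070201008040605) (nat_lit 768))
 (.leaf (nat_lit 0x8070201008041625) (nat_lit 3330))
) (.node (nat_lit 0x8070201008141655) (.leaf (nat_lit 0x8070201008140675) (nat_lit 3843))
 (.leaf (nat_lit 0x8070201008141655) (nat_lit 3843))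
)) (.node (nat_lit 0x8070201008346655) (.node (nat_lit 0x8070201008247605) (.leaf (nat_lit 0x8070201008246625) (nat_lit 2819))
 (.leaf (nat_lit 0x8070201008247605) (nat_lit 2819))
) (.node (nat_lit 0x8070201008347675) (.leaf (nat_lit 0x8070201008346655) (nat_lit 2819))
 (.leaf (nat_lit 0x8070201008347675) (nat_lit 2306))
))) (.node (nat_lit 0x80702010182466a5) (.node (nat_lit 0x80702010181406f5) (.node (nat_lit 0x80702010180416a5) (.leaf (nat_lit 0x8070201018040685) (nat_lit 1795))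
 (.leaf (nat_lit 0x80702010180416a5) (nat_lit 3331))
) (.node (nat_lit 0x80702010181416d5) (.leaf (nat_lit 0x80702010181406f5) (nat_lit 2817))
 (.leaf (nat_lit 0x80702010181416d5) (nat_lit 2816))
)) (.node (nat_lit 0x80702010183466d5) (.node (nat_lit 0x8070201018247685) (.leaf (nat_lit 0x80702010182466a5) (nat_lit 2306))
 (.leaf (nat_lit 0x8070201018247685) (nat_lit 2305))
) (.node (nat_lit 0x80702010183476f5) (.leaf (nat_lit 0x80702010183466d5) (nat_lit 2819))
 (.leaf (nat_lit 0x80702010183476f5) (nat_lit 2819))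
)))) (.node (nat_lit 0x8070201038048685) (.node (nat_lit 0x807020102824e625) (.node (nat_lit 0x8070201028148675) (.node (nat_lit 0x8070201028049625) (.leaf (nat_lit 0x8070201028048605) (nat_lit 1795))
 (.leaf (nat_lit 0x8070201028049625) (nat_lit 3843))
) (.node (nat_lit 0x8070201028149655) (.leaf (nat_lit 0x8070201028148675) (nat_lit 3329))
 (.leaf (nat_lit 0x8070201028149655) (nat_lit 3330))
)) (.node (nat_lit 0x807020102834e655) (.node (nat_lit 0x807020102824f605) (.leaf (nat_lit 0x807020102824e625) (nat_lit 2304))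
 (.leaf (nat_lit 0x807020102824f605) (nat_lit 2305))
) (.node (nat_lit 0x807020102834f675) (.leaf (nat_lit 0x807020102834e655) (nat_lit 2819))
 (.leaf (nat_lit 0x807020102834f675) (nat_lit 2819))
))) (.node (nat_lit 0x807020103824e6a5) (.node (nat_lit 0x80702010381486f5) (.node (nat_lit 0x80702010380496a5) (.leaf (nat_lit 0x8070201038048685) (nat_lit 1282))
 (.leaf (nat_lit 0x80702010380496a5) (nat_lit 2817))
) (.node (nat_lit 0x80702010381496d5) (.leaf (nat_lit 0x80702010381486f5) (nat_lit 3843))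
 (.leaf (nat_lit 0x80702010381496d5) (nat_lit 3843))
)) (.node (nat_lit 0x807020103834e6d5) (.node (nat_lit 0x807020103824f685) (.leaf (nat_lit 0x807020103824e6a5) (nat_lit 2819))
 (.leaf (nat_lit 0x807020103824f685) (nat_lit 2819))
) (.node (nat_lit 0x807020103834f6f5) (.leaf (nat_lit 0x807020103834e6d5) (nat_lit 2819))
 (.leaf (nat_lit 0x807020103834f6f5) (nat_lit 2304))
))))) (.node (nat_lit 0x8070201068840685) (.node (nat_lit 0x8070201058848605) (.node (nat_lit 0x8070201048a4e6a5) (.node (nat_lit 0x80702010489486f5) (.node (nat_lit 0x80702010488496a5) (.leaf (nat_lit 0x8070201048848685) (nat_lit 1024))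
 (.leaf (nat_lit 0x80702010488496a5) (nat_lit 3074))
) (.node (nat_lit 0x80702010489496d5) (.leaf (nat_lit 0x80702010489486f5) (nat_lit 3587))
 (.leaf (nat_lit 0x80702010489496d5) (nat_lit 3587))
)) (.node (nat_lit 0x8070201048b4e6d5) (.node (nat_lit 0x8070201048a4f685) (.leaf (nat_lit 0x8070201048a4e6a5) (nat_lit 2563))
 (.leaf (nat_lit 0x8070201048a4f685) (nat_lit 3075))
) (.node (nat_lit 0x8070201048b4f6f5) (.leaf (nat_lit 0x8070201048b4e6d5) (nat_lit 3075))
 (.leaf (nat_lit 0x8070201048b4f6f5) (nat_lit 2049))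
))) (.node (nat_lit 0x8070201058a4e625) (.node (nat_lit 0x8070201058948675) (.node (nat_lit 0x8070201058849625) (.leaf (nat_lit 0x8070201058848605) (nat_lit 1539))
 (.leaf (nat_lit 0x8070201058849625) (nat_lit 3587))
) (.node (nat_lit 0x8070201058949655) (.leaf (nat_lit 0x8070201058948675) (nat_lit 3073))
 (.leaf (nat_lit 0x8070201058949655) (nat_lit 3072))
)) (.node (nat_lit 0x8070201058b4e655) (.node (nat_lit 0x8070201058a4f605) (.leaf (nat_lit 0x8070201058a4e625) (nat_lit 2562))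
 (.leaf (nat_lit 0x8070201058a4f605) (nat_lit 2049))
) (.node (nat_lit 0x8070201058b4f675) (.leaf (nat_lit 0x8070201058b4e655) (nat_lit 2563))
 (.leaf (nat_lit 0x8070201058b4f675) (nat_lit 3075))
)))) (.node (nat_lit 0x8070201078840605) (.node (nat_lit 0x8070201068a466a5) (.node (nat_lit 0x80702010689406f5) (.node (nat_lit 0x80702010688416a5) (.leaf (nat_lit 0x8070201068840685) (nat_lit 1539))
 (.leaf (nat_lit 0x80702010688416a5) (nat_lit 3587))
) (.node (nat_lit 0x80702010689416d5) (.leaf (nat_lit 0x80702010689406f5) (nat_lit 3073))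
 (.leaf (nat_lit 0x80702010689416d5) (nat_lit 3074))
)) (.node (nat_lit 0x8070201068b466d5) (.node (nat_lit 0x8070201068a47685) (.leaf (nat_lit 0x8070201068a466a5) (nat_lit 2048))
 (.leaf (nat_lit 0x8070201068a47685) (nat_lit 2561))
) (.node (nat_lit 0x8070201068b476f5) (.leaf (nat_lit 0x8070201068b466d5) (nat_lit 2563))
 (.leaf (nat_lit 0x8070201068b476f5) (nat_lit 3075))
))) (.node (nat_lit 0x8070201078a46625) (.node (nat_lit 0x8070201078940675) (.node (nat_lit 0x8070201078841625) (.leaf (nat_lit 0x8070201078840605) (nat_lit 1026))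
 (.leaf (nat_lit 0x8070201078841625) (nat_lit 3073))
) (.node (nat_lit 0x8070201078941655) (.leaf (nat_lit 0x8070201078940675) (nat_lit 3587))
 (.leaf (nat_lit 0x8070201078941655) (nat_lit 3587))
)) (.node (nat_lit 0x8070201078b46655) (.node (nat_lit 0x8070201078a47605) (.leaf (nat_lit 0x8070201078a46625) (nat_lit 3075))
 (.leaf (nat_lit 0x8070201078a47605) (nat_lit 2563))
) (.node (nat_lit 0x8070201078b47675) (.leaf (nat_lit 0x8070201078b46655) (nat_lit 3075))
 (.leaf (nat_lit 0x8070201078b47675) (nat_lit 2048))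
)))))) (.node (nat_lit 0x8070301048848603) (.node (nat_lit 0x8070301028048683) (.node (nat_lit 0x8070301018040683) (.node (nat_lit 0x8070301008246643) (.node (nat_lit 0x8070301008140673) (.node (nat_lit 0x8070301008041633) (.leaf (nat_lit 0x8070301008040603) (nat_lit 515))
 (.leaf (nat_lit 0x8070301008041633) (nat_lit 3586))
) (.node (nat_lit 0x8070301008141643) (.leaf (nat_lit 0x8070301008140673) (nat_lit 3586))
 (.leaf (nat_lit 0x8070301008141643) (nat_lit 3585))
)) (.node (nat_lit 0x8070301008346633) (.node (nat_lit 0x8070301008247673) (.leaf (nat_lit 0x8070301008246643) (nat_lit 2563))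
 (.leaf (nat_lit 0x8070301008247673) (nat_lit 3072))
) (.node (nat_lit 0x8070301008347603) (.leaf (nat_lit 0x8070301008346633) (nat_lit 3072))
 (.leaf (nat_lit 0x8070301008347603) (nat_lit 2050))
))) (.node (nat_lit 0x80703010182466c3) (.node (nat_lit 0x80703010181406f3) (.node (nat_lit 0x80703010180416b3) (.leaf (nat_lit 0x8070301018040683) (nat_lit 1538))
 (.leaf (nat_lit 0x80703010180416b3) (nat_lit 3585))
) (.node (nat_lit 0x80703010181416c3) (.leaf (nat_lit 0x80703010181406f3) (nat_lit 3073))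
 (.leaf (nat_lit 0x80703010181416c3) (nat_lit 2563))
)) (.node (nat_lit 0x80703010183466b3) (.node (nat_lit 0x80703010182476f3) (.leaf (nat_lit 0x80703010182466c3) (nat_lit 2050))
 (.leaf (nat_lit 0x80703010182476f3) (nat_lit 2561))
) (.node (nat_lit 0x8070301018347683) (.leaf (nat_lit 0x80703010183466b3) (nat_lit 3075))
 (.leaf (nat_lit 0x8070301018347683) (nat_lit 2563))
)))) (.node (nat_lit 0x8070301038048603) (.node (nat_lit 0x807030102824e6c3) (.node (nat_lit 0x80703010281486f3) (.node (nat_lit 0x80703010280496b3) (.leaf (nat_lit 0x8070301028048683) (nat_lit 1539))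
 (.leaf (nat_lit 0x80703010280496b3) (nat_lit 3587))
) (.node (nat_lit 0x80703010281496c3) (.leaf (nat_lit 0x80703010281486f3) (nat_lit 3073))
 (.leaf (nat_lit 0x80703010281496c3) (nat_lit 3074))
)) (.node (nat_lit 0x807030102834e6b3) (.node (nat_lit 0x807030102824f6f3) (.leaf (nat_lit 0x807030102824e6c3) (nat_lit 2051))
 (.leaf (nat_lit 0x807030102824f6f3) (nat_lit 2561))
) (.node (nat_lit 0x807030102834f683) (.leaf (nat_lit 0x807030102834e6b3) (nat_lit 3072))
 (.leaf (nat_lit 0x807030102834f683) (nat_lit 2561))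
))) (.node (nat_lit 0x807030103824e643) (.node (nat_lit 0x8070301038148673) (.node (nat_lit 0x8070301038049633) (.leaf (nat_lit 0x8070301038048603) (nat_lit 1026))
 (.leaf (nat_lit 0x8070301038049633) (nat_lit 3073))
) (.node (nat_lit 0x8070301038149643) (.leaf (nat_lit 0x8070301038148673) (nat_lit 3587))
 (.leaf (nat_lit 0x8070301038149643) (nat_lit 3587))
)) (.node (nat_lit 0x807030103834e633) (.node (nat_lit 0x807030103824f673) (.leaf (nat_lit 0x807030103824e643) (nat_lit 2562))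
 (.leaf (nat_lit 0x807030103824f673) (nat_lit 3072))
) (.node (nat_lit 0x807030103834f603) (.leaf (nat_lit 0x807030103834e633) (nat_lit 3075))
 (.leaf (nat_lit 0x807030103834f603) (nat_lit 2051))
))))) (.node (nat_lit 0x8070301068840683) (.node (nat_lit 0x8070301058848683) (.node (nat_lit 0x8070301048a4e643) (.node (nat_lit 0x8070301048948673) (.node (nat_lit 0x8070301048849633) (.leaf (nat_lit 0x8070301048848603) (nat_lit 771))
 (.leaf (nat_lit 0x8070301048849633) (nat_lit 3330))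
) (.node (nat_lit 0x8070301048949643) (.leaf (nat_lit 0x8070301048948673) (nat_lit 3841))
 (.leaf (nat_lit 0x8070301048949643) (nat_lit 3840))
)) (.node (nat_lit 0x8070301048b4e633) (.node (nat_lit 0x8070301048a4f673) (.leaf (nat_lit 0x8070301048a4e643) (nat_lit 2307))
 (.leaf (nat_lit 0x8070301048a4f673) (nat_lit 3328))
) (.node (nat_lit 0x8070301048b4f603) (.leaf (nat_lit 0x8070301048b4e633) (nat_lit 3328))
 (.leaf (nat_lit 0x8070301048b4f603) (nat_lit 1793))
))) (.node (nat_lit 0x8070301058a4e6c3) (.node (nat_lit 0x80703010589486f3) (.node (nat_lit 0x80703010588496b3) (.leaf (nat_lit 0x8070301058848683) (nat_lit 1792))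
 (.leaf (nat_lit 0x80703010588496b3) (nat_lit 3841))
) (.node (nat_lit 0x80703010589496c3) (.leaf (nat_lit 0x80703010589486f3) (nat_lit 3329))
 (.leaf (nat_lit 0x80703010589496c3) (nat_lit 2819))
)) (.node (nat_lit 0x8070301058b4e6b3) (.node (nat_lit 0x8070301058a4f6f3) (.leaf (nat_lit 0x8070301058a4e6c3) (nat_lit 2306))
 (.leaf (nat_lit 0x8070301058a4f6f3) (nat_lit 2305))
) (.node (nat_lit 0x8070301058b4f683) (.leaf (nat_lit 0x8070301058b4e6b3) (nat_lit 2819))
 (.leaf (nat_lit 0x8070301058b4f683) (nat_lit 2819))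
)))) (.node (nat_lit 0x8070301078840603) (.node (nat_lit 0x8070301068a466c3) (.node (nat_lit 0x80703010689406f3) (.node (nat_lit 0x80703010688416b3) (.leaf (nat_lit 0x8070301068840683) (nat_lit 1283))
 (.leaf (nat_lit 0x80703010688416b3) (nat_lit 3843))
) (.node (nat_lit 0x80703010689416c3) (.leaf (nat_lit 0x80703010689406f3) (nat_lit 2817))
 (.leaf (nat_lit 0x80703010689416c3) (nat_lit 2818))
)) (.node (nat_lit 0x8070301068b466b3) (.node (nat_lit 0x8070301068a476f3) (.leaf (nat_lit 0x8070301068a466c3) (nat_lit 1795))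
 (.leaf (nat_lit 0x8070301068a476f3) (nat_lit 2817))
) (.node (nat_lit 0x8070301068b47683) (.leaf (nat_lit 0x8070301068b466b3) (nat_lit 2816))
 (.leaf (nat_lit 0x8070301068b47683) (nat_lit 2817))
))) (.node (nat_lit 0x8070301078a46643) (.node (nat_lit 0x8070301078940673) (.node (nat_lit 0x8070301078841633) (.leaf (nat_lit 0x8070301078840603) (nat_lit 770))
 (.leaf (nat_lit 0x8070301078841633) (nat_lit 3329))
) (.node (nat_lit 0x8070301078941643) (.leaf (nat_lit 0x8070301078940673) (nat_lit 3331))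
 (.leaf (nat_lit 0x8070301078941643) (nat_lit 3331))
)) (.node (nat_lit 0x8070301078b46633) (.node (nat_lit 0x8070301078a47673) (.leaf (nat_lit 0x8070301078a46643) (nat_lit 2818))
 (.leaf (nat_lit 0x8070301078a47673) (nat_lit 2816))
) (.node (nat_lit 0x8070301078b47603) (.leaf (nat_lit 0x8070301078b46633) (nat_lit 3331))
 (.leaf (nat_lit 0x8070301078b47603) (nat_lit 1795))
))))))))) (.node (nat_lit 0x9060201008040609) (.node (nat_lit 0x905020100804020d) (.node (nat_lit 0x904030100804020b) (.node (nat_lit 0x9040201048840249) (.node (nat_lit 0x9040201028048229) (.node (nat_lit 0x9040201018040299) (.node (nat_lit 0x9040201008244209) (.node (nat_lit 0x9040201008140249) (.node (nat_lit 0x9040201008041229) (.leaf (nat_lit 0x9040201008040209) (nat_lit 2051))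
 (.leaf (nat_lit 0x9040201008041229) (nat_lit 3587))
) (.node (nat_lit 0x9040201008141269) (.leaf (nat_lit 0x9040201008140249) (nat_lit 2562))
 (.leaf (nat_lit 0x9040201008141269) (nat_lit 3075))
)) (.node (nat_lit 0x9040201008344249) (.node (nat_lit 0x9040201008245229) (.leaf (nat_lit 0x9040201008244209) (nat_lit 2562))
 (.leaf (nat_lit 0x9040201008245229) (nat_lit 3072))
) (.node (nat_lit 0x9040201008345269) (.leaf (nat_lit 0x9040201008344249) (nat_lit 2563))
 (.leaf (nat_lit 0x9040201008345269) (nat_lit 2563))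
))) (.node (nat_lit 0x9040201018244299) (.node (nat_lit 0x90402010181402d9) (.node (nat_lit 0x90402010180412b9) (.leaf (nat_lit 0x9040201018040299) (nat_lit 2562))
 (.leaf (nat_lit 0x90402010180412b9) (nat_lit 3073))
) (.node (nat_lit 0x90402010181412f9) (.leaf (nat_lit 0x90402010181402d9) (nat_lit 2563))
 (.leaf (nat_lit 0x90402010181412f9) (nat_lit 2563))
)) (.node (nat_lit 0x90402010183442d9) (.node (nat_lit 0x90402010182452b9) (.leaf (nat_lit 0x9040201018244299) (nat_lit 3587))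
 (.leaf (nat_lit 0x90402010182452b9) (nat_lit 3075))
) (.node (nat_lit 0x90402010183452f9) (.leaf (nat_lit 0x90402010183442d9) (nat_lit 3587))
 (.leaf (nat_lit 0x90402010183452f9) (nat_lit 3074))
)))) (.node (nat_lit 0x90402010380482b9) (.node (nat_lit 0x904020102824c229) (.node (nat_lit 0x9040201028148269) (.node (nat_lit 0x9040201028049209) (.leaf (nat_lit 0x9040201028048229) (nat_lit 2561))
 (.leaf (nat_lit 0x9040201028049209) (nat_lit 2562))
) (.node (nat_lit 0x9040201028149249) (.leaf (nat_lit 0x9040201028148269) (nat_lit 2562))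
 (.leaf (nat_lit 0x9040201028149249) (nat_lit 2563))
)) (.node (nat_lit 0x904020102834c269) (.node (nat_lit 0x904020102824d209) (.leaf (nat_lit 0x904020102824c229) (nat_lit 2563))
 (.leaf (nat_lit 0x904020102824d209) (nat_lit 2563))
) (.node (nat_lit 0x904020102834d249) (.leaf (nat_lit 0x904020102834c269) (nat_lit 2562))
 (.leaf (nat_lit 0x904020102834d249) (nat_lit 2561))
))) (.node (nat_lit 0x904020103824c2b9) (.node (nat_lit 0x90402010381482f9) (.node (nat_lit 0x9040201038049299) (.leaf (nat_lit 0x90402010380482b9) (nat_lit 2563))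
 (.leaf (nat_lit 0x9040201038049299) (nat_lit 2563))
) (.node (nat_lit 0x90402010381492d9) (.leaf (nat_lit 0x90402010381482f9) (nat_lit 2562))
 (.leaf (nat_lit 0x90402010381492d9) (nat_lit 2560))
)) (.node (nat_lit 0x904020103834c2f9) (.node (nat_lit 0x904020103824d299) (.leaf (nat_lit 0x904020103824c2b9) (nat_lit 3074))
 (.leaf (nat_lit 0x904020103824d299) (nat_lit 3073))
) (.node (nat_lit 0x904020103834d2d9) (.leaf (nat_lit 0x904020103834c2f9) (nat_lit 2563))
 (.leaf (nat_lit 0x904020103834d2d9) (nat_lit 2561))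
))))) (.node (nat_lit 0x9040201068848269) (.node (nat_lit 0x90402010588402d9) (.node (nat_lit 0x9040201048a44249) (.node (nat_lit 0x9040201048940209) (.node (nat_lit 0x9040201048841269) (.leaf (nat_lit 0x9040201048840249) (nat_lit 2307))
 (.leaf (nat_lit 0x9040201048841269) (nat_lit 3331))
) (.node (nat_lit 0x9040201048941229) (.leaf (nat_lit 0x9040201048940209) (nat_lit 2306))
 (.leaf (nat_lit 0x9040201048941229) (nat_lit 3331))
)) (.node (nat_lit 0x9040201048b44209) (.node (nat_lit 0x9040201048a45269) (.leaf (nat_lit 0x9040201048a44249) (nat_lit 2304))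
 (.leaf (nat_lit 0x9040201048a45269) (nat_lit 2818))
) (.node (nat_lit 0x9040201048b45229) (.leaf (nat_lit 0x9040201048b44209) (nat_lit 2307))
 (.leaf (nat_lit 0x9040201048b45229) (nat_lit 2819))
))) (.node (nat_lit 0x9040201058a442d9) (.node (nat_lit 0x9040201058940299) (.node (nat_lit 0x90402010588412f9) (.leaf (nat_lit 0x90402010588402d9) (nat_lit 2305))
 (.leaf (nat_lit 0x90402010588412f9) (nat_lit 2818))
) (.node (nat_lit 0x90402010589412b9) (.leaf (nat_lit 0x9040201058940299) (nat_lit 2307))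
 (.leaf (nat_lit 0x90402010589412b9) (nat_lit 2819))
)) (.node (nat_lit 0x9040201058b44299) (.node (nat_lit 0x9040201058a452f9) (.leaf (nat_lit 0x9040201058a442d9) (nat_lit 3331))
 (.leaf (nat_lit 0x9040201058a452f9) (nat_lit 2819))
) (.node (nat_lit 0x9040201058b452b9) (.leaf (nat_lit 0x9040201058b44299) (nat_lit 3331))
 (.leaf (nat_lit 0x9040201058b452b9) (nat_lit 2816))
)))) (.node (nat_lit 0x90402010788482f9) (.node (nat_lit 0x9040201068a4c269) (.node (nat_lit 0x9040201068948229) (.node (nat_lit 0x9040201068849249) (.leaf (nat_lit 0x9040201068848269) (nat_lit 2305))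
 (.leaf (nat_lit 0x9040201068849249) (nat_lit 2818))
) (.node (nat_lit 0x9040201068949209) (.leaf (nat_lit 0x9040201068948229) (nat_lit 2818))
 (.leaf (nat_lit 0x9040201068949209) (nat_lit 2307))
)) (.node (nat_lit 0x9040201068b4c229) (.node (nat_lit 0x9040201068a4d249) (.leaf (nat_lit 0x9040201068a4c269) (nat_lit 2307))
 (.leaf (nat_lit 0x9040201068a4d249) (nat_lit 2819))
) (.node (nat_lit 0x9040201068b4d209) (.leaf (nat_lit 0x9040201068b4c229) (nat_lit 2818))
 (.leaf (nat_lit 0x9040201068b4d209) (nat_lit 2305))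
))) (.node (nat_lit 0x9040201078a4c2f9) (.node (nat_lit 0x90402010789482b9) (.node (nat_lit 0x90402010788492d9) (.leaf (nat_lit 0x90402010788482f9) (nat_lit 2307))
 (.leaf (nat_lit 0x90402010788492d9) (nat_lit 2819))
) (.node (nat_lit 0x9040201078949299) (.leaf (nat_lit 0x90402010789482b9) (nat_lit 2818))
 (.leaf (nat_lit 0x9040201078949299) (nat_lit 2304))
)) (.node (nat_lit 0x9040201078b4c2b9) (.node (nat_lit 0x9040201078a4d2d9) (.leaf (nat_lit 0x9040201078a4c2f9) (nat_lit 2818))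
 (.leaf (nat_lit 0x9040201078a4d2d9) (nat_lit 2817))
) (.node (nat_lit 0x9040201078b4d299) (.leaf (nat_lit 0x9040201078b4c2b9) (nat_lit 2819))
 (.leaf (nat_lit 0x9040201078b4d299) (nat_lit 2817))
)))))) (.node (nat_lit 0x904030104884024b) (.node (nat_lit 0x90403010280482ab) (.node (nat_lit 0x904030101804029b) (.node (nat_lit 0x904030100824424b) (.node (nat_lit 0x904030100814024b) (.node (nat_lit 0x904030100804123b) (.leaf (nat_lit 0x904030100804020b) (nat_lit 1795))
 (.leaf (nat_lit 0x904030100804123b) (nat_lit 3843))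
) (.node (nat_lit 0x904030100814127b) (.leaf (nat_lit 0x904030100814024b) (nat_lit 2306))
 (.leaf (nat_lit 0x904030100814127b) (nat_lit 3331))
)) (.node (nat_lit 0x904030100834420b) (.node (nat_lit 0x904030100824527b) (.leaf (nat_lit 0x904030100824424b) (nat_lit 2307))
 (.leaf (nat_lit 0x904030100824527b) (nat_lit 2819))
) (.node (nat_lit 0x904030100834523b) (.leaf (nat_lit 0x904030100834420b) (nat_lit 2306))
 (.leaf (nat_lit 0x904030100834523b) (nat_lit 2816))
))) (.node (nat_lit 0x90403010182442db) (.node (nat_lit 0x90403010181402db) (.node (nat_lit 0x90403010180412ab) (.leaf (nat_lit 0x904030101804029b) (nat_lit 2818))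
 (.leaf (nat_lit 0x90403010180412ab) (nat_lit 2817))
) (.node (nat_lit 0x90403010181412eb) (.leaf (nat_lit 0x90403010181402db) (nat_lit 2819))
 (.leaf (nat_lit 0x90403010181412eb) (nat_lit 2307))
)) (.node (nat_lit 0x904030101834429b) (.node (nat_lit 0x90403010182452eb) (.leaf (nat_lit 0x90403010182442db) (nat_lit 3331))
 (.leaf (nat_lit 0x90403010182452eb) (nat_lit 2818))
) (.node (nat_lit 0x90403010183452ab) (.leaf (nat_lit 0x904030101834429b) (nat_lit 3331))
 (.leaf (nat_lit 0x90403010183452ab) (nat_lit 2819))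
)))) (.node (nat_lit 0x904030103804823b) (.node (nat_lit 0x904030102824c2eb) (.node (nat_lit 0x90403010281482eb) (.node (nat_lit 0x904030102804929b) (.leaf (nat_lit 0x90403010280482ab) (nat_lit 2307))
 (.leaf (nat_lit 0x904030102804929b) (nat_lit 2819))
) (.node (nat_lit 0x90403010281492db) (.leaf (nat_lit 0x90403010281482eb) (nat_lit 2306))
 (.leaf (nat_lit 0x90403010281492db) (nat_lit 2816))
)) (.node (nat_lit 0x904030102834c2ab) (.node (nat_lit 0x904030102824d2db) (.leaf (nat_lit 0x904030102824c2eb) (nat_lit 2307))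
 (.leaf (nat_lit 0x904030102824d2db) (nat_lit 2817))
) (.node (nat_lit 0x904030102834d29b) (.leaf (nat_lit 0x904030102834c2ab) (nat_lit 2818))
 (.leaf (nat_lit 0x904030102834d29b) (nat_lit 2817))
))) (.node (nat_lit 0x904030103824c27b) (.node (nat_lit 0x904030103814827b) (.node (nat_lit 0x904030103804920b) (.leaf (nat_lit 0x904030103804823b) (nat_lit 2817))
 (.leaf (nat_lit 0x904030103804920b) (nat_lit 2306))
) (.node (nat_lit 0x904030103814924b) (.leaf (nat_lit 0x904030103814827b) (nat_lit 2818))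
 (.leaf (nat_lit 0x904030103814924b) (nat_lit 2307))
)) (.node (nat_lit 0x904030103834c23b) (.node (nat_lit 0x904030103824d24b) (.leaf (nat_lit 0x904030103824c27b) (nat_lit 2818))
 (.leaf (nat_lit 0x904030103824d24b) (nat_lit 2817))
) (.node (nat_lit 0x904030103834d20b) (.leaf (nat_lit 0x904030103834c23b) (nat_lit 2819))
 (.leaf (nat_lit 0x904030103834d20b) (nat_lit 2307))
))))) (.node (nat_lit 0x90403010688482eb) (.node (nat_lit 0x90403010588402db) (.node (nat_lit 0x9040301048a4420b) (.node (nat_lit 0x904030104894020b) (.node (nat_lit 0x904030104884127b) (.leaf (nat_lit 0x904030104884024b) (nat_lit 2051))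
 (.leaf (nat_lit 0x904030104884127b) (nat_lit 3587))
) (.node (nat_lit 0x904030104894123b) (.leaf (nat_lit 0x904030104894020b) (nat_lit 2050))
 (.leaf (nat_lit 0x904030104894123b) (nat_lit 3587))
)) (.node (nat_lit 0x9040301048b4424b) (.node (nat_lit 0x9040301048a4523b) (.leaf (nat_lit 0x9040301048a4420b) (nat_lit 2051))
 (.leaf (nat_lit 0x9040301048a4523b) (nat_lit 3075))
) (.node (nat_lit 0x9040301048b4527b) (.leaf (nat_lit 0x9040301048b4424b) (nat_lit 2560))
 (.leaf (nat_lit 0x9040301048b4527b) (nat_lit 3074))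
))) (.node (nat_lit 0x9040301058a4429b) (.node (nat_lit 0x904030105894029b) (.node (nat_lit 0x90403010588412eb) (.leaf (nat_lit 0x90403010588402db) (nat_lit 2561))
 (.leaf (nat_lit 0x90403010588412eb) (nat_lit 2562))
) (.node (nat_lit 0x90403010589412ab) (.leaf (nat_lit 0x904030105894029b) (nat_lit 2563))
 (.leaf (nat_lit 0x90403010589412ab) (nat_lit 2563))
)) (.node (nat_lit 0x9040301058b442db) (.node (nat_lit 0x9040301058a452ab) (.leaf (nat_lit 0x9040301058a4429b) (nat_lit 3587))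
 (.leaf (nat_lit 0x9040301058a452ab) (nat_lit 3072))
) (.node (nat_lit 0x9040301058b452eb) (.leaf (nat_lit 0x9040301058b442db) (nat_lit 3587))
 (.leaf (nat_lit 0x9040301058b452eb) (nat_lit 2563))
)))) (.node (nat_lit 0x904030107884827b) (.node (nat_lit 0x9040301068a4c2ab) (.node (nat_lit 0x90403010689482ab) (.node (nat_lit 0x90403010688492db) (.leaf (nat_lit 0x90403010688482eb) (nat_lit 2051))
 (.leaf (nat_lit 0x90403010688492db) (nat_lit 3075))
) (.node (nat_lit 0x904030106894929b) (.leaf (nat_lit 0x90403010689482ab) (nat_lit 2562))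
 (.leaf (nat_lit 0x904030106894929b) (nat_lit 2560))
)) (.node (nat_lit 0x9040301068b4c2eb) (.node (nat_lit 0x9040301068a4d29b) (.leaf (nat_lit 0x9040301068a4c2ab) (nat_lit 2563))
 (.leaf (nat_lit 0x9040301068a4d29b) (nat_lit 3073))
) (.node (nat_lit 0x9040301068b4d2db) (.leaf (nat_lit 0x9040301068b4c2eb) (nat_lit 2562))
 (.leaf (nat_lit 0x9040301068b4d2db) (nat_lit 2561))
))) (.node (nat_lit 0x9040301078a4c23b) (.node (nat_lit 0x904030107894823b) (.node (nat_lit 0x904030107884924b) (.leaf (nat_lit 0x904030107884827b) (nat_lit 2561))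
 (.leaf (nat_lit 0x904030107884924b) (nat_lit 2562))
) (.node (nat_lit 0x904030107894920b) (.leaf (nat_lit 0x904030107894823b) (nat_lit 3074))
 (.leaf (nat_lit 0x904030107894920b) (nat_lit 2051))
)) (.node (nat_lit 0x9040301078b4c27b) (.node (nat_lit 0x9040301078a4d20b) (.leaf (nat_lit 0x9040301078a4c23b) (nat_lit 3074))
 (.leaf (nat_lit 0x9040301078a4d20b) (nat_lit 2561))
) (.node (nat_lit 0x9040301078b4d24b) (.leaf (nat_lit 0x9040301078b4c27b) (nat_lit 2563))
 (.leaf (nat_lit 0x9040301078b4d24b) (nat_lit 2563))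
))))))) (.node (nat_lit 0x905030100804020f) (.node (nat_lit 0x90502010488402cd) (.node (nat_lit 0x905020102804822d) (.node (nat_lit 0x905020101804029d) (.node (nat_lit 0x905020100824422d) (.node (nat_lit 0x905020100814025d) (.node (nat_lit 0x905020100804122d) (.leaf (nat_lit 0x905020100804020d) (nat_lit 1537))
 (.leaf (nat_lit 0x905020100804122d) (nat_lit 3074))
) (.node (nat_lit 0x905020100814127d) (.leaf (nat_lit 0x905020100814025d) (nat_lit 3075))
 (.leaf (nat_lit 0x905020100814127d) (nat_lit 3075))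
)) (.node (nat_lit 0x905020100834427d) (.node (nat_lit 0x905020100824520d) (.leaf (nat_lit 0x905020100824422d) (nat_lit 2563))
 (.leaf (nat_lit 0x905020100824520d) (nat_lit 2563))
) (.node (nat_lit 0x905020100834525d) (.leaf (nat_lit 0x905020100834427d) (nat_lit 2561))
 (.leaf (nat_lit 0x905020100834525d) (nat_lit 2560))
))) (.node (nat_lit 0x90502010182442bd) (.node (nat_lit 0x90502010181402cd) (.node (nat_lit 0x90502010180412bd) (.leaf (nat_lit 0x905020101804029d) (nat_lit 3075))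
 (.leaf (nat_lit 0x90502010180412bd) (nat_lit 3587))
) (.node (nat_lit 0x90502010181412ed) (.leaf (nat_lit 0x90502010181402cd) (nat_lit 2050))
 (.leaf (nat_lit 0x90502010181412ed) (nat_lit 2563))
)) (.node (nat_lit 0x90502010183442ed) (.node (nat_lit 0x905020101824529d) (.leaf (nat_lit 0x90502010182442bd) (nat_lit 3074))
 (.leaf (nat_lit 0x905020101824529d) (nat_lit 3072))
) (.node (nat_lit 0x90502010183452cd) (.leaf (nat_lit 0x90502010183442ed) (nat_lit 2562))
 (.leaf (nat_lit 0x90502010183452cd) (nat_lit 2563))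
)))) (.node (nat_lit 0x90502010380482bd) (.node (nat_lit 0x905020102824c20d) (.node (nat_lit 0x905020102814827d) (.node (nat_lit 0x905020102804920d) (.leaf (nat_lit 0x905020102804822d) (nat_lit 2563))
 (.leaf (nat_lit 0x905020102804920d) (nat_lit 2563))
) (.node (nat_lit 0x905020102814925d) (.leaf (nat_lit 0x905020102814827d) (nat_lit 2562))
 (.leaf (nat_lit 0x905020102814925d) (nat_lit 2560))
)) (.node (nat_lit 0x905020102834c25d) (.node (nat_lit 0x905020102824d22d) (.leaf (nat_lit 0x905020102824c20d) (nat_lit 2050))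
 (.leaf (nat_lit 0x905020102824d22d) (nat_lit 3072))
) (.node (nat_lit 0x905020102834d27d) (.leaf (nat_lit 0x905020102834c25d) (nat_lit 3587))
 (.leaf (nat_lit 0x905020102834d27d) (nat_lit 3587))
))) (.node (nat_lit 0x905020103824c29d) (.node (nat_lit 0x90502010381482ed) (.node (nat_lit 0x905020103804929d) (.leaf (nat_lit 0x90502010380482bd) (nat_lit 2561))
 (.leaf (nat_lit 0x905020103804929d) (nat_lit 2560))
) (.node (nat_lit 0x90502010381492cd) (.leaf (nat_lit 0x90502010381482ed) (nat_lit 2562))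
 (.leaf (nat_lit 0x90502010381492cd) (nat_lit 2563))
)) (.node (nat_lit 0x905020103834c2cd) (.node (nat_lit 0x905020103824d2bd) (.leaf (nat_lit 0x905020103824c29d) (nat_lit 3587))
 (.leaf (nat_lit 0x905020103824d2bd) (nat_lit 3587))
) (.node (nat_lit 0x905020103834d2ed) (.leaf (nat_lit 0x905020103834c2cd) (nat_lit 2049))
 (.leaf (nat_lit 0x905020103834d2ed) (nat_lit 2563))
))))) (.node (nat_lit 0x90502010688482ed) (.node (nat_lit 0x905020105884025d) (.node (nat_lit 0x9050201048a442ed) (.node (nat_lit 0x905020104894029d) (.node (nat_lit 0x90502010488412ed) (.leaf (nat_lit 0x90502010488402cd) (nat_lit 1793))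
 (.leaf (nat_lit 0x90502010488412ed) (nat_lit 2818))
) (.node (nat_lit 0x90502010489412bd) (.leaf (nat_lit 0x905020104894029d) (nat_lit 2819))
 (.leaf (nat_lit 0x90502010489412bd) (nat_lit 3331))
)) (.node (nat_lit 0x9050201048b442bd) (.node (nat_lit 0x9050201048a452cd) (.leaf (nat_lit 0x9050201048a442ed) (nat_lit 2307))
 (.leaf (nat_lit 0x9050201048a452cd) (nat_lit 2819))
) (.node (nat_lit 0x9050201048b4529d) (.leaf (nat_lit 0x9050201048b442bd) (nat_lit 2817))
 (.leaf (nat_lit 0x9050201048b4529d) (nat_lit 2816))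
))) (.node (nat_lit 0x9050201058a4427d) (.node (nat_lit 0x905020105894020d) (.node (nat_lit 0x905020105884127d) (.leaf (nat_lit 0x905020105884025d) (nat_lit 2819))
 (.leaf (nat_lit 0x905020105884127d) (nat_lit 3331))
) (.node (nat_lit 0x905020105894122d) (.leaf (nat_lit 0x905020105894020d) (nat_lit 1794))
 (.leaf (nat_lit 0x905020105894122d) (nat_lit 2819))
)) (.node (nat_lit 0x9050201058b4422d) (.node (nat_lit 0x9050201058a4525d) (.leaf (nat_lit 0x9050201058a4427d) (nat_lit 2818))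
 (.leaf (nat_lit 0x9050201058a4525d) (nat_lit 2816))
) (.node (nat_lit 0x9050201058b4520d) (.leaf (nat_lit 0x9050201058b4422d) (nat_lit 2818))
 (.leaf (nat_lit 0x9050201058b4520d) (nat_lit 2307))
)))) (.node (nat_lit 0x905020107884827d) (.node (nat_lit 0x9050201068a4c2cd) (.node (nat_lit 0x90502010689482bd) (.node (nat_lit 0x90502010688492cd) (.leaf (nat_lit 0x90502010688482ed) (nat_lit 2307))
 (.leaf (nat_lit 0x90502010688492cd) (nat_lit 2819))
) (.node (nat_lit 0x905020106894929d) (.leaf (nat_lit 0x90502010689482bd) (nat_lit 2818))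
 (.leaf (nat_lit 0x905020106894929d) (nat_lit 2304))
)) (.node (nat_lit 0x9050201068b4c29d) (.node (nat_lit 0x9050201068a4d2ed) (.leaf (nat_lit 0x9050201068a4c2cd) (nat_lit 1793))
 (.leaf (nat_lit 0x9050201068a4d2ed) (nat_lit 2818))
) (.node (nat_lit 0x9050201068b4d2bd) (.leaf (nat_lit 0x9050201068b4c29d) (nat_lit 3331))
 (.leaf (nat_lit 0x9050201068b4d2bd) (nat_lit 3331))
))) (.node (nat_lit 0x9050201078a4c25d) (.node (nat_lit 0x905020107894822d) (.node (nat_lit 0x905020107884925d) (.leaf (nat_lit 0x905020107884827d) (nat_lit 2305))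
 (.leaf (nat_lit 0x905020107884925d) (nat_lit 2816))
) (.node (nat_lit 0x905020107894920d) (.leaf (nat_lit 0x905020107894822d) (nat_lit 2818))
 (.leaf (nat_lit 0x905020107894920d) (nat_lit 2307))
)) (.node (nat_lit 0x9050201078b4c20d) (.node (nat_lit 0x9050201078a4d27d) (.leaf (nat_lit 0x9050201078a4c25d) (nat_lit 3331))
 (.leaf (nat_lit 0x9050201078a4d27d) (nat_lit 3331))
) (.node (nat_lit 0x9050201078b4d22d) (.leaf (nat_lit 0x9050201078b4c20d) (nat_lit 1793))
 (.leaf (nat_lit 0x9050201078b4d22d) (nat_lit 2819))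
)))))) (.node (nat_lit 0x90503010488402cf) (.node (nat_lit 0x90503010280482af) (.node (nat_lit 0x905030101804029f) (.node (nat_lit 0x905030100824426f) (.node (nat_lit 0x905030100814025f) (.node (nat_lit 0x905030100804123f) (.leaf (nat_lit 0x905030100804020f) (nat_lit 1281))
 (.leaf (nat_lit 0x905030100804123f) (nat_lit 3330))
) (.node (nat_lit 0x905030100814126f) (.leaf (nat_lit 0x905030100814025f) (nat_lit 3331))
 (.leaf (nat_lit 0x905030100814126f) (nat_lit 2819))
)) (.node (nat_lit 0x905030100834423f) (.node (nat_lit 0x905030100824525f) (.leaf (nat_lit 0x905030100824426f) (nat_lit 2305))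
 (.leaf (nat_lit 0x905030100824525f) (nat_lit 2816))
) (.node (nat_lit 0x905030100834520f) (.leaf (nat_lit 0x905030100834423f) (nat_lit 2819))
 (.leaf (nat_lit 0x905030100834520f) (nat_lit 2307))
))) (.node (nat_lit 0x90503010182442ff) (.node (nat_lit 0x90503010181402cf) (.node (nat_lit 0x90503010180412af) (.leaf (nat_lit 0x905030101804029f) (nat_lit 3331))
 (.leaf (nat_lit 0x90503010180412af) (nat_lit 3331))
) (.node (nat_lit 0x90503010181412ff) (.leaf (nat_lit 0x90503010181402cf) (nat_lit 1794))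
 (.leaf (nat_lit 0x90503010181412ff) (nat_lit 2819))
)) (.node (nat_lit 0x90503010183442af) (.node (nat_lit 0x90503010182452cf) (.leaf (nat_lit 0x90503010182442ff) (nat_lit 2818))
 (.leaf (nat_lit 0x90503010182452cf) (nat_lit 2819))
) (.node (nat_lit 0x905030101834529f) (.leaf (nat_lit 0x90503010183442af) (nat_lit 2818))
 (.leaf (nat_lit 0x905030101834529f) (nat_lit 2816))
)))) (.node (nat_lit 0x905030103804823f) (.node (nat_lit 0x905030102824c2cf) (.node (nat_lit 0x90503010281482ff) (.node (nat_lit 0x905030102804929f) (.leaf (nat_lit 0x90503010280482af) (nat_lit 2305))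
 (.leaf (nat_lit 0x905030102804929f) (nat_lit 2816))
) (.node (nat_lit 0x90503010281492cf) (.leaf (nat_lit 0x90503010281482ff) (nat_lit 2818))
 (.leaf (nat_lit 0x90503010281492cf) (nat_lit 2307))
)) (.node (nat_lit 0x905030102834c29f) (.node (nat_lit 0x905030102824d2ff) (.leaf (nat_lit 0x905030102824c2cf) (nat_lit 1793))
 (.leaf (nat_lit 0x905030102824d2ff) (nat_lit 2819))
) (.node (nat_lit 0x905030102834d2af) (.leaf (nat_lit 0x905030102834c29f) (nat_lit 3331))
 (.leaf (nat_lit 0x905030102834d2af) (nat_lit 3331))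
))) (.node (nat_lit 0x905030103824c25f) (.node (nat_lit 0x905030103814826f) (.node (nat_lit 0x905030103804920f) (.leaf (nat_lit 0x905030103804823f) (nat_lit 2819))
 (.leaf (nat_lit 0x905030103804920f) (nat_lit 2307))
) (.node (nat_lit 0x905030103814925f) (.leaf (nat_lit 0x905030103814826f) (nat_lit 2306))
 (.leaf (nat_lit 0x905030103814925f) (nat_lit 2816))
)) (.node (nat_lit 0x905030103834c20f) (.node (nat_lit 0x905030103824d26f) (.leaf (nat_lit 0x905030103824c25f) (nat_lit 3331))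
 (.leaf (nat_lit 0x905030103824d26f) (nat_lit 3331))
) (.node (nat_lit 0x905030103834d23f) (.leaf (nat_lit 0x905030103834c20f) (nat_lit 1794))
 (.leaf (nat_lit 0x905030103834d23f) (nat_lit 2816))
))))) (.node (nat_lit 0x905030106884826f) (.node (nat_lit 0x905030105884025f) (.node (nat_lit 0x9050301048a442af) (.node (nat_lit 0x905030104894029f) (.node (nat_lit 0x90503010488412ff) (.leaf (nat_lit 0x90503010488402cf) (nat_lit 1537))
 (.leaf (nat_lit 0x90503010488412ff) (nat_lit 3074))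
) (.node (nat_lit 0x90503010489412af) (.leaf (nat_lit 0x905030104894029f) (nat_lit 3075))
 (.leaf (nat_lit 0x90503010489412af) (nat_lit 3075))
)) (.node (nat_lit 0x9050301048b442ff) (.node (nat_lit 0x9050301048a4529f) (.leaf (nat_lit 0x9050301048a442af) (nat_lit 2561))
 (.leaf (nat_lit 0x9050301048a4529f) (nat_lit 3072))
) (.node (nat_lit 0x9050301048b452cf) (.leaf (nat_lit 0x9050301048b442ff) (nat_lit 2563))
 (.leaf (nat_lit 0x9050301048b452cf) (nat_lit 2563))
))) (.node (nat_lit 0x9050301058a4423f) (.node (nat_lit 0x905030105894020f) (.node (nat_lit 0x905030105884126f) (.leaf (nat_lit 0x905030105884025f) (nat_lit 3075))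
 (.leaf (nat_lit 0x905030105884126f) (nat_lit 3075))
) (.node (nat_lit 0x905030105894123f) (.leaf (nat_lit 0x905030105894020f) (nat_lit 1538))
 (.leaf (nat_lit 0x905030105894123f) (nat_lit 3075))
)) (.node (nat_lit 0x9050301058b4426f) (.node (nat_lit 0x9050301058a4520f) (.leaf (nat_lit 0x9050301058a4423f) (nat_lit 3074))
 (.leaf (nat_lit 0x9050301058a4520f) (nat_lit 2563))
) (.node (nat_lit 0x9050301058b4525f) (.leaf (nat_lit 0x9050301058b4426f) (nat_lit 2562))
 (.leaf (nat_lit 0x9050301058b4525f) (nat_lit 2560))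
)))) (.node (nat_lit 0x90503010788482ff) (.node (nat_lit 0x9050301068a4c20f) (.node (nat_lit 0x905030106894823f) (.node (nat_lit 0x905030106884925f) (.leaf (nat_lit 0x905030106884826f) (nat_lit 2049))
 (.leaf (nat_lit 0x905030106884925f) (nat_lit 3072))
) (.node (nat_lit 0x905030106894920f) (.leaf (nat_lit 0x905030106894823f) (nat_lit 3074))
 (.leaf (nat_lit 0x905030106894920f) (nat_lit 2051))
)) (.node (nat_lit 0x9050301068b4c25f) (.node (nat_lit 0x9050301068a4d23f) (.leaf (nat_lit 0x9050301068a4c20f) (nat_lit 1537))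
 (.leaf (nat_lit 0x9050301068a4d23f) (nat_lit 3075))
) (.node (nat_lit 0x9050301068b4d26f) (.leaf (nat_lit 0x9050301068b4c25f) (nat_lit 3587))
 (.leaf (nat_lit 0x9050301068b4d26f) (nat_lit 3075))
))) (.node (nat_lit 0x9050301078a4c29f) (.node (nat_lit 0x90503010789482af) (.node (nat_lit 0x90503010788492cf) (.leaf (nat_lit 0x90503010788482ff) (nat_lit 2563))
 (.leaf (nat_lit 0x90503010788492cf) (nat_lit 2563))
) (.node (nat_lit 0x905030107894929f) (.leaf (nat_lit 0x90503010789482af) (nat_lit 2562))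
 (.leaf (nat_lit 0x905030107894929f) (nat_lit 2560))
)) (.node (nat_lit 0x9050301078b4c2cf) (.node (nat_lit 0x9050301078a4d2af) (.leaf (nat_lit 0x9050301078a4c29f) (nat_lit 3587))
 (.leaf (nat_lit 0x9050301078a4d2af) (nat_lit 3587))
) (.node (nat_lit 0x9050301078b4d2ff) (.leaf (nat_lit 0x9050301078b4c2cf) (nat_lit 2049))
 (.leaf (nat_lit 0x9050301078b4d2ff) (nat_lit 3074))
)))))))) (.node (nat_lit 0x907020100804060d) (.node (nat_lit 0x906030100804060f) (.node (nat_lit 0x9060201048848649) (.node (nat_lit 0x9060201028048629) (.node (nat_lit 0x9060201018040699) (.node (nat_lit 0x9060201008246609) (.node (nat_lit 0x9060201008140669) (.node (nat_lit 0x9060201008041629) (.leaf (nat_lit 0x9060201008040609) (nat_lit 1793))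
 (.leaf (nat_lit 0x9060201008041629) (nat_lit 3330))
) (.node (nat_lit 0x9060201008141649) (.leaf (nat_lit 0x9060201008140669) (nat_lit 2818))
 (.leaf (nat_lit 0x9060201008141649) (nat_lit 2819))
)) (.node (nat_lit 0x9060201008346669) (.node (nat_lit 0x9060201008247629) (.leaf (nat_lit 0x9060201008246609) (nat_lit 2819))
 (.leaf (nat_lit 0x9060201008247629) (nat_lit 3331))
) (.node (nat_lit 0x9060201008347649) (.leaf (nat_lit 0x9060201008346669) (nat_lit 2306))
 (.leaf (nat_lit 0x9060201008347649) (nat_lit 2305))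
))) (.node (nat_lit 0x9060201018246699) (.node (nat_lit 0x90602010181406f9) (.node (nat_lit 0x90602010180416b9) (.leaf (nat_lit 0x9060201018040699) (nat_lit 2819))
 (.leaf (nat_lit 0x90602010180416b9) (nat_lit 3331))
) (.node (nat_lit 0x90602010181416d9) (.leaf (nat_lit 0x90602010181406f9) (nat_lit 2306))
 (.leaf (nat_lit 0x90602010181416d9) (nat_lit 2304))
)) (.node (nat_lit 0x90602010183466f9) (.node (nat_lit 0x90602010182476b9) (.leaf (nat_lit 0x9060201018246699) (nat_lit 3328))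
 (.leaf (nat_lit 0x90602010182476b9) (nat_lit 2818))
) (.node (nat_lit 0x90602010183476d9) (.leaf (nat_lit 0x90602010183466f9) (nat_lit 3331))
 (.leaf (nat_lit 0x90602010183476d9) (nat_lit 3330))
)))) (.node (nat_lit 0x90602010380486b9) (.node (nat_lit 0x906020102824e629) (.node (nat_lit 0x9060201028148649) (.node (nat_lit 0x9060201028049609) (.leaf (nat_lit 0x9060201028048629) (nat_lit 2819))
 (.leaf (nat_lit 0x9060201028049609) (nat_lit 2819))
) (.node (nat_lit 0x9060201028149669) (.leaf (nat_lit 0x9060201028148649) (nat_lit 2306))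
 (.leaf (nat_lit 0x9060201028149669) (nat_lit 2819))
)) (.node (nat_lit 0x906020102834e649) (.node (nat_lit 0x906020102824f609) (.leaf (nat_lit 0x906020102824e629) (nat_lit 2304))
 (.leaf (nat_lit 0x906020102824f609) (nat_lit 2306))
) (.node (nat_lit 0x906020102834f669) (.leaf (nat_lit 0x906020102834e649) (nat_lit 2819))
 (.leaf (nat_lit 0x906020102834f669) (nat_lit 2819))
))) (.node (nat_lit 0x906020103824e6b9) (.node (nat_lit 0x90602010381486d9) (.node (nat_lit 0x9060201038049699) (.leaf (nat_lit 0x90602010380486b9) (nat_lit 2305))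
 (.leaf (nat_lit 0x9060201038049699) (nat_lit 2306))
) (.node (nat_lit 0x90602010381496f9) (.leaf (nat_lit 0x90602010381486d9) (nat_lit 2819))
 (.leaf (nat_lit 0x90602010381496f9) (nat_lit 2819))
)) (.node (nat_lit 0x906020103834e6d9) (.node (nat_lit 0x906020103824f699) (.leaf (nat_lit 0x906020103824e6b9) (nat_lit 3331))
 (.leaf (nat_lit 0x906020103824f699) (nat_lit 3331))
) (.node (nat_lit 0x906020103834f6f9) (.leaf (nat_lit 0x906020103834e6d9) (nat_lit 2819))
 (.leaf (nat_lit 0x906020103834f6f9) (nat_lit 2305))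
))))) (.node (nat_lit 0x9060201068840669) (.node (nat_lit 0x90602010588486d9) (.node (nat_lit 0x9060201048a4e649) (.node (nat_lit 0x9060201048948629) (.node (nat_lit 0x9060201048849669) (.leaf (nat_lit 0x9060201048848649) (nat_lit 2049))
 (.leaf (nat_lit 0x9060201048849669) (nat_lit 3074))
) (.node (nat_lit 0x9060201048949609) (.leaf (nat_lit 0x9060201048948629) (nat_lit 3074))
 (.leaf (nat_lit 0x9060201048949609) (nat_lit 2563))
)) (.node (nat_lit 0x9060201048b4e629) (.node (nat_lit 0x9060201048a4f669) (.leaf (nat_lit 0x9060201048a4e649) (nat_lit 2563))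
 (.leaf (nat_lit 0x9060201048a4f669) (nat_lit 3075))
) (.node (nat_lit 0x9060201048b4f609) (.leaf (nat_lit 0x9060201048b4e629) (nat_lit 2562))
 (.leaf (nat_lit 0x9060201048b4f609) (nat_lit 2049))
))) (.node (nat_lit 0x9060201058a4e6d9) (.node (nat_lit 0x90602010589486b9) (.node (nat_lit 0x90602010588496f9) (.leaf (nat_lit 0x90602010588486d9) (nat_lit 2563))
 (.leaf (nat_lit 0x90602010588496f9) (nat_lit 3075))
) (.node (nat_lit 0x9060201058949699) (.leaf (nat_lit 0x90602010589486b9) (nat_lit 2562))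
 (.leaf (nat_lit 0x9060201058949699) (nat_lit 2048))
)) (.node (nat_lit 0x9060201058b4e6b9) (.node (nat_lit 0x9060201058a4f6f9) (.leaf (nat_lit 0x9060201058a4e6d9) (nat_lit 3074))
 (.leaf (nat_lit 0x9060201058a4f6f9) (nat_lit 2561))
) (.node (nat_lit 0x9060201058b4f699) (.leaf (nat_lit 0x9060201058b4e6b9) (nat_lit 3075))
 (.leaf (nat_lit 0x9060201058b4f699) (nat_lit 3073))
)))) (.node (nat_lit 0x90602010788406f9) (.node (nat_lit 0x9060201068a46669) (.node (nat_lit 0x9060201068940609) (.node (nat_lit 0x9060201068841649) (.leaf (nat_lit 0x9060201068840669) (nat_lit 2563))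
 (.leaf (nat_lit 0x9060201068841649) (nat_lit 3075))
) (.node (nat_lit 0x9060201068941629) (.leaf (nat_lit 0x9060201068940609) (nat_lit 2050))
 (.leaf (nat_lit 0x9060201068941629) (nat_lit 3075))
)) (.node (nat_lit 0x9060201068b46609) (.node (nat_lit 0x9060201068a47649) (.leaf (nat_lit 0x9060201068a46669) (nat_lit 2048))
 (.leaf (nat_lit 0x9060201068a47649) (nat_lit 2562))
) (.node (nat_lit 0x9060201068b47629) (.leaf (nat_lit 0x9060201068b46609) (nat_lit 2563))
 (.leaf (nat_lit 0x9060201068b47629) (nat_lit 3075))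
))) (.node (nat_lit 0x9060201078a466f9) (.node (nat_lit 0x9060201078940699) (.node (nat_lit 0x90602010788416d9) (.leaf (nat_lit 0x90602010788406f9) (nat_lit 2049))
 (.leaf (nat_lit 0x90602010788416d9) (nat_lit 2562))
) (.node (nat_lit 0x90602010789416b9) (.leaf (nat_lit 0x9060201078940699) (nat_lit 2563))
 (.leaf (nat_lit 0x90602010789416b9) (nat_lit 3075))
)) (.node (nat_lit 0x9060201078b46699) (.node (nat_lit 0x9060201078a476d9) (.leaf (nat_lit 0x9060201078a466f9) (nat_lit 3075))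
 (.leaf (nat_lit 0x9060201078a476d9) (nat_lit 3075))
) (.node (nat_lit 0x9060201078b476b9) (.leaf (nat_lit 0x9060201078b46699) (nat_lit 3075))
 (.leaf (nat_lit 0x9060201078b476b9) (nat_lit 2560))
)))))) (.node (nat_lit 0x90603010488486cf) (.node (nat_lit 0x90603010280486af) (.node (nat_lit 0x906030101804069f) (.node (nat_lit 0x906030100824666f) (.node (nat_lit 0x906030100814066f) (.node (nat_lit 0x906030100804163f) (.leaf (nat_lit 0x906030100804060f) (nat_lit 1539))
 (.leaf (nat_lit 0x906030100804163f) (nat_lit 3587))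
) (.node (nat_lit 0x906030100814165f) (.leaf (nat_lit 0x906030100814066f) (nat_lit 2562))
 (.leaf (nat_lit 0x906030100814165f) (nat_lit 3072))
)) (.node (nat_lit 0x906030100834660f) (.node (nat_lit 0x906030100824765f) (.leaf (nat_lit 0x906030100824666f) (nat_lit 2563))
 (.leaf (nat_lit 0x906030100824765f) (nat_lit 3075))
) (.node (nat_lit 0x906030100834763f) (.leaf (nat_lit 0x906030100834660f) (nat_lit 2050))
 (.leaf (nat_lit 0x906030100834763f) (nat_lit 2561))
))) (.node (nat_lit 0x90603010182466ff) (.node (nat_lit 0x90603010181406ff) (.node (nat_lit 0x90603010180416af) (.leaf (nat_lit 0x906030101804069f) (nat_lit 3074))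
 (.leaf (nat_lit 0x90603010180416af) (nat_lit 3073))
) (.node (nat_lit 0x90603010181416cf) (.leaf (nat_lit 0x90603010181406ff) (nat_lit 2562))
 (.leaf (nat_lit 0x90603010181416cf) (nat_lit 2051))
)) (.node (nat_lit 0x906030101834669f) (.node (nat_lit 0x90603010182476cf) (.leaf (nat_lit 0x90603010182466ff) (nat_lit 3075))
 (.leaf (nat_lit 0x90603010182476cf) (nat_lit 2562))
) (.node (nat_lit 0x90603010183476af) (.leaf (nat_lit 0x906030101834669f) (nat_lit 3075))
 (.leaf (nat_lit 0x90603010183476af) (nat_lit 3075))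
)))) (.node (nat_lit 0x906030103804863f) (.node (nat_lit 0x906030102824e6cf) (.node (nat_lit 0x90603010281486cf) (.node (nat_lit 0x906030102804969f) (.leaf (nat_lit 0x90603010280486af) (nat_lit 2563))
 (.leaf (nat_lit 0x906030102804969f) (nat_lit 3075))
) (.node (nat_lit 0x90603010281496ff) (.leaf (nat_lit 0x90603010281486cf) (nat_lit 2050))
 (.leaf (nat_lit 0x90603010281496ff) (nat_lit 3075))
)) (.node (nat_lit 0x906030102834e6af) (.node (nat_lit 0x906030102824f6ff) (.leaf (nat_lit 0x906030102824e6cf) (nat_lit 2051))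
 (.leaf (nat_lit 0x906030102824f6ff) (nat_lit 2561))
) (.node (nat_lit 0x906030102834f69f) (.leaf (nat_lit 0x906030102834e6af) (nat_lit 3074))
 (.leaf (nat_lit 0x906030102834f69f) (nat_lit 3072))
))) (.node (nat_lit 0x906030103824e65f) (.node (nat_lit 0x906030103814865f) (.node (nat_lit 0x906030103804960f) (.leaf (nat_lit 0x906030103804863f) (nat_lit 2561))
 (.leaf (nat_lit 0x906030103804960f) (nat_lit 2050))
) (.node (nat_lit 0x906030103814966f) (.leaf (nat_lit 0x906030103814865f) (nat_lit 3075))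
 (.leaf (nat_lit 0x906030103814966f) (nat_lit 2563))
)) (.node (nat_lit 0x906030103834e63f) (.node (nat_lit 0x906030103824f66f) (.leaf (nat_lit 0x906030103824e65f) (nat_lit 3074))
 (.leaf (nat_lit 0x906030103824f66f) (nat_lit 3073))
) (.node (nat_lit 0x906030103834f60f) (.leaf (nat_lit 0x906030103834e63f) (nat_lit 3075))
 (.leaf (nat_lit 0x906030103834f60f) (nat_lit 2051))
))))) (.node (nat_lit 0x906030106884066f) (.node (nat_lit 0x906030105884865f) (.node (nat_lit 0x9060301048a4e6af) (.node (nat_lit 0x90603010489486af) (.node (nat_lit 0x90603010488496ff) (.leaf (nat_lit 0x90603010488486cf) (nat_lit 1795))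
 (.leaf (nat_lit 0x90603010488496ff) (nat_lit 3331))
) (.node (nat_lit 0x906030104894969f) (.leaf (nat_lit 0x90603010489486af) (nat_lit 2818))
 (.leaf (nat_lit 0x906030104894969f) (nat_lit 2816))
)) (.node (nat_lit 0x9060301048b4e6cf) (.node (nat_lit 0x9060301048a4f69f) (.leaf (nat_lit 0x9060301048a4e6af) (nat_lit 2819))
 (.leaf (nat_lit 0x9060301048a4f69f) (nat_lit 3331))
) (.node (nat_lit 0x9060301048b4f6ff) (.leaf (nat_lit 0x9060301048b4e6cf) (nat_lit 2306))
 (.leaf (nat_lit 0x9060301048b4f6ff) (nat_lit 2305))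
))) (.node (nat_lit 0x9060301058a4e63f) (.node (nat_lit 0x906030105894863f) (.node (nat_lit 0x906030105884966f) (.leaf (nat_lit 0x906030105884865f) (nat_lit 2817))
 (.leaf (nat_lit 0x906030105884966f) (nat_lit 2818))
) (.node (nat_lit 0x906030105894960f) (.leaf (nat_lit 0x906030105894863f) (nat_lit 2818))
 (.leaf (nat_lit 0x906030105894960f) (nat_lit 1795))
)) (.node (nat_lit 0x9060301058b4e65f) (.node (nat_lit 0x9060301058a4f60f) (.leaf (nat_lit 0x9060301058a4e63f) (nat_lit 3331))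
 (.leaf (nat_lit 0x9060301058a4f60f) (nat_lit 2305))
) (.node (nat_lit 0x9060301058b4f66f) (.leaf (nat_lit 0x9060301058b4e65f) (nat_lit 2819))
 (.leaf (nat_lit 0x9060301058b4f66f) (nat_lit 2819))
)))) (.node (nat_lit 0x90603010788406ff) (.node (nat_lit 0x9060301068a4660f) (.node (nat_lit 0x906030106894060f) (.node (nat_lit 0x906030106884165f) (.leaf (nat_lit 0x906030106884066f) (nat_lit 2307))
 (.leaf (nat_lit 0x906030106884165f) (nat_lit 3331))
) (.node (nat_lit 0x906030106894163f) (.leaf (nat_lit 0x906030106894060f) (nat_lit 1794))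
 (.leaf (nat_lit 0x906030106894163f) (nat_lit 3331))
)) (.node (nat_lit 0x9060301068b4666f) (.node (nat_lit 0x9060301068a4763f) (.leaf (nat_lit 0x9060301068a4660f) (nat_lit 1795))
 (.leaf (nat_lit 0x9060301068a4763f) (nat_lit 2817))
) (.node (nat_lit 0x9060301068b4765f) (.leaf (nat_lit 0x9060301068b4666f) (nat_lit 2816))
 (.leaf (nat_lit 0x9060301068b4765f) (nat_lit 3330))
))) (.node (nat_lit 0x9060301078a4669f) (.node (nat_lit 0x906030107894069f) (.node (nat_lit 0x90603010788416cf) (.leaf (nat_lit 0x90603010788406ff) (nat_lit 2305))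
 (.leaf (nat_lit 0x90603010788416cf) (nat_lit 2306))
) (.node (nat_lit 0x90603010789416af) (.leaf (nat_lit 0x906030107894069f) (nat_lit 2819))
 (.leaf (nat_lit 0x90603010789416af) (nat_lit 2819))
)) (.node (nat_lit 0x9060301078b466ff) (.node (nat_lit 0x9060301078a476af) (.leaf (nat_lit 0x9060301078a4669f) (nat_lit 3328))
 (.leaf (nat_lit 0x9060301078a476af) (nat_lit 3329))
) (.node (nat_lit 0x9060301078b476cf) (.leaf (nat_lit 0x9060301078b466ff) (nat_lit 3331))
 (.leaf (nat_lit 0x9060301078b476cf) (nat_lit 2307))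
))))))) (.node (nat_lit 0x907030100804060b) (.node (nat_lit 0x90702010488486cd) (.node (nat_lit 0x907020102804862d) (.node (nat_lit 0x907020101804069d) (.node (nat_lit 0x907020100824662d) (.node (nat_lit 0x907020100814067d) (.node (nat_lit 0x907020100804162d) (.leaf (nat_lit 0x907020100804060d) (nat_lit 1795))
 (.leaf (nat_lit 0x907020100804162d) (nat_lit 3331))
) (.node (nat_lit 0x907020100814165d) (.leaf (nat_lit 0x907020100814067d) (nat_lit 2818))
 (.leaf (nat_lit 0x907020100814165d) (nat_lit 2816))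
)) (.node (nat_lit 0x907020100834665d) (.node (nat_lit 0x907020100824760d) (.leaf (nat_lit 0x907020100824662d) (nat_lit 2305))
 (.leaf (nat_lit 0x907020100824760d) (nat_lit 2306))
) (.node (nat_lit 0x907020100834767d) (.leaf (nat_lit 0x907020100834665d) (nat_lit 2819))
 (.leaf (nat_lit 0x907020100834767d) (nat_lit 2819))
))) (.node (nat_lit 0x90702010182466bd) (.node (nat_lit 0x90702010181406ed) (.node (nat_lit 0x90702010180416bd) (.leaf (nat_lit 0x907020101804069d) (nat_lit 2818))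
 (.leaf (nat_lit 0x90702010180416bd) (nat_lit 3329))
) (.node (nat_lit 0x90702010181416cd) (.leaf (nat_lit 0x90702010181406ed) (nat_lit 2306))
 (.leaf (nat_lit 0x90702010181416cd) (nat_lit 2307))
)) (.node (nat_lit 0x90702010183466cd) (.node (nat_lit 0x907020101824769d) (.leaf (nat_lit 0x90702010182466bd) (nat_lit 3331))
 (.leaf (nat_lit 0x907020101824769d) (nat_lit 3331))
) (.node (nat_lit 0x90702010183476ed) (.leaf (nat_lit 0x90702010183466cd) (nat_lit 2306))
 (.leaf (nat_lit 0x90702010183476ed) (nat_lit 2819))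
)))) (.node (nat_lit 0x90702010380486bd) (.node (nat_lit 0x907020102824e60d) (.node (nat_lit 0x907020102814865d) (.node (nat_lit 0x907020102804960d) (.leaf (nat_lit 0x907020102804862d) (nat_lit 2305))
 (.leaf (nat_lit 0x907020102804960d) (nat_lit 2306))
) (.node (nat_lit 0x907020102814967d) (.leaf (nat_lit 0x907020102814865d) (nat_lit 2819))
 (.leaf (nat_lit 0x907020102814967d) (nat_lit 2819))
)) (.node (nat_lit 0x907020102834e67d) (.node (nat_lit 0x907020102824f62d) (.leaf (nat_lit 0x907020102824e60d) (nat_lit 2307))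
 (.leaf (nat_lit 0x907020102824f62d) (nat_lit 3331))
) (.node (nat_lit 0x907020102834f65d) (.leaf (nat_lit 0x907020102834e67d) (nat_lit 3329))
 (.leaf (nat_lit 0x907020102834f65d) (nat_lit 3330))
))) (.node (nat_lit 0x907020103824e69d) (.node (nat_lit 0x90702010381486cd) (.node (nat_lit 0x907020103804969d) (.leaf (nat_lit 0x90702010380486bd) (nat_lit 2819))
 (.leaf (nat_lit 0x907020103804969d) (nat_lit 2819))
) (.node (nat_lit 0x90702010381496ed) (.leaf (nat_lit 0x90702010381486cd) (nat_lit 2306))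
 (.leaf (nat_lit 0x90702010381496ed) (nat_lit 2819))
)) (.node (nat_lit 0x907020103834e6ed) (.node (nat_lit 0x907020103824f6bd) (.leaf (nat_lit 0x907020103824e69d) (nat_lit 3328))
 (.leaf (nat_lit 0x907020103824f6bd) (nat_lit 3330))
) (.node (nat_lit 0x907020103834f6cd) (.leaf (nat_lit 0x907020103834e6ed) (nat_lit 2305))
 (.leaf (nat_lit 0x907020103834f6cd) (nat_lit 2307))
))))) (.node (nat_lit 0x90702010688406ed) (.node (nat_lit 0x907020105884865d) (.node (nat_lit 0x9070201048a4e6ed) (.node (nat_lit 0x90702010489486bd) (.node (nat_lit 0x90702010488496ed) (.leaf (nat_lit 0x90702010488486cd) (nat_lit 2051))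
 (.leaf (nat_lit 0x90702010488496ed) (nat_lit 3075))
) (.node (nat_lit 0x907020104894969d) (.leaf (nat_lit 0x90702010489486bd) (nat_lit 3074))
 (.leaf (nat_lit 0x907020104894969d) (nat_lit 2560))
)) (.node (nat_lit 0x9070201048b4e69d) (.node (nat_lit 0x9070201048a4f6cd) (.leaf (nat_lit 0x9070201048a4e6ed) (nat_lit 2049))
 (.leaf (nat_lit 0x9070201048a4f6cd) (nat_lit 2562))
) (.node (nat_lit 0x9070201048b4f6bd) (.leaf (nat_lit 0x9070201048b4e69d) (nat_lit 3075))
 (.leaf (nat_lit 0x9070201048b4f6bd) (nat_lit 3075))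
))) (.node (nat_lit 0x9070201058a4e67d) (.node (nat_lit 0x907020105894862d) (.node (nat_lit 0x907020105884967d) (.leaf (nat_lit 0x907020105884865d) (nat_lit 2561))
 (.leaf (nat_lit 0x907020105884967d) (nat_lit 3074))
) (.node (nat_lit 0x907020105894960d) (.leaf (nat_lit 0x907020105894862d) (nat_lit 2562))
 (.leaf (nat_lit 0x907020105894960d) (nat_lit 2051))
)) (.node (nat_lit 0x9070201058b4e60d) (.node (nat_lit 0x9070201058a4f65d) (.leaf (nat_lit 0x9070201058a4e67d) (nat_lit 3075))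
 (.leaf (nat_lit 0x9070201058a4f65d) (nat_lit 3075))
) (.node (nat_lit 0x9070201058b4f62d) (.leaf (nat_lit 0x9070201058b4e60d) (nat_lit 2049))
 (.leaf (nat_lit 0x9070201058b4f62d) (nat_lit 3075))
)))) (.node (nat_lit 0x907020107884067d) (.node (nat_lit 0x9070201068a466cd) (.node (nat_lit 0x907020106894069d) (.node (nat_lit 0x90702010688416cd) (.leaf (nat_lit 0x90702010688406ed) (nat_lit 2049))
 (.leaf (nat_lit 0x90702010688416cd) (nat_lit 2562))
) (.node (nat_lit 0x90702010689416bd) (.leaf (nat_lit 0x907020106894069d) (nat_lit 2563))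
 (.leaf (nat_lit 0x90702010689416bd) (nat_lit 3075))
)) (.node (nat_lit 0x9070201068b466bd) (.node (nat_lit 0x9070201068a476ed) (.leaf (nat_lit 0x9070201068a466cd) (nat_lit 2051))
 (.leaf (nat_lit 0x9070201068a476ed) (nat_lit 3075))
) (.node (nat_lit 0x9070201068b4769d) (.leaf (nat_lit 0x9070201068b466bd) (nat_lit 3073))
 (.leaf (nat_lit 0x9070201068b4769d) (nat_lit 3072))
))) (.node (nat_lit 0x9070201078a4665d) (.node (nat_lit 0x907020107894060d) (.node (nat_lit 0x907020107884165d) (.leaf (nat_lit 0x907020107884067d) (nat_lit 2563))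
 (.leaf (nat_lit 0x907020107884165d) (nat_lit 3075))
) (.node (nat_lit 0x907020107894162d) (.leaf (nat_lit 0x907020107894060d) (nat_lit 2050))
 (.leaf (nat_lit 0x907020107894162d) (nat_lit 3075))
)) (.node (nat_lit 0x9070201078b4662d) (.node (nat_lit 0x9070201078a4767d) (.leaf (nat_lit 0x9070201078a4665d) (nat_lit 3074))
 (.leaf (nat_lit 0x9070201078a4767d) (nat_lit 3072))
) (.node (nat_lit 0x9070201078b4760d) (.leaf (nat_lit 0x9070201078b4662d) (nat_lit 2561))
 (.leaf (nat_lit 0x9070201078b4760d) (nat_lit 2051))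
)))))) (.node (nat_lit 0x907030104884864b) (.node (nat_lit 0x90703010280486ab) (.node (nat_lit 0x907030101804069b) (.node (nat_lit 0x907030100824664b) (.node (nat_lit 0x907030100814067b) (.node (nat_lit 0x907030100804163b) (.leaf (nat_lit 0x907030100804060b) (nat_lit 1537))
 (.leaf (nat_lit 0x907030100804163b) (nat_lit 3586))
) (.node (nat_lit 0x907030100814164b) (.leaf (nat_lit 0x907030100814067b) (nat_lit 3074))
 (.leaf (nat_lit 0x907030100814164b) (nat_lit 2563))
)) (.node (nat_lit 0x907030100834663b) (.node (nat_lit 0x907030100824767b) (.leaf (nat_lit 0x907030100824664b) (nat_lit 2049))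
 (.leaf (nat_lit 0x907030100824767b) (nat_lit 2562))
) (.node (nat_lit 0x907030100834760b) (.leaf (nat_lit 0x907030100834663b) (nat_lit 3075))
 (.leaf (nat_lit 0x907030100834760b) (nat_lit 2563))
))) (.node (nat_lit 0x90703010182466db) (.node (nat_lit 0x90703010181406eb) (.node (nat_lit 0x90703010180416ab) (.leaf (nat_lit 0x907030101804069b) (nat_lit 3075))
 (.leaf (nat_lit 0x90703010180416ab) (nat_lit 3075))
) (.node (nat_lit 0x90703010181416db) (.leaf (nat_lit 0x90703010181406eb) (nat_lit 2050))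
 (.leaf (nat_lit 0x90703010181416db) (nat_lit 2560))
)) (.node (nat_lit 0x90703010183466ab) (.node (nat_lit 0x90703010182476eb) (.leaf (nat_lit 0x90703010182466db) (nat_lit 3074))
 (.leaf (nat_lit 0x90703010182476eb) (nat_lit 3075))
) (.node (nat_lit 0x907030101834769b) (.leaf (nat_lit 0x90703010183466ab) (nat_lit 2562))
 (.leaf (nat_lit 0x907030101834769b) (nat_lit 3072))
)))) (.node (nat_lit 0x907030103804863b) (.node (nat_lit 0x907030102824e6eb) (.node (nat_lit 0x90703010281486db) (.node (nat_lit 0x907030102804969b) (.leaf (nat_lit 0x90703010280486ab) (nat_lit 2049))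
 (.leaf (nat_lit 0x907030102804969b) (nat_lit 2562))
) (.node (nat_lit 0x90703010281496eb) (.leaf (nat_lit 0x90703010281486db) (nat_lit 3075))
 (.leaf (nat_lit 0x90703010281496eb) (nat_lit 2563))
)) (.node (nat_lit 0x907030102834e69b) (.node (nat_lit 0x907030102824f6db) (.leaf (nat_lit 0x907030102824e6eb) (nat_lit 2049))
 (.leaf (nat_lit 0x907030102824f6db) (nat_lit 3075))
) (.node (nat_lit 0x907030102834f6ab) (.leaf (nat_lit 0x907030102834e69b) (nat_lit 3075))
 (.leaf (nat_lit 0x907030102834f6ab) (nat_lit 3075))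
))) (.node (nat_lit 0x907030103824e67b) (.node (nat_lit 0x907030103814864b) (.node (nat_lit 0x907030103804960b) (.leaf (nat_lit 0x907030103804863b) (nat_lit 3075))
 (.leaf (nat_lit 0x907030103804960b) (nat_lit 2563))
) (.node (nat_lit 0x907030103814967b) (.leaf (nat_lit 0x907030103814864b) (nat_lit 2050))
 (.leaf (nat_lit 0x907030103814967b) (nat_lit 3075))
)) (.node (nat_lit 0x907030103834e60b) (.node (nat_lit 0x907030103824f64b) (.leaf (nat_lit 0x907030103824e67b) (nat_lit 3075))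
 (.leaf (nat_lit 0x907030103824f64b) (nat_lit 3075))
) (.node (nat_lit 0x907030103834f63b) (.leaf (nat_lit 0x907030103834e60b) (nat_lit 2050))
 (.leaf (nat_lit 0x907030103834f63b) (nat_lit 2560))
))))) (.node (nat_lit 0x90703010688406eb) (.node (nat_lit 0x90703010588486db) (.node (nat_lit 0x9070301048a4e60b) (.node (nat_lit 0x907030104894863b) (.node (nat_lit 0x907030104884967b) (.leaf (nat_lit 0x907030104884864b) (nat_lit 1793))
 (.leaf (nat_lit 0x907030104884967b) (nat_lit 3330))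
) (.node (nat_lit 0x907030104894960b) (.leaf (nat_lit 0x907030104894863b) (nat_lit 3330))
 (.leaf (nat_lit 0x907030104894960b) (nat_lit 2307))
)) (.node (nat_lit 0x9070301048b4e67b) (.node (nat_lit 0x9070301048a4f63b) (.leaf (nat_lit 0x9070301048a4e60b) (nat_lit 1793))
 (.leaf (nat_lit 0x9070301048a4f63b) (nat_lit 2818))
) (.node (nat_lit 0x9070301048b4f64b) (.leaf (nat_lit 0x9070301048b4e67b) (nat_lit 3331))
 (.leaf (nat_lit 0x9070301048b4f64b) (nat_lit 2819))
))) (.node (nat_lit 0x9070301058a4e69b) (.node (nat_lit 0x90703010589486ab) (.node (nat_lit 0x90703010588496eb) (.leaf (nat_lit 0x90703010588486db) (nat_lit 2819))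
 (.leaf (nat_lit 0x90703010588496eb) (nat_lit 2819))
) (.node (nat_lit 0x907030105894969b) (.leaf (nat_lit 0x90703010589486ab) (nat_lit 2306))
 (.leaf (nat_lit 0x907030105894969b) (nat_lit 2304))
)) (.node (nat_lit 0x9070301058b4e6eb) (.node (nat_lit 0x9070301058a4f6ab) (.leaf (nat_lit 0x9070301058a4e69b) (nat_lit 3329))
 (.leaf (nat_lit 0x9070301058a4f6ab) (nat_lit 3331))
) (.node (nat_lit 0x9070301058b4f6db) (.leaf (nat_lit 0x9070301058b4e6eb) (nat_lit 2305))
 (.leaf (nat_lit 0x9070301058b4f6db) (nat_lit 3330))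
)))) (.node (nat_lit 0x907030107884067b) (.node (nat_lit 0x9070301068a466ab) (.node (nat_lit 0x907030106894069b) (.node (nat_lit 0x90703010688416db) (.leaf (nat_lit 0x90703010688406eb) (nat_lit 1793))
 (.leaf (nat_lit 0x90703010688416db) (nat_lit 2818))
) (.node (nat_lit 0x90703010689416ab) (.leaf (nat_lit 0x907030106894069b) (nat_lit 2819))
 (.leaf (nat_lit 0x90703010689416ab) (nat_lit 2819))
)) (.node (nat_lit 0x9070301068b466db) (.node (nat_lit 0x9070301068a4769b) (.leaf (nat_lit 0x9070301068a466ab) (nat_lit 2304))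
 (.leaf (nat_lit 0x9070301068a4769b) (nat_lit 3331))
) (.node (nat_lit 0x9070301068b476eb) (.leaf (nat_lit 0x9070301068b466db) (nat_lit 2819))
 (.leaf (nat_lit 0x9070301068b476eb) (nat_lit 2819))
))) (.node (nat_lit 0x9070301078a4663b) (.node (nat_lit 0x907030107894060b) (.node (nat_lit 0x907030107884164b) (.leaf (nat_lit 0x907030107884067b) (nat_lit 2819))
 (.leaf (nat_lit 0x907030107884164b) (nat_lit 2819))
) (.node (nat_lit 0x907030107894163b) (.leaf (nat_lit 0x907030107894060b) (nat_lit 1794))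
 (.leaf (nat_lit 0x907030107894163b) (nat_lit 3331))
)) (.node (nat_lit 0x9070301078b4664b) (.node (nat_lit 0x9070301078a4760b) (.leaf (nat_lit 0x9070301078a4663b) (nat_lit 3331))
 (.leaf (nat_lit 0x9070301078a4760b) (nat_lit 2819))
) (.node (nat_lit 0x9070301078b4767b) (.leaf (nat_lit 0x9070301078b4664b) (nat_lit 2306))
 (.leaf (nat_lit 0x9070301078b4767b) (nat_lit 2304))
)))))))))) (.node (nat_lit 0xb040201008040a09) (.node (nat_lit 0xa060201008040e01) (.node (nat_lit 0xa050201008040a05) (.node (nat_lit 0xa040301008040a0b) (.node (nat_lit 0xa040201048844a01) (.node (nat_lit 0xa04020102804aa01) (.node (nat_lit 0xa040201018040aa1) (.node (nat_lit 0xa040201008244a01) (.node (nat_lit 0xa040201008140a41) (.node (nat_lit 0xa040201008041a21) (.leaf (nat_lit 0xa040201008040a01) (nat_lit 1027))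
 (.leaf (nat_lit 0xa040201008041a21) (nat_lit 3587))
) (.node (nat_lit 0xa040201008141a61) (.leaf (nat_lit 0xa040201008140a41) (nat_lit 3586))
 (.leaf (nat_lit 0xa040201008141a61) (nat_lit 3584))
)) (.node (nat_lit 0xa040201008344a41) (.node (nat_lit 0xa040201008245a21) (.leaf (nat_lit 0xa040201008244a01) (nat_lit 1538))
 (.leaf (nat_lit 0xa040201008245a21) (nat_lit 3072))
) (.node (nat_lit 0xa040201008345a61) (.leaf (nat_lit 0xa040201008344a41) (nat_lit 3075))
 (.leaf (nat_lit 0xa040201008345a61) (nat_lit 3075))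
))) (.node (nat_lit 0xa040201018244aa1) (.node (nat_lit 0xa040201018140ae1) (.node (nat_lit 0xa040201018041a81) (.leaf (nat_lit 0xa040201018040aa1) (nat_lit 2562))
 (.leaf (nat_lit 0xa040201018041a81) (nat_lit 2561))
) (.node (nat_lit 0xa040201018141ac1) (.leaf (nat_lit 0xa040201018140ae1) (nat_lit 2562))
 (.leaf (nat_lit 0xa040201018141ac1) (nat_lit 2563))
)) (.node (nat_lit 0xa040201018344ae1) (.node (nat_lit 0xa040201018245a81) (.leaf (nat_lit 0xa040201018244aa1) (nat_lit 2563))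
 (.leaf (nat_lit 0xa040201018245a81) (nat_lit 2563))
) (.node (nat_lit 0xa040201018345ac1) (.leaf (nat_lit 0xa040201018344ae1) (nat_lit 2561))
 (.leaf (nat_lit 0xa040201018345ac1) (nat_lit 2562))
)))) (.node (nat_lit 0xa04020103804aaa1) (.node (nat_lit 0xa04020102824ea01) (.node (nat_lit 0xa04020102814aa41) (.node (nat_lit 0xa04020102804ba21) (.leaf (nat_lit 0xa04020102804aa01) (nat_lit 1538))
 (.leaf (nat_lit 0xa04020102804ba21) (nat_lit 3585))
) (.node (nat_lit 0xa04020102814ba61) (.leaf (nat_lit 0xa04020102814aa41) (nat_lit 3587))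
 (.leaf (nat_lit 0xa04020102814ba61) (nat_lit 3587))
)) (.node (nat_lit 0xa04020102834ea41) (.node (nat_lit 0xa04020102824fa21) (.leaf (nat_lit 0xa04020102824ea01) (nat_lit 1539))
 (.leaf (nat_lit 0xa04020102824fa21) (nat_lit 3075))
) (.node (nat_lit 0xa04020102834fa61) (.leaf (nat_lit 0xa04020102834ea41) (nat_lit 3585))
 (.leaf (nat_lit 0xa04020102834fa61) (nat_lit 3586))
))) (.node (nat_lit 0xa04020103824eaa1) (.node (nat_lit 0xa04020103814aae1) (.node (nat_lit 0xa04020103804ba81) (.leaf (nat_lit 0xa04020103804aaa1) (nat_lit 2563))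
 (.leaf (nat_lit 0xa04020103804ba81) (nat_lit 2563))
) (.node (nat_lit 0xa04020103814bac1) (.leaf (nat_lit 0xa04020103814aae1) (nat_lit 2561))
 (.leaf (nat_lit 0xa04020103814bac1) (nat_lit 2562))
)) (.node (nat_lit 0xa04020103834eae1) (.node (nat_lit 0xa04020103824fa81) (.leaf (nat_lit 0xa04020103824eaa1) (nat_lit 2560))
 (.leaf (nat_lit 0xa04020103824fa81) (nat_lit 2562))
) (.node (nat_lit 0xa04020103834fac1) (.leaf (nat_lit 0xa04020103834eae1) (nat_lit 2561))
 (.leaf (nat_lit 0xa04020103834fac1) (nat_lit 2563))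
))))) (.node (nat_lit 0xa04020106884ea01) (.node (nat_lit 0xa040201058844aa1) (.node (nat_lit 0xa040201048a40a01) (.node (nat_lit 0xa040201048944a41) (.node (nat_lit 0xa040201048845a21) (.leaf (nat_lit 0xa040201048844a01) (nat_lit 1283))
 (.leaf (nat_lit 0xa040201048845a21) (nat_lit 3331))
) (.node (nat_lit 0xa040201048945a61) (.leaf (nat_lit 0xa040201048944a41) (nat_lit 3328))
 (.leaf (nat_lit 0xa040201048945a61) (nat_lit 3330))
)) (.node (nat_lit 0xa040201048b40a41) (.node (nat_lit 0xa040201048a41a21) (.leaf (nat_lit 0xa040201048a40a01) (nat_lit 1282))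
 (.leaf (nat_lit 0xa040201048a41a21) (nat_lit 3328))
) (.node (nat_lit 0xa040201048b41a61) (.leaf (nat_lit 0xa040201048b40a41) (nat_lit 3331))
 (.leaf (nat_lit 0xa040201048b41a61) (nat_lit 3331))
))) (.node (nat_lit 0xa040201058a40aa1) (.node (nat_lit 0xa040201058944ae1) (.node (nat_lit 0xa040201058845a81) (.leaf (nat_lit 0xa040201058844aa1) (nat_lit 2818))
 (.leaf (nat_lit 0xa040201058845a81) (nat_lit 2305))
) (.node (nat_lit 0xa040201058945ac1) (.leaf (nat_lit 0xa040201058944ae1) (nat_lit 2818))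
 (.leaf (nat_lit 0xa040201058945ac1) (nat_lit 2307))
)) (.node (nat_lit 0xa040201058b40ae1) (.node (nat_lit 0xa040201058a41a81) (.leaf (nat_lit 0xa040201058a40aa1) (nat_lit 2307))
 (.leaf (nat_lit 0xa040201058a41a81) (nat_lit 2819))
) (.node (nat_lit 0xa040201058b41ac1) (.leaf (nat_lit 0xa040201058b40ae1) (nat_lit 2305))
 (.leaf (nat_lit 0xa040201058b41ac1) (nat_lit 2818))
)))) (.node (nat_lit 0xa04020107884eaa1) (.node (nat_lit 0xa040201068a4aa01) (.node (nat_lit 0xa04020106894ea41) (.node (nat_lit 0xa04020106884fa21) (.leaf (nat_lit 0xa04020106884ea01) (nat_lit 1281))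
 (.leaf (nat_lit 0xa04020106884fa21) (nat_lit 3330))
) (.node (nat_lit 0xa04020106894fa61) (.leaf (nat_lit 0xa04020106894ea41) (nat_lit 3331))
 (.leaf (nat_lit 0xa04020106894fa61) (nat_lit 3331))
)) (.node (nat_lit 0xa040201068b4aa41) (.node (nat_lit 0xa040201068a4ba21) (.leaf (nat_lit 0xa040201068a4aa01) (nat_lit 1283))
 (.leaf (nat_lit 0xa040201068a4ba21) (nat_lit 3331))
) (.node (nat_lit 0xa040201068b4ba61) (.leaf (nat_lit 0xa040201068b4aa41) (nat_lit 3328))
 (.leaf (nat_lit 0xa040201068b4ba61) (nat_lit 3329))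
))) (.node (nat_lit 0xa040201078a4aaa1) (.node (nat_lit 0xa04020107894eae1) (.node (nat_lit 0xa04020107884fa81) (.leaf (nat_lit 0xa04020107884eaa1) (nat_lit 2819))
 (.leaf (nat_lit 0xa04020107884fa81) (nat_lit 2307))
) (.node (nat_lit 0xa04020107894fac1) (.leaf (nat_lit 0xa04020107894eae1) (nat_lit 2305))
 (.leaf (nat_lit 0xa04020107894fac1) (nat_lit 2818))
)) (.node (nat_lit 0xa040201078b4aae1) (.node (nat_lit 0xa040201078a4ba81) (.leaf (nat_lit 0xa040201078a4aaa1) (nat_lit 2304))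
 (.leaf (nat_lit 0xa040201078a4ba81) (nat_lit 2818))
) (.node (nat_lit 0xa040201078b4bac1) (.leaf (nat_lit 0xa040201078b4aae1) (nat_lit 2817))
 (.leaf (nat_lit 0xa040201078b4bac1) (nat_lit 2307))
)))))) (.node (nat_lit 0xa040301048844a4b) (.node (nat_lit 0xa04030102804aaab) (.node (nat_lit 0xa040301018040aab) (.node (nat_lit 0xa040301008244a4b) (.node (nat_lit 0xa040301008140a4b) (.node (nat_lit 0xa040301008041a3b) (.leaf (nat_lit 0xa040301008040a0b) (nat_lit 1280))
 (.leaf (nat_lit 0xa040301008041a3b) (nat_lit 3330))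
) (.node (nat_lit 0xa040301008141a7b) (.leaf (nat_lit 0xa040301008140a4b) (nat_lit 3331))
 (.leaf (nat_lit 0xa040301008141a7b) (nat_lit 3331))
)) (.node (nat_lit 0xa040301008344a0b) (.node (nat_lit 0xa040301008245a7b) (.leaf (nat_lit 0xa040301008244a4b) (nat_lit 1794))
 (.leaf (nat_lit 0xa040301008245a7b) (nat_lit 2819))
) (.node (nat_lit 0xa040301008345a3b) (.leaf (nat_lit 0xa040301008344a0b) (nat_lit 2819))
 (.leaf (nat_lit 0xa040301008345a3b) (nat_lit 3331))
))) (.node (nat_lit 0xa040301018244aeb) (.node (nat_lit 0xa040301018140aeb) (.node (nat_lit 0xa040301018041a9b) (.leaf (nat_lit 0xa040301018040aab) (nat_lit 2307))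
 (.leaf (nat_lit 0xa040301018041a9b) (nat_lit 2819))
) (.node (nat_lit 0xa040301018141adb) (.leaf (nat_lit 0xa040301018140aeb) (nat_lit 2305))
 (.leaf (nat_lit 0xa040301018141adb) (nat_lit 2816))
)) (.node (nat_lit 0xa040301018344aab) (.node (nat_lit 0xa040301018245adb) (.leaf (nat_lit 0xa040301018244aeb) (nat_lit 2307))
 (.leaf (nat_lit 0xa040301018245adb) (nat_lit 2818))
) (.node (nat_lit 0xa040301018345a9b) (.leaf (nat_lit 0xa040301018344aab) (nat_lit 2817))
 (.leaf (nat_lit 0xa040301018345a9b) (nat_lit 2818))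
)))) (.node (nat_lit 0xa04030103804aa0b) (.node (nat_lit 0xa04030102824eaeb) (.node (nat_lit 0xa04030102814aaeb) (.node (nat_lit 0xa04030102804ba9b) (.leaf (nat_lit 0xa04030102804aaab) (nat_lit 1794))
 (.leaf (nat_lit 0xa04030102804ba9b) (nat_lit 3329))
) (.node (nat_lit 0xa04030102814badb) (.leaf (nat_lit 0xa04030102814aaeb) (nat_lit 3331))
 (.leaf (nat_lit 0xa04030102814badb) (nat_lit 3330))
)) (.node (nat_lit 0xa04030102834eaab) (.node (nat_lit 0xa04030102824fadb) (.leaf (nat_lit 0xa04030102824eaeb) (nat_lit 1792))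
 (.leaf (nat_lit 0xa04030102824fadb) (nat_lit 2819))
) (.node (nat_lit 0xa04030102834fa9b) (.leaf (nat_lit 0xa04030102834eaab) (nat_lit 3331))
 (.leaf (nat_lit 0xa04030102834fa9b) (nat_lit 3331))
))) (.node (nat_lit 0xa04030103824ea4b) (.node (nat_lit 0xa04030103814aa4b) (.node (nat_lit 0xa04030103804ba3b) (.leaf (nat_lit 0xa04030103804aa0b) (nat_lit 2307))
 (.leaf (nat_lit 0xa04030103804ba3b) (nat_lit 2819))
) (.node (nat_lit 0xa04030103814ba7b) (.leaf (nat_lit 0xa04030103814aa4b) (nat_lit 2305))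
 (.leaf (nat_lit 0xa04030103814ba7b) (nat_lit 2818))
)) (.node (nat_lit 0xa04030103834ea0b) (.node (nat_lit 0xa04030103824fa7b) (.leaf (nat_lit 0xa04030103824ea4b) (nat_lit 2307))
 (.leaf (nat_lit 0xa04030103824fa7b) (nat_lit 2818))
) (.node (nat_lit 0xa04030103834fa3b) (.leaf (nat_lit 0xa04030103834ea0b) (nat_lit 2305))
 (.leaf (nat_lit 0xa04030103834fa3b) (nat_lit 2816))
))))) (.node (nat_lit 0xa04030106884eaeb) (.node (nat_lit 0xa040301058844aeb) (.node (nat_lit 0xa040301048a40a0b) (.node (nat_lit 0xa040301048944a0b) (.node (nat_lit 0xa040301048845a7b) (.leaf (nat_lit 0xa040301048844a4b) (nat_lit 1536))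
 (.leaf (nat_lit 0xa040301048845a7b) (nat_lit 3074))
) (.node (nat_lit 0xa040301048945a3b) (.leaf (nat_lit 0xa040301048944a0b) (nat_lit 3075))
 (.leaf (nat_lit 0xa040301048945a3b) (nat_lit 3587))
)) (.node (nat_lit 0xa040301048b40a4b) (.node (nat_lit 0xa040301048a41a3b) (.leaf (nat_lit 0xa040301048a40a0b) (nat_lit 1538))
 (.leaf (nat_lit 0xa040301048a41a3b) (nat_lit 3075))
) (.node (nat_lit 0xa040301048b41a7b) (.leaf (nat_lit 0xa040301048b40a4b) (nat_lit 3075))
 (.leaf (nat_lit 0xa040301048b41a7b) (nat_lit 3587))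
))) (.node (nat_lit 0xa040301058a40aab) (.node (nat_lit 0xa040301058944aab) (.node (nat_lit 0xa040301058845adb) (.leaf (nat_lit 0xa040301058844aeb) (nat_lit 2563))
 (.leaf (nat_lit 0xa040301058845adb) (nat_lit 2563))
) (.node (nat_lit 0xa040301058945a9b) (.leaf (nat_lit 0xa040301058944aab) (nat_lit 2561))
 (.leaf (nat_lit 0xa040301058945a9b) (nat_lit 2560))
)) (.node (nat_lit 0xa040301058b40aeb) (.node (nat_lit 0xa040301058a41a9b) (.leaf (nat_lit 0xa040301058a40aab) (nat_lit 2563))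
 (.leaf (nat_lit 0xa040301058a41a9b) (nat_lit 3074))
) (.node (nat_lit 0xa040301058b41adb) (.leaf (nat_lit 0xa040301058b40aeb) (nat_lit 2561))
 (.leaf (nat_lit 0xa040301058b41adb) (nat_lit 3074))
)))) (.node (nat_lit 0xa04030107884ea4b) (.node (nat_lit 0xa040301068a4aaab) (.node (nat_lit 0xa04030106894eaab) (.node (nat_lit 0xa04030106884fadb) (.leaf (nat_lit 0xa04030106884eaeb) (nat_lit 1537))
 (.leaf (nat_lit 0xa04030106884fadb) (nat_lit 3074))
) (.node (nat_lit 0xa04030106894fa9b) (.leaf (nat_lit 0xa04030106894eaab) (nat_lit 3587))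
 (.leaf (nat_lit 0xa04030106894fa9b) (nat_lit 3587))
)) (.node (nat_lit 0xa040301068b4aaeb) (.node (nat_lit 0xa040301068a4ba9b) (.leaf (nat_lit 0xa040301068a4aaab) (nat_lit 1536))
 (.leaf (nat_lit 0xa040301068a4ba9b) (nat_lit 3075))
) (.node (nat_lit 0xa040301068b4badb) (.leaf (nat_lit 0xa040301068b4aaeb) (nat_lit 3075))
 (.leaf (nat_lit 0xa040301068b4badb) (nat_lit 3075))
))) (.node (nat_lit 0xa040301078a4aa0b) (.node (nat_lit 0xa04030107894ea0b) (.node (nat_lit 0xa04030107884fa7b) (.leaf (nat_lit 0xa04030107884ea4b) (nat_lit 2563))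
 (.leaf (nat_lit 0xa04030107884fa7b) (nat_lit 2563))
) (.node (nat_lit 0xa04030107894fa3b) (.leaf (nat_lit 0xa04030107894ea0b) (nat_lit 2049))
 (.leaf (nat_lit 0xa04030107894fa3b) (nat_lit 3074))
)) (.node (nat_lit 0xa040301078b4aa4b) (.node (nat_lit 0xa040301078a4ba3b) (.leaf (nat_lit 0xa040301078a4aa0b) (nat_lit 2051))
 (.leaf (nat_lit 0xa040301078a4ba3b) (nat_lit 3074))
) (.node (nat_lit 0xa040301078b4ba7b) (.leaf (nat_lit 0xa040301078b4aa4b) (nat_lit 2561))
 (.leaf (nat_lit 0xa040301078b4ba7b) (nat_lit 2560))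
))))))) (.node (nat_lit 0xa050301008040a0f) (.node (nat_lit 0xa050201048844a85) (.node (nat_lit 0xa05020102804aa05) (.node (nat_lit 0xa050201018040aa5) (.node (nat_lit 0xa050201008244a25) (.node (nat_lit 0xa050201008140a55) (.node (nat_lit 0xa050201008041a25) (.leaf (nat_lit 0xa050201008040a05) (nat_lit 1537))
 (.leaf (nat_lit 0xa050201008041a25) (nat_lit 3584))
) (.node (nat_lit 0xa050201008141a75) (.leaf (nat_lit 0xa050201008140a55) (nat_lit 3587))
 (.leaf (nat_lit 0xa050201008141a75) (nat_lit 3587))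
)) (.node (nat_lit 0xa050201008344a75) (.node (nat_lit 0xa050201008245a05) (.leaf (nat_lit 0xa050201008244a25) (nat_lit 2563))
 (.leaf (nat_lit 0xa050201008245a05) (nat_lit 2563))
) (.node (nat_lit 0xa050201008345a55) (.leaf (nat_lit 0xa050201008344a75) (nat_lit 2561))
 (.leaf (nat_lit 0xa050201008345a55) (nat_lit 2562))
))) (.node (nat_lit 0xa050201018244a85) (.node (nat_lit 0xa050201018140af5) (.node (nat_lit 0xa050201018041a85) (.leaf (nat_lit 0xa050201018040aa5) (nat_lit 2563))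
 (.leaf (nat_lit 0xa050201018041a85) (nat_lit 2563))
) (.node (nat_lit 0xa050201018141ad5) (.leaf (nat_lit 0xa050201018140af5) (nat_lit 2562))
 (.leaf (nat_lit 0xa050201018141ad5) (nat_lit 2560))
)) (.node (nat_lit 0xa050201018344ad5) (.node (nat_lit 0xa050201018245aa5) (.leaf (nat_lit 0xa050201018244a85) (nat_lit 2050))
 (.leaf (nat_lit 0xa050201018245aa5) (nat_lit 3072))
) (.node (nat_lit 0xa050201018345af5) (.leaf (nat_lit 0xa050201018344ad5) (nat_lit 3587))
 (.leaf (nat_lit 0xa050201018345af5) (nat_lit 3587))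
)))) (.node (nat_lit 0xa05020103804aaa5) (.node (nat_lit 0xa05020102824ea25) (.node (nat_lit 0xa05020102814aa55) (.node (nat_lit 0xa05020102804ba25) (.leaf (nat_lit 0xa05020102804aa05) (nat_lit 2563))
 (.leaf (nat_lit 0xa05020102804ba25) (nat_lit 4099))
) (.node (nat_lit 0xa05020102814ba75) (.leaf (nat_lit 0xa05020102814aa55) (nat_lit 3584))
 (.leaf (nat_lit 0xa05020102814ba75) (nat_lit 3074))
)) (.node (nat_lit 0xa05020102834ea75) (.node (nat_lit 0xa05020102824fa05) (.leaf (nat_lit 0xa05020102824ea25) (nat_lit 2048))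
 (.leaf (nat_lit 0xa05020102824fa05) (nat_lit 2050))
) (.node (nat_lit 0xa05020102834fa55) (.leaf (nat_lit 0xa05020102834ea75) (nat_lit 3074))
 (.leaf (nat_lit 0xa05020102834fa55) (nat_lit 3075))
))) (.node (nat_lit 0xa05020103824ea85) (.node (nat_lit 0xa05020103814aaf5) (.node (nat_lit 0xa05020103804ba85) (.leaf (nat_lit 0xa05020103804aaa5) (nat_lit 2050))
 (.leaf (nat_lit 0xa05020103804ba85) (nat_lit 2049))
) (.node (nat_lit 0xa05020103814bad5) (.leaf (nat_lit 0xa05020103814aaf5) (nat_lit 3075))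
 (.leaf (nat_lit 0xa05020103814bad5) (nat_lit 3074))
)) (.node (nat_lit 0xa05020103834ead5) (.node (nat_lit 0xa05020103824faa5) (.leaf (nat_lit 0xa05020103824ea85) (nat_lit 2563))
 (.leaf (nat_lit 0xa05020103824faa5) (nat_lit 3587))
) (.node (nat_lit 0xa05020103834faf5) (.leaf (nat_lit 0xa05020103834ead5) (nat_lit 3075))
 (.leaf (nat_lit 0xa05020103834faf5) (nat_lit 2561))
))))) (.node (nat_lit 0xa05020106884ea85) (.node (nat_lit 0xa050201058844a25) (.node (nat_lit 0xa050201048a40aa5) (.node (nat_lit 0xa050201048944ad5) (.node (nat_lit 0xa050201048845aa5) (.leaf (nat_lit 0xa050201048844a85) (nat_lit 1793))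
 (.leaf (nat_lit 0xa050201048845aa5) (nat_lit 3328))
) (.node (nat_lit 0xa050201048945af5) (.leaf (nat_lit 0xa050201048944ad5) (nat_lit 3331))
 (.leaf (nat_lit 0xa050201048945af5) (nat_lit 3331))
)) (.node (nat_lit 0xa050201048b40af5) (.node (nat_lit 0xa050201048a41a85) (.leaf (nat_lit 0xa050201048a40aa5) (nat_lit 2307))
 (.leaf (nat_lit 0xa050201048a41a85) (nat_lit 2819))
) (.node (nat_lit 0xa050201048b41ad5) (.leaf (nat_lit 0xa050201048b40af5) (nat_lit 2305))
 (.leaf (nat_lit 0xa050201048b41ad5) (nat_lit 2818))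
))) (.node (nat_lit 0xa050201058a40a05) (.node (nat_lit 0xa050201058944a75) (.node (nat_lit 0xa050201058845a05) (.leaf (nat_lit 0xa050201058844a25) (nat_lit 2819))
 (.leaf (nat_lit 0xa050201058845a05) (nat_lit 2307))
) (.node (nat_lit 0xa050201058945a55) (.leaf (nat_lit 0xa050201058944a75) (nat_lit 2818))
 (.leaf (nat_lit 0xa050201058945a55) (nat_lit 2304))
)) (.node (nat_lit 0xa050201058b40a55) (.node (nat_lit 0xa050201058a41a25) (.leaf (nat_lit 0xa050201058a40a05) (nat_lit 1794))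
 (.leaf (nat_lit 0xa050201058a41a25) (nat_lit 3328))
) (.node (nat_lit 0xa050201058b41a75) (.leaf (nat_lit 0xa050201058b40a55) (nat_lit 3331))
 (.leaf (nat_lit 0xa050201058b41a75) (nat_lit 3329))
)))) (.node (nat_lit 0xa05020107884ea25) (.node (nat_lit 0xa050201068a4aaa5) (.node (nat_lit 0xa05020106894ead5) (.node (nat_lit 0xa05020106884faa5) (.leaf (nat_lit 0xa05020106884ea85) (nat_lit 2307))
 (.leaf (nat_lit 0xa05020106884faa5) (nat_lit 3843))
) (.node (nat_lit 0xa05020106894faf5) (.leaf (nat_lit 0xa05020106894ead5) (nat_lit 3330))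
 (.leaf (nat_lit 0xa05020106894faf5) (nat_lit 2817))
)) (.node (nat_lit 0xa050201068b4aaf5) (.node (nat_lit 0xa050201068a4ba85) (.leaf (nat_lit 0xa050201068a4aaa5) (nat_lit 1792))
 (.leaf (nat_lit 0xa050201068a4ba85) (nat_lit 2306))
) (.node (nat_lit 0xa050201068b4bad5) (.leaf (nat_lit 0xa050201068b4aaf5) (nat_lit 3331))
 (.leaf (nat_lit 0xa050201068b4bad5) (nat_lit 2819))
))) (.node (nat_lit 0xa050201078a4aa05) (.node (nat_lit 0xa05020107894ea75) (.node (nat_lit 0xa05020107884fa05) (.leaf (nat_lit 0xa05020107884ea25) (nat_lit 2306))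
 (.leaf (nat_lit 0xa05020107884fa05) (nat_lit 1793))
) (.node (nat_lit 0xa05020107894fa55) (.leaf (nat_lit 0xa05020107894ea75) (nat_lit 2819))
 (.leaf (nat_lit 0xa05020107894fa55) (nat_lit 3331))
)) (.node (nat_lit 0xa050201078b4aa55) (.node (nat_lit 0xa050201078a4ba25) (.leaf (nat_lit 0xa050201078a4aa05) (nat_lit 2307))
 (.leaf (nat_lit 0xa050201078a4ba25) (nat_lit 3843))
) (.node (nat_lit 0xa050201078b4ba75) (.leaf (nat_lit 0xa050201078b4aa55) (nat_lit 3331))
 (.leaf (nat_lit 0xa050201078b4ba75) (nat_lit 2816))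
)))))) (.node (nat_lit 0xa050301048844acf) (.node (nat_lit 0xa05030102804aaaf) (.node (nat_lit 0xa050301018040aaf) (.node (nat_lit 0xa050301008244a6f) (.node (nat_lit 0xa050301008140a5f) (.node (nat_lit 0xa050301008041a3f) (.leaf (nat_lit 0xa050301008040a0f) (nat_lit 1283))
 (.leaf (nat_lit 0xa050301008041a3f) (nat_lit 3331))
) (.node (nat_lit 0xa050301008141a6f) (.leaf (nat_lit 0xa050301008140a5f) (nat_lit 3330))
 (.leaf (nat_lit 0xa050301008141a6f) (nat_lit 3329))
)) (.node (nat_lit 0xa050301008344a3f) (.node (nat_lit 0xa050301008245a5f) (.leaf (nat_lit 0xa050301008244a6f) (nat_lit 2307))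
 (.leaf (nat_lit 0xa050301008245a5f) (nat_lit 2816))
) (.node (nat_lit 0xa050301008345a0f) (.leaf (nat_lit 0xa050301008344a3f) (nat_lit 2817))
 (.leaf (nat_lit 0xa050301008345a0f) (nat_lit 2306))
))) (.node (nat_lit 0xa050301018244acf) (.node (nat_lit 0xa050301018140aff) (.node (nat_lit 0xa050301018041a9f) (.leaf (nat_lit 0xa050301018040aaf) (nat_lit 2306))
 (.leaf (nat_lit 0xa050301018041a9f) (nat_lit 2816))
) (.node (nat_lit 0xa050301018141acf) (.leaf (nat_lit 0xa050301018140aff) (nat_lit 2817))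
 (.leaf (nat_lit 0xa050301018141acf) (nat_lit 2307))
)) (.node (nat_lit 0xa050301018344a9f) (.node (nat_lit 0xa050301018245aff) (.leaf (nat_lit 0xa050301018244acf) (nat_lit 1794))
 (.leaf (nat_lit 0xa050301018245aff) (nat_lit 2819))
) (.node (nat_lit 0xa050301018345aaf) (.leaf (nat_lit 0xa050301018344a9f) (nat_lit 3331))
 (.leaf (nat_lit 0xa050301018345aaf) (nat_lit 3331))
)))) (.node (nat_lit 0xa05030103804aa0f) (.node (nat_lit 0xa05030102824eacf) (.node (nat_lit 0xa05030102814aaff) (.node (nat_lit 0xa05030102804ba9f) (.leaf (nat_lit 0xa05030102804aaaf) (nat_lit 2307))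
 (.leaf (nat_lit 0xa05030102804ba9f) (nat_lit 3843))
) (.node (nat_lit 0xa05030102814bacf) (.leaf (nat_lit 0xa05030102814aaff) (nat_lit 3331))
 (.leaf (nat_lit 0xa05030102814bacf) (nat_lit 2818))
)) (.node (nat_lit 0xa05030102834ea9f) (.node (nat_lit 0xa05030102824faff) (.leaf (nat_lit 0xa05030102824eacf) (nat_lit 1795))
 (.leaf (nat_lit 0xa05030102824faff) (nat_lit 2306))
) (.node (nat_lit 0xa05030102834faaf) (.leaf (nat_lit 0xa05030102834ea9f) (nat_lit 3330))
 (.leaf (nat_lit 0xa05030102834faaf) (nat_lit 3328))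
))) (.node (nat_lit 0xa05030103824ea6f) (.node (nat_lit 0xa05030103814aa5f) (.node (nat_lit 0xa05030103804ba3f) (.leaf (nat_lit 0xa05030103804aa0f) (nat_lit 1794))
 (.leaf (nat_lit 0xa05030103804ba3f) (nat_lit 2305))
) (.node (nat_lit 0xa05030103814ba6f) (.leaf (nat_lit 0xa05030103814aa5f) (nat_lit 3329))
 (.leaf (nat_lit 0xa05030103814ba6f) (nat_lit 2819))
)) (.node (nat_lit 0xa05030103834ea3f) (.node (nat_lit 0xa05030103824fa5f) (.leaf (nat_lit 0xa05030103824ea6f) (nat_lit 2306))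
 (.leaf (nat_lit 0xa05030103824fa5f) (nat_lit 3331))
) (.node (nat_lit 0xa05030103834fa0f) (.leaf (nat_lit 0xa05030103834ea3f) (nat_lit 3331))
 (.leaf (nat_lit 0xa05030103834fa0f) (nat_lit 2307))
))))) (.node (nat_lit 0xa05030106884ea6f) (.node (nat_lit 0xa050301058844a6f) (.node (nat_lit 0xa050301048a40aaf) (.node (nat_lit 0xa050301048944a9f) (.node (nat_lit 0xa050301048845aff) (.leaf (nat_lit 0xa050301048844acf) (nat_lit 1539))
 (.leaf (nat_lit 0xa050301048845aff) (nat_lit 3075))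
) (.node (nat_lit 0xa050301048945aaf) (.leaf (nat_lit 0xa050301048944a9f) (nat_lit 3584))
 (.leaf (nat_lit 0xa050301048945aaf) (nat_lit 3585))
)) (.node (nat_lit 0xa050301048b40aff) (.node (nat_lit 0xa050301048a41a9f) (.leaf (nat_lit 0xa050301048a40aaf) (nat_lit 2051))
 (.leaf (nat_lit 0xa050301048a41a9f) (nat_lit 3072))
) (.node (nat_lit 0xa050301048b41acf) (.leaf (nat_lit 0xa050301048b40aff) (nat_lit 2561))
 (.leaf (nat_lit 0xa050301048b41acf) (nat_lit 2562))
))) (.node (nat_lit 0xa050301058a40a0f) (.node (nat_lit 0xa050301058944a3f) (.node (nat_lit 0xa050301058845a5f) (.leaf (nat_lit 0xa050301058844a6f) (nat_lit 2562))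
 (.leaf (nat_lit 0xa050301058845a5f) (nat_lit 2560))
) (.node (nat_lit 0xa050301058945a0f) (.leaf (nat_lit 0xa050301058944a3f) (nat_lit 3073))
 (.leaf (nat_lit 0xa050301058945a0f) (nat_lit 2051))
)) (.node (nat_lit 0xa050301058b40a5f) (.node (nat_lit 0xa050301058a41a3f) (.leaf (nat_lit 0xa050301058a40a0f) (nat_lit 1538))
 (.leaf (nat_lit 0xa050301058a41a3f) (nat_lit 3075))
) (.node (nat_lit 0xa050301058b41a6f) (.leaf (nat_lit 0xa050301058b40a5f) (nat_lit 3075))
 (.leaf (nat_lit 0xa050301058b41a6f) (nat_lit 3075))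
)))) (.node (nat_lit 0xa05030107884eacf) (.node (nat_lit 0xa050301068a4aa0f) (.node (nat_lit 0xa05030106894ea3f) (.node (nat_lit 0xa05030106884fa5f) (.leaf (nat_lit 0xa05030106884ea6f) (nat_lit 2051))
 (.leaf (nat_lit 0xa05030106884fa5f) (nat_lit 3587))
) (.node (nat_lit 0xa05030106894fa0f) (.leaf (nat_lit 0xa05030106894ea3f) (nat_lit 3587))
 (.leaf (nat_lit 0xa05030106894fa0f) (nat_lit 2561))
)) (.node (nat_lit 0xa050301068b4aa5f) (.node (nat_lit 0xa050301068a4ba3f) (.leaf (nat_lit 0xa050301068a4aa0f) (nat_lit 1539))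
 (.leaf (nat_lit 0xa050301068a4ba3f) (nat_lit 2562))
) (.node (nat_lit 0xa050301068b4ba6f) (.leaf (nat_lit 0xa050301068b4aa5f) (nat_lit 3585))
 (.leaf (nat_lit 0xa050301068b4ba6f) (nat_lit 3072))
))) (.node (nat_lit 0xa050301078a4aaaf) (.node (nat_lit 0xa05030107894ea9f) (.node (nat_lit 0xa05030107884faff) (.leaf (nat_lit 0xa05030107884eacf) (nat_lit 2050))
 (.leaf (nat_lit 0xa05030107884faff) (nat_lit 2049))
) (.node (nat_lit 0xa05030107894faaf) (.leaf (nat_lit 0xa05030107894ea9f) (nat_lit 3075))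
 (.leaf (nat_lit 0xa05030107894faaf) (nat_lit 3075))
)) (.node (nat_lit 0xa050301078b4aaff) (.node (nat_lit 0xa050301078a4ba9f) (.leaf (nat_lit 0xa050301078a4aaaf) (nat_lit 2560))
 (.leaf (nat_lit 0xa050301078a4ba9f) (nat_lit 3587))
) (.node (nat_lit 0xa050301078b4bacf) (.leaf (nat_lit 0xa050301078b4aaff) (nat_lit 3587))
 (.leaf (nat_lit 0xa050301078b4bacf) (nat_lit 2563))
)))))))) (.node (nat_lit 0xa070201008040e05) (.node (nat_lit 0xa060301008040e0f) (.node (nat_lit 0xa06020104884ce01) (.node (nat_lit 0xa06020102804ae01) (.node (nat_lit 0xa060201018040ea1) (.node (nat_lit 0xa060201008246e01) (.node (nat_lit 0xa060201008140e61) (.node (nat_lit 0xa060201008041e21) (.leaf (nat_lit 0xa060201008040e01) (nat_lit 769))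
 (.leaf (nat_lit 0xa060201008041e21) (nat_lit 3330))
) (.node (nat_lit 0xa060201008141e41) (.leaf (nat_lit 0xa060201008140e61) (nat_lit 3843))
 (.leaf (nat_lit 0xa060201008141e41) (nat_lit 3843))
)) (.node (nat_lit 0xa060201008346e61) (.node (nat_lit 0xa060201008247e21) (.leaf (nat_lit 0xa060201008246e01) (nat_lit 1795))
 (.leaf (nat_lit 0xa060201008247e21) (nat_lit 3331))
) (.node (nat_lit 0xa060201008347e41) (.leaf (nat_lit 0xa060201008346e61) (nat_lit 2816))
 (.leaf (nat_lit 0xa060201008347e41) (nat_lit 2817))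
))) (.node (nat_lit 0xa060201018246ea1) (.node (nat_lit 0xa060201018140ec1) (.node (nat_lit 0xa060201018041e81) (.leaf (nat_lit 0xa060201018040ea1) (nat_lit 2819))
 (.leaf (nat_lit 0xa060201018041e81) (nat_lit 2819))
) (.node (nat_lit 0xa060201018141ee1) (.leaf (nat_lit 0xa060201018140ec1) (nat_lit 2306))
 (.leaf (nat_lit 0xa060201018141ee1) (nat_lit 2819))
)) (.node (nat_lit 0xa060201018346ec1) (.node (nat_lit 0xa060201018247e81) (.leaf (nat_lit 0xa060201018246ea1) (nat_lit 2304))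
 (.leaf (nat_lit 0xa060201018247e81) (nat_lit 2306))
) (.node (nat_lit 0xa060201018347ee1) (.leaf (nat_lit 0xa060201018346ec1) (nat_lit 2819))
 (.leaf (nat_lit 0xa060201018347ee1) (nat_lit 2819))
)))) (.node (nat_lit 0xa06020103804aea1) (.node (nat_lit 0xa06020102824ce01) (.node (nat_lit 0xa06020102814ae61) (.node (nat_lit 0xa06020102804be21) (.leaf (nat_lit 0xa06020102804ae01) (nat_lit 1795))
 (.leaf (nat_lit 0xa06020102804be21) (nat_lit 3843))
) (.node (nat_lit 0xa06020102814be41) (.leaf (nat_lit 0xa06020102814ae61) (nat_lit 3328))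
 (.leaf (nat_lit 0xa06020102814be41) (nat_lit 3330))
)) (.node (nat_lit 0xa06020102834ce61) (.node (nat_lit 0xa06020102824de21) (.leaf (nat_lit 0xa06020102824ce01) (nat_lit 1282))
 (.leaf (nat_lit 0xa06020102824de21) (nat_lit 2816))
) (.node (nat_lit 0xa06020102834de41) (.leaf (nat_lit 0xa06020102834ce61) (nat_lit 3843))
 (.leaf (nat_lit 0xa06020102834de41) (nat_lit 3842))
))) (.node (nat_lit 0xa06020103824cea1) (.node (nat_lit 0xa06020103814aec1) (.node (nat_lit 0xa06020103804be81) (.leaf (nat_lit 0xa06020103804aea1) (nat_lit 2304))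
 (.leaf (nat_lit 0xa06020103804be81) (nat_lit 2305))
) (.node (nat_lit 0xa06020103814bee1) (.leaf (nat_lit 0xa06020103814aec1) (nat_lit 2819))
 (.leaf (nat_lit 0xa06020103814bee1) (nat_lit 2819))
)) (.node (nat_lit 0xa06020103834cec1) (.node (nat_lit 0xa06020103824de81) (.leaf (nat_lit 0xa06020103824cea1) (nat_lit 2819))
 (.leaf (nat_lit 0xa06020103824de81) (nat_lit 2819))
) (.node (nat_lit 0xa06020103834dee1) (.leaf (nat_lit 0xa06020103834cec1) (nat_lit 2305))
 (.leaf (nat_lit 0xa06020103834dee1) (nat_lit 2819))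
))))) (.node (nat_lit 0xa060201068846e01) (.node (nat_lit 0xa06020105884cea1) (.node (nat_lit 0xa060201048a4ae01) (.node (nat_lit 0xa06020104894ce61) (.node (nat_lit 0xa06020104884de21) (.leaf (nat_lit 0xa06020104884ce01) (nat_lit 1025))
 (.leaf (nat_lit 0xa06020104884de21) (nat_lit 3074))
) (.node (nat_lit 0xa06020104894de41) (.leaf (nat_lit 0xa06020104894ce61) (nat_lit 3587))
 (.leaf (nat_lit 0xa06020104894de41) (nat_lit 3587))
)) (.node (nat_lit 0xa060201048b4ae61) (.node (nat_lit 0xa060201048a4be21) (.leaf (nat_lit 0xa060201048a4ae01) (nat_lit 1539))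
 (.leaf (nat_lit 0xa060201048a4be21) (nat_lit 3587))
) (.node (nat_lit 0xa060201048b4be41) (.leaf (nat_lit 0xa060201048b4ae61) (nat_lit 3072))
 (.leaf (nat_lit 0xa060201048b4be41) (nat_lit 3073))
))) (.node (nat_lit 0xa060201058a4aea1) (.node (nat_lit 0xa06020105894cec1) (.node (nat_lit 0xa06020105884de81) (.leaf (nat_lit 0xa06020105884cea1) (nat_lit 3075))
 (.leaf (nat_lit 0xa06020105884de81) (nat_lit 2563))
) (.node (nat_lit 0xa06020105894dee1) (.leaf (nat_lit 0xa06020105894cec1) (nat_lit 2049))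
 (.leaf (nat_lit 0xa06020105894dee1) (nat_lit 3075))
)) (.node (nat_lit 0xa060201058b4aec1) (.node (nat_lit 0xa060201058a4be81) (.leaf (nat_lit 0xa060201058a4aea1) (nat_lit 2048))
 (.leaf (nat_lit 0xa060201058a4be81) (nat_lit 2562))
) (.node (nat_lit 0xa060201058b4bee1) (.leaf (nat_lit 0xa060201058b4aec1) (nat_lit 3075))
 (.leaf (nat_lit 0xa060201058b4bee1) (nat_lit 2563))
)))) (.node (nat_lit 0xa060201078846ea1) (.node (nat_lit 0xa060201068a40e01) (.node (nat_lit 0xa060201068946e61) (.node (nat_lit 0xa060201068847e21) (.leaf (nat_lit 0xa060201068846e01) (nat_lit 1539))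
 (.leaf (nat_lit 0xa060201068847e21) (nat_lit 3587))
) (.node (nat_lit 0xa060201068947e41) (.leaf (nat_lit 0xa060201068946e61) (nat_lit 3072))
 (.leaf (nat_lit 0xa060201068947e41) (nat_lit 3074))
)) (.node (nat_lit 0xa060201068b40e61) (.node (nat_lit 0xa060201068a41e21) (.leaf (nat_lit 0xa060201068a40e01) (nat_lit 1026))
 (.leaf (nat_lit 0xa060201068a41e21) (nat_lit 3072))
) (.node (nat_lit 0xa060201068b41e41) (.leaf (nat_lit 0xa060201068b40e61) (nat_lit 3587))
 (.leaf (nat_lit 0xa060201068b41e41) (nat_lit 3587))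
))) (.node (nat_lit 0xa060201078a40ea1) (.node (nat_lit 0xa060201078946ec1) (.node (nat_lit 0xa060201078847e81) (.leaf (nat_lit 0xa060201078846ea1) (nat_lit 2560))
 (.leaf (nat_lit 0xa060201078847e81) (nat_lit 2049))
) (.node (nat_lit 0xa060201078947ee1) (.leaf (nat_lit 0xa060201078946ec1) (nat_lit 3075))
 (.leaf (nat_lit 0xa060201078947ee1) (nat_lit 2563))
)) (.node (nat_lit 0xa060201078b40ec1) (.node (nat_lit 0xa060201078a41e81) (.leaf (nat_lit 0xa060201078a40ea1) (nat_lit 2563))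
 (.leaf (nat_lit 0xa060201078a41e81) (nat_lit 3075))
) (.node (nat_lit 0xa060201078b41ee1) (.leaf (nat_lit 0xa060201078b40ec1) (nat_lit 2049))
 (.leaf (nat_lit 0xa060201078b41ee1) (nat_lit 3075))
)))))) (.node (nat_lit 0xa06030104884cecf) (.node (nat_lit 0xa06030102804aeaf) (.node (nat_lit 0xa060301018040eaf) (.node (nat_lit 0xa060301008246e6f) (.node (nat_lit 0xa060301008140e6f) (.node (nat_lit 0xa060301008041e3f) (.leaf (nat_lit 0xa060301008040e0f) (nat_lit 1025))
 (.leaf (nat_lit 0xa060301008041e3f) (nat_lit 3074))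
) (.node (nat_lit 0xa060301008141e5f) (.leaf (nat_lit 0xa060301008140e6f) (nat_lit 3587))
 (.leaf (nat_lit 0xa060301008141e5f) (nat_lit 3587))
)) (.node (nat_lit 0xa060301008346e0f) (.node (nat_lit 0xa060301008247e5f) (.leaf (nat_lit 0xa060301008246e6f) (nat_lit 2048))
 (.leaf (nat_lit 0xa060301008247e5f) (nat_lit 3075))
) (.node (nat_lit 0xa060301008347e3f) (.leaf (nat_lit 0xa060301008346e0f) (nat_lit 2563))
 (.leaf (nat_lit 0xa060301008347e3f) (nat_lit 3075))
))) (.node (nat_lit 0xa060301018246ecf) (.node (nat_lit 0xa060301018140ecf) (.node (nat_lit 0xa060301018041e9f) (.leaf (nat_lit 0xa060301018040eaf) (nat_lit 2563))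
 (.leaf (nat_lit 0xa060301018041e9f) (nat_lit 3075))
) (.node (nat_lit 0xa060301018141eff) (.leaf (nat_lit 0xa060301018140ecf) (nat_lit 2049))
 (.leaf (nat_lit 0xa060301018141eff) (nat_lit 3075))
)) (.node (nat_lit 0xa060301018346eaf) (.node (nat_lit 0xa060301018247eff) (.leaf (nat_lit 0xa060301018246ecf) (nat_lit 2051))
 (.leaf (nat_lit 0xa060301018247eff) (nat_lit 2562))
) (.node (nat_lit 0xa060301018347e9f) (.leaf (nat_lit 0xa060301018346eaf) (nat_lit 3072))
 (.leaf (nat_lit 0xa060301018347e9f) (nat_lit 3072))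
)))) (.node (nat_lit 0xa06030103804ae0f) (.node (nat_lit 0xa06030102824cecf) (.node (nat_lit 0xa06030102814aecf) (.node (nat_lit 0xa06030102804be9f) (.leaf (nat_lit 0xa06030102804aeaf) (nat_lit 2048))
 (.leaf (nat_lit 0xa06030102804be9f) (nat_lit 3585))
) (.node (nat_lit 0xa06030102814beff) (.leaf (nat_lit 0xa06030102814aecf) (nat_lit 3075))
 (.leaf (nat_lit 0xa06030102814beff) (nat_lit 3074))
)) (.node (nat_lit 0xa06030102834ceaf) (.node (nat_lit 0xa06030102824deff) (.leaf (nat_lit 0xa06030102824cecf) (nat_lit 1538))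
 (.leaf (nat_lit 0xa06030102824deff) (nat_lit 2563))
) (.node (nat_lit 0xa06030102834de9f) (.leaf (nat_lit 0xa06030102834ceaf) (nat_lit 3587))
 (.leaf (nat_lit 0xa06030102834de9f) (nat_lit 3587))
))) (.node (nat_lit 0xa06030103824ce6f) (.node (nat_lit 0xa06030103814ae6f) (.node (nat_lit 0xa06030103804be3f) (.leaf (nat_lit 0xa06030103804ae0f) (nat_lit 2051))
 (.leaf (nat_lit 0xa06030103804be3f) (nat_lit 2563))
) (.node (nat_lit 0xa06030103814be5f) (.leaf (nat_lit 0xa06030103814ae6f) (nat_lit 2561))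
 (.leaf (nat_lit 0xa06030103814be5f) (nat_lit 3072))
)) (.node (nat_lit 0xa06030103834ce0f) (.node (nat_lit 0xa06030103824de5f) (.leaf (nat_lit 0xa06030103824ce6f) (nat_lit 2563))
 (.leaf (nat_lit 0xa06030103824de5f) (nat_lit 3074))
) (.node (nat_lit 0xa06030103834de3f) (.leaf (nat_lit 0xa06030103834ce0f) (nat_lit 2049))
 (.leaf (nat_lit 0xa06030103834de3f) (nat_lit 3072))
))))) (.node (nat_lit 0xa060301068846e6f) (.node (nat_lit 0xa06030105884ce6f) (.node (nat_lit 0xa060301048a4aeaf) (.node (nat_lit 0xa06030104894ceaf) (.node (nat_lit 0xa06030104884deff) (.leaf (nat_lit 0xa06030104884cecf) (nat_lit 1281))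
 (.leaf (nat_lit 0xa06030104884deff) (nat_lit 2818))
) (.node (nat_lit 0xa06030104894de9f) (.leaf (nat_lit 0xa06030104894ceaf) (nat_lit 3843))
 (.leaf (nat_lit 0xa06030104894de9f) (nat_lit 3843))
)) (.node (nat_lit 0xa060301048b4aecf) (.node (nat_lit 0xa060301048a4be9f) (.leaf (nat_lit 0xa060301048a4aeaf) (nat_lit 1792))
 (.leaf (nat_lit 0xa060301048a4be9f) (nat_lit 3331))
) (.node (nat_lit 0xa060301048b4beff) (.leaf (nat_lit 0xa060301048b4aecf) (nat_lit 2819))
 (.leaf (nat_lit 0xa060301048b4beff) (nat_lit 2819))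
))) (.node (nat_lit 0xa060301058a4ae0f) (.node (nat_lit 0xa06030105894ce0f) (.node (nat_lit 0xa06030105884de5f) (.leaf (nat_lit 0xa06030105884ce6f) (nat_lit 2819))
 (.leaf (nat_lit 0xa06030105884de5f) (nat_lit 2819))
) (.node (nat_lit 0xa06030105894de3f) (.leaf (nat_lit 0xa06030105894ce0f) (nat_lit 1793))
 (.leaf (nat_lit 0xa06030105894de3f) (nat_lit 3331))
)) (.node (nat_lit 0xa060301058b4ae6f) (.node (nat_lit 0xa060301058a4be3f) (.leaf (nat_lit 0xa060301058a4ae0f) (nat_lit 1795))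
 (.leaf (nat_lit 0xa060301058a4be3f) (nat_lit 2818))
) (.node (nat_lit 0xa060301058b4be5f) (.leaf (nat_lit 0xa060301058b4ae6f) (nat_lit 2817))
 (.leaf (nat_lit 0xa060301058b4be5f) (nat_lit 2816))
)))) (.node (nat_lit 0xa060301078846ecf) (.node (nat_lit 0xa060301068a40e0f) (.node (nat_lit 0xa060301068946e0f) (.node (nat_lit 0xa060301068847e5f) (.leaf (nat_lit 0xa060301068846e6f) (nat_lit 1792))
 (.leaf (nat_lit 0xa060301068847e5f) (nat_lit 3330))
) (.node (nat_lit 0xa060301068947e3f) (.leaf (nat_lit 0xa060301068946e0f) (nat_lit 2819))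
 (.leaf (nat_lit 0xa060301068947e3f) (nat_lit 3330))
)) (.node (nat_lit 0xa060301068b40e6f) (.node (nat_lit 0xa060301068a41e3f) (.leaf (nat_lit 0xa060301068a40e0f) (nat_lit 1282))
 (.leaf (nat_lit 0xa060301068a41e3f) (nat_lit 2819))
) (.node (nat_lit 0xa060301068b41e5f) (.leaf (nat_lit 0xa060301068b40e6f) (nat_lit 3331))
 (.leaf (nat_lit 0xa060301068b41e5f) (nat_lit 3843))
))) (.node (nat_lit 0xa060301078a40eaf) (.node (nat_lit 0xa060301078946eaf) (.node (nat_lit 0xa060301078847eff) (.leaf (nat_lit 0xa060301078846ecf) (nat_lit 2307))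
 (.leaf (nat_lit 0xa060301078847eff) (nat_lit 2307))
) (.node (nat_lit 0xa060301078947e9f) (.leaf (nat_lit 0xa060301078946eaf) (nat_lit 2817))
 (.leaf (nat_lit 0xa060301078947e9f) (nat_lit 2816))
)) (.node (nat_lit 0xa060301078b40ecf) (.node (nat_lit 0xa060301078a41e9f) (.leaf (nat_lit 0xa060301078a40eaf) (nat_lit 2819))
 (.leaf (nat_lit 0xa060301078a41e9f) (nat_lit 3330))
) (.node (nat_lit 0xa060301078b41eff) (.leaf (nat_lit 0xa060301078b40ecf) (nat_lit 2305))
 (.leaf (nat_lit 0xa060301078b41eff) (nat_lit 3330))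
))))))) (.node (nat_lit 0xa070301008040e0b) (.node (nat_lit 0xa07020104884ce85) (.node (nat_lit 0xa07020102804ae05) (.node (nat_lit 0xa070201018040ea5) (.node (nat_lit 0xa070201008246e25) (.node (nat_lit 0xa070201008140e75) (.node (nat_lit 0xa070201008041e25) (.leaf (nat_lit 0xa070201008040e05) (nat_lit 1795))
 (.leaf (nat_lit 0xa070201008041e25) (nat_lit 3843))
) (.node (nat_lit 0xa070201008141e55) (.leaf (nat_lit 0xa070201008140e75) (nat_lit 3330))
 (.leaf (nat_lit 0xa070201008141e55) (nat_lit 3329))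
)) (.node (nat_lit 0xa070201008346e55) (.node (nat_lit 0xa070201008247e05) (.leaf (nat_lit 0xa070201008246e25) (nat_lit 2304))
 (.leaf (nat_lit 0xa070201008247e05) (nat_lit 2306))
) (.node (nat_lit 0xa070201008347e75) (.leaf (nat_lit 0xa070201008346e55) (nat_lit 2819))
 (.leaf (nat_lit 0xa070201008347e75) (nat_lit 2819))
))) (.node (nat_lit 0xa070201018246e85) (.node (nat_lit 0xa070201018140ed5) (.node (nat_lit 0xa070201018041e85) (.leaf (nat_lit 0xa070201018040ea5) (nat_lit 2306))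
 (.leaf (nat_lit 0xa070201018041e85) (nat_lit 2305))
) (.node (nat_lit 0xa070201018141ef5) (.leaf (nat_lit 0xa070201018140ed5) (nat_lit 2819))
 (.leaf (nat_lit 0xa070201018141ef5) (nat_lit 2819))
)) (.node (nat_lit 0xa070201018346ef5) (.node (nat_lit 0xa070201018247ea5) (.leaf (nat_lit 0xa070201018246e85) (nat_lit 2307))
 (.leaf (nat_lit 0xa070201018247ea5) (nat_lit 3331))
) (.node (nat_lit 0xa070201018347ed5) (.leaf (nat_lit 0xa070201018346ef5) (nat_lit 3330))
 (.leaf (nat_lit 0xa070201018347ed5) (nat_lit 3329))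
)))) (.node (nat_lit 0xa07020103804aea5) (.node (nat_lit 0xa07020102824ce25) (.node (nat_lit 0xa07020102814ae75) (.node (nat_lit 0xa07020102804be25) (.leaf (nat_lit 0xa07020102804ae05) (nat_lit 2306))
 (.leaf (nat_lit 0xa07020102804be25) (nat_lit 3841))
) (.node (nat_lit 0xa07020102814be55) (.leaf (nat_lit 0xa07020102814ae75) (nat_lit 3331))
 (.leaf (nat_lit 0xa07020102814be55) (nat_lit 3330))
)) (.node (nat_lit 0xa07020102834ce55) (.node (nat_lit 0xa07020102824de05) (.leaf (nat_lit 0xa07020102824ce25) (nat_lit 2307))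
 (.leaf (nat_lit 0xa07020102824de05) (nat_lit 2307))
) (.node (nat_lit 0xa07020102834de75) (.leaf (nat_lit 0xa07020102834ce55) (nat_lit 2818))
 (.leaf (nat_lit 0xa07020102834de75) (nat_lit 3329))
))) (.node (nat_lit 0xa07020103824ce85) (.node (nat_lit 0xa07020103814aed5) (.node (nat_lit 0xa07020103804be85) (.leaf (nat_lit 0xa07020103804aea5) (nat_lit 2307))
 (.leaf (nat_lit 0xa07020103804be85) (nat_lit 2307))
) (.node (nat_lit 0xa07020103814bef5) (.leaf (nat_lit 0xa07020103814aed5) (nat_lit 3328))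
 (.leaf (nat_lit 0xa07020103814bef5) (nat_lit 2818))
)) (.node (nat_lit 0xa07020103834cef5) (.node (nat_lit 0xa07020103824dea5) (.leaf (nat_lit 0xa07020103824ce85) (nat_lit 2306))
 (.leaf (nat_lit 0xa07020103824dea5) (nat_lit 3328))
) (.node (nat_lit 0xa07020103834ded5) (.leaf (nat_lit 0xa07020103834cef5) (nat_lit 2819))
 (.leaf (nat_lit 0xa07020103834ded5) (nat_lit 2817))
))))) (.node (nat_lit 0xa070201068846e85) (.node (nat_lit 0xa07020105884ce25) (.node (nat_lit 0xa070201048a4aea5) (.node (nat_lit 0xa07020104894cef5) (.node (nat_lit 0xa07020104884dea5) (.leaf (nat_lit 0xa07020104884ce85) (nat_lit 2051))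
 (.leaf (nat_lit 0xa07020104884dea5) (nat_lit 3587))
) (.node (nat_lit 0xa07020104894ded5) (.leaf (nat_lit 0xa07020104894cef5) (nat_lit 3074))
 (.leaf (nat_lit 0xa07020104894ded5) (nat_lit 3073))
)) (.node (nat_lit 0xa070201048b4aed5) (.node (nat_lit 0xa070201048a4be85) (.leaf (nat_lit 0xa070201048a4aea5) (nat_lit 2048))
 (.leaf (nat_lit 0xa070201048a4be85) (nat_lit 2562))
) (.node (nat_lit 0xa070201048b4bef5) (.leaf (nat_lit 0xa070201048b4aed5) (nat_lit 3075))
 (.leaf (nat_lit 0xa070201048b4bef5) (nat_lit 2563))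
))) (.node (nat_lit 0xa070201058a4ae05) (.node (nat_lit 0xa07020105894ce55) (.node (nat_lit 0xa07020105884de05) (.leaf (nat_lit 0xa07020105884ce25) (nat_lit 2562))
 (.leaf (nat_lit 0xa07020105884de05) (nat_lit 2049))
) (.node (nat_lit 0xa07020105894de75) (.leaf (nat_lit 0xa07020105894ce55) (nat_lit 2563))
 (.leaf (nat_lit 0xa07020105894de75) (nat_lit 3075))
)) (.node (nat_lit 0xa070201058b4ae75) (.node (nat_lit 0xa070201058a4be25) (.leaf (nat_lit 0xa070201058a4ae05) (nat_lit 2051))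
 (.leaf (nat_lit 0xa070201058a4be25) (nat_lit 3587))
) (.node (nat_lit 0xa070201058b4be55) (.leaf (nat_lit 0xa070201058b4ae75) (nat_lit 3586))
 (.leaf (nat_lit 0xa070201058b4be55) (nat_lit 3072))
)))) (.node (nat_lit 0xa070201078846e25) (.node (nat_lit 0xa070201068a40ea5) (.node (nat_lit 0xa070201068946ef5) (.node (nat_lit 0xa070201068847ea5) (.leaf (nat_lit 0xa070201068846e85) (nat_lit 2049))
 (.leaf (nat_lit 0xa070201068847ea5) (nat_lit 3586))
) (.node (nat_lit 0xa070201068947ed5) (.leaf (nat_lit 0xa070201068946ef5) (nat_lit 3075))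
 (.leaf (nat_lit 0xa070201068947ed5) (nat_lit 3586))
)) (.node (nat_lit 0xa070201068b40ed5) (.node (nat_lit 0xa070201068a41e85) (.leaf (nat_lit 0xa070201068a40ea5) (nat_lit 2051))
 (.leaf (nat_lit 0xa070201068a41e85) (nat_lit 2563))
) (.node (nat_lit 0xa070201068b41ef5) (.leaf (nat_lit 0xa070201068b40ed5) (nat_lit 2561))
 (.leaf (nat_lit 0xa070201068b41ef5) (nat_lit 3074))
))) (.node (nat_lit 0xa070201078a40e05) (.node (nat_lit 0xa070201078946e55) (.node (nat_lit 0xa070201078847e05) (.leaf (nat_lit 0xa070201078846e25) (nat_lit 2563))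
 (.leaf (nat_lit 0xa070201078847e05) (nat_lit 2051))
) (.node (nat_lit 0xa070201078947e75) (.leaf (nat_lit 0xa070201078946e55) (nat_lit 3074))
 (.leaf (nat_lit 0xa070201078947e75) (nat_lit 2560))
)) (.node (nat_lit 0xa070201078b40e75) (.node (nat_lit 0xa070201078a41e25) (.leaf (nat_lit 0xa070201078a40e05) (nat_lit 2050))
 (.leaf (nat_lit 0xa070201078a41e25) (nat_lit 3584))
) (.node (nat_lit 0xa070201078b41e55) (.leaf (nat_lit 0xa070201078b40e75) (nat_lit 3075))
 (.leaf (nat_lit 0xa070201078b41e55) (nat_lit 3073))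
)))))) (.node (nat_lit 0xa07030104884ce4b) (.node (nat_lit 0xa07030102804aeab) (.node (nat_lit 0xa070301018040eab) (.node (nat_lit 0xa070301008246e4b) (.node (nat_lit 0xa070301008140e7b) (.node (nat_lit 0xa070301008041e3b) (.leaf (nat_lit 0xa070301008040e0b) (nat_lit 1539))
 (.leaf (nat_lit 0xa070301008041e3b) (nat_lit 3587))
) (.node (nat_lit 0xa070301008141e4b) (.leaf (nat_lit 0xa070301008140e7b) (nat_lit 3074))
 (.leaf (nat_lit 0xa070301008141e4b) (nat_lit 3073))
)) (.node (nat_lit 0xa070301008346e3b) (.node (nat_lit 0xa070301008247e7b) (.leaf (nat_lit 0xa070301008246e4b) (nat_lit 2051))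
 (.leaf (nat_lit 0xa070301008247e7b) (nat_lit 2562))
) (.node (nat_lit 0xa070301008347e0b) (.leaf (nat_lit 0xa070301008346e3b) (nat_lit 3072))
 (.leaf (nat_lit 0xa070301008347e0b) (nat_lit 2562))
))) (.node (nat_lit 0xa070301018246eeb) (.node (nat_lit 0xa070301018140edb) (.node (nat_lit 0xa070301018041e9b) (.leaf (nat_lit 0xa070301018040eab) (nat_lit 2050))
 (.leaf (nat_lit 0xa070301018041e9b) (nat_lit 2561))
) (.node (nat_lit 0xa070301018141eeb) (.leaf (nat_lit 0xa070301018140edb) (nat_lit 3075))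
 (.leaf (nat_lit 0xa070301018141eeb) (nat_lit 2563))
)) (.node (nat_lit 0xa070301018346e9b) (.node (nat_lit 0xa070301018247edb) (.leaf (nat_lit 0xa070301018246eeb) (nat_lit 2050))
 (.leaf (nat_lit 0xa070301018247edb) (nat_lit 3075))
) (.node (nat_lit 0xa070301018347eab) (.leaf (nat_lit 0xa070301018346e9b) (nat_lit 3075))
 (.leaf (nat_lit 0xa070301018347eab) (nat_lit 3075))
)))) (.node (nat_lit 0xa07030103804ae0b) (.node (nat_lit 0xa07030102824ceeb) (.node (nat_lit 0xa07030102814aedb) (.node (nat_lit 0xa07030102804be9b) (.leaf (nat_lit 0xa07030102804aeab) (nat_lit 2051))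
 (.leaf (nat_lit 0xa07030102804be9b) (nat_lit 3587))
) (.node (nat_lit 0xa07030102814beeb) (.leaf (nat_lit 0xa07030102814aedb) (nat_lit 3584))
 (.leaf (nat_lit 0xa07030102814beeb) (nat_lit 3074))
)) (.node (nat_lit 0xa07030102834ce9b) (.node (nat_lit 0xa07030102824dedb) (.leaf (nat_lit 0xa07030102824ceeb) (nat_lit 2051))
 (.leaf (nat_lit 0xa07030102824dedb) (nat_lit 2560))
) (.node (nat_lit 0xa07030102834deab) (.leaf (nat_lit 0xa07030102834ce9b) (nat_lit 3074))
 (.leaf (nat_lit 0xa07030102834deab) (nat_lit 3073))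
))) (.node (nat_lit 0xa07030103824ce4b) (.node (nat_lit 0xa07030103814ae7b) (.node (nat_lit 0xa07030103804be3b) (.leaf (nat_lit 0xa07030103804ae0b) (nat_lit 2050))
 (.leaf (nat_lit 0xa07030103804be3b) (nat_lit 2560))
) (.node (nat_lit 0xa07030103814be4b) (.leaf (nat_lit 0xa07030103814ae7b) (nat_lit 3075))
 (.leaf (nat_lit 0xa07030103814be4b) (nat_lit 2563))
)) (.node (nat_lit 0xa07030103834ce3b) (.node (nat_lit 0xa07030103824de7b) (.leaf (nat_lit 0xa07030103824ce4b) (nat_lit 2050))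
 (.leaf (nat_lit 0xa07030103824de7b) (nat_lit 3075))
) (.node (nat_lit 0xa07030103834de0b) (.leaf (nat_lit 0xa07030103834ce3b) (nat_lit 3075))
 (.leaf (nat_lit 0xa07030103834de0b) (nat_lit 2563))
))))) (.node (nat_lit 0xa070301068846eeb) (.node (nat_lit 0xa07030105884ceeb) (.node (nat_lit 0xa070301048a4ae0b) (.node (nat_lit 0xa07030104894ce3b) (.node (nat_lit 0xa07030104884de7b) (.leaf (nat_lit 0xa07030104884ce4b) (nat_lit 1795))
 (.leaf (nat_lit 0xa07030104884de7b) (nat_lit 3331))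
) (.node (nat_lit 0xa07030104894de0b) (.leaf (nat_lit 0xa07030104894ce3b) (nat_lit 3330))
 (.leaf (nat_lit 0xa07030104894de0b) (nat_lit 2817))
)) (.node (nat_lit 0xa070301048b4ae7b) (.node (nat_lit 0xa070301048a4be3b) (.leaf (nat_lit 0xa070301048a4ae0b) (nat_lit 1795))
 (.leaf (nat_lit 0xa070301048a4be3b) (nat_lit 2818))
) (.node (nat_lit 0xa070301048b4be4b) (.leaf (nat_lit 0xa070301048b4ae7b) (nat_lit 3330))
 (.leaf (nat_lit 0xa070301048b4be4b) (nat_lit 2816))
))) (.node (nat_lit 0xa070301058a4aeab) (.node (nat_lit 0xa07030105894ce9b) (.node (nat_lit 0xa07030105884dedb) (.leaf (nat_lit 0xa07030105884ceeb) (nat_lit 2306))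
 (.leaf (nat_lit 0xa07030105884dedb) (nat_lit 2305))
) (.node (nat_lit 0xa07030105894deab) (.leaf (nat_lit 0xa07030105894ce9b) (nat_lit 2819))
 (.leaf (nat_lit 0xa07030105894deab) (nat_lit 2819))
)) (.node (nat_lit 0xa070301058b4aedb) (.node (nat_lit 0xa070301058a4be9b) (.leaf (nat_lit 0xa070301058a4aeab) (nat_lit 2304))
 (.leaf (nat_lit 0xa070301058a4be9b) (nat_lit 3331))
) (.node (nat_lit 0xa070301058b4beeb) (.leaf (nat_lit 0xa070301058b4aedb) (nat_lit 3331))
 (.leaf (nat_lit 0xa070301058b4beeb) (nat_lit 2819))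
)))) (.node (nat_lit 0xa070301078846e4b) (.node (nat_lit 0xa070301068a40eab) (.node (nat_lit 0xa070301068946e9b) (.node (nat_lit 0xa070301068847edb) (.leaf (nat_lit 0xa070301068846eeb) (nat_lit 1795))
 (.leaf (nat_lit 0xa070301068847edb) (nat_lit 3331))
) (.node (nat_lit 0xa070301068947eab) (.leaf (nat_lit 0xa070301068946e9b) (nat_lit 3328))
 (.leaf (nat_lit 0xa070301068947eab) (nat_lit 3329))
)) (.node (nat_lit 0xa070301068b40edb) (.node (nat_lit 0xa070301068a41e9b) (.leaf (nat_lit 0xa070301068a40eab) (nat_lit 1795))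
 (.leaf (nat_lit 0xa070301068a41e9b) (nat_lit 2816))
) (.node (nat_lit 0xa070301068b41eeb) (.leaf (nat_lit 0xa070301068b40edb) (nat_lit 2817))
 (.leaf (nat_lit 0xa070301068b41eeb) (nat_lit 2818))
))) (.node (nat_lit 0xa070301078a40e0b) (.node (nat_lit 0xa070301078946e3b) (.node (nat_lit 0xa070301078847e7b) (.leaf (nat_lit 0xa070301078846e4b) (nat_lit 2306))
 (.leaf (nat_lit 0xa070301078847e7b) (nat_lit 2304))
) (.node (nat_lit 0xa070301078947e0b) (.leaf (nat_lit 0xa070301078946e3b) (nat_lit 3331))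
 (.leaf (nat_lit 0xa070301078947e0b) (nat_lit 2307))
)) (.node (nat_lit 0xa070301078b40e7b) (.node (nat_lit 0xa070301078a41e3b) (.leaf (nat_lit 0xa070301078a40e0b) (nat_lit 1794))
 (.leaf (nat_lit 0xa070301078a41e3b) (nat_lit 3331))
) (.node (nat_lit 0xa070301078b41e4b) (.leaf (nat_lit 0xa070301078b40e7b) (nat_lit 2819))
 (.leaf (nat_lit 0xa070301078b41e4b) (nat_lit 2819))
))))))))) (.node (nat_lit 0xb060201008040e09) (.node (nat_lit 0xb050201008040a0d) (.node (nat_lit 0xb040301008040a03) (.node (nat_lit 0xb040201048844a49) (.node (nat_lit 0xb04020102804aa29) (.node (nat_lit 0xb040201018040ab9) (.node (nat_lit 0xb040201008244a09) (.node (nat_lit 0xb040201008140a49) (.node (nat_lit 0xb040201008041a29) (.leaf (nat_lit 0xb040201008040a09) (nat_lit 1536))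
 (.leaf (nat_lit 0xb040201008041a29) (nat_lit 3074))
) (.node (nat_lit 0xb040201008141a69) (.leaf (nat_lit 0xb040201008140a49) (nat_lit 3075))
 (.leaf (nat_lit 0xb040201008141a69) (nat_lit 3075))
)) (.node (nat_lit 0xb040201008344a49) (.node (nat_lit 0xb040201008245a29) (.leaf (nat_lit 0xb040201008244a09) (nat_lit 3075))
 (.leaf (nat_lit 0xb040201008245a29) (nat_lit 3587))
) (.node (nat_lit 0xb040201008345a69) (.leaf (nat_lit 0xb040201008344a49) (nat_lit 2050))
 (.leaf (nat_lit 0xb040201008345a69) (nat_lit 2563))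
))) (.node (nat_lit 0xb040201018244ab9) (.node (nat_lit 0xb040201018140af9) (.node (nat_lit 0xb040201018041a99) (.leaf (nat_lit 0xb040201018040ab9) (nat_lit 2563))
 (.leaf (nat_lit 0xb040201018041a99) (nat_lit 2563))
) (.node (nat_lit 0xb040201018141ad9) (.leaf (nat_lit 0xb040201018140af9) (nat_lit 2561))
 (.leaf (nat_lit 0xb040201018141ad9) (nat_lit 2560))
)) (.node (nat_lit 0xb040201018344af9) (.node (nat_lit 0xb040201018245a99) (.leaf (nat_lit 0xb040201018244ab9) (nat_lit 3073))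
 (.leaf (nat_lit 0xb040201018245a99) (nat_lit 3074))
) (.node (nat_lit 0xb040201018345ad9) (.leaf (nat_lit 0xb040201018344af9) (nat_lit 2563))
 (.leaf (nat_lit 0xb040201018345ad9) (nat_lit 2562))
)))) (.node (nat_lit 0xb04020103804aa99) (.node (nat_lit 0xb04020102824ea29) (.node (nat_lit 0xb04020102814aa69) (.node (nat_lit 0xb04020102804ba09) (.leaf (nat_lit 0xb04020102804aa29) (nat_lit 2563))
 (.leaf (nat_lit 0xb04020102804ba09) (nat_lit 2563))
) (.node (nat_lit 0xb04020102814ba49) (.leaf (nat_lit 0xb04020102814aa69) (nat_lit 2562))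
 (.leaf (nat_lit 0xb04020102814ba49) (nat_lit 2561))
)) (.node (nat_lit 0xb04020102834ea69) (.node (nat_lit 0xb04020102824fa09) (.leaf (nat_lit 0xb04020102824ea29) (nat_lit 2560))
 (.leaf (nat_lit 0xb04020102824fa09) (nat_lit 2561))
) (.node (nat_lit 0xb04020102834fa49) (.leaf (nat_lit 0xb04020102834ea69) (nat_lit 2562))
 (.leaf (nat_lit 0xb04020102834fa49) (nat_lit 2563))
))) (.node (nat_lit 0xb04020103824ea99) (.node (nat_lit 0xb04020103814aad9) (.node (nat_lit 0xb04020103804bab9) (.leaf (nat_lit 0xb04020103804aa99) (nat_lit 3073))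
 (.leaf (nat_lit 0xb04020103804bab9) (nat_lit 2050))
) (.node (nat_lit 0xb04020103814baf9) (.leaf (nat_lit 0xb04020103814aad9) (nat_lit 3586))
 (.leaf (nat_lit 0xb04020103814baf9) (nat_lit 3587))
)) (.node (nat_lit 0xb04020103834ead9) (.node (nat_lit 0xb04020103824fab9) (.leaf (nat_lit 0xb04020103824ea99) (nat_lit 3587))
 (.leaf (nat_lit 0xb04020103824fab9) (nat_lit 3587))
) (.node (nat_lit 0xb04020103834faf9) (.leaf (nat_lit 0xb04020103834ead9) (nat_lit 2563))
 (.leaf (nat_lit 0xb04020103834faf9) (nat_lit 2048))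
))))) (.node (nat_lit 0xb04020106884ea69) (.node (nat_lit 0xb040201058844af9) (.node (nat_lit 0xb040201048a40a49) (.node (nat_lit 0xb040201048944a09) (.node (nat_lit 0xb040201048845a69) (.leaf (nat_lit 0xb040201048844a49) (nat_lit 1792))
 (.leaf (nat_lit 0xb040201048845a69) (nat_lit 2818))
) (.node (nat_lit 0xb040201048945a29) (.leaf (nat_lit 0xb040201048944a09) (nat_lit 2819))
 (.leaf (nat_lit 0xb040201048945a29) (nat_lit 3331))
)) (.node (nat_lit 0xb040201048b40a09) (.node (nat_lit 0xb040201048a41a69) (.leaf (nat_lit 0xb040201048a40a49) (nat_lit 2819))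
 (.leaf (nat_lit 0xb040201048a41a69) (nat_lit 3331))
) (.node (nat_lit 0xb040201048b41a29) (.leaf (nat_lit 0xb040201048b40a09) (nat_lit 1794))
 (.leaf (nat_lit 0xb040201048b41a29) (nat_lit 2819))
))) (.node (nat_lit 0xb040201058a40af9) (.node (nat_lit 0xb040201058944ab9) (.node (nat_lit 0xb040201058845ad9) (.leaf (nat_lit 0xb040201058844af9) (nat_lit 2819))
 (.leaf (nat_lit 0xb040201058845ad9) (nat_lit 2307))
) (.node (nat_lit 0xb040201058945a99) (.leaf (nat_lit 0xb040201058944ab9) (nat_lit 2817))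
 (.leaf (nat_lit 0xb040201058945a99) (nat_lit 2816))
)) (.node (nat_lit 0xb040201058b40ab9) (.node (nat_lit 0xb040201058a41ad9) (.leaf (nat_lit 0xb040201058a40af9) (nat_lit 2817))
 (.leaf (nat_lit 0xb040201058a41ad9) (nat_lit 2818))
) (.node (nat_lit 0xb040201058b41a99) (.leaf (nat_lit 0xb040201058b40ab9) (nat_lit 2307))
 (.leaf (nat_lit 0xb040201058b41a99) (nat_lit 2818))
)))) (.node (nat_lit 0xb04020107884ead9) (.node (nat_lit 0xb040201068a4aa69) (.node (nat_lit 0xb04020106894ea29) (.node (nat_lit 0xb04020106884fa49) (.leaf (nat_lit 0xb04020106884ea69) (nat_lit 2307))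
 (.leaf (nat_lit 0xb04020106884fa49) (nat_lit 2819))
) (.node (nat_lit 0xb04020106894fa09) (.leaf (nat_lit 0xb04020106894ea29) (nat_lit 2818))
 (.leaf (nat_lit 0xb04020106894fa09) (nat_lit 2305))
)) (.node (nat_lit 0xb040201068b4aa29) (.node (nat_lit 0xb040201068a4ba49) (.leaf (nat_lit 0xb040201068a4aa69) (nat_lit 2304))
 (.leaf (nat_lit 0xb040201068a4ba49) (nat_lit 2817))
) (.node (nat_lit 0xb040201068b4ba09) (.leaf (nat_lit 0xb040201068b4aa29) (nat_lit 2818))
 (.leaf (nat_lit 0xb040201068b4ba09) (nat_lit 2307))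
))) (.node (nat_lit 0xb040201078a4aad9) (.node (nat_lit 0xb04020107894ea99) (.node (nat_lit 0xb04020107884faf9) (.leaf (nat_lit 0xb04020107884ead9) (nat_lit 2818))
 (.leaf (nat_lit 0xb04020107884faf9) (nat_lit 1793))
) (.node (nat_lit 0xb04020107894fab9) (.leaf (nat_lit 0xb04020107894ea99) (nat_lit 3331))
 (.leaf (nat_lit 0xb04020107894fab9) (nat_lit 3331))
)) (.node (nat_lit 0xb040201078b4aa99) (.node (nat_lit 0xb040201078a4baf9) (.leaf (nat_lit 0xb040201078a4aad9) (nat_lit 3331))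
 (.leaf (nat_lit 0xb040201078a4baf9) (nat_lit 3331))
) (.node (nat_lit 0xb040201078b4bab9) (.leaf (nat_lit 0xb040201078b4aa99) (nat_lit 2819))
 (.leaf (nat_lit 0xb040201078b4bab9) (nat_lit 1792))
)))))) (.node (nat_lit 0xb040301048844a03) (.node (nat_lit 0xb04030102804aa83) (.node (nat_lit 0xb040301018040ab3) (.node (nat_lit 0xb040301008244a43) (.node (nat_lit 0xb040301008140a43) (.node (nat_lit 0xb040301008041a33) (.leaf (nat_lit 0xb040301008040a03) (nat_lit 1283))
 (.leaf (nat_lit 0xb040301008041a33) (nat_lit 3331))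
) (.node (nat_lit 0xb040301008141a73) (.leaf (nat_lit 0xb040301008140a43) (nat_lit 3330))
 (.leaf (nat_lit 0xb040301008141a73) (nat_lit 3328))
)) (.node (nat_lit 0xb040301008344a03) (.node (nat_lit 0xb040301008245a73) (.leaf (nat_lit 0xb040301008244a43) (nat_lit 2819))
 (.leaf (nat_lit 0xb040301008245a73) (nat_lit 3331))
) (.node (nat_lit 0xb040301008345a33) (.leaf (nat_lit 0xb040301008344a03) (nat_lit 1794))
 (.leaf (nat_lit 0xb040301008345a33) (nat_lit 2816))
))) (.node (nat_lit 0xb040301018244af3) (.node (nat_lit 0xb040301018140af3) (.node (nat_lit 0xb040301018041a83) (.leaf (nat_lit 0xb040301018040ab3) (nat_lit 2818))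
 (.leaf (nat_lit 0xb040301018041a83) (nat_lit 2305))
) (.node (nat_lit 0xb040301018141ac3) (.leaf (nat_lit 0xb040301018140af3) (nat_lit 2818))
 (.leaf (nat_lit 0xb040301018141ac3) (nat_lit 2307))
)) (.node (nat_lit 0xb040301018344ab3) (.node (nat_lit 0xb040301018245ac3) (.leaf (nat_lit 0xb040301018244af3) (nat_lit 2817))
 (.leaf (nat_lit 0xb040301018245ac3) (nat_lit 2818))
) (.node (nat_lit 0xb040301018345a83) (.leaf (nat_lit 0xb040301018344ab3) (nat_lit 2819))
 (.leaf (nat_lit 0xb040301018345a83) (nat_lit 2307))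
)))) (.node (nat_lit 0xb04030103804aa33) (.node (nat_lit 0xb04030102824eac3) (.node (nat_lit 0xb04030102814aac3) (.node (nat_lit 0xb04030102804bab3) (.leaf (nat_lit 0xb04030102804aa83) (nat_lit 2307))
 (.leaf (nat_lit 0xb04030102804bab3) (nat_lit 2819))
) (.node (nat_lit 0xb04030102814baf3) (.leaf (nat_lit 0xb04030102814aac3) (nat_lit 2306))
 (.leaf (nat_lit 0xb04030102814baf3) (nat_lit 2817))
)) (.node (nat_lit 0xb04030102834ea83) (.node (nat_lit 0xb04030102824faf3) (.leaf (nat_lit 0xb04030102824eac3) (nat_lit 2307))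
 (.leaf (nat_lit 0xb04030102824faf3) (nat_lit 2817))
) (.node (nat_lit 0xb04030102834fab3) (.leaf (nat_lit 0xb04030102834ea83) (nat_lit 2306))
 (.leaf (nat_lit 0xb04030102834fab3) (nat_lit 2816))
))) (.node (nat_lit 0xb04030103824ea73) (.node (nat_lit 0xb04030103814aa73) (.node (nat_lit 0xb04030103804ba03) (.leaf (nat_lit 0xb04030103804aa33) (nat_lit 3329))
 (.leaf (nat_lit 0xb04030103804ba03) (nat_lit 1794))
) (.node (nat_lit 0xb04030103814ba43) (.leaf (nat_lit 0xb04030103814aa73) (nat_lit 3331))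
 (.leaf (nat_lit 0xb04030103814ba43) (nat_lit 3331))
)) (.node (nat_lit 0xb04030103834ea33) (.node (nat_lit 0xb04030103824fa43) (.leaf (nat_lit 0xb04030103824ea73) (nat_lit 3330))
 (.leaf (nat_lit 0xb04030103824fa43) (nat_lit 3329))
) (.node (nat_lit 0xb04030103834fa03) (.leaf (nat_lit 0xb04030103834ea33) (nat_lit 2819))
 (.leaf (nat_lit 0xb04030103834fa03) (nat_lit 1795))
))))) (.node (nat_lit 0xb04030106884ea83) (.node (nat_lit 0xb040301058844ab3) (.node (nat_lit 0xb040301048a40a43) (.node (nat_lit 0xb040301048944a43) (.node (nat_lit 0xb040301048845a33) (.leaf (nat_lit 0xb040301048844a03) (nat_lit 1539))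
 (.leaf (nat_lit 0xb040301048845a33) (nat_lit 3075))
) (.node (nat_lit 0xb040301048945a73) (.leaf (nat_lit 0xb040301048944a43) (nat_lit 3072))
 (.leaf (nat_lit 0xb040301048945a73) (nat_lit 3586))
)) (.node (nat_lit 0xb040301048b40a03) (.node (nat_lit 0xb040301048a41a73) (.leaf (nat_lit 0xb040301048a40a43) (nat_lit 3075))
 (.leaf (nat_lit 0xb040301048a41a73) (nat_lit 3587))
) (.node (nat_lit 0xb040301048b41a33) (.leaf (nat_lit 0xb040301048b40a03) (nat_lit 1538))
 (.leaf (nat_lit 0xb040301048b41a33) (nat_lit 3072))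
))) (.node (nat_lit 0xb040301058a40af3) (.node (nat_lit 0xb040301058944af3) (.node (nat_lit 0xb040301058845a83) (.leaf (nat_lit 0xb040301058844ab3) (nat_lit 3074))
 (.leaf (nat_lit 0xb040301058845a83) (nat_lit 2561))
) (.node (nat_lit 0xb040301058945ac3) (.leaf (nat_lit 0xb040301058944af3) (nat_lit 3074))
 (.leaf (nat_lit 0xb040301058945ac3) (nat_lit 2563))
)) (.node (nat_lit 0xb040301058b40ab3) (.node (nat_lit 0xb040301058a41ac3) (.leaf (nat_lit 0xb040301058a40af3) (nat_lit 2561))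
 (.leaf (nat_lit 0xb040301058a41ac3) (nat_lit 2562))
) (.node (nat_lit 0xb040301058b41a83) (.leaf (nat_lit 0xb040301058b40ab3) (nat_lit 2563))
 (.leaf (nat_lit 0xb040301058b41a83) (nat_lit 2563))
)))) (.node (nat_lit 0xb04030107884ea33) (.node (nat_lit 0xb040301068a4aac3) (.node (nat_lit 0xb04030106894eac3) (.node (nat_lit 0xb04030106884fab3) (.leaf (nat_lit 0xb04030106884ea83) (nat_lit 2051))
 (.leaf (nat_lit 0xb04030106884fab3) (nat_lit 3075))
) (.node (nat_lit 0xb04030106894faf3) (.leaf (nat_lit 0xb04030106894eac3) (nat_lit 2562))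
 (.leaf (nat_lit 0xb04030106894faf3) (nat_lit 2561))
)) (.node (nat_lit 0xb040301068b4aa83) (.node (nat_lit 0xb040301068a4baf3) (.leaf (nat_lit 0xb040301068a4aac3) (nat_lit 2051))
 (.leaf (nat_lit 0xb040301068a4baf3) (nat_lit 3073))
) (.node (nat_lit 0xb040301068b4bab3) (.leaf (nat_lit 0xb040301068b4aa83) (nat_lit 2562))
 (.leaf (nat_lit 0xb040301068b4bab3) (nat_lit 2560))
))) (.node (nat_lit 0xb040301078a4aa73) (.node (nat_lit 0xb04030107894ea73) (.node (nat_lit 0xb04030107884fa03) (.leaf (nat_lit 0xb04030107884ea33) (nat_lit 3074))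
 (.leaf (nat_lit 0xb04030107884fa03) (nat_lit 1537))
) (.node (nat_lit 0xb04030107894fa43) (.leaf (nat_lit 0xb04030107894ea73) (nat_lit 3075))
 (.leaf (nat_lit 0xb04030107894fa43) (nat_lit 3075))
)) (.node (nat_lit 0xb040301078b4aa33) (.node (nat_lit 0xb040301078a4ba43) (.leaf (nat_lit 0xb040301078a4aa73) (nat_lit 3585))
 (.leaf (nat_lit 0xb040301078a4ba43) (nat_lit 3584))
) (.node (nat_lit 0xb040301078b4ba03) (.leaf (nat_lit 0xb040301078b4aa33) (nat_lit 3075))
 (.leaf (nat_lit 0xb040301078b4ba03) (nat_lit 1539))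
))))))) (.node (nat_lit 0xb050301008040a07) (.node (nat_lit 0xb050201048844acd) (.node (nat_lit 0xb05020102804aa2d) (.node (nat_lit 0xb050201018040abd) (.node (nat_lit 0xb050201008244a2d) (.node (nat_lit 0xb050201008140a5d) (.node (nat_lit 0xb050201008041a2d) (.leaf (nat_lit 0xb050201008040a0d) (nat_lit 1539))
 (.leaf (nat_lit 0xb050201008041a2d) (nat_lit 3075))
) (.node (nat_lit 0xb050201008141a7d) (.leaf (nat_lit 0xb050201008140a5d) (nat_lit 3586))
 (.leaf (nat_lit 0xb050201008141a7d) (nat_lit 3585))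
)) (.node (nat_lit 0xb050201008344a7d) (.node (nat_lit 0xb050201008245a0d) (.leaf (nat_lit 0xb050201008244a2d) (nat_lit 2561))
 (.leaf (nat_lit 0xb050201008245a0d) (nat_lit 2562))
) (.node (nat_lit 0xb050201008345a5d) (.leaf (nat_lit 0xb050201008344a7d) (nat_lit 2563))
 (.leaf (nat_lit 0xb050201008345a5d) (nat_lit 2560))
))) (.node (nat_lit 0xb050201018244a9d) (.node (nat_lit 0xb050201018140aed) (.node (nat_lit 0xb050201018041a9d) (.leaf (nat_lit 0xb050201018040abd) (nat_lit 2562))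
 (.leaf (nat_lit 0xb050201018041a9d) (nat_lit 2560))
) (.node (nat_lit 0xb050201018141acd) (.leaf (nat_lit 0xb050201018140aed) (nat_lit 2561))
 (.leaf (nat_lit 0xb050201018141acd) (nat_lit 2563))
)) (.node (nat_lit 0xb050201018344acd) (.node (nat_lit 0xb050201018245abd) (.leaf (nat_lit 0xb050201018244a9d) (nat_lit 3587))
 (.leaf (nat_lit 0xb050201018245abd) (nat_lit 3587))
) (.node (nat_lit 0xb050201018345aed) (.leaf (nat_lit 0xb050201018344acd) (nat_lit 2050))
 (.leaf (nat_lit 0xb050201018345aed) (nat_lit 2563))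
)))) (.node (nat_lit 0xb05020103804aa9d) (.node (nat_lit 0xb05020102824ea0d) (.node (nat_lit 0xb05020102814aa7d) (.node (nat_lit 0xb05020102804ba0d) (.leaf (nat_lit 0xb05020102804aa2d) (nat_lit 2049))
 (.leaf (nat_lit 0xb05020102804ba0d) (nat_lit 2050))
) (.node (nat_lit 0xb05020102814ba5d) (.leaf (nat_lit 0xb05020102814aa7d) (nat_lit 3075))
 (.leaf (nat_lit 0xb05020102814ba5d) (nat_lit 3073))
)) (.node (nat_lit 0xb05020102834ea5d) (.node (nat_lit 0xb05020102824fa2d) (.leaf (nat_lit 0xb05020102824ea0d) (nat_lit 2563))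
 (.leaf (nat_lit 0xb05020102824fa2d) (nat_lit 3587))
) (.node (nat_lit 0xb05020102834fa7d) (.leaf (nat_lit 0xb05020102834ea5d) (nat_lit 3075))
 (.leaf (nat_lit 0xb05020102834fa7d) (nat_lit 2562))
))) (.node (nat_lit 0xb05020103824eabd) (.node (nat_lit 0xb05020103814aacd) (.node (nat_lit 0xb05020103804babd) (.leaf (nat_lit 0xb05020103804aa9d) (nat_lit 3587))
 (.leaf (nat_lit 0xb05020103804babd) (nat_lit 2563))
) (.node (nat_lit 0xb05020103814baed) (.leaf (nat_lit 0xb05020103814aacd) (nat_lit 2562))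
 (.leaf (nat_lit 0xb05020103814baed) (nat_lit 3075))
)) (.node (nat_lit 0xb05020103834eaed) (.node (nat_lit 0xb05020103824fa9d) (.leaf (nat_lit 0xb05020103824eabd) (nat_lit 3584))
 (.leaf (nat_lit 0xb05020103824fa9d) (nat_lit 3586))
) (.node (nat_lit 0xb05020103834facd) (.leaf (nat_lit 0xb05020103834eaed) (nat_lit 2050))
 (.leaf (nat_lit 0xb05020103834facd) (nat_lit 2051))
))))) (.node (nat_lit 0xb05020106884eaed) (.node (nat_lit 0xb050201058844a7d) (.node (nat_lit 0xb050201048a40aed) (.node (nat_lit 0xb050201048944a9d) (.node (nat_lit 0xb050201048845aed) (.leaf (nat_lit 0xb050201048844acd) (nat_lit 1795))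
 (.leaf (nat_lit 0xb050201048845aed) (nat_lit 2819))
) (.node (nat_lit 0xb050201048945abd) (.leaf (nat_lit 0xb050201048944a9d) (nat_lit 3328))
 (.leaf (nat_lit 0xb050201048945abd) (nat_lit 3329))
)) (.node (nat_lit 0xb050201048b40abd) (.node (nat_lit 0xb050201048a41acd) (.leaf (nat_lit 0xb050201048a40aed) (nat_lit 2305))
 (.leaf (nat_lit 0xb050201048a41acd) (nat_lit 2818))
) (.node (nat_lit 0xb050201048b41a9d) (.leaf (nat_lit 0xb050201048b40abd) (nat_lit 2307))
 (.leaf (nat_lit 0xb050201048b41a9d) (nat_lit 2816))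
))) (.node (nat_lit 0xb050201058a40a5d) (.node (nat_lit 0xb050201058944a2d) (.node (nat_lit 0xb050201058845a5d) (.leaf (nat_lit 0xb050201058844a7d) (nat_lit 2818))
 (.leaf (nat_lit 0xb050201058845a5d) (nat_lit 2304))
) (.node (nat_lit 0xb050201058945a0d) (.leaf (nat_lit 0xb050201058944a2d) (nat_lit 2817))
 (.leaf (nat_lit 0xb050201058945a0d) (nat_lit 2307))
)) (.node (nat_lit 0xb050201058b40a0d) (.node (nat_lit 0xb050201058a41a7d) (.leaf (nat_lit 0xb050201058a40a5d) (nat_lit 3331))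
 (.leaf (nat_lit 0xb050201058a41a7d) (nat_lit 3331))
) (.node (nat_lit 0xb050201058b41a2d) (.leaf (nat_lit 0xb050201058b40a0d) (nat_lit 1794))
 (.leaf (nat_lit 0xb050201058b41a2d) (nat_lit 2819))
)))) (.node (nat_lit 0xb05020107884ea5d) (.node (nat_lit 0xb050201068a4aacd) (.node (nat_lit 0xb05020106894eabd) (.node (nat_lit 0xb05020106884facd) (.leaf (nat_lit 0xb05020106884eaed) (nat_lit 1793))
 (.leaf (nat_lit 0xb05020106884facd) (nat_lit 2306))
) (.node (nat_lit 0xb05020106894fa9d) (.leaf (nat_lit 0xb05020106894eabd) (nat_lit 3331))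
 (.leaf (nat_lit 0xb05020106894fa9d) (nat_lit 3331))
)) (.node (nat_lit 0xb050201068b4aa9d) (.node (nat_lit 0xb050201068a4baed) (.leaf (nat_lit 0xb050201068a4aacd) (nat_lit 2307))
 (.leaf (nat_lit 0xb050201068a4baed) (nat_lit 3331))
) (.node (nat_lit 0xb050201068b4babd) (.leaf (nat_lit 0xb050201068b4aa9d) (nat_lit 3331))
 (.leaf (nat_lit 0xb050201068b4babd) (nat_lit 2304))
))) (.node (nat_lit 0xb050201078a4aa7d) (.node (nat_lit 0xb05020107894ea0d) (.node (nat_lit 0xb05020107884fa7d) (.leaf (nat_lit 0xb05020107884ea5d) (nat_lit 3331))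
 (.leaf (nat_lit 0xb05020107884fa7d) (nat_lit 2307))
) (.node (nat_lit 0xb05020107894fa2d) (.leaf (nat_lit 0xb05020107894ea0d) (nat_lit 2305))
 (.leaf (nat_lit 0xb05020107894fa2d) (nat_lit 3331))
)) (.node (nat_lit 0xb050201078b4aa2d) (.node (nat_lit 0xb050201078a4ba5d) (.leaf (nat_lit 0xb050201078a4aa7d) (nat_lit 3328))
 (.leaf (nat_lit 0xb050201078a4ba5d) (nat_lit 3329))
) (.node (nat_lit 0xb050201078b4ba0d) (.leaf (nat_lit 0xb050201078b4aa2d) (nat_lit 2306))
 (.leaf (nat_lit 0xb050201078b4ba0d) (nat_lit 1795))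
)))))) (.node (nat_lit 0xb050301048844a87) (.node (nat_lit 0xb05030102804aa87) (.node (nat_lit 0xb050301018040ab7) (.node (nat_lit 0xb050301008244a67) (.node (nat_lit 0xb050301008140a57) (.node (nat_lit 0xb050301008041a37) (.leaf (nat_lit 0xb050301008040a07) (nat_lit 1281))
 (.leaf (nat_lit 0xb050301008041a37) (nat_lit 3328))
) (.node (nat_lit 0xb050301008141a67) (.leaf (nat_lit 0xb050301008140a57) (nat_lit 3331))
 (.leaf (nat_lit 0xb050301008141a67) (nat_lit 3331))
)) (.node (nat_lit 0xb050301008344a37) (.node (nat_lit 0xb050301008245a57) (.leaf (nat_lit 0xb050301008244a67) (nat_lit 2305))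
 (.leaf (nat_lit 0xb050301008245a57) (nat_lit 2818))
) (.node (nat_lit 0xb050301008345a07) (.leaf (nat_lit 0xb050301008344a37) (nat_lit 2819))
 (.leaf (nat_lit 0xb050301008345a07) (nat_lit 2307))
))) (.node (nat_lit 0xb050301018244ad7) (.node (nat_lit 0xb050301018140ae7) (.node (nat_lit 0xb050301018041a87) (.leaf (nat_lit 0xb050301018040ab7) (nat_lit 2819))
 (.leaf (nat_lit 0xb050301018041a87) (nat_lit 2307))
) (.node (nat_lit 0xb050301018141ad7) (.leaf (nat_lit 0xb050301018140ae7) (nat_lit 2306))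
 (.leaf (nat_lit 0xb050301018141ad7) (nat_lit 2816))
)) (.node (nat_lit 0xb050301018344a87) (.node (nat_lit 0xb050301018245ae7) (.leaf (nat_lit 0xb050301018244ad7) (nat_lit 3331))
 (.leaf (nat_lit 0xb050301018245ae7) (nat_lit 3331))
) (.node (nat_lit 0xb050301018345ab7) (.leaf (nat_lit 0xb050301018344a87) (nat_lit 1794))
 (.leaf (nat_lit 0xb050301018345ab7) (nat_lit 2816))
)))) (.node (nat_lit 0xb05030103804aa37) (.node (nat_lit 0xb05030102824eae7) (.node (nat_lit 0xb05030102814aad7) (.node (nat_lit 0xb05030102804bab7) (.leaf (nat_lit 0xb05030102804aa87) (nat_lit 1793))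
 (.leaf (nat_lit 0xb05030102804bab7) (nat_lit 2306))
) (.node (nat_lit 0xb05030102814bae7) (.leaf (nat_lit 0xb05030102814aad7) (nat_lit 3330))
 (.leaf (nat_lit 0xb05030102814bae7) (nat_lit 2819))
)) (.node (nat_lit 0xb05030102834eab7) (.node (nat_lit 0xb05030102824fad7) (.leaf (nat_lit 0xb05030102824eae7) (nat_lit 2305))
 (.leaf (nat_lit 0xb05030102824fad7) (nat_lit 3331))
) (.node (nat_lit 0xb05030102834fa87) (.leaf (nat_lit 0xb05030102834eab7) (nat_lit 3331))
 (.leaf (nat_lit 0xb05030102834fa87) (nat_lit 2307))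
))) (.node (nat_lit 0xb05030103824ea57) (.node (nat_lit 0xb05030103814aa67) (.node (nat_lit 0xb05030103804ba07) (.leaf (nat_lit 0xb05030103804aa37) (nat_lit 3843))
 (.leaf (nat_lit 0xb05030103804ba07) (nat_lit 2307))
) (.node (nat_lit 0xb05030103814ba57) (.leaf (nat_lit 0xb05030103814aa67) (nat_lit 2818))
 (.leaf (nat_lit 0xb05030103814ba57) (nat_lit 3328))
)) (.node (nat_lit 0xb05030103834ea07) (.node (nat_lit 0xb05030103824fa67) (.leaf (nat_lit 0xb05030103824ea57) (nat_lit 3331))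
 (.leaf (nat_lit 0xb05030103824fa67) (nat_lit 3330))
) (.node (nat_lit 0xb05030103834fa37) (.leaf (nat_lit 0xb05030103834ea07) (nat_lit 1794))
 (.leaf (nat_lit 0xb05030103834fa37) (nat_lit 2304))
))))) (.node (nat_lit 0xb05030106884ea07) (.node (nat_lit 0xb050301058844a37) (.node (nat_lit 0xb050301048a40ae7) (.node (nat_lit 0xb050301048944ad7) (.node (nat_lit 0xb050301048845ab7) (.leaf (nat_lit 0xb050301048844a87) (nat_lit 1537))
 (.leaf (nat_lit 0xb050301048845ab7) (nat_lit 3072))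
) (.node (nat_lit 0xb050301048945ae7) (.leaf (nat_lit 0xb050301048944ad7) (nat_lit 3075))
 (.leaf (nat_lit 0xb050301048945ae7) (nat_lit 3075))
)) (.node (nat_lit 0xb050301048b40ab7) (.node (nat_lit 0xb050301048a41ad7) (.leaf (nat_lit 0xb050301048a40ae7) (nat_lit 2049))
 (.leaf (nat_lit 0xb050301048a41ad7) (nat_lit 3074))
) (.node (nat_lit 0xb050301048b41a87) (.leaf (nat_lit 0xb050301048b40ab7) (nat_lit 2563))
 (.leaf (nat_lit 0xb050301048b41a87) (nat_lit 2563))
))) (.node (nat_lit 0xb050301058a40a57) (.node (nat_lit 0xb050301058944a67) (.node (nat_lit 0xb050301058845a07) (.leaf (nat_lit 0xb050301058844a37) (nat_lit 3075))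
 (.leaf (nat_lit 0xb050301058845a07) (nat_lit 2051))
) (.node (nat_lit 0xb050301058945a57) (.leaf (nat_lit 0xb050301058944a67) (nat_lit 2562))
 (.leaf (nat_lit 0xb050301058945a57) (nat_lit 2560))
)) (.node (nat_lit 0xb050301058b40a07) (.node (nat_lit 0xb050301058a41a67) (.leaf (nat_lit 0xb050301058a40a57) (nat_lit 3587))
 (.leaf (nat_lit 0xb050301058a41a67) (nat_lit 3585))
) (.node (nat_lit 0xb050301058b41a37) (.leaf (nat_lit 0xb050301058b40a07) (nat_lit 1538))
 (.leaf (nat_lit 0xb050301058b41a37) (nat_lit 3072))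
)))) (.node (nat_lit 0xb05030107884eab7) (.node (nat_lit 0xb050301068a4aa67) (.node (nat_lit 0xb05030106894ea57) (.node (nat_lit 0xb05030106884fa37) (.leaf (nat_lit 0xb05030106884ea07) (nat_lit 1537))
 (.leaf (nat_lit 0xb05030106884fa37) (nat_lit 2562))
) (.node (nat_lit 0xb05030106894fa67) (.leaf (nat_lit 0xb05030106894ea57) (nat_lit 3587))
 (.leaf (nat_lit 0xb05030106894fa67) (nat_lit 3075))
)) (.node (nat_lit 0xb050301068b4aa37) (.node (nat_lit 0xb050301068a4ba57) (.leaf (nat_lit 0xb050301068a4aa67) (nat_lit 2560))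
 (.leaf (nat_lit 0xb050301068a4ba57) (nat_lit 3587))
) (.node (nat_lit 0xb050301068b4ba07) (.leaf (nat_lit 0xb050301068b4aa37) (nat_lit 3587))
 (.leaf (nat_lit 0xb050301068b4ba07) (nat_lit 2051))
))) (.node (nat_lit 0xb050301078a4aad7) (.node (nat_lit 0xb05030107894eae7) (.node (nat_lit 0xb05030107884fa87) (.leaf (nat_lit 0xb05030107884eab7) (nat_lit 3587))
 (.leaf (nat_lit 0xb05030107884fa87) (nat_lit 2563))
) (.node (nat_lit 0xb05030107894fad7) (.leaf (nat_lit 0xb05030107894eae7) (nat_lit 2561))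
 (.leaf (nat_lit 0xb05030107894fad7) (nat_lit 3586))
)) (.node (nat_lit 0xb050301078b4aa87) (.node (nat_lit 0xb050301078a4bae7) (.leaf (nat_lit 0xb050301078a4aad7) (nat_lit 3075))
 (.leaf (nat_lit 0xb050301078a4bae7) (nat_lit 3075))
) (.node (nat_lit 0xb050301078b4bab7) (.leaf (nat_lit 0xb050301078b4aa87) (nat_lit 2050))
 (.leaf (nat_lit 0xb050301078b4bab7) (nat_lit 2048))
)))))))) (.node (nat_lit 0xb070201008040e0d) (.node (nat_lit 0xb060301008040e07) (.node (nat_lit 0xb06020104884ce49) (.node (nat_lit 0xb06020102804ae29) (.node (nat_lit 0xb060201018040eb9) (.node (nat_lit 0xb060201008246e09) (.node (nat_lit 0xb060201008140e69) (.node (nat_lit 0xb060201008041e29) (.leaf (nat_lit 0xb060201008040e09) (nat_lit 1795))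
 (.leaf (nat_lit 0xb060201008041e29) (nat_lit 3331))
) (.node (nat_lit 0xb060201008141e49) (.leaf (nat_lit 0xb060201008140e69) (nat_lit 2818))
 (.leaf (nat_lit 0xb060201008141e49) (nat_lit 2817))
)) (.node (nat_lit 0xb060201008346e69) (.node (nat_lit 0xb060201008247e29) (.leaf (nat_lit 0xb060201008246e09) (nat_lit 2818))
 (.leaf (nat_lit 0xb060201008247e29) (nat_lit 3328))
) (.node (nat_lit 0xb060201008347e49) (.leaf (nat_lit 0xb060201008346e69) (nat_lit 2306))
 (.leaf (nat_lit 0xb060201008347e49) (nat_lit 2307))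
))) (.node (nat_lit 0xb060201018246eb9) (.node (nat_lit 0xb060201018140ed9) (.node (nat_lit 0xb060201018041e99) (.leaf (nat_lit 0xb060201018040eb9) (nat_lit 2306))
 (.leaf (nat_lit 0xb060201018041e99) (nat_lit 2305))
) (.node (nat_lit 0xb060201018141ef9) (.leaf (nat_lit 0xb060201018140ed9) (nat_lit 2819))
 (.leaf (nat_lit 0xb060201018141ef9) (nat_lit 2819))
)) (.node (nat_lit 0xb060201018346ed9) (.node (nat_lit 0xb060201018247e99) (.leaf (nat_lit 0xb060201018246eb9) (nat_lit 3331))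
 (.leaf (nat_lit 0xb060201018247e99) (nat_lit 3331))
) (.node (nat_lit 0xb060201018347ef9) (.leaf (nat_lit 0xb060201018346ed9) (nat_lit 2819))
 (.leaf (nat_lit 0xb060201018347ef9) (nat_lit 2306))
)))) (.node (nat_lit 0xb06020103804ae99) (.node (nat_lit 0xb06020102824ce29) (.node (nat_lit 0xb06020102814ae49) (.node (nat_lit 0xb06020102804be09) (.leaf (nat_lit 0xb06020102804ae29) (nat_lit 2304))
 (.leaf (nat_lit 0xb06020102804be09) (nat_lit 2306))
) (.node (nat_lit 0xb06020102814be69) (.leaf (nat_lit 0xb06020102814ae49) (nat_lit 2819))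
 (.leaf (nat_lit 0xb06020102814be69) (nat_lit 2819))
)) (.node (nat_lit 0xb06020102834ce49) (.node (nat_lit 0xb06020102824de09) (.leaf (nat_lit 0xb06020102824ce29) (nat_lit 2819))
 (.leaf (nat_lit 0xb06020102824de09) (nat_lit 2819))
) (.node (nat_lit 0xb06020102834de69) (.leaf (nat_lit 0xb06020102834ce49) (nat_lit 2306))
 (.leaf (nat_lit 0xb06020102834de69) (nat_lit 2819))
))) (.node (nat_lit 0xb06020103824ce99) (.node (nat_lit 0xb06020103814aef9) (.node (nat_lit 0xb06020103804beb9) (.leaf (nat_lit 0xb06020103804ae99) (nat_lit 3331))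
 (.leaf (nat_lit 0xb06020103804beb9) (nat_lit 2307))
) (.node (nat_lit 0xb06020103814bed9) (.leaf (nat_lit 0xb06020103814aef9) (nat_lit 3330))
 (.leaf (nat_lit 0xb06020103814bed9) (nat_lit 3328))
)) (.node (nat_lit 0xb06020103834cef9) (.node (nat_lit 0xb06020103824deb9) (.leaf (nat_lit 0xb06020103824ce99) (nat_lit 3330))
 (.leaf (nat_lit 0xb06020103824deb9) (nat_lit 3329))
) (.node (nat_lit 0xb06020103834ded9) (.leaf (nat_lit 0xb06020103834cef9) (nat_lit 2307))
 (.leaf (nat_lit 0xb06020103834ded9) (nat_lit 2304))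
))))) (.node (nat_lit 0xb060201068846e69) (.node (nat_lit 0xb06020105884cef9) (.node (nat_lit 0xb060201048a4ae49) (.node (nat_lit 0xb06020104894ce29) (.node (nat_lit 0xb06020104884de69) (.leaf (nat_lit 0xb06020104884ce49) (nat_lit 2051))
 (.leaf (nat_lit 0xb06020104884de69) (nat_lit 3075))
) (.node (nat_lit 0xb06020104894de09) (.leaf (nat_lit 0xb06020104894ce29) (nat_lit 3074))
 (.leaf (nat_lit 0xb06020104894de09) (nat_lit 2561))
)) (.node (nat_lit 0xb060201048b4ae29) (.node (nat_lit 0xb060201048a4be69) (.leaf (nat_lit 0xb060201048a4ae49) (nat_lit 2560))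
 (.leaf (nat_lit 0xb060201048a4be69) (nat_lit 3074))
) (.node (nat_lit 0xb060201048b4be09) (.leaf (nat_lit 0xb060201048b4ae29) (nat_lit 2562))
 (.leaf (nat_lit 0xb060201048b4be09) (nat_lit 2051))
))) (.node (nat_lit 0xb060201058a4aef9) (.node (nat_lit 0xb06020105894ce99) (.node (nat_lit 0xb06020105884ded9) (.leaf (nat_lit 0xb06020105884cef9) (nat_lit 2562))
 (.leaf (nat_lit 0xb06020105884ded9) (nat_lit 2049))
) (.node (nat_lit 0xb06020105894deb9) (.leaf (nat_lit 0xb06020105894ce99) (nat_lit 3075))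
 (.leaf (nat_lit 0xb06020105894deb9) (nat_lit 3075))
)) (.node (nat_lit 0xb060201058b4ae99) (.node (nat_lit 0xb060201058a4bed9) (.leaf (nat_lit 0xb060201058a4aef9) (nat_lit 3075))
 (.leaf (nat_lit 0xb060201058a4bed9) (nat_lit 3075))
) (.node (nat_lit 0xb060201058b4beb9) (.leaf (nat_lit 0xb060201058b4ae99) (nat_lit 3075))
 (.leaf (nat_lit 0xb060201058b4beb9) (nat_lit 2048))
)))) (.node (nat_lit 0xb060201078846ed9) (.node (nat_lit 0xb060201068a40e69) (.node (nat_lit 0xb060201068946e09) (.node (nat_lit 0xb060201068847e49) (.leaf (nat_lit 0xb060201068846e69) (nat_lit 2048))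
 (.leaf (nat_lit 0xb060201068847e49) (nat_lit 2562))
) (.node (nat_lit 0xb060201068947e29) (.leaf (nat_lit 0xb060201068946e09) (nat_lit 2563))
 (.leaf (nat_lit 0xb060201068947e29) (nat_lit 3075))
)) (.node (nat_lit 0xb060201068b40e09) (.node (nat_lit 0xb060201068a41e49) (.leaf (nat_lit 0xb060201068a40e69) (nat_lit 2563))
 (.leaf (nat_lit 0xb060201068a41e49) (nat_lit 3075))
) (.node (nat_lit 0xb060201068b41e29) (.leaf (nat_lit 0xb060201068b40e09) (nat_lit 2050))
 (.leaf (nat_lit 0xb060201068b41e29) (nat_lit 3075))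
))) (.node (nat_lit 0xb060201078a40ed9) (.node (nat_lit 0xb060201078946eb9) (.node (nat_lit 0xb060201078847ef9) (.leaf (nat_lit 0xb060201078846ed9) (nat_lit 3075))
 (.leaf (nat_lit 0xb060201078847ef9) (nat_lit 2051))
) (.node (nat_lit 0xb060201078947e99) (.leaf (nat_lit 0xb060201078946eb9) (nat_lit 3073))
 (.leaf (nat_lit 0xb060201078947e99) (nat_lit 3072))
)) (.node (nat_lit 0xb060201078b40eb9) (.node (nat_lit 0xb060201078a41ef9) (.leaf (nat_lit 0xb060201078a40ed9) (nat_lit 3073))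
 (.leaf (nat_lit 0xb060201078a41ef9) (nat_lit 3074))
) (.node (nat_lit 0xb060201078b41e99) (.leaf (nat_lit 0xb060201078b40eb9) (nat_lit 2051))
 (.leaf (nat_lit 0xb060201078b41e99) (nat_lit 2560))
)))))) (.node (nat_lit 0xb06030104884ce87) (.node (nat_lit 0xb06030102804ae87) (.node (nat_lit 0xb060301018040eb7) (.node (nat_lit 0xb060301008246e67) (.node (nat_lit 0xb060301008140e67) (.node (nat_lit 0xb060301008041e37) (.leaf (nat_lit 0xb060301008040e07) (nat_lit 1539))
 (.leaf (nat_lit 0xb060301008041e37) (nat_lit 3587))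
) (.node (nat_lit 0xb060301008141e57) (.leaf (nat_lit 0xb060301008140e67) (nat_lit 3074))
 (.leaf (nat_lit 0xb060301008141e57) (nat_lit 3073))
)) (.node (nat_lit 0xb060301008346e07) (.node (nat_lit 0xb060301008247e57) (.leaf (nat_lit 0xb060301008246e67) (nat_lit 2563))
 (.leaf (nat_lit 0xb060301008247e57) (nat_lit 3075))
) (.node (nat_lit 0xb060301008347e37) (.leaf (nat_lit 0xb060301008346e07) (nat_lit 2050))
 (.leaf (nat_lit 0xb060301008347e37) (nat_lit 2560))
))) (.node (nat_lit 0xb060301018246ed7) (.node (nat_lit 0xb060301018140ed7) (.node (nat_lit 0xb060301018041e87) (.leaf (nat_lit 0xb060301018040eb7) (nat_lit 2562))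
 (.leaf (nat_lit 0xb060301018041e87) (nat_lit 2049))
) (.node (nat_lit 0xb060301018141ee7) (.leaf (nat_lit 0xb060301018140ed7) (nat_lit 3075))
 (.leaf (nat_lit 0xb060301018141ee7) (nat_lit 2563))
)) (.node (nat_lit 0xb060301018346eb7) (.node (nat_lit 0xb060301018247ee7) (.leaf (nat_lit 0xb060301018246ed7) (nat_lit 3073))
 (.leaf (nat_lit 0xb060301018247ee7) (nat_lit 3074))
) (.node (nat_lit 0xb060301018347e87) (.leaf (nat_lit 0xb060301018346eb7) (nat_lit 3075))
 (.leaf (nat_lit 0xb060301018347e87) (nat_lit 2051))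
)))) (.node (nat_lit 0xb06030103804ae37) (.node (nat_lit 0xb06030102824cee7) (.node (nat_lit 0xb06030102814aee7) (.node (nat_lit 0xb06030102804beb7) (.leaf (nat_lit 0xb06030102804ae87) (nat_lit 2051))
 (.leaf (nat_lit 0xb06030102804beb7) (nat_lit 2563))
) (.node (nat_lit 0xb06030102814bed7) (.leaf (nat_lit 0xb06030102814aee7) (nat_lit 2562))
 (.leaf (nat_lit 0xb06030102814bed7) (nat_lit 3072))
)) (.node (nat_lit 0xb06030102834ce87) (.node (nat_lit 0xb06030102824ded7) (.leaf (nat_lit 0xb06030102824cee7) (nat_lit 2563))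
 (.leaf (nat_lit 0xb06030102824ded7) (nat_lit 3073))
) (.node (nat_lit 0xb06030102834deb7) (.leaf (nat_lit 0xb06030102834ce87) (nat_lit 2050))
 (.leaf (nat_lit 0xb06030102834deb7) (nat_lit 3072))
))) (.node (nat_lit 0xb06030103824ce57) (.node (nat_lit 0xb06030103814ae57) (.node (nat_lit 0xb06030103804be07) (.leaf (nat_lit 0xb06030103804ae37) (nat_lit 3585))
 (.leaf (nat_lit 0xb06030103804be07) (nat_lit 2050))
) (.node (nat_lit 0xb06030103814be67) (.leaf (nat_lit 0xb06030103814ae57) (nat_lit 3586))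
 (.leaf (nat_lit 0xb06030103814be67) (nat_lit 3075))
)) (.node (nat_lit 0xb06030103834ce37) (.node (nat_lit 0xb06030103824de67) (.leaf (nat_lit 0xb06030103824ce57) (nat_lit 3074))
 (.leaf (nat_lit 0xb06030103824de67) (nat_lit 3073))
) (.node (nat_lit 0xb06030103834de07) (.leaf (nat_lit 0xb06030103834ce37) (nat_lit 2563))
 (.leaf (nat_lit 0xb06030103834de07) (nat_lit 2051))
))))) (.node (nat_lit 0xb060301068846e07) (.node (nat_lit 0xb06030105884ce37) (.node (nat_lit 0xb060301048a4aee7) (.node (nat_lit 0xb06030104894cee7) (.node (nat_lit 0xb06030104884deb7) (.leaf (nat_lit 0xb06030104884ce87) (nat_lit 1795))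
 (.leaf (nat_lit 0xb06030104884deb7) (nat_lit 3331))
) (.node (nat_lit 0xb06030104894ded7) (.leaf (nat_lit 0xb06030104894cee7) (nat_lit 2818))
 (.leaf (nat_lit 0xb06030104894ded7) (nat_lit 2817))
)) (.node (nat_lit 0xb060301048b4ae87) (.node (nat_lit 0xb060301048a4bed7) (.leaf (nat_lit 0xb060301048a4aee7) (nat_lit 2307))
 (.leaf (nat_lit 0xb060301048a4bed7) (nat_lit 3331))
) (.node (nat_lit 0xb060301048b4beb7) (.leaf (nat_lit 0xb060301048b4ae87) (nat_lit 2306))
 (.leaf (nat_lit 0xb060301048b4beb7) (nat_lit 2304))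
))) (.node (nat_lit 0xb060301058a4ae57) (.node (nat_lit 0xb06030105894ce57) (.node (nat_lit 0xb06030105884de07) (.leaf (nat_lit 0xb06030105884ce37) (nat_lit 2818))
 (.leaf (nat_lit 0xb06030105884de07) (nat_lit 1793))
) (.node (nat_lit 0xb06030105894de67) (.leaf (nat_lit 0xb06030105894ce57) (nat_lit 2819))
 (.leaf (nat_lit 0xb06030105894de67) (nat_lit 2819))
)) (.node (nat_lit 0xb060301058b4ae37) (.node (nat_lit 0xb060301058a4be67) (.leaf (nat_lit 0xb060301058a4ae57) (nat_lit 3328))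
 (.leaf (nat_lit 0xb060301058a4be67) (nat_lit 3330))
) (.node (nat_lit 0xb060301058b4be07) (.leaf (nat_lit 0xb060301058b4ae37) (nat_lit 3331))
 (.leaf (nat_lit 0xb060301058b4be07) (nat_lit 1795))
)))) (.node (nat_lit 0xb060301078846eb7) (.node (nat_lit 0xb060301068a40e67) (.node (nat_lit 0xb060301068946e67) (.node (nat_lit 0xb060301068847e37) (.leaf (nat_lit 0xb060301068846e07) (nat_lit 1795))
 (.leaf (nat_lit 0xb060301068847e37) (nat_lit 2819))
) (.node (nat_lit 0xb060301068947e57) (.leaf (nat_lit 0xb060301068946e67) (nat_lit 2816))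
 (.leaf (nat_lit 0xb060301068947e57) (nat_lit 3330))
)) (.node (nat_lit 0xb060301068b40e07) (.node (nat_lit 0xb060301068a41e57) (.leaf (nat_lit 0xb060301068a40e67) (nat_lit 2819))
 (.leaf (nat_lit 0xb060301068a41e57) (nat_lit 3329))
) (.node (nat_lit 0xb060301068b41e37) (.leaf (nat_lit 0xb060301068b40e07) (nat_lit 1794))
 (.leaf (nat_lit 0xb060301068b41e37) (nat_lit 3328))
))) (.node (nat_lit 0xb060301078a40ed7) (.node (nat_lit 0xb060301078946ed7) (.node (nat_lit 0xb060301078847e87) (.leaf (nat_lit 0xb060301078846eb7) (nat_lit 3330))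
 (.leaf (nat_lit 0xb060301078847e87) (nat_lit 2305))
) (.node (nat_lit 0xb060301078947ee7) (.leaf (nat_lit 0xb060301078946ed7) (nat_lit 3330))
 (.leaf (nat_lit 0xb060301078947ee7) (nat_lit 2819))
)) (.node (nat_lit 0xb060301078b40eb7) (.node (nat_lit 0xb060301078a41ee7) (.leaf (nat_lit 0xb060301078a40ed7) (nat_lit 2817))
 (.leaf (nat_lit 0xb060301078a41ee7) (nat_lit 2818))
) (.node (nat_lit 0xb060301078b41e87) (.leaf (nat_lit 0xb060301078b40eb7) (nat_lit 2307))
 (.leaf (nat_lit 0xb060301078b41e87) (nat_lit 2307))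
))))))) (.node (nat_lit 0xb070301008040e03) (.node (nat_lit 0xb07020104884cecd) (.node (nat_lit 0xb07020102804ae2d) (.node (nat_lit 0xb070201018040ebd) (.node (nat_lit 0xb070201008246e2d) (.node (nat_lit 0xb070201008140e7d) (.node (nat_lit 0xb070201008041e2d) (.leaf (nat_lit 0xb070201008040e0d) (nat_lit 1281))
 (.leaf (nat_lit 0xb070201008041e2d) (nat_lit 2818))
) (.node (nat_lit 0xb070201008141e5d) (.leaf (nat_lit 0xb070201008140e7d) (nat_lit 3843))
 (.leaf (nat_lit 0xb070201008141e5d) (nat_lit 3843))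
)) (.node (nat_lit 0xb070201008346e5d) (.node (nat_lit 0xb070201008247e0d) (.leaf (nat_lit 0xb070201008246e2d) (nat_lit 2819))
 (.leaf (nat_lit 0xb070201008247e0d) (nat_lit 2819))
) (.node (nat_lit 0xb070201008347e7d) (.leaf (nat_lit 0xb070201008346e5d) (nat_lit 2819))
 (.leaf (nat_lit 0xb070201008347e7d) (nat_lit 2304))
))) (.node (nat_lit 0xb070201018246e9d) (.node (nat_lit 0xb070201018140ecd) (.node (nat_lit 0xb070201018041e9d) (.leaf (nat_lit 0xb070201018040ebd) (nat_lit 2819))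
 (.leaf (nat_lit 0xb070201018041e9d) (nat_lit 2819))
) (.node (nat_lit 0xb070201018141eed) (.leaf (nat_lit 0xb070201018140ecd) (nat_lit 2305))
 (.leaf (nat_lit 0xb070201018141eed) (nat_lit 2819))
)) (.node (nat_lit 0xb070201018346eed) (.node (nat_lit 0xb070201018247ebd) (.leaf (nat_lit 0xb070201018246e9d) (nat_lit 3328))
 (.leaf (nat_lit 0xb070201018247ebd) (nat_lit 3328))
) (.node (nat_lit 0xb070201018347ecd) (.leaf (nat_lit 0xb070201018346eed) (nat_lit 2306))
 (.leaf (nat_lit 0xb070201018347ecd) (nat_lit 2307))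
)))) (.node (nat_lit 0xb07020103804ae9d) (.node (nat_lit 0xb07020102824ce0d) (.node (nat_lit 0xb07020102814ae5d) (.node (nat_lit 0xb07020102804be0d) (.leaf (nat_lit 0xb07020102804ae2d) (nat_lit 2307))
 (.leaf (nat_lit 0xb07020102804be0d) (nat_lit 2307))
) (.node (nat_lit 0xb07020102814be7d) (.leaf (nat_lit 0xb07020102814ae5d) (nat_lit 3328))
 (.leaf (nat_lit 0xb07020102814be7d) (nat_lit 2817))
)) (.node (nat_lit 0xb07020102834ce7d) (.node (nat_lit 0xb07020102824de2d) (.leaf (nat_lit 0xb07020102824ce0d) (nat_lit 2305))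
 (.leaf (nat_lit 0xb07020102824de2d) (nat_lit 3328))
) (.node (nat_lit 0xb07020102834de5d) (.leaf (nat_lit 0xb07020102834ce7d) (nat_lit 2819))
 (.leaf (nat_lit 0xb07020102834de5d) (nat_lit 2818))
))) (.node (nat_lit 0xb07020103824cebd) (.node (nat_lit 0xb07020103814aeed) (.node (nat_lit 0xb07020103804bebd) (.leaf (nat_lit 0xb07020103804ae9d) (nat_lit 3329))
 (.leaf (nat_lit 0xb07020103804bebd) (nat_lit 2304))
) (.node (nat_lit 0xb07020103814becd) (.leaf (nat_lit 0xb07020103814aeed) (nat_lit 2818))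
 (.leaf (nat_lit 0xb07020103814becd) (nat_lit 2819))
)) (.node (nat_lit 0xb07020103834cecd) (.node (nat_lit 0xb07020103824de9d) (.leaf (nat_lit 0xb07020103824cebd) (nat_lit 3843))
 (.leaf (nat_lit 0xb07020103824de9d) (nat_lit 3843))
) (.node (nat_lit 0xb07020103834deed) (.leaf (nat_lit 0xb07020103834cecd) (nat_lit 1794))
 (.leaf (nat_lit 0xb07020103834deed) (nat_lit 2307))
))))) (.node (nat_lit 0xb070201068846eed) (.node (nat_lit 0xb07020105884ce7d) (.node (nat_lit 0xb070201048a4aeed) (.node (nat_lit 0xb07020104894cebd) (.node (nat_lit 0xb07020104884deed) (.leaf (nat_lit 0xb07020104884cecd) (nat_lit 1537))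
 (.leaf (nat_lit 0xb07020104884deed) (nat_lit 2562))
) (.node (nat_lit 0xb07020104894de9d) (.leaf (nat_lit 0xb07020104894cebd) (nat_lit 3587))
 (.leaf (nat_lit 0xb07020104894de9d) (nat_lit 3587))
)) (.node (nat_lit 0xb070201048b4ae9d) (.node (nat_lit 0xb070201048a4becd) (.leaf (nat_lit 0xb070201048a4aeed) (nat_lit 2563))
 (.leaf (nat_lit 0xb070201048a4becd) (nat_lit 3075))
) (.node (nat_lit 0xb070201048b4bebd) (.leaf (nat_lit 0xb070201048b4ae9d) (nat_lit 3075))
 (.leaf (nat_lit 0xb070201048b4bebd) (nat_lit 2048))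
))) (.node (nat_lit 0xb070201058a4ae5d) (.node (nat_lit 0xb07020105894ce0d) (.node (nat_lit 0xb07020105884de5d) (.leaf (nat_lit 0xb07020105884ce7d) (nat_lit 3075))
 (.leaf (nat_lit 0xb07020105884de5d) (nat_lit 2563))
) (.node (nat_lit 0xb07020105894de2d) (.leaf (nat_lit 0xb07020105894ce0d) (nat_lit 2049))
 (.leaf (nat_lit 0xb07020105894de2d) (nat_lit 3075))
)) (.node (nat_lit 0xb070201058b4ae2d) (.node (nat_lit 0xb070201058a4be7d) (.leaf (nat_lit 0xb070201058a4ae5d) (nat_lit 3072))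
 (.leaf (nat_lit 0xb070201058a4be7d) (nat_lit 3073))
) (.node (nat_lit 0xb070201058b4be0d) (.leaf (nat_lit 0xb070201058b4ae2d) (nat_lit 2562))
 (.leaf (nat_lit 0xb070201058b4be0d) (nat_lit 2051))
)))) (.node (nat_lit 0xb070201078846e5d) (.node (nat_lit 0xb070201068a40ecd) (.node (nat_lit 0xb070201068946e9d) (.node (nat_lit 0xb070201068847ecd) (.leaf (nat_lit 0xb070201068846eed) (nat_lit 2051))
 (.leaf (nat_lit 0xb070201068847ecd) (nat_lit 2563))
) (.node (nat_lit 0xb070201068947ebd) (.leaf (nat_lit 0xb070201068946e9d) (nat_lit 3072))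
 (.leaf (nat_lit 0xb070201068947ebd) (nat_lit 3073))
)) (.node (nat_lit 0xb070201068b40ebd) (.node (nat_lit 0xb070201068a41eed) (.leaf (nat_lit 0xb070201068a40ecd) (nat_lit 2049))
 (.leaf (nat_lit 0xb070201068a41eed) (nat_lit 3074))
) (.node (nat_lit 0xb070201068b41e9d) (.leaf (nat_lit 0xb070201068b40ebd) (nat_lit 2563))
 (.leaf (nat_lit 0xb070201068b41e9d) (nat_lit 3074))
))) (.node (nat_lit 0xb070201078a40e7d) (.node (nat_lit 0xb070201078946e2d) (.node (nat_lit 0xb070201078847e7d) (.leaf (nat_lit 0xb070201078846e5d) (nat_lit 3074))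
 (.leaf (nat_lit 0xb070201078847e7d) (nat_lit 2048))
) (.node (nat_lit 0xb070201078947e0d) (.leaf (nat_lit 0xb070201078946e2d) (nat_lit 3074))
 (.leaf (nat_lit 0xb070201078947e0d) (nat_lit 2563))
)) (.node (nat_lit 0xb070201078b40e0d) (.node (nat_lit 0xb070201078a41e5d) (.leaf (nat_lit 0xb070201078a40e7d) (nat_lit 3587))
 (.leaf (nat_lit 0xb070201078a41e5d) (nat_lit 3587))
) (.node (nat_lit 0xb070201078b41e2d) (.leaf (nat_lit 0xb070201078b40e0d) (nat_lit 1538))
 (.leaf (nat_lit 0xb070201078b41e2d) (nat_lit 2563))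
)))))) (.node (nat_lit 0xb07030104884ce03) (.node (nat_lit 0xb07030102804ae83) (.node (nat_lit 0xb070301018040eb3) (.node (nat_lit 0xb070301008246e43) (.node (nat_lit 0xb070301008140e73) (.node (nat_lit 0xb070301008041e33) (.leaf (nat_lit 0xb070301008040e03) (nat_lit 1025))
 (.leaf (nat_lit 0xb070301008041e33) (nat_lit 3074))
) (.node (nat_lit 0xb070301008141e43) (.leaf (nat_lit 0xb070301008140e73) (nat_lit 3587))
 (.leaf (nat_lit 0xb070301008141e43) (nat_lit 3587))
)) (.node (nat_lit 0xb070301008346e33) (.node (nat_lit 0xb070301008247e73) (.leaf (nat_lit 0xb070301008246e43) (nat_lit 2561))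
 (.leaf (nat_lit 0xb070301008247e73) (nat_lit 3072))
) (.node (nat_lit 0xb070301008347e03) (.leaf (nat_lit 0xb070301008346e33) (nat_lit 3075))
 (.leaf (nat_lit 0xb070301008347e03) (nat_lit 2051))
))) (.node (nat_lit 0xb070301018246ef3) (.node (nat_lit 0xb070301018140ec3) (.node (nat_lit 0xb070301018041e83) (.leaf (nat_lit 0xb070301018040eb3) (nat_lit 3075))
 (.leaf (nat_lit 0xb070301018041e83) (nat_lit 2563))
) (.node (nat_lit 0xb070301018141ef3) (.leaf (nat_lit 0xb070301018140ec3) (nat_lit 2050))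
 (.leaf (nat_lit 0xb070301018141ef3) (nat_lit 3075))
)) (.node (nat_lit 0xb070301018346e83) (.node (nat_lit 0xb070301018247ec3) (.leaf (nat_lit 0xb070301018246ef3) (nat_lit 3075))
 (.leaf (nat_lit 0xb070301018247ec3) (nat_lit 3075))
) (.node (nat_lit 0xb070301018347eb3) (.leaf (nat_lit 0xb070301018346e83) (nat_lit 2050))
 (.leaf (nat_lit 0xb070301018347eb3) (nat_lit 2560))
)))) (.node (nat_lit 0xb07030103804ae33) (.node (nat_lit 0xb07030102824cec3) (.node (nat_lit 0xb07030102814aef3) (.node (nat_lit 0xb07030102804beb3) (.leaf (nat_lit 0xb07030102804ae83) (nat_lit 2049))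
 (.leaf (nat_lit 0xb07030102804beb3) (nat_lit 2560))
) (.node (nat_lit 0xb07030102814bec3) (.leaf (nat_lit 0xb07030102814aef3) (nat_lit 3075))
 (.leaf (nat_lit 0xb07030102814bec3) (nat_lit 2563))
)) (.node (nat_lit 0xb07030102834ceb3) (.node (nat_lit 0xb07030102824def3) (.leaf (nat_lit 0xb07030102824cec3) (nat_lit 2049))
 (.leaf (nat_lit 0xb07030102824def3) (nat_lit 3075))
) (.node (nat_lit 0xb07030102834de83) (.leaf (nat_lit 0xb07030102834ceb3) (nat_lit 3075))
 (.leaf (nat_lit 0xb07030102834de83) (nat_lit 2563))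
))) (.node (nat_lit 0xb07030103824ce73) (.node (nat_lit 0xb07030103814ae43) (.node (nat_lit 0xb07030103804be03) (.leaf (nat_lit 0xb07030103804ae33) (nat_lit 3587))
 (.leaf (nat_lit 0xb07030103804be03) (nat_lit 2051))
) (.node (nat_lit 0xb07030103814be73) (.leaf (nat_lit 0xb07030103814ae43) (nat_lit 3074))
 (.leaf (nat_lit 0xb07030103814be73) (nat_lit 3072))
)) (.node (nat_lit 0xb07030103834ce03) (.node (nat_lit 0xb07030103824de43) (.leaf (nat_lit 0xb07030103824ce73) (nat_lit 3587))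
 (.leaf (nat_lit 0xb07030103824de43) (nat_lit 3586))
) (.node (nat_lit 0xb07030103834de33) (.leaf (nat_lit 0xb07030103834ce03) (nat_lit 1538))
 (.leaf (nat_lit 0xb07030103834de33) (nat_lit 2560))
))))) (.node (nat_lit 0xb070301068846e83) (.node (nat_lit 0xb07030105884ceb3) (.node (nat_lit 0xb070301048a4ae43) (.node (nat_lit 0xb07030104894ce73) (.node (nat_lit 0xb07030104884de33) (.leaf (nat_lit 0xb07030104884ce03) (nat_lit 1281))
 (.leaf (nat_lit 0xb07030104884de33) (nat_lit 2818))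
) (.node (nat_lit 0xb07030104894de43) (.leaf (nat_lit 0xb07030104894ce73) (nat_lit 3843))
 (.leaf (nat_lit 0xb07030104894de43) (nat_lit 3331))
)) (.node (nat_lit 0xb070301048b4ae33) (.node (nat_lit 0xb070301048a4be73) (.leaf (nat_lit 0xb070301048a4ae43) (nat_lit 2817))
 (.leaf (nat_lit 0xb070301048a4be73) (nat_lit 3328))
) (.node (nat_lit 0xb070301048b4be03) (.leaf (nat_lit 0xb070301048b4ae33) (nat_lit 3331))
 (.leaf (nat_lit 0xb070301048b4be03) (nat_lit 1795))
))) (.node (nat_lit 0xb070301058a4aef3) (.node (nat_lit 0xb07030105894cec3) (.node (nat_lit 0xb07030105884de83) (.leaf (nat_lit 0xb07030105884ceb3) (nat_lit 3331))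
 (.leaf (nat_lit 0xb07030105884de83) (nat_lit 2819))
) (.node (nat_lit 0xb07030105894def3) (.leaf (nat_lit 0xb07030105894cec3) (nat_lit 2305))
 (.leaf (nat_lit 0xb07030105894def3) (nat_lit 3331))
)) (.node (nat_lit 0xb070301058b4ae83) (.node (nat_lit 0xb070301058a4bec3) (.leaf (nat_lit 0xb070301058a4aef3) (nat_lit 2819))
 (.leaf (nat_lit 0xb070301058a4bec3) (nat_lit 2819))
) (.node (nat_lit 0xb070301058b4beb3) (.leaf (nat_lit 0xb070301058b4ae83) (nat_lit 2306))
 (.leaf (nat_lit 0xb070301058b4beb3) (nat_lit 2304))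
)))) (.node (nat_lit 0xb070301078846e33) (.node (nat_lit 0xb070301068a40ec3) (.node (nat_lit 0xb070301068946ef3) (.node (nat_lit 0xb070301068847eb3) (.leaf (nat_lit 0xb070301068846e83) (nat_lit 1793))
 (.leaf (nat_lit 0xb070301068847eb3) (nat_lit 2816))
) (.node (nat_lit 0xb070301068947ec3) (.leaf (nat_lit 0xb070301068946ef3) (nat_lit 2819))
 (.leaf (nat_lit 0xb070301068947ec3) (nat_lit 2819))
)) (.node (nat_lit 0xb070301068b40eb3) (.node (nat_lit 0xb070301068a41ef3) (.leaf (nat_lit 0xb070301068a40ec3) (nat_lit 1793))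
 (.leaf (nat_lit 0xb070301068a41ef3) (nat_lit 3331))
) (.node (nat_lit 0xb070301068b41e83) (.leaf (nat_lit 0xb070301068b40eb3) (nat_lit 2819))
 (.leaf (nat_lit 0xb070301068b41e83) (nat_lit 2819))
))) (.node (nat_lit 0xb070301078a40e73) (.node (nat_lit 0xb070301078946e43) (.node (nat_lit 0xb070301078847e03) (.leaf (nat_lit 0xb070301078846e33) (nat_lit 3331))
 (.leaf (nat_lit 0xb070301078847e03) (nat_lit 1795))
) (.node (nat_lit 0xb070301078947e73) (.leaf (nat_lit 0xb070301078946e43) (nat_lit 2818))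
 (.leaf (nat_lit 0xb070301078947e73) (nat_lit 2816))
)) (.node (nat_lit 0xb070301078b40e03) (.node (nat_lit 0xb070301078a41e43) (.leaf (nat_lit 0xb070301078a40e73) (nat_lit 3843))
 (.leaf (nat_lit 0xb070301078a41e43) (nat_lit 3843))
) (.node (nat_lit 0xb070301078b41e33) (.leaf (nat_lit 0xb070301078b40e03) (nat_lit 1282))
 (.leaf (nat_lit 0xb070301078b41e33) (nat_lit 2816))
))))))))))) (.node (nat_lit 0xe0402010080c0a01) (.node (nat_lit 0xd0402010080c0209) (.node (nat_lit 0xc0602010080c0e01) (.node (nat_lit 0xc0502010080c020d) (.node (nat_lit 0xc0403010080c0203) (.node (nat_lit 0xc040201048cc0201) (.node (nat_lit 0xc0402010280cc201) (.node (nat_lit 0xc0402010180c02c1) (.node (nat_lit 0xc0402010082c4201) (.node (nat_lit 0xc0402010081c0241) (.node (nat_lit 0xc0402010080c1221) (.leaf (nat_lit 0xc0402010080c0201) (nat_lit 257))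
 (.leaf (nat_lit 0xc0402010080c1221) (nat_lit 3843))
) (.node (nat_lit 0xc0402010081c1261) (.leaf (nat_lit 0xc0402010081c0241) (nat_lit 3843))
 (.leaf (nat_lit 0xc0402010081c1261) (nat_lit 3843))
)) (.node (nat_lit 0xc0402010083c4241) (.node (nat_lit 0xc0402010082c5221) (.leaf (nat_lit 0xc0402010082c4201) (nat_lit 1795))
 (.leaf (nat_lit 0xc0402010082c5221) (nat_lit 3843))
) (.node (nat_lit 0xc0402010083c5261) (.leaf (nat_lit 0xc0402010083c4241) (nat_lit 2304))
 (.leaf (nat_lit 0xc0402010083c5261) (nat_lit 3331))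
))) (.node (nat_lit 0xc0402010182c42c1) (.node (nat_lit 0xc0402010181c0281) (.node (nat_lit 0xc0402010180c12e1) (.leaf (nat_lit 0xc0402010180c02c1) (nat_lit 2307))
 (.leaf (nat_lit 0xc0402010180c12e1) (nat_lit 3331))
) (.node (nat_lit 0xc0402010181c12a1) (.leaf (nat_lit 0xc0402010181c0281) (nat_lit 2305))
 (.leaf (nat_lit 0xc0402010181c12a1) (nat_lit 3331))
)) (.node (nat_lit 0xc0402010183c4281) (.node (nat_lit 0xc0402010182c52e1) (.leaf (nat_lit 0xc0402010182c42c1) (nat_lit 2304))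
 (.leaf (nat_lit 0xc0402010182c52e1) (nat_lit 2817))
) (.node (nat_lit 0xc0402010183c52a1) (.leaf (nat_lit 0xc0402010183c4281) (nat_lit 2307))
 (.leaf (nat_lit 0xc0402010183c52a1) (nat_lit 2819))
)))) (.node (nat_lit 0xc0402010380cc2c1) (.node (nat_lit 0xc0402010282c8201) (.node (nat_lit 0xc0402010281cc241) (.node (nat_lit 0xc0402010280cd221) (.leaf (nat_lit 0xc0402010280cc201) (nat_lit 1283))
 (.leaf (nat_lit 0xc0402010280cd221) (nat_lit 3331))
) (.node (nat_lit 0xc0402010281cd261) (.leaf (nat_lit 0xc0402010281cc241) (nat_lit 3328))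
 (.leaf (nat_lit 0xc0402010281cd261) (nat_lit 3329))
)) (.node (nat_lit 0xc0402010283c8241) (.node (nat_lit 0xc0402010282c9221) (.leaf (nat_lit 0xc0402010282c8201) (nat_lit 1281))
 (.leaf (nat_lit 0xc0402010282c9221) (nat_lit 3328))
) (.node (nat_lit 0xc0402010283c9261) (.leaf (nat_lit 0xc0402010283c8241) (nat_lit 3331))
 (.leaf (nat_lit 0xc0402010283c9261) (nat_lit 3331))
))) (.node (nat_lit 0xc0402010382c82c1) (.node (nat_lit 0xc0402010381cc281) (.node (nat_lit 0xc0402010380cd2e1) (.leaf (nat_lit 0xc0402010380cc2c1) (nat_lit 1792))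
 (.leaf (nat_lit 0xc0402010380cd2e1) (nat_lit 2817))
) (.node (nat_lit 0xc0402010381cd2a1) (.leaf (nat_lit 0xc0402010381cc281) (nat_lit 2819))
 (.leaf (nat_lit 0xc0402010381cd2a1) (nat_lit 3331))
)) (.node (nat_lit 0xc0402010383c8281) (.node (nat_lit 0xc0402010382c92e1) (.leaf (nat_lit 0xc0402010382c82c1) (nat_lit 2819))
 (.leaf (nat_lit 0xc0402010382c92e1) (nat_lit 3331))
) (.node (nat_lit 0xc0402010383c92a1) (.leaf (nat_lit 0xc0402010383c8281) (nat_lit 1793))
 (.leaf (nat_lit 0xc0402010383c92a1) (nat_lit 2819))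
))))) (.node (nat_lit 0xc040201068ccc201) (.node (nat_lit 0xc040201058cc02c1) (.node (nat_lit 0xc040201048ec4201) (.node (nat_lit 0xc040201048dc0241) (.node (nat_lit 0xc040201048cc1221) (.leaf (nat_lit 0xc040201048cc0201) (nat_lit 514))
 (.leaf (nat_lit 0xc040201048cc1221) (nat_lit 3587))
) (.node (nat_lit 0xc040201048dc1261) (.leaf (nat_lit 0xc040201048dc0241) (nat_lit 4099))
 (.leaf (nat_lit 0xc040201048dc1261) (nat_lit 4099))
)) (.node (nat_lit 0xc040201048fc4241) (.node (nat_lit 0xc040201048ec5221) (.leaf (nat_lit 0xc040201048ec4201) (nat_lit 2051))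
 (.leaf (nat_lit 0xc040201048ec5221) (nat_lit 4099))
) (.node (nat_lit 0xc040201048fc5261) (.leaf (nat_lit 0xc040201048fc4241) (nat_lit 2560))
 (.leaf (nat_lit 0xc040201048fc5261) (nat_lit 3587))
))) (.node (nat_lit 0xc040201058ec42c1) (.node (nat_lit 0xc040201058dc0281) (.node (nat_lit 0xc040201058cc12e1) (.leaf (nat_lit 0xc040201058cc02c1) (nat_lit 2051))
 (.leaf (nat_lit 0xc040201058cc12e1) (nat_lit 3587))
) (.node (nat_lit 0xc040201058dc12a1) (.leaf (nat_lit 0xc040201058dc0281) (nat_lit 2049))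
 (.leaf (nat_lit 0xc040201058dc12a1) (nat_lit 3587))
)) (.node (nat_lit 0xc040201058fc4281) (.node (nat_lit 0xc040201058ec52e1) (.leaf (nat_lit 0xc040201058ec42c1) (nat_lit 2560))
 (.leaf (nat_lit 0xc040201058ec52e1) (nat_lit 2561))
) (.node (nat_lit 0xc040201058fc52a1) (.leaf (nat_lit 0xc040201058fc4281) (nat_lit 2563))
 (.leaf (nat_lit 0xc040201058fc52a1) (nat_lit 2563))
)))) (.node (nat_lit 0xc040201078ccc2c1) (.node (nat_lit 0xc040201068ec8201) (.node (nat_lit 0xc040201068dcc241) (.node (nat_lit 0xc040201068ccd221) (.leaf (nat_lit 0xc040201068ccc201) (nat_lit 1027))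
 (.leaf (nat_lit 0xc040201068ccd221) (nat_lit 3587))
) (.node (nat_lit 0xc040201068dcd261) (.leaf (nat_lit 0xc040201068dcc241) (nat_lit 3072))
 (.leaf (nat_lit 0xc040201068dcd261) (nat_lit 3073))
)) (.node (nat_lit 0xc040201068fc8241) (.node (nat_lit 0xc040201068ec9221) (.leaf (nat_lit 0xc040201068ec8201) (nat_lit 1025))
 (.leaf (nat_lit 0xc040201068ec9221) (nat_lit 3584))
) (.node (nat_lit 0xc040201068fc9261) (.leaf (nat_lit 0xc040201068fc8241) (nat_lit 3075))
 (.leaf (nat_lit 0xc040201068fc9261) (nat_lit 3075))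
))) (.node (nat_lit 0xc040201078ec82c1) (.node (nat_lit 0xc040201078dcc281) (.node (nat_lit 0xc040201078ccd2e1) (.leaf (nat_lit 0xc040201078ccc2c1) (nat_lit 1536))
 (.leaf (nat_lit 0xc040201078ccd2e1) (nat_lit 3073))
) (.node (nat_lit 0xc040201078dcd2a1) (.leaf (nat_lit 0xc040201078dcc281) (nat_lit 3075))
 (.leaf (nat_lit 0xc040201078dcd2a1) (nat_lit 3075))
)) (.node (nat_lit 0xc040201078fc8281) (.node (nat_lit 0xc040201078ec92e1) (.leaf (nat_lit 0xc040201078ec82c1) (nat_lit 3075))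
 (.leaf (nat_lit 0xc040201078ec92e1) (nat_lit 3075))
) (.node (nat_lit 0xc040201078fc92a1) (.leaf (nat_lit 0xc040201078fc8281) (nat_lit 1537))
 (.leaf (nat_lit 0xc040201078fc92a1) (nat_lit 3075))
)))))) (.node (nat_lit 0xc040301048cc0203) (.node (nat_lit 0xc0403010280cc2c3) (.node (nat_lit 0xc0403010180c02c3) (.node (nat_lit 0xc0403010082c4243) (.node (nat_lit 0xc0403010081c0243) (.node (nat_lit 0xc0403010080c1233) (.leaf (nat_lit 0xc0403010080c0203) (nat_lit 513))
 (.leaf (nat_lit 0xc0403010080c1233) (nat_lit 3587))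
) (.node (nat_lit 0xc0403010081c1273) (.leaf (nat_lit 0xc0403010081c0243) (nat_lit 4099))
 (.leaf (nat_lit 0xc0403010081c1273) (nat_lit 4099))
)) (.node (nat_lit 0xc0403010083c4203) (.node (nat_lit 0xc0403010082c5273) (.leaf (nat_lit 0xc0403010082c4243) (nat_lit 2048))
 (.leaf (nat_lit 0xc0403010082c5273) (nat_lit 3587))
) (.node (nat_lit 0xc0403010083c5233) (.leaf (nat_lit 0xc0403010083c4203) (nat_lit 2051))
 (.leaf (nat_lit 0xc0403010083c5233) (nat_lit 3587))
))) (.node (nat_lit 0xc0403010182c4283) (.node (nat_lit 0xc0403010181c0283) (.node (nat_lit 0xc0403010180c12f3) (.leaf (nat_lit 0xc0403010180c02c3) (nat_lit 2051))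
 (.leaf (nat_lit 0xc0403010180c12f3) (nat_lit 3587))
) (.node (nat_lit 0xc0403010181c12b3) (.leaf (nat_lit 0xc0403010181c0283) (nat_lit 2049))
 (.leaf (nat_lit 0xc0403010181c12b3) (nat_lit 3587))
)) (.node (nat_lit 0xc0403010183c42c3) (.node (nat_lit 0xc0403010182c52b3) (.leaf (nat_lit 0xc0403010182c4283) (nat_lit 2051))
 (.leaf (nat_lit 0xc0403010182c52b3) (nat_lit 3075))
) (.node (nat_lit 0xc0403010183c52f3) (.leaf (nat_lit 0xc0403010183c42c3) (nat_lit 2560))
 (.leaf (nat_lit 0xc0403010183c52f3) (nat_lit 3073))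
)))) (.node (nat_lit 0xc0403010380cc203) (.node (nat_lit 0xc0403010282c8283) (.node (nat_lit 0xc0403010281cc283) (.node (nat_lit 0xc0403010280cd2f3) (.leaf (nat_lit 0xc0403010280cc2c3) (nat_lit 1536))
 (.leaf (nat_lit 0xc0403010280cd2f3) (nat_lit 3073))
) (.node (nat_lit 0xc0403010281cd2b3) (.leaf (nat_lit 0xc0403010281cc283) (nat_lit 3075))
 (.leaf (nat_lit 0xc0403010281cd2b3) (nat_lit 3587))
)) (.node (nat_lit 0xc0403010283c82c3) (.node (nat_lit 0xc0403010282c92b3) (.leaf (nat_lit 0xc0403010282c8283) (nat_lit 1537))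
 (.leaf (nat_lit 0xc0403010282c92b3) (nat_lit 3075))
) (.node (nat_lit 0xc0403010283c92f3) (.leaf (nat_lit 0xc0403010283c82c3) (nat_lit 3075))
 (.leaf (nat_lit 0xc0403010283c92f3) (nat_lit 3587))
))) (.node (nat_lit 0xc0403010382c8243) (.node (nat_lit 0xc0403010381cc243) (.node (nat_lit 0xc0403010380cd233) (.leaf (nat_lit 0xc0403010380cc203) (nat_lit 1539))
 (.leaf (nat_lit 0xc0403010380cd233) (nat_lit 3075))
) (.node (nat_lit 0xc0403010381cd273) (.leaf (nat_lit 0xc0403010381cc243) (nat_lit 3072))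
 (.leaf (nat_lit 0xc0403010381cd273) (nat_lit 3585))
)) (.node (nat_lit 0xc0403010383c8203) (.node (nat_lit 0xc0403010382c9273) (.leaf (nat_lit 0xc0403010382c8243) (nat_lit 3075))
 (.leaf (nat_lit 0xc0403010382c9273) (nat_lit 3587))
) (.node (nat_lit 0xc0403010383c9233) (.leaf (nat_lit 0xc0403010383c8203) (nat_lit 1537))
 (.leaf (nat_lit 0xc0403010383c9233) (nat_lit 3072))
))))) (.node (nat_lit 0xc040301068ccc2c3) (.node (nat_lit 0xc040301058cc02c3) (.node (nat_lit 0xc040301048ec4243) (.node (nat_lit 0xc040301048dc0243) (.node (nat_lit 0xc040301048cc1233) (.leaf (nat_lit 0xc040301048cc0203) (nat_lit 770))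
 (.leaf (nat_lit 0xc040301048cc1233) (nat_lit 3331))
) (.node (nat_lit 0xc040301048dc1273) (.leaf (nat_lit 0xc040301048dc0243) (nat_lit 3843))
 (.leaf (nat_lit 0xc040301048dc1273) (nat_lit 4355))
)) (.node (nat_lit 0xc040301048fc4203) (.node (nat_lit 0xc040301048ec5273) (.leaf (nat_lit 0xc040301048ec4243) (nat_lit 2304))
 (.leaf (nat_lit 0xc040301048ec5273) (nat_lit 3843))
) (.node (nat_lit 0xc040301048fc5233) (.leaf (nat_lit 0xc040301048fc4203) (nat_lit 2307))
 (.leaf (nat_lit 0xc040301048fc5233) (nat_lit 3843))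
))) (.node (nat_lit 0xc040301058ec4283) (.node (nat_lit 0xc040301058dc0283) (.node (nat_lit 0xc040301058cc12f3) (.leaf (nat_lit 0xc040301058cc02c3) (nat_lit 2307))
 (.leaf (nat_lit 0xc040301058cc12f3) (nat_lit 3843))
) (.node (nat_lit 0xc040301058dc12b3) (.leaf (nat_lit 0xc040301058dc0283) (nat_lit 2305))
 (.leaf (nat_lit 0xc040301058dc12b3) (nat_lit 3843))
)) (.node (nat_lit 0xc040301058fc42c3) (.node (nat_lit 0xc040301058ec52b3) (.leaf (nat_lit 0xc040301058ec4283) (nat_lit 2307))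
 (.leaf (nat_lit 0xc040301058ec52b3) (nat_lit 2819))
) (.node (nat_lit 0xc040301058fc52f3) (.leaf (nat_lit 0xc040301058fc42c3) (nat_lit 2816))
 (.leaf (nat_lit 0xc040301058fc52f3) (nat_lit 2817))
)))) (.node (nat_lit 0xc040301078ccc203) (.node (nat_lit 0xc040301068ec8283) (.node (nat_lit 0xc040301068dcc283) (.node (nat_lit 0xc040301068ccd2f3) (.leaf (nat_lit 0xc040301068ccc2c3) (nat_lit 1280))
 (.leaf (nat_lit 0xc040301068ccd2f3) (nat_lit 3329))
) (.node (nat_lit 0xc040301068dcd2b3) (.leaf (nat_lit 0xc040301068dcc283) (nat_lit 2819))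
 (.leaf (nat_lit 0xc040301068dcd2b3) (nat_lit 3331))
)) (.node (nat_lit 0xc040301068fc82c3) (.node (nat_lit 0xc040301068ec92b3) (.leaf (nat_lit 0xc040301068ec8283) (nat_lit 1281))
 (.leaf (nat_lit 0xc040301068ec92b3) (nat_lit 3331))
) (.node (nat_lit 0xc040301068fc92f3) (.leaf (nat_lit 0xc040301068fc82c3) (nat_lit 3331))
 (.leaf (nat_lit 0xc040301068fc92f3) (nat_lit 3331))
))) (.node (nat_lit 0xc040301078ec8243) (.node (nat_lit 0xc040301078dcc243) (.node (nat_lit 0xc040301078ccd233) (.leaf (nat_lit 0xc040301078ccc203) (nat_lit 1283))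
 (.leaf (nat_lit 0xc040301078ccd233) (nat_lit 3331))
) (.node (nat_lit 0xc040301078dcd273) (.leaf (nat_lit 0xc040301078dcc243) (nat_lit 3328))
 (.leaf (nat_lit 0xc040301078dcd273) (nat_lit 3329))
)) (.node (nat_lit 0xc040301078fc8203) (.node (nat_lit 0xc040301078ec9273) (.leaf (nat_lit 0xc040301078ec8243) (nat_lit 2819))
 (.leaf (nat_lit 0xc040301078ec9273) (nat_lit 3331))
) (.node (nat_lit 0xc040301078fc9233) (.leaf (nat_lit 0xc040301078fc8203) (nat_lit 1281))
 (.leaf (nat_lit 0xc040301078fc9233) (nat_lit 3328))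
))))))) (.node (nat_lit 0xc0503010080c020f) (.node (nat_lit 0xc050201048cc02cd) (.node (nat_lit 0xc0502010280cc20d) (.node (nat_lit 0xc0502010180c02cd) (.node (nat_lit 0xc0502010082c422d) (.node (nat_lit 0xc0502010081c025d) (.node (nat_lit 0xc0502010080c122d) (.leaf (nat_lit 0xc0502010080c020d) (nat_lit 1283))
 (.leaf (nat_lit 0xc0502010080c122d) (nat_lit 3331))
) (.node (nat_lit 0xc0502010081c127d) (.leaf (nat_lit 0xc0502010081c025d) (nat_lit 3330))
 (.leaf (nat_lit 0xc0502010081c127d) (nat_lit 3329))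
)) (.node (nat_lit 0xc0502010083c427d) (.node (nat_lit 0xc0502010082c520d) (.leaf (nat_lit 0xc0502010082c422d) (nat_lit 2304))
 (.leaf (nat_lit 0xc0502010082c520d) (nat_lit 2818))
) (.node (nat_lit 0xc0502010083c525d) (.leaf (nat_lit 0xc0502010083c427d) (nat_lit 2307))
 (.leaf (nat_lit 0xc0502010083c525d) (nat_lit 2818))
))) (.node (nat_lit 0xc0502010182c42ed) (.node (nat_lit 0xc0502010181c029d) (.node (nat_lit 0xc0502010180c12ed) (.leaf (nat_lit 0xc0502010180c02cd) (nat_lit 1794))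
 (.leaf (nat_lit 0xc0502010180c12ed) (nat_lit 2817))
) (.node (nat_lit 0xc0502010181c12bd) (.leaf (nat_lit 0xc0502010181c029d) (nat_lit 2819))
 (.leaf (nat_lit 0xc0502010181c12bd) (nat_lit 3331))
)) (.node (nat_lit 0xc0502010183c42bd) (.node (nat_lit 0xc0502010182c52cd) (.leaf (nat_lit 0xc0502010182c42ed) (nat_lit 2307))
 (.leaf (nat_lit 0xc0502010182c52cd) (nat_lit 2819))
) (.node (nat_lit 0xc0502010183c529d) (.leaf (nat_lit 0xc0502010183c42bd) (nat_lit 2818))
 (.leaf (nat_lit 0xc0502010183c529d) (nat_lit 2816))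
)))) (.node (nat_lit 0xc0502010380cc2cd) (.node (nat_lit 0xc0502010282c822d) (.node (nat_lit 0xc0502010281cc25d) (.node (nat_lit 0xc0502010280cd22d) (.leaf (nat_lit 0xc0502010280cc20d) (nat_lit 1794))
 (.leaf (nat_lit 0xc0502010280cd22d) (nat_lit 3328))
) (.node (nat_lit 0xc0502010281cd27d) (.leaf (nat_lit 0xc0502010281cc25d) (nat_lit 3331))
 (.leaf (nat_lit 0xc0502010281cd27d) (nat_lit 3331))
)) (.node (nat_lit 0xc0502010283c827d) (.node (nat_lit 0xc0502010282c920d) (.leaf (nat_lit 0xc0502010282c822d) (nat_lit 2307))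
 (.leaf (nat_lit 0xc0502010282c920d) (nat_lit 2819))
) (.node (nat_lit 0xc0502010283c925d) (.leaf (nat_lit 0xc0502010283c827d) (nat_lit 2306))
 (.leaf (nat_lit 0xc0502010283c925d) (nat_lit 2817))
))) (.node (nat_lit 0xc0502010382c82ed) (.node (nat_lit 0xc0502010381cc29d) (.node (nat_lit 0xc0502010380cd2ed) (.leaf (nat_lit 0xc0502010380cc2cd) (nat_lit 1795))
 (.leaf (nat_lit 0xc0502010380cd2ed) (nat_lit 2819))
) (.node (nat_lit 0xc0502010381cd2bd) (.leaf (nat_lit 0xc0502010381cc29d) (nat_lit 3328))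
 (.leaf (nat_lit 0xc0502010381cd2bd) (nat_lit 3330))
)) (.node (nat_lit 0xc0502010383c82bd) (.node (nat_lit 0xc0502010382c92cd) (.leaf (nat_lit 0xc0502010382c82ed) (nat_lit 2306))
 (.leaf (nat_lit 0xc0502010382c92cd) (nat_lit 2817))
) (.node (nat_lit 0xc0502010383c929d) (.leaf (nat_lit 0xc0502010383c82bd) (nat_lit 2307))
 (.leaf (nat_lit 0xc0502010383c929d) (nat_lit 2816))
))))) (.node (nat_lit 0xc050201068ccc2cd) (.node (nat_lit 0xc050201058cc020d) (.node (nat_lit 0xc050201048ec42ed) (.node (nat_lit 0xc050201048dc029d) (.node (nat_lit 0xc050201048cc12ed) (.leaf (nat_lit 0xc050201048cc02cd) (nat_lit 1539))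
 (.leaf (nat_lit 0xc050201048cc12ed) (nat_lit 3075))
) (.node (nat_lit 0xc050201048dc12bd) (.leaf (nat_lit 0xc050201048dc029d) (nat_lit 3073))
 (.leaf (nat_lit 0xc050201048dc12bd) (nat_lit 3586))
)) (.node (nat_lit 0xc050201048fc42bd) (.node (nat_lit 0xc050201048ec52cd) (.leaf (nat_lit 0xc050201048ec42ed) (nat_lit 2560))
 (.leaf (nat_lit 0xc050201048ec52cd) (nat_lit 3074))
) (.node (nat_lit 0xc050201048fc529d) (.leaf (nat_lit 0xc050201048fc42bd) (nat_lit 2563))
 (.leaf (nat_lit 0xc050201048fc529d) (nat_lit 3074))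
))) (.node (nat_lit 0xc050201058ec422d) (.node (nat_lit 0xc050201058dc025d) (.node (nat_lit 0xc050201058cc122d) (.leaf (nat_lit 0xc050201058cc020d) (nat_lit 1538))
 (.leaf (nat_lit 0xc050201058cc122d) (nat_lit 3073))
) (.node (nat_lit 0xc050201058dc127d) (.leaf (nat_lit 0xc050201058dc025d) (nat_lit 3075))
 (.leaf (nat_lit 0xc050201058dc127d) (nat_lit 3587))
)) (.node (nat_lit 0xc050201058fc427d) (.node (nat_lit 0xc050201058ec520d) (.leaf (nat_lit 0xc050201058ec422d) (nat_lit 2563))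
 (.leaf (nat_lit 0xc050201058ec520d) (nat_lit 2563))
) (.node (nat_lit 0xc050201058fc525d) (.leaf (nat_lit 0xc050201058fc427d) (nat_lit 2562))
 (.leaf (nat_lit 0xc050201058fc525d) (nat_lit 2560))
)))) (.node (nat_lit 0xc050201078ccc20d) (.node (nat_lit 0xc050201068ec82ed) (.node (nat_lit 0xc050201068dcc29d) (.node (nat_lit 0xc050201068ccd2ed) (.leaf (nat_lit 0xc050201068ccc2cd) (nat_lit 1536))
 (.leaf (nat_lit 0xc050201068ccd2ed) (nat_lit 3074))
) (.node (nat_lit 0xc050201068dcd2bd) (.leaf (nat_lit 0xc050201068dcc29d) (nat_lit 3075))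
 (.leaf (nat_lit 0xc050201068dcd2bd) (nat_lit 3075))
)) (.node (nat_lit 0xc050201068fc82bd) (.node (nat_lit 0xc050201068ec92cd) (.leaf (nat_lit 0xc050201068ec82ed) (nat_lit 2051))
 (.leaf (nat_lit 0xc050201068ec92cd) (nat_lit 3075))
) (.node (nat_lit 0xc050201068fc929d) (.leaf (nat_lit 0xc050201068fc82bd) (nat_lit 2562))
 (.leaf (nat_lit 0xc050201068fc929d) (nat_lit 2561))
))) (.node (nat_lit 0xc050201078ec822d) (.node (nat_lit 0xc050201078dcc25d) (.node (nat_lit 0xc050201078ccd22d) (.leaf (nat_lit 0xc050201078ccc20d) (nat_lit 1539))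
 (.leaf (nat_lit 0xc050201078ccd22d) (nat_lit 3075))
) (.node (nat_lit 0xc050201078dcd27d) (.leaf (nat_lit 0xc050201078dcc25d) (nat_lit 3586))
 (.leaf (nat_lit 0xc050201078dcd27d) (nat_lit 3584))
)) (.node (nat_lit 0xc050201078fc827d) (.node (nat_lit 0xc050201078ec920d) (.leaf (nat_lit 0xc050201078ec822d) (nat_lit 2562))
 (.leaf (nat_lit 0xc050201078ec920d) (nat_lit 2561))
) (.node (nat_lit 0xc050201078fc925d) (.leaf (nat_lit 0xc050201078fc827d) (nat_lit 2051))
 (.leaf (nat_lit 0xc050201078fc925d) (nat_lit 3072))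
)))))) (.node (nat_lit 0xc050301048cc02cf) (.node (nat_lit 0xc0503010280cc2cf) (.node (nat_lit 0xc0503010180c02cf) (.node (nat_lit 0xc0503010082c426f) (.node (nat_lit 0xc0503010081c025f) (.node (nat_lit 0xc0503010080c123f) (.leaf (nat_lit 0xc0503010080c020f) (nat_lit 1027))
 (.leaf (nat_lit 0xc0503010080c123f) (nat_lit 3587))
) (.node (nat_lit 0xc0503010081c126f) (.leaf (nat_lit 0xc0503010081c025f) (nat_lit 3074))
 (.leaf (nat_lit 0xc0503010081c126f) (nat_lit 3073))
)) (.node (nat_lit 0xc0503010083c423f) (.node (nat_lit 0xc0503010082c525f) (.leaf (nat_lit 0xc0503010082c426f) (nat_lit 2051))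
 (.leaf (nat_lit 0xc0503010082c525f) (nat_lit 3074))
) (.node (nat_lit 0xc0503010083c520f) (.leaf (nat_lit 0xc0503010083c423f) (nat_lit 2560))
 (.leaf (nat_lit 0xc0503010083c520f) (nat_lit 2562))
))) (.node (nat_lit 0xc0503010182c42af) (.node (nat_lit 0xc0503010181c029f) (.node (nat_lit 0xc0503010180c12ff) (.leaf (nat_lit 0xc0503010180c02cf) (nat_lit 1538))
 (.leaf (nat_lit 0xc0503010180c12ff) (nat_lit 3073))
) (.node (nat_lit 0xc0503010181c12af) (.leaf (nat_lit 0xc0503010181c029f) (nat_lit 3075))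
 (.leaf (nat_lit 0xc0503010181c12af) (nat_lit 3075))
)) (.node (nat_lit 0xc0503010183c42ff) (.node (nat_lit 0xc0503010182c529f) (.leaf (nat_lit 0xc0503010182c42af) (nat_lit 2562))
 (.leaf (nat_lit 0xc0503010182c529f) (nat_lit 3072))
) (.node (nat_lit 0xc0503010183c52cf) (.leaf (nat_lit 0xc0503010183c42ff) (nat_lit 2563))
 (.leaf (nat_lit 0xc0503010183c52cf) (nat_lit 2563))
)))) (.node (nat_lit 0xc0503010380cc20f) (.node (nat_lit 0xc0503010282c82af) (.node (nat_lit 0xc0503010281cc29f) (.node (nat_lit 0xc0503010280cd2ff) (.leaf (nat_lit 0xc0503010280cc2cf) (nat_lit 1539))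
 (.leaf (nat_lit 0xc0503010280cd2ff) (nat_lit 3075))
) (.node (nat_lit 0xc0503010281cd2af) (.leaf (nat_lit 0xc0503010281cc29f) (nat_lit 3584))
 (.leaf (nat_lit 0xc0503010281cd2af) (nat_lit 3586))
)) (.node (nat_lit 0xc0503010283c82ff) (.node (nat_lit 0xc0503010282c929f) (.leaf (nat_lit 0xc0503010282c82af) (nat_lit 2051))
 (.leaf (nat_lit 0xc0503010282c929f) (nat_lit 3072))
) (.node (nat_lit 0xc0503010283c92cf) (.leaf (nat_lit 0xc0503010283c82ff) (nat_lit 2562))
 (.leaf (nat_lit 0xc0503010283c92cf) (nat_lit 2561))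
))) (.node (nat_lit 0xc0503010382c826f) (.node (nat_lit 0xc0503010381cc25f) (.node (nat_lit 0xc0503010380cd23f) (.leaf (nat_lit 0xc0503010380cc20f) (nat_lit 1538))
 (.leaf (nat_lit 0xc0503010380cd23f) (nat_lit 3072))
) (.node (nat_lit 0xc0503010381cd26f) (.leaf (nat_lit 0xc0503010381cc25f) (nat_lit 3075))
 (.leaf (nat_lit 0xc0503010381cd26f) (nat_lit 3075))
)) (.node (nat_lit 0xc0503010383c823f) (.node (nat_lit 0xc0503010382c925f) (.leaf (nat_lit 0xc0503010382c826f) (nat_lit 2050))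
 (.leaf (nat_lit 0xc0503010382c925f) (nat_lit 3073))
) (.node (nat_lit 0xc0503010383c920f) (.leaf (nat_lit 0xc0503010383c823f) (nat_lit 2563))
 (.leaf (nat_lit 0xc0503010383c920f) (nat_lit 2563))
))))) (.node (nat_lit 0xc050301068ccc20f) (.node (nat_lit 0xc050301058cc020f) (.node (nat_lit 0xc050301048ec42af) (.node (nat_lit 0xc050301048dc029f) (.node (nat_lit 0xc050301048cc12ff) (.leaf (nat_lit 0xc050301048cc02cf) (nat_lit 1283))
 (.leaf (nat_lit 0xc050301048cc12ff) (nat_lit 3331))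
) (.node (nat_lit 0xc050301048dc12af) (.leaf (nat_lit 0xc050301048dc029f) (nat_lit 3329))
 (.leaf (nat_lit 0xc050301048dc12af) (nat_lit 3330))
)) (.node (nat_lit 0xc050301048fc42ff) (.node (nat_lit 0xc050301048ec529f) (.leaf (nat_lit 0xc050301048ec42af) (nat_lit 2307))
 (.leaf (nat_lit 0xc050301048ec529f) (nat_lit 3330))
) (.node (nat_lit 0xc050301048fc52cf) (.leaf (nat_lit 0xc050301048fc42ff) (nat_lit 2816))
 (.leaf (nat_lit 0xc050301048fc52cf) (nat_lit 2818))
))) (.node (nat_lit 0xc050301058ec426f) (.node (nat_lit 0xc050301058dc025f) (.node (nat_lit 0xc050301058cc123f) (.leaf (nat_lit 0xc050301058cc020f) (nat_lit 1282))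
 (.leaf (nat_lit 0xc050301058cc123f) (nat_lit 3329))
) (.node (nat_lit 0xc050301058dc126f) (.leaf (nat_lit 0xc050301058dc025f) (nat_lit 2819))
 (.leaf (nat_lit 0xc050301058dc126f) (nat_lit 3331))
)) (.node (nat_lit 0xc050301058fc423f) (.node (nat_lit 0xc050301058ec525f) (.leaf (nat_lit 0xc050301058ec426f) (nat_lit 2306))
 (.leaf (nat_lit 0xc050301058ec525f) (nat_lit 2816))
) (.node (nat_lit 0xc050301058fc520f) (.leaf (nat_lit 0xc050301058fc423f) (nat_lit 2819))
 (.leaf (nat_lit 0xc050301058fc520f) (nat_lit 2307))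
)))) (.node (nat_lit 0xc050301078ccc2cf) (.node (nat_lit 0xc050301068ec826f) (.node (nat_lit 0xc050301068dcc25f) (.node (nat_lit 0xc050301068ccd23f) (.leaf (nat_lit 0xc050301068ccc20f) (nat_lit 1283))
 (.leaf (nat_lit 0xc050301068ccd23f) (nat_lit 3331))
) (.node (nat_lit 0xc050301068dcd26f) (.leaf (nat_lit 0xc050301068dcc25f) (nat_lit 3330))
 (.leaf (nat_lit 0xc050301068dcd26f) (nat_lit 3328))
)) (.node (nat_lit 0xc050301068fc823f) (.node (nat_lit 0xc050301068ec925f) (.leaf (nat_lit 0xc050301068ec826f) (nat_lit 1795))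
 (.leaf (nat_lit 0xc050301068ec925f) (nat_lit 3328))
) (.node (nat_lit 0xc050301068fc920f) (.leaf (nat_lit 0xc050301068fc823f) (nat_lit 2818))
 (.leaf (nat_lit 0xc050301068fc920f) (nat_lit 2305))
))) (.node (nat_lit 0xc050301078ec82af) (.node (nat_lit 0xc050301078dcc29f) (.node (nat_lit 0xc050301078ccd2ff) (.leaf (nat_lit 0xc050301078ccc2cf) (nat_lit 1792))
 (.leaf (nat_lit 0xc050301078ccd2ff) (nat_lit 3330))
) (.node (nat_lit 0xc050301078dcd2af) (.leaf (nat_lit 0xc050301078dcc29f) (nat_lit 3331))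
 (.leaf (nat_lit 0xc050301078dcd2af) (nat_lit 3331))
)) (.node (nat_lit 0xc050301078fc82ff) (.node (nat_lit 0xc050301078ec929f) (.leaf (nat_lit 0xc050301078ec82af) (nat_lit 2306))
 (.leaf (nat_lit 0xc050301078ec929f) (nat_lit 2817))
) (.node (nat_lit 0xc050301078fc92cf) (.leaf (nat_lit 0xc050301078fc82ff) (nat_lit 2307))
 (.leaf (nat_lit 0xc050301078fc92cf) (nat_lit 2819))
)))))))) (.node (nat_lit 0xc0702010080c0e0d) (.node (nat_lit 0xc0603010080c0e0f) (.node (nat_lit 0xc060201048ccce01) (.node (nat_lit 0xc0602010280cce01) (.node (nat_lit 0xc0602010180c0ec1) (.node (nat_lit 0xc0602010082c6e01) (.node (nat_lit 0xc0602010081c0e61) (.node (nat_lit 0xc0602010080c1e21) (.leaf (nat_lit 0xc0602010080c0e01) (nat_lit 515))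
 (.leaf (nat_lit 0xc0602010080c1e21) (nat_lit 3586))
) (.node (nat_lit 0xc0602010081c1e41) (.leaf (nat_lit 0xc0602010081c0e61) (nat_lit 3586))
 (.leaf (nat_lit 0xc0602010081c1e41) (nat_lit 3584))
)) (.node (nat_lit 0xc0602010083c6e61) (.node (nat_lit 0xc0602010082c7e21) (.leaf (nat_lit 0xc0602010082c6e01) (nat_lit 1538))
 (.leaf (nat_lit 0xc0602010082c7e21) (nat_lit 3584))
) (.node (nat_lit 0xc0602010083c7e41) (.leaf (nat_lit 0xc0602010083c6e61) (nat_lit 3072))
 (.leaf (nat_lit 0xc0602010083c7e41) (nat_lit 2563))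
))) (.node (nat_lit 0xc0602010182c6ec1) (.node (nat_lit 0xc0602010181c0ea1) (.node (nat_lit 0xc0602010180c1ee1) (.leaf (nat_lit 0xc0602010180c0ec1) (nat_lit 2050))
 (.leaf (nat_lit 0xc0602010180c1ee1) (nat_lit 3073))
) (.node (nat_lit 0xc0602010181c1e81) (.leaf (nat_lit 0xc0602010181c0ea1) (nat_lit 3073))
 (.leaf (nat_lit 0xc0602010181c1e81) (nat_lit 2563))
)) (.node (nat_lit 0xc0602010183c6ea1) (.node (nat_lit 0xc0602010182c7ee1) (.leaf (nat_lit 0xc0602010182c6ec1) (nat_lit 2563))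
 (.leaf (nat_lit 0xc0602010182c7ee1) (nat_lit 3075))
) (.node (nat_lit 0xc0602010183c7e81) (.leaf (nat_lit 0xc0602010183c6ea1) (nat_lit 2561))
 (.leaf (nat_lit 0xc0602010183c7e81) (nat_lit 2050))
)))) (.node (nat_lit 0xc0602010380ccec1) (.node (nat_lit 0xc0602010282cae01) (.node (nat_lit 0xc0602010281cce61) (.node (nat_lit 0xc0602010280cde21) (.leaf (nat_lit 0xc0602010280cce01) (nat_lit 1026))
 (.leaf (nat_lit 0xc0602010280cde21) (nat_lit 3073))
) (.node (nat_lit 0xc0602010281cde41) (.leaf (nat_lit 0xc0602010281cce61) (nat_lit 3587))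
 (.leaf (nat_lit 0xc0602010281cde41) (nat_lit 3587))
)) (.node (nat_lit 0xc0602010283cae61) (.node (nat_lit 0xc0602010282cbe21) (.leaf (nat_lit 0xc0602010282cae01) (nat_lit 1539))
 (.leaf (nat_lit 0xc0602010282cbe21) (nat_lit 3587))
) (.node (nat_lit 0xc0602010283cbe41) (.leaf (nat_lit 0xc0602010283cae61) (nat_lit 3072))
 (.leaf (nat_lit 0xc0602010283cbe41) (nat_lit 3074))
))) (.node (nat_lit 0xc0602010382caec1) (.node (nat_lit 0xc0602010381ccea1) (.node (nat_lit 0xc0602010380cdee1) (.leaf (nat_lit 0xc0602010380ccec1) (nat_lit 2051))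
 (.leaf (nat_lit 0xc0602010380cdee1) (nat_lit 3075))
) (.node (nat_lit 0xc0602010381cde81) (.leaf (nat_lit 0xc0602010381ccea1) (nat_lit 3073))
 (.leaf (nat_lit 0xc0602010381cde81) (nat_lit 2562))
)) (.node (nat_lit 0xc0602010383caea1) (.node (nat_lit 0xc0602010382cbee1) (.leaf (nat_lit 0xc0602010382caec1) (nat_lit 2560))
 (.leaf (nat_lit 0xc0602010382cbee1) (nat_lit 3073))
) (.node (nat_lit 0xc0602010383cbe81) (.leaf (nat_lit 0xc0602010383caea1) (nat_lit 2561))
 (.leaf (nat_lit 0xc0602010383cbe81) (nat_lit 2051))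
))))) (.node (nat_lit 0xc060201068cc0e01) (.node (nat_lit 0xc060201058cccec1) (.node (nat_lit 0xc060201048ecae01) (.node (nat_lit 0xc060201048dcce61) (.node (nat_lit 0xc060201048ccde21) (.leaf (nat_lit 0xc060201048ccce01) (nat_lit 771))
 (.leaf (nat_lit 0xc060201048ccde21) (nat_lit 3330))
) (.node (nat_lit 0xc060201048dcde41) (.leaf (nat_lit 0xc060201048dcce61) (nat_lit 3841))
 (.leaf (nat_lit 0xc060201048dcde41) (nat_lit 3841))
)) (.node (nat_lit 0xc060201048fcae61) (.node (nat_lit 0xc060201048ecbe21) (.leaf (nat_lit 0xc060201048ecae01) (nat_lit 1793))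
 (.leaf (nat_lit 0xc060201048ecbe21) (nat_lit 3840))
) (.node (nat_lit 0xc060201048fcbe41) (.leaf (nat_lit 0xc060201048fcae61) (nat_lit 3328))
 (.leaf (nat_lit 0xc060201048fcbe41) (nat_lit 2819))
))) (.node (nat_lit 0xc060201058ecaec1) (.node (nat_lit 0xc060201058dccea1) (.node (nat_lit 0xc060201058ccdee1) (.leaf (nat_lit 0xc060201058cccec1) (nat_lit 1792))
 (.leaf (nat_lit 0xc060201058ccdee1) (nat_lit 3329))
) (.node (nat_lit 0xc060201058dcde81) (.leaf (nat_lit 0xc060201058dccea1) (nat_lit 3329))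
 (.leaf (nat_lit 0xc060201058dcde81) (nat_lit 2307))
)) (.node (nat_lit 0xc060201058fcaea1) (.node (nat_lit 0xc060201058ecbee1) (.leaf (nat_lit 0xc060201058ecaec1) (nat_lit 2819))
 (.leaf (nat_lit 0xc060201058ecbee1) (nat_lit 2819))
) (.node (nat_lit 0xc060201058fcbe81) (.leaf (nat_lit 0xc060201058fcaea1) (nat_lit 2305))
 (.leaf (nat_lit 0xc060201058fcbe81) (nat_lit 2306))
)))) (.node (nat_lit 0xc060201078cc0ec1) (.node (nat_lit 0xc060201068ec6e01) (.node (nat_lit 0xc060201068dc0e61) (.node (nat_lit 0xc060201068cc1e21) (.leaf (nat_lit 0xc060201068cc0e01) (nat_lit 770))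
 (.leaf (nat_lit 0xc060201068cc1e21) (nat_lit 3329))
) (.node (nat_lit 0xc060201068dc1e41) (.leaf (nat_lit 0xc060201068dc0e61) (nat_lit 3331))
 (.leaf (nat_lit 0xc060201068dc1e41) (nat_lit 3331))
)) (.node (nat_lit 0xc060201068fc6e61) (.node (nat_lit 0xc060201068ec7e21) (.leaf (nat_lit 0xc060201068ec6e01) (nat_lit 1283))
 (.leaf (nat_lit 0xc060201068ec7e21) (nat_lit 3843))
) (.node (nat_lit 0xc060201068fc7e41) (.leaf (nat_lit 0xc060201068fc6e61) (nat_lit 2816))
 (.leaf (nat_lit 0xc060201068fc7e41) (nat_lit 2818))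
))) (.node (nat_lit 0xc060201078ec6ec1) (.node (nat_lit 0xc060201078dc0ea1) (.node (nat_lit 0xc060201078cc1ee1) (.leaf (nat_lit 0xc060201078cc0ec1) (nat_lit 1795))
 (.leaf (nat_lit 0xc060201078cc1ee1) (nat_lit 3331))
) (.node (nat_lit 0xc060201078dc1e81) (.leaf (nat_lit 0xc060201078dc0ea1) (nat_lit 2817))
 (.leaf (nat_lit 0xc060201078dc1e81) (nat_lit 2818))
)) (.node (nat_lit 0xc060201078fc6ea1) (.node (nat_lit 0xc060201078ec7ee1) (.leaf (nat_lit 0xc060201078ec6ec1) (nat_lit 2816))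
 (.leaf (nat_lit 0xc060201078ec7ee1) (nat_lit 2817))
) (.node (nat_lit 0xc060201078fc7e81) (.leaf (nat_lit 0xc060201078fc6ea1) (nat_lit 2817))
 (.leaf (nat_lit 0xc060201078fc7e81) (nat_lit 1795))
)))))) (.node (nat_lit 0xc060301048cccecf) (.node (nat_lit 0xc0603010280ccecf) (.node (nat_lit 0xc0603010180c0ecf) (.node (nat_lit 0xc0603010082c6e6f) (.node (nat_lit 0xc0603010081c0e6f) (.node (nat_lit 0xc0603010080c1e3f) (.leaf (nat_lit 0xc0603010080c0e0f) (nat_lit 768))
 (.leaf (nat_lit 0xc0603010080c1e3f) (nat_lit 3330))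
) (.node (nat_lit 0xc0603010081c1e5f) (.leaf (nat_lit 0xc0603010081c0e6f) (nat_lit 3331))
 (.leaf (nat_lit 0xc0603010081c1e5f) (nat_lit 3331))
)) (.node (nat_lit 0xc0603010083c6e0f) (.node (nat_lit 0xc0603010082c7e5f) (.leaf (nat_lit 0xc0603010082c6e6f) (nat_lit 1794))
 (.leaf (nat_lit 0xc0603010082c7e5f) (nat_lit 3331))
) (.node (nat_lit 0xc0603010083c7e3f) (.leaf (nat_lit 0xc0603010083c6e0f) (nat_lit 2819))
 (.leaf (nat_lit 0xc0603010083c7e3f) (nat_lit 2819))
))) (.node (nat_lit 0xc0603010182c6eaf) (.node (nat_lit 0xc0603010181c0eaf) (.node (nat_lit 0xc0603010180c1eff) (.leaf (nat_lit 0xc0603010180c0ecf) (nat_lit 1795))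
 (.leaf (nat_lit 0xc0603010180c1eff) (nat_lit 3331))
) (.node (nat_lit 0xc0603010181c1e9f) (.leaf (nat_lit 0xc0603010181c0eaf) (nat_lit 2817))
 (.leaf (nat_lit 0xc0603010181c1e9f) (nat_lit 2816))
)) (.node (nat_lit 0xc0603010183c6ecf) (.node (nat_lit 0xc0603010182c7e9f) (.leaf (nat_lit 0xc0603010182c6eaf) (nat_lit 2819))
 (.leaf (nat_lit 0xc0603010182c7e9f) (nat_lit 3331))
) (.node (nat_lit 0xc0603010183c7eff) (.leaf (nat_lit 0xc0603010183c6ecf) (nat_lit 2305))
 (.leaf (nat_lit 0xc0603010183c7eff) (nat_lit 2306))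
)))) (.node (nat_lit 0xc0603010380cce0f) (.node (nat_lit 0xc0603010282caeaf) (.node (nat_lit 0xc0603010281cceaf) (.node (nat_lit 0xc0603010280cdeff) (.leaf (nat_lit 0xc0603010280ccecf) (nat_lit 1282))
 (.leaf (nat_lit 0xc0603010280cdeff) (nat_lit 2817))
) (.node (nat_lit 0xc0603010281cde9f) (.leaf (nat_lit 0xc0603010281cceaf) (nat_lit 3843))
 (.leaf (nat_lit 0xc0603010281cde9f) (nat_lit 3843))
)) (.node (nat_lit 0xc0603010283caecf) (.node (nat_lit 0xc0603010282cbe9f) (.leaf (nat_lit 0xc0603010282caeaf) (nat_lit 1792))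
 (.leaf (nat_lit 0xc0603010282cbe9f) (nat_lit 3331))
) (.node (nat_lit 0xc0603010283cbeff) (.leaf (nat_lit 0xc0603010283caecf) (nat_lit 2819))
 (.leaf (nat_lit 0xc0603010283cbeff) (nat_lit 2819))
))) (.node (nat_lit 0xc0603010382cae6f) (.node (nat_lit 0xc0603010381cce6f) (.node (nat_lit 0xc0603010380cde3f) (.leaf (nat_lit 0xc0603010380cce0f) (nat_lit 1795))
 (.leaf (nat_lit 0xc0603010380cde3f) (nat_lit 3331))
) (.node (nat_lit 0xc0603010381cde5f) (.leaf (nat_lit 0xc0603010381cce6f) (nat_lit 2817))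
 (.leaf (nat_lit 0xc0603010381cde5f) (nat_lit 2818))
)) (.node (nat_lit 0xc0603010383cae0f) (.node (nat_lit 0xc0603010382cbe5f) (.leaf (nat_lit 0xc0603010382cae6f) (nat_lit 2307))
 (.leaf (nat_lit 0xc0603010382cbe5f) (nat_lit 3331))
) (.node (nat_lit 0xc0603010383cbe3f) (.leaf (nat_lit 0xc0603010383cae0f) (nat_lit 2305))
 (.leaf (nat_lit 0xc0603010383cbe3f) (nat_lit 2304))
))))) (.node (nat_lit 0xc060301068cc0e0f) (.node (nat_lit 0xc060301058ccce0f) (.node (nat_lit 0xc060301048ecaeaf) (.node (nat_lit 0xc060301048dcceaf) (.node (nat_lit 0xc060301048ccdeff) (.leaf (nat_lit 0xc060301048cccecf) (nat_lit 1024))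
 (.leaf (nat_lit 0xc060301048ccdeff) (nat_lit 3074))
) (.node (nat_lit 0xc060301048dcde9f) (.leaf (nat_lit 0xc060301048dcceaf) (nat_lit 3587))
 (.leaf (nat_lit 0xc060301048dcde9f) (nat_lit 3587))
)) (.node (nat_lit 0xc060301048fcaecf) (.node (nat_lit 0xc060301048ecbe9f) (.leaf (nat_lit 0xc060301048ecaeaf) (nat_lit 2049))
 (.leaf (nat_lit 0xc060301048ecbe9f) (nat_lit 3587))
) (.node (nat_lit 0xc060301048fcbeff) (.leaf (nat_lit 0xc060301048fcaecf) (nat_lit 3075))
 (.leaf (nat_lit 0xc060301048fcbeff) (nat_lit 3075))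
))) (.node (nat_lit 0xc060301058ecae6f) (.node (nat_lit 0xc060301058dcce6f) (.node (nat_lit 0xc060301058ccde3f) (.leaf (nat_lit 0xc060301058ccce0f) (nat_lit 1539))
 (.leaf (nat_lit 0xc060301058ccde3f) (nat_lit 3587))
) (.node (nat_lit 0xc060301058dcde5f) (.leaf (nat_lit 0xc060301058dcce6f) (nat_lit 3073))
 (.leaf (nat_lit 0xc060301058dcde5f) (nat_lit 2560))
)) (.node (nat_lit 0xc060301058fcae0f) (.node (nat_lit 0xc060301058ecbe5f) (.leaf (nat_lit 0xc060301058ecae6f) (nat_lit 2563))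
 (.leaf (nat_lit 0xc060301058ecbe5f) (nat_lit 3075))
) (.node (nat_lit 0xc060301058fcbe3f) (.leaf (nat_lit 0xc060301058fcae0f) (nat_lit 2049))
 (.leaf (nat_lit 0xc060301058fcbe3f) (nat_lit 2562))
)))) (.node (nat_lit 0xc060301078cc0ecf) (.node (nat_lit 0xc060301068ec6e6f) (.node (nat_lit 0xc060301068dc0e6f) (.node (nat_lit 0xc060301068cc1e3f) (.leaf (nat_lit 0xc060301068cc0e0f) (nat_lit 1026))
 (.leaf (nat_lit 0xc060301068cc1e3f) (nat_lit 3073))
) (.node (nat_lit 0xc060301068dc1e5f) (.leaf (nat_lit 0xc060301068dc0e6f) (nat_lit 3587))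
 (.leaf (nat_lit 0xc060301068dc1e5f) (nat_lit 3587))
)) (.node (nat_lit 0xc060301068fc6e0f) (.node (nat_lit 0xc060301068ec7e5f) (.leaf (nat_lit 0xc060301068ec6e6f) (nat_lit 1536))
 (.leaf (nat_lit 0xc060301068ec7e5f) (nat_lit 3587))
) (.node (nat_lit 0xc060301068fc7e3f) (.leaf (nat_lit 0xc060301068fc6e0f) (nat_lit 2563))
 (.leaf (nat_lit 0xc060301068fc7e3f) (nat_lit 3075))
))) (.node (nat_lit 0xc060301078ec6eaf) (.node (nat_lit 0xc060301078dc0eaf) (.node (nat_lit 0xc060301078cc1eff) (.leaf (nat_lit 0xc060301078cc0ecf) (nat_lit 2051))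
 (.leaf (nat_lit 0xc060301078cc1eff) (nat_lit 3587))
) (.node (nat_lit 0xc060301078dc1e9f) (.leaf (nat_lit 0xc060301078dc0eaf) (nat_lit 3073))
 (.leaf (nat_lit 0xc060301078dc1e9f) (nat_lit 3074))
)) (.node (nat_lit 0xc060301078fc6ecf) (.node (nat_lit 0xc060301078ec7e9f) (.leaf (nat_lit 0xc060301078ec6eaf) (nat_lit 2563))
 (.leaf (nat_lit 0xc060301078ec7e9f) (nat_lit 3075))
) (.node (nat_lit 0xc060301078fc7eff) (.leaf (nat_lit 0xc060301078fc6ecf) (nat_lit 2561))
 (.leaf (nat_lit 0xc060301078fc7eff) (nat_lit 2048))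
))))))) (.node (nat_lit 0xc0703010080c0e03) (.node (nat_lit 0xc070201048cccecd) (.node (nat_lit 0xc0702010280cce0d) (.node (nat_lit 0xc0702010180c0ecd) (.node (nat_lit 0xc0702010082c6e2d) (.node (nat_lit 0xc0702010081c0e7d) (.node (nat_lit 0xc0702010080c1e2d) (.leaf (nat_lit 0xc0702010080c0e0d) (nat_lit 1024))
 (.leaf (nat_lit 0xc0702010080c1e2d) (nat_lit 3074))
) (.node (nat_lit 0xc0702010081c1e5d) (.leaf (nat_lit 0xc0702010081c0e7d) (nat_lit 3587))
 (.leaf (nat_lit 0xc0702010081c1e5d) (nat_lit 3587))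
)) (.node (nat_lit 0xc0702010083c6e5d) (.node (nat_lit 0xc0702010082c7e0d) (.leaf (nat_lit 0xc0702010082c6e2d) (nat_lit 2563))
 (.leaf (nat_lit 0xc0702010082c7e0d) (nat_lit 3075))
) (.node (nat_lit 0xc0702010083c7e7d) (.leaf (nat_lit 0xc0702010083c6e5d) (nat_lit 3075))
 (.leaf (nat_lit 0xc0702010083c7e7d) (nat_lit 2050))
))) (.node (nat_lit 0xc0702010182c6eed) (.node (nat_lit 0xc0702010181c0ebd) (.node (nat_lit 0xc0702010180c1eed) (.leaf (nat_lit 0xc0702010180c0ecd) (nat_lit 2051))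
 (.leaf (nat_lit 0xc0702010180c1eed) (nat_lit 3075))
) (.node (nat_lit 0xc0702010181c1e9d) (.leaf (nat_lit 0xc0702010181c0ebd) (nat_lit 3073))
 (.leaf (nat_lit 0xc0702010181c1e9d) (nat_lit 2560))
)) (.node (nat_lit 0xc0702010183c6e9d) (.node (nat_lit 0xc0702010182c7ecd) (.leaf (nat_lit 0xc0702010182c6eed) (nat_lit 2050))
 (.leaf (nat_lit 0xc0702010182c7ecd) (nat_lit 2561))
) (.node (nat_lit 0xc0702010183c7ebd) (.leaf (nat_lit 0xc0702010183c6e9d) (nat_lit 3075))
 (.leaf (nat_lit 0xc0702010183c7ebd) (nat_lit 3075))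
)))) (.node (nat_lit 0xc0702010380ccecd) (.node (nat_lit 0xc0702010282cae2d) (.node (nat_lit 0xc0702010281cce7d) (.node (nat_lit 0xc0702010280cde2d) (.leaf (nat_lit 0xc0702010280cce0d) (nat_lit 2051))
 (.leaf (nat_lit 0xc0702010280cde2d) (nat_lit 3587))
) (.node (nat_lit 0xc0702010281cde5d) (.leaf (nat_lit 0xc0702010281cce7d) (nat_lit 3073))
 (.leaf (nat_lit 0xc0702010281cde5d) (nat_lit 3074))
)) (.node (nat_lit 0xc0702010283cae5d) (.node (nat_lit 0xc0702010282cbe0d) (.leaf (nat_lit 0xc0702010282cae2d) (nat_lit 2048))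
 (.leaf (nat_lit 0xc0702010282cbe0d) (nat_lit 2561))
) (.node (nat_lit 0xc0702010283cbe7d) (.leaf (nat_lit 0xc0702010283cae5d) (nat_lit 3075))
 (.leaf (nat_lit 0xc0702010283cbe7d) (nat_lit 2563))
))) (.node (nat_lit 0xc0702010382caeed) (.node (nat_lit 0xc0702010381ccebd) (.node (nat_lit 0xc0702010380cdeed) (.leaf (nat_lit 0xc0702010380ccecd) (nat_lit 1538))
 (.leaf (nat_lit 0xc0702010380cdeed) (nat_lit 2561))
) (.node (nat_lit 0xc0702010381cde9d) (.leaf (nat_lit 0xc0702010381ccebd) (nat_lit 3587))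
 (.leaf (nat_lit 0xc0702010381cde9d) (nat_lit 3587))
)) (.node (nat_lit 0xc0702010383cae9d) (.node (nat_lit 0xc0702010382cbecd) (.leaf (nat_lit 0xc0702010382caeed) (nat_lit 2563))
 (.leaf (nat_lit 0xc0702010382cbecd) (nat_lit 3075))
) (.node (nat_lit 0xc0702010383cbebd) (.leaf (nat_lit 0xc0702010383cae9d) (nat_lit 3075))
 (.leaf (nat_lit 0xc0702010383cbebd) (nat_lit 2048))
))))) (.node (nat_lit 0xc070201068cc0ecd) (.node (nat_lit 0xc070201058ccce0d) (.node (nat_lit 0xc070201048ecaeed) (.node (nat_lit 0xc070201048dccebd) (.node (nat_lit 0xc070201048ccdeed) (.leaf (nat_lit 0xc070201048cccecd) (nat_lit 1280))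
 (.leaf (nat_lit 0xc070201048ccdeed) (nat_lit 2818))
) (.node (nat_lit 0xc070201048dcde9d) (.leaf (nat_lit 0xc070201048dccebd) (nat_lit 3843))
 (.leaf (nat_lit 0xc070201048dcde9d) (nat_lit 3331))
)) (.node (nat_lit 0xc070201048fcae9d) (.node (nat_lit 0xc070201048ecbecd) (.leaf (nat_lit 0xc070201048ecaeed) (nat_lit 2819))
 (.leaf (nat_lit 0xc070201048ecbecd) (nat_lit 3331))
) (.node (nat_lit 0xc070201048fcbebd) (.leaf (nat_lit 0xc070201048fcae9d) (nat_lit 3331))
 (.leaf (nat_lit 0xc070201048fcbebd) (nat_lit 2305))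
))) (.node (nat_lit 0xc070201058ecae2d) (.node (nat_lit 0xc070201058dcce7d) (.node (nat_lit 0xc070201058ccde2d) (.leaf (nat_lit 0xc070201058ccce0d) (nat_lit 1795))
 (.leaf (nat_lit 0xc070201058ccde2d) (nat_lit 3331))
) (.node (nat_lit 0xc070201058dcde5d) (.leaf (nat_lit 0xc070201058dcce7d) (nat_lit 3329))
 (.leaf (nat_lit 0xc070201058dcde5d) (nat_lit 2816))
)) (.node (nat_lit 0xc070201058fcae5d) (.node (nat_lit 0xc070201058ecbe0d) (.leaf (nat_lit 0xc070201058ecae2d) (nat_lit 2306))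
 (.leaf (nat_lit 0xc070201058ecbe0d) (nat_lit 2305))
) (.node (nat_lit 0xc070201058fcbe7d) (.leaf (nat_lit 0xc070201058fcae5d) (nat_lit 2819))
 (.leaf (nat_lit 0xc070201058fcbe7d) (nat_lit 2819))
)))) (.node (nat_lit 0xc070201078cc0e0d) (.node (nat_lit 0xc070201068ec6eed) (.node (nat_lit 0xc070201068dc0ebd) (.node (nat_lit 0xc070201068cc1eed) (.leaf (nat_lit 0xc070201068cc0ecd) (nat_lit 1795))
 (.leaf (nat_lit 0xc070201068cc1eed) (nat_lit 3331))
) (.node (nat_lit 0xc070201068dc1e9d) (.leaf (nat_lit 0xc070201068dc0ebd) (nat_lit 2817))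
 (.leaf (nat_lit 0xc070201068dc1e9d) (nat_lit 2818))
)) (.node (nat_lit 0xc070201068fc6e9d) (.node (nat_lit 0xc070201068ec7ecd) (.leaf (nat_lit 0xc070201068ec6eed) (nat_lit 1792))
 (.leaf (nat_lit 0xc070201068ec7ecd) (nat_lit 2817))
) (.node (nat_lit 0xc070201068fc7ebd) (.leaf (nat_lit 0xc070201068fc6e9d) (nat_lit 2819))
 (.leaf (nat_lit 0xc070201068fc7ebd) (nat_lit 2819))
))) (.node (nat_lit 0xc070201078ec6e2d) (.node (nat_lit 0xc070201078dc0e7d) (.node (nat_lit 0xc070201078cc1e2d) (.leaf (nat_lit 0xc070201078cc0e0d) (nat_lit 1282))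
 (.leaf (nat_lit 0xc070201078cc1e2d) (nat_lit 2817))
) (.node (nat_lit 0xc070201078dc1e5d) (.leaf (nat_lit 0xc070201078dc0e7d) (nat_lit 3843))
 (.leaf (nat_lit 0xc070201078dc1e5d) (nat_lit 3843))
)) (.node (nat_lit 0xc070201078fc6e5d) (.node (nat_lit 0xc070201078ec7e0d) (.leaf (nat_lit 0xc070201078ec6e2d) (nat_lit 2819))
 (.leaf (nat_lit 0xc070201078ec7e0d) (nat_lit 2819))
) (.node (nat_lit 0xc070201078fc7e7d) (.leaf (nat_lit 0xc070201078fc6e5d) (nat_lit 3331))
 (.leaf (nat_lit 0xc070201078fc7e7d) (nat_lit 1792))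
)))))) (.node (nat_lit 0xc070301048ccce03) (.node (nat_lit 0xc0703010280ccec3) (.node (nat_lit 0xc0703010180c0ec3) (.node (nat_lit 0xc0703010082c6e43) (.node (nat_lit 0xc0703010081c0e73) (.node (nat_lit 0xc0703010080c1e33) (.leaf (nat_lit 0xc0703010080c0e03) (nat_lit 771))
 (.leaf (nat_lit 0xc0703010080c1e33) (nat_lit 3330))
) (.node (nat_lit 0xc0703010081c1e43) (.leaf (nat_lit 0xc0703010081c0e73) (nat_lit 3842))
 (.leaf (nat_lit 0xc0703010081c1e43) (nat_lit 3840))
)) (.node (nat_lit 0xc0703010083c6e33) (.node (nat_lit 0xc0703010082c7e73) (.leaf (nat_lit 0xc0703010082c6e43) (nat_lit 2307))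
 (.leaf (nat_lit 0xc0703010082c7e73) (nat_lit 3328))
) (.node (nat_lit 0xc0703010083c7e03) (.leaf (nat_lit 0xc0703010083c6e33) (nat_lit 3328))
 (.leaf (nat_lit 0xc0703010083c7e03) (nat_lit 1794))
))) (.node (nat_lit 0xc0703010182c6e83) (.node (nat_lit 0xc0703010181c0eb3) (.node (nat_lit 0xc0703010180c1ef3) (.leaf (nat_lit 0xc0703010180c0ec3) (nat_lit 1794))
 (.leaf (nat_lit 0xc0703010180c1ef3) (nat_lit 3329))
) (.node (nat_lit 0xc0703010181c1e83) (.leaf (nat_lit 0xc0703010181c0eb3) (nat_lit 3329))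
 (.leaf (nat_lit 0xc0703010181c1e83) (nat_lit 2307))
)) (.node (nat_lit 0xc0703010183c6ef3) (.node (nat_lit 0xc0703010182c7eb3) (.leaf (nat_lit 0xc0703010182c6e83) (nat_lit 1794))
 (.leaf (nat_lit 0xc0703010182c7eb3) (nat_lit 2817))
) (.node (nat_lit 0xc0703010183c7ec3) (.leaf (nat_lit 0xc0703010183c6ef3) (nat_lit 3331))
 (.leaf (nat_lit 0xc0703010183c7ec3) (nat_lit 2819))
)))) (.node (nat_lit 0xc0703010380cce03) (.node (nat_lit 0xc0703010282cae83) (.node (nat_lit 0xc0703010281cceb3) (.node (nat_lit 0xc0703010280cdef3) (.leaf (nat_lit 0xc0703010280ccec3) (nat_lit 1795))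
 (.leaf (nat_lit 0xc0703010280cdef3) (nat_lit 3331))
) (.node (nat_lit 0xc0703010281cde83) (.leaf (nat_lit 0xc0703010281cceb3) (nat_lit 3329))
 (.leaf (nat_lit 0xc0703010281cde83) (nat_lit 2818))
)) (.node (nat_lit 0xc0703010283caef3) (.node (nat_lit 0xc0703010282cbeb3) (.leaf (nat_lit 0xc0703010282cae83) (nat_lit 1795))
 (.leaf (nat_lit 0xc0703010282cbeb3) (nat_lit 2817))
) (.node (nat_lit 0xc0703010283cbec3) (.leaf (nat_lit 0xc0703010283caef3) (nat_lit 3329))
 (.leaf (nat_lit 0xc0703010283cbec3) (nat_lit 2816))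
))) (.node (nat_lit 0xc0703010382cae43) (.node (nat_lit 0xc0703010381cce73) (.node (nat_lit 0xc0703010380cde33) (.leaf (nat_lit 0xc0703010380cce03) (nat_lit 1282))
 (.leaf (nat_lit 0xc0703010380cde33) (nat_lit 2817))
) (.node (nat_lit 0xc0703010381cde43) (.leaf (nat_lit 0xc0703010381cce73) (nat_lit 3843))
 (.leaf (nat_lit 0xc0703010381cde43) (nat_lit 3331))
)) (.node (nat_lit 0xc0703010383cae33) (.node (nat_lit 0xc0703010382cbe73) (.leaf (nat_lit 0xc0703010382cae43) (nat_lit 2818))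
 (.leaf (nat_lit 0xc0703010382cbe73) (nat_lit 3328))
) (.node (nat_lit 0xc0703010383cbe03) (.leaf (nat_lit 0xc0703010383cae33) (nat_lit 3331))
 (.leaf (nat_lit 0xc0703010383cbe03) (nat_lit 1795))
))))) (.node (nat_lit 0xc070301068cc0ec3) (.node (nat_lit 0xc070301058cccec3) (.node (nat_lit 0xc070301048ecae43) (.node (nat_lit 0xc070301048dcce73) (.node (nat_lit 0xc070301048ccde33) (.leaf (nat_lit 0xc070301048ccce03) (nat_lit 1027))
 (.leaf (nat_lit 0xc070301048ccde33) (nat_lit 3074))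
) (.node (nat_lit 0xc070301048dcde43) (.leaf (nat_lit 0xc070301048dcce73) (nat_lit 4097))
 (.leaf (nat_lit 0xc070301048dcde43) (nat_lit 3585))
)) (.node (nat_lit 0xc070301048fcae33) (.node (nat_lit 0xc070301048ecbe73) (.leaf (nat_lit 0xc070301048ecae43) (nat_lit 2563))
 (.leaf (nat_lit 0xc070301048ecbe73) (nat_lit 3584))
) (.node (nat_lit 0xc070301048fcbe03) (.leaf (nat_lit 0xc070301048fcae33) (nat_lit 3584))
 (.leaf (nat_lit 0xc070301048fcbe03) (nat_lit 2049))
))) (.node (nat_lit 0xc070301058ecae83) (.node (nat_lit 0xc070301058dcceb3) (.node (nat_lit 0xc070301058ccdef3) (.leaf (nat_lit 0xc070301058cccec3) (nat_lit 2048))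
 (.leaf (nat_lit 0xc070301058ccdef3) (nat_lit 3585))
) (.node (nat_lit 0xc070301058dcde83) (.leaf (nat_lit 0xc070301058dcceb3) (nat_lit 3585))
 (.leaf (nat_lit 0xc070301058dcde83) (nat_lit 2563))
)) (.node (nat_lit 0xc070301058fcaef3) (.node (nat_lit 0xc070301058ecbeb3) (.leaf (nat_lit 0xc070301058ecae83) (nat_lit 2050))
 (.leaf (nat_lit 0xc070301058ecbeb3) (nat_lit 2561))
) (.node (nat_lit 0xc070301058fcbec3) (.leaf (nat_lit 0xc070301058fcaef3) (nat_lit 3075))
 (.leaf (nat_lit 0xc070301058fcbec3) (nat_lit 3075))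
)))) (.node (nat_lit 0xc070301078cc0e03) (.node (nat_lit 0xc070301068ec6e83) (.node (nat_lit 0xc070301068dc0eb3) (.node (nat_lit 0xc070301068cc1ef3) (.leaf (nat_lit 0xc070301068cc0ec3) (nat_lit 1539))
 (.leaf (nat_lit 0xc070301068cc1ef3) (nat_lit 3587))
) (.node (nat_lit 0xc070301068dc1e83) (.leaf (nat_lit 0xc070301068dc0eb3) (nat_lit 3073))
 (.leaf (nat_lit 0xc070301068dc1e83) (nat_lit 2562))
)) (.node (nat_lit 0xc070301068fc6ef3) (.node (nat_lit 0xc070301068ec7eb3) (.leaf (nat_lit 0xc070301068ec6e83) (nat_lit 1539))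
 (.leaf (nat_lit 0xc070301068ec7eb3) (nat_lit 3073))
) (.node (nat_lit 0xc070301068fc7ec3) (.leaf (nat_lit 0xc070301068fc6ef3) (nat_lit 3073))
 (.leaf (nat_lit 0xc070301068fc7ec3) (nat_lit 3072))
))) (.node (nat_lit 0xc070301078ec6e43) (.node (nat_lit 0xc070301078dc0e73) (.node (nat_lit 0xc070301078cc1e33) (.leaf (nat_lit 0xc070301078cc0e03) (nat_lit 1026))
 (.leaf (nat_lit 0xc070301078cc1e33) (nat_lit 3073))
) (.node (nat_lit 0xc070301078dc1e43) (.leaf (nat_lit 0xc070301078dc0e73) (nat_lit 3587))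
 (.leaf (nat_lit 0xc070301078dc1e43) (nat_lit 3587))
)) (.node (nat_lit 0xc070301078fc6e33) (.node (nat_lit 0xc070301078ec7e73) (.leaf (nat_lit 0xc070301078ec6e43) (nat_lit 2562))
 (.leaf (nat_lit 0xc070301078ec7e73) (nat_lit 3072))
) (.node (nat_lit 0xc070301078fc7e03) (.leaf (nat_lit 0xc070301078fc6e33) (nat_lit 3587))
 (.leaf (nat_lit 0xc070301078fc7e03) (nat_lit 1539))
))))))))) (.node (nat_lit 0xd0602010080c0e09) (.node (nat_lit 0xd0502010080c0205) (.node (nat_lit 0xd0403010080c020b) (.node (nat_lit 0xd040201048cc0249) (.node (nat_lit 0xd0402010280cc229) (.node (nat_lit 0xd0402010180c02d9) (.node (nat_lit 0xd0402010082c4209) (.node (nat_lit 0xd0402010081c0249) (.node (nat_lit 0xd0402010080c1229) (.leaf (nat_lit 0xd0402010080c0209) (nat_lit 1795))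
 (.leaf (nat_lit 0xd0402010080c1229) (nat_lit 3843))
) (.node (nat_lit 0xd0402010081c1269) (.leaf (nat_lit 0xd0402010081c0249) (nat_lit 2306))
 (.leaf (nat_lit 0xd0402010081c1269) (nat_lit 3331))
)) (.node (nat_lit 0xd0402010083c4249) (.node (nat_lit 0xd0402010082c5229) (.leaf (nat_lit 0xd0402010082c4209) (nat_lit 2818))
 (.leaf (nat_lit 0xd0402010082c5229) (nat_lit 2816))
) (.node (nat_lit 0xd0402010083c5269) (.leaf (nat_lit 0xd0402010083c4249) (nat_lit 2819))
 (.leaf (nat_lit 0xd0402010083c5269) (nat_lit 2307))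
))) (.node (nat_lit 0xd0402010182c42d9) (.node (nat_lit 0xd0402010181c0299) (.node (nat_lit 0xd0402010180c12f9) (.leaf (nat_lit 0xd0402010180c02d9) (nat_lit 2306))
 (.leaf (nat_lit 0xd0402010180c12f9) (nat_lit 2817))
) (.node (nat_lit 0xd0402010181c12b9) (.leaf (nat_lit 0xd0402010181c0299) (nat_lit 2307))
 (.leaf (nat_lit 0xd0402010181c12b9) (nat_lit 2819))
)) (.node (nat_lit 0xd0402010183c4299) (.node (nat_lit 0xd0402010182c52f9) (.leaf (nat_lit 0xd0402010182c42d9) (nat_lit 3331))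
 (.leaf (nat_lit 0xd0402010182c52f9) (nat_lit 2819))
) (.node (nat_lit 0xd0402010183c52b9) (.leaf (nat_lit 0xd0402010183c4299) (nat_lit 3331))
 (.leaf (nat_lit 0xd0402010183c52b9) (nat_lit 2818))
)))) (.node (nat_lit 0xd0402010380cc2f9) (.node (nat_lit 0xd0402010282c8229) (.node (nat_lit 0xd0402010281cc269) (.node (nat_lit 0xd0402010280cd209) (.leaf (nat_lit 0xd0402010280cc229) (nat_lit 2817))
 (.leaf (nat_lit 0xd0402010280cd209) (nat_lit 2306))
) (.node (nat_lit 0xd0402010281cd249) (.leaf (nat_lit 0xd0402010281cc269) (nat_lit 2818))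
 (.leaf (nat_lit 0xd0402010281cd249) (nat_lit 2307))
)) (.node (nat_lit 0xd0402010283c8269) (.node (nat_lit 0xd0402010282c9209) (.leaf (nat_lit 0xd0402010282c8229) (nat_lit 2307))
 (.leaf (nat_lit 0xd0402010282c9209) (nat_lit 2819))
) (.node (nat_lit 0xd0402010283c9249) (.leaf (nat_lit 0xd0402010283c8269) (nat_lit 2306))
 (.leaf (nat_lit 0xd0402010283c9249) (nat_lit 2817))
))) (.node (nat_lit 0xd0402010382c82f9) (.node (nat_lit 0xd0402010381cc2b9) (.node (nat_lit 0xd0402010380cd2d9) (.leaf (nat_lit 0xd0402010380cc2f9) (nat_lit 2819))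
 (.leaf (nat_lit 0xd0402010380cd2d9) (nat_lit 2307))
) (.node (nat_lit 0xd0402010381cd299) (.leaf (nat_lit 0xd0402010381cc2b9) (nat_lit 2818))
 (.leaf (nat_lit 0xd0402010381cd299) (nat_lit 2816))
)) (.node (nat_lit 0xd0402010383c82b9) (.node (nat_lit 0xd0402010382c92d9) (.leaf (nat_lit 0xd0402010382c82f9) (nat_lit 2818))
 (.leaf (nat_lit 0xd0402010382c92d9) (nat_lit 2817))
) (.node (nat_lit 0xd0402010383c9299) (.leaf (nat_lit 0xd0402010383c82b9) (nat_lit 2307))
 (.leaf (nat_lit 0xd0402010383c9299) (nat_lit 2817))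
))))) (.node (nat_lit 0xd040201068ccc269) (.node (nat_lit 0xd040201058cc0299) (.node (nat_lit 0xd040201048ec4249) (.node (nat_lit 0xd040201048dc0209) (.node (nat_lit 0xd040201048cc1269) (.leaf (nat_lit 0xd040201048cc0249) (nat_lit 2051))
 (.leaf (nat_lit 0xd040201048cc1269) (nat_lit 3587))
) (.node (nat_lit 0xd040201048dc1229) (.leaf (nat_lit 0xd040201048dc0209) (nat_lit 2050))
 (.leaf (nat_lit 0xd040201048dc1229) (nat_lit 3587))
)) (.node (nat_lit 0xd040201048fc4209) (.node (nat_lit 0xd040201048ec5269) (.leaf (nat_lit 0xd040201048ec4249) (nat_lit 2560))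
 (.leaf (nat_lit 0xd040201048ec5269) (nat_lit 2562))
) (.node (nat_lit 0xd040201048fc5229) (.leaf (nat_lit 0xd040201048fc4209) (nat_lit 2563))
 (.leaf (nat_lit 0xd040201048fc5229) (nat_lit 2563))
))) (.node (nat_lit 0xd040201058ec4299) (.node (nat_lit 0xd040201058dc02d9) (.node (nat_lit 0xd040201058cc12b9) (.leaf (nat_lit 0xd040201058cc0299) (nat_lit 2561))
 (.leaf (nat_lit 0xd040201058cc12b9) (nat_lit 3074))
) (.node (nat_lit 0xd040201058dc12f9) (.leaf (nat_lit 0xd040201058dc02d9) (nat_lit 2051))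
 (.leaf (nat_lit 0xd040201058dc12f9) (nat_lit 3075))
)) (.node (nat_lit 0xd040201058fc42d9) (.node (nat_lit 0xd040201058ec52b9) (.leaf (nat_lit 0xd040201058ec4299) (nat_lit 3587))
 (.leaf (nat_lit 0xd040201058ec52b9) (nat_lit 2563))
) (.node (nat_lit 0xd040201058fc52f9) (.leaf (nat_lit 0xd040201058fc42d9) (nat_lit 3587))
 (.leaf (nat_lit 0xd040201058fc52f9) (nat_lit 3073))
)))) (.node (nat_lit 0xd040201078ccc2b9) (.node (nat_lit 0xd040201068ec8269) (.node (nat_lit 0xd040201068dcc229) (.node (nat_lit 0xd040201068ccd249) (.leaf (nat_lit 0xd040201068ccc269) (nat_lit 2561))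
 (.leaf (nat_lit 0xd040201068ccd249) (nat_lit 2562))
) (.node (nat_lit 0xd040201068dcd209) (.leaf (nat_lit 0xd040201068dcc229) (nat_lit 3074))
 (.leaf (nat_lit 0xd040201068dcd209) (nat_lit 2051))
)) (.node (nat_lit 0xd040201068fc8229) (.node (nat_lit 0xd040201068ec9249) (.leaf (nat_lit 0xd040201068ec8269) (nat_lit 2051))
 (.leaf (nat_lit 0xd040201068ec9249) (nat_lit 3075))
) (.node (nat_lit 0xd040201068fc9209) (.leaf (nat_lit 0xd040201068fc8229) (nat_lit 2562))
 (.leaf (nat_lit 0xd040201068fc9209) (nat_lit 2561))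
))) (.node (nat_lit 0xd040201078ec82b9) (.node (nat_lit 0xd040201078dcc2f9) (.node (nat_lit 0xd040201078ccd299) (.leaf (nat_lit 0xd040201078ccc2b9) (nat_lit 2563))
 (.leaf (nat_lit 0xd040201078ccd299) (nat_lit 2563))
) (.node (nat_lit 0xd040201078dcd2d9) (.leaf (nat_lit 0xd040201078dcc2f9) (nat_lit 3074))
 (.leaf (nat_lit 0xd040201078dcd2d9) (nat_lit 2560))
)) (.node (nat_lit 0xd040201078fc82f9) (.node (nat_lit 0xd040201078ec9299) (.leaf (nat_lit 0xd040201078ec82b9) (nat_lit 2562))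
 (.leaf (nat_lit 0xd040201078ec9299) (nat_lit 2561))
) (.node (nat_lit 0xd040201078fc92d9) (.leaf (nat_lit 0xd040201078fc82f9) (nat_lit 2563))
 (.leaf (nat_lit 0xd040201078fc92d9) (nat_lit 3073))
)))))) (.node (nat_lit 0xd040301048cc024b) (.node (nat_lit 0xd0403010280cc2eb) (.node (nat_lit 0xd0403010180c02db) (.node (nat_lit 0xd0403010082c424b) (.node (nat_lit 0xd0403010081c024b) (.node (nat_lit 0xd0403010080c123b) (.leaf (nat_lit 0xd0403010080c020b) (nat_lit 2051))
 (.leaf (nat_lit 0xd0403010080c123b) (nat_lit 4099))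
) (.node (nat_lit 0xd0403010081c127b) (.leaf (nat_lit 0xd0403010081c024b) (nat_lit 2562))
 (.leaf (nat_lit 0xd0403010081c127b) (nat_lit 3587))
)) (.node (nat_lit 0xd0403010083c420b) (.node (nat_lit 0xd0403010082c527b) (.leaf (nat_lit 0xd0403010082c424b) (nat_lit 2563))
 (.leaf (nat_lit 0xd0403010082c527b) (nat_lit 2563))
) (.node (nat_lit 0xd0403010083c523b) (.leaf (nat_lit 0xd0403010083c420b) (nat_lit 2562))
 (.leaf (nat_lit 0xd0403010083c523b) (nat_lit 2560))
))) (.node (nat_lit 0xd0403010182c429b) (.node (nat_lit 0xd0403010181c029b) (.node (nat_lit 0xd0403010180c12eb) (.leaf (nat_lit 0xd0403010180c02db) (nat_lit 2562))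
 (.leaf (nat_lit 0xd0403010180c12eb) (nat_lit 2561))
) (.node (nat_lit 0xd0403010181c12ab) (.leaf (nat_lit 0xd0403010181c029b) (nat_lit 2563))
 (.leaf (nat_lit 0xd0403010181c12ab) (nat_lit 2563))
)) (.node (nat_lit 0xd0403010183c42db) (.node (nat_lit 0xd0403010182c52ab) (.leaf (nat_lit 0xd0403010182c429b) (nat_lit 3587))
 (.leaf (nat_lit 0xd0403010182c52ab) (nat_lit 3074))
) (.node (nat_lit 0xd0403010183c52eb) (.leaf (nat_lit 0xd0403010183c42db) (nat_lit 3587))
 (.leaf (nat_lit 0xd0403010183c52eb) (nat_lit 2563))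
)))) (.node (nat_lit 0xd0403010380cc23b) (.node (nat_lit 0xd0403010282c82ab) (.node (nat_lit 0xd0403010281cc2ab) (.node (nat_lit 0xd0403010280cd2db) (.leaf (nat_lit 0xd0403010280cc2eb) (nat_lit 2563))
 (.leaf (nat_lit 0xd0403010280cd2db) (nat_lit 2563))
) (.node (nat_lit 0xd0403010281cd29b) (.leaf (nat_lit 0xd0403010281cc2ab) (nat_lit 2562))
 (.leaf (nat_lit 0xd0403010281cd29b) (nat_lit 2560))
)) (.node (nat_lit 0xd0403010283c82eb) (.node (nat_lit 0xd0403010282c929b) (.leaf (nat_lit 0xd0403010282c82ab) (nat_lit 2563))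
 (.leaf (nat_lit 0xd0403010282c929b) (nat_lit 3073))
) (.node (nat_lit 0xd0403010283c92db) (.leaf (nat_lit 0xd0403010283c82eb) (nat_lit 2562))
 (.leaf (nat_lit 0xd0403010283c92db) (nat_lit 3073))
))) (.node (nat_lit 0xd0403010382c827b) (.node (nat_lit 0xd0403010381cc27b) (.node (nat_lit 0xd0403010380cd20b) (.leaf (nat_lit 0xd0403010380cc23b) (nat_lit 3073))
 (.leaf (nat_lit 0xd0403010380cd20b) (nat_lit 2562))
) (.node (nat_lit 0xd0403010381cd24b) (.leaf (nat_lit 0xd0403010381cc27b) (nat_lit 3074))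
 (.leaf (nat_lit 0xd0403010381cd24b) (nat_lit 2563))
)) (.node (nat_lit 0xd0403010383c823b) (.node (nat_lit 0xd0403010382c924b) (.leaf (nat_lit 0xd0403010382c827b) (nat_lit 2562))
 (.leaf (nat_lit 0xd0403010382c924b) (nat_lit 2561))
) (.node (nat_lit 0xd0403010383c920b) (.leaf (nat_lit 0xd0403010383c823b) (nat_lit 2563))
 (.leaf (nat_lit 0xd0403010383c920b) (nat_lit 2563))
))))) (.node (nat_lit 0xd040301068ccc2ab) (.node (nat_lit 0xd040301058cc029b) (.node (nat_lit 0xd040301048ec420b) (.node (nat_lit 0xd040301048dc020b) (.node (nat_lit 0xd040301048cc127b) (.leaf (nat_lit 0xd040301048cc024b) (nat_lit 2307))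
 (.leaf (nat_lit 0xd040301048cc127b) (nat_lit 3843))
) (.node (nat_lit 0xd040301048dc123b) (.leaf (nat_lit 0xd040301048dc020b) (nat_lit 2306))
 (.leaf (nat_lit 0xd040301048dc123b) (nat_lit 3843))
)) (.node (nat_lit 0xd040301048fc424b) (.node (nat_lit 0xd040301048ec523b) (.leaf (nat_lit 0xd040301048ec420b) (nat_lit 2307))
 (.leaf (nat_lit 0xd040301048ec523b) (nat_lit 2819))
) (.node (nat_lit 0xd040301048fc527b) (.leaf (nat_lit 0xd040301048fc424b) (nat_lit 2816))
 (.leaf (nat_lit 0xd040301048fc527b) (nat_lit 2818))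
))) (.node (nat_lit 0xd040301058ec42db) (.node (nat_lit 0xd040301058dc02db) (.node (nat_lit 0xd040301058cc12ab) (.leaf (nat_lit 0xd040301058cc029b) (nat_lit 2817))
 (.leaf (nat_lit 0xd040301058cc12ab) (nat_lit 2818))
) (.node (nat_lit 0xd040301058dc12eb) (.leaf (nat_lit 0xd040301058dc02db) (nat_lit 2307))
 (.leaf (nat_lit 0xd040301058dc12eb) (nat_lit 2819))
)) (.node (nat_lit 0xd040301058fc429b) (.node (nat_lit 0xd040301058ec52eb) (.leaf (nat_lit 0xd040301058ec42db) (nat_lit 3843))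
 (.leaf (nat_lit 0xd040301058ec52eb) (nat_lit 2817))
) (.node (nat_lit 0xd040301058fc52ab) (.leaf (nat_lit 0xd040301058fc429b) (nat_lit 3843))
 (.leaf (nat_lit 0xd040301058fc52ab) (nat_lit 2819))
)))) (.node (nat_lit 0xd040301078ccc27b) (.node (nat_lit 0xd040301068ec82eb) (.node (nat_lit 0xd040301068dcc2eb) (.node (nat_lit 0xd040301068ccd29b) (.leaf (nat_lit 0xd040301068ccc2ab) (nat_lit 2307))
 (.leaf (nat_lit 0xd040301068ccd29b) (nat_lit 2819))
) (.node (nat_lit 0xd040301068dcd2db) (.leaf (nat_lit 0xd040301068dcc2eb) (nat_lit 2818))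
 (.leaf (nat_lit 0xd040301068dcd2db) (nat_lit 2304))
)) (.node (nat_lit 0xd040301068fc82ab) (.node (nat_lit 0xd040301068ec92db) (.leaf (nat_lit 0xd040301068ec82eb) (nat_lit 2307))
 (.leaf (nat_lit 0xd040301068ec92db) (nat_lit 3329))
) (.node (nat_lit 0xd040301068fc929b) (.leaf (nat_lit 0xd040301068fc82ab) (nat_lit 2818))
 (.leaf (nat_lit 0xd040301068fc929b) (nat_lit 2817))
))) (.node (nat_lit 0xd040301078ec823b) (.node (nat_lit 0xd040301078dcc23b) (.node (nat_lit 0xd040301078ccd24b) (.leaf (nat_lit 0xd040301078ccc27b) (nat_lit 2817))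
 (.leaf (nat_lit 0xd040301078ccd24b) (nat_lit 2818))
) (.node (nat_lit 0xd040301078dcd20b) (.leaf (nat_lit 0xd040301078dcc23b) (nat_lit 3330))
 (.leaf (nat_lit 0xd040301078dcd20b) (nat_lit 2307))
)) (.node (nat_lit 0xd040301078fc827b) (.node (nat_lit 0xd040301078ec920b) (.leaf (nat_lit 0xd040301078ec823b) (nat_lit 2818))
 (.leaf (nat_lit 0xd040301078ec920b) (nat_lit 2305))
) (.node (nat_lit 0xd040301078fc924b) (.leaf (nat_lit 0xd040301078fc827b) (nat_lit 2307))
 (.leaf (nat_lit 0xd040301078fc924b) (nat_lit 2819))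
))))))) (.node (nat_lit 0xd0503010080c0207) (.node (nat_lit 0xd050201048cc0285) (.node (nat_lit 0xd0502010280cc225) (.node (nat_lit 0xd0502010180c02d5) (.node (nat_lit 0xd0502010082c4225) (.node (nat_lit 0xd0502010081c0255) (.node (nat_lit 0xd0502010080c1225) (.leaf (nat_lit 0xd0502010080c0205) (nat_lit 1281))
 (.leaf (nat_lit 0xd0502010080c1225) (nat_lit 3330))
) (.node (nat_lit 0xd0502010081c1275) (.leaf (nat_lit 0xd0502010081c0255) (nat_lit 3331))
 (.leaf (nat_lit 0xd0502010081c1275) (nat_lit 3331))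
)) (.node (nat_lit 0xd0502010083c4275) (.node (nat_lit 0xd0502010082c5205) (.leaf (nat_lit 0xd0502010082c4225) (nat_lit 2819))
 (.leaf (nat_lit 0xd0502010082c5205) (nat_lit 2307))
) (.node (nat_lit 0xd0502010083c5255) (.leaf (nat_lit 0xd0502010083c4275) (nat_lit 2817))
 (.leaf (nat_lit 0xd0502010083c5255) (nat_lit 2304))
))) (.node (nat_lit 0xd0502010182c42f5) (.node (nat_lit 0xd0502010181c0285) (.node (nat_lit 0xd0502010180c12f5) (.leaf (nat_lit 0xd0502010180c02d5) (nat_lit 2819))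
 (.leaf (nat_lit 0xd0502010180c12f5) (nat_lit 3331))
) (.node (nat_lit 0xd0502010181c12a5) (.leaf (nat_lit 0xd0502010181c0285) (nat_lit 1794))
 (.leaf (nat_lit 0xd0502010181c12a5) (nat_lit 2819))
)) (.node (nat_lit 0xd0502010183c42a5) (.node (nat_lit 0xd0502010182c52d5) (.leaf (nat_lit 0xd0502010182c42f5) (nat_lit 2818))
 (.leaf (nat_lit 0xd0502010182c52d5) (nat_lit 2816))
) (.node (nat_lit 0xd0502010183c5285) (.leaf (nat_lit 0xd0502010183c42a5) (nat_lit 2818))
 (.leaf (nat_lit 0xd0502010183c5285) (nat_lit 2307))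
)))) (.node (nat_lit 0xd0502010380cc2f5) (.node (nat_lit 0xd0502010282c8205) (.node (nat_lit 0xd0502010281cc275) (.node (nat_lit 0xd0502010280cd205) (.leaf (nat_lit 0xd0502010280cc225) (nat_lit 2819))
 (.leaf (nat_lit 0xd0502010280cd205) (nat_lit 2307))
) (.node (nat_lit 0xd0502010281cd255) (.leaf (nat_lit 0xd0502010281cc275) (nat_lit 2818))
 (.leaf (nat_lit 0xd0502010281cd255) (nat_lit 2304))
)) (.node (nat_lit 0xd0502010283c8255) (.node (nat_lit 0xd0502010282c9225) (.leaf (nat_lit 0xd0502010282c8205) (nat_lit 1794))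
 (.leaf (nat_lit 0xd0502010282c9225) (nat_lit 3328))
) (.node (nat_lit 0xd0502010283c9275) (.leaf (nat_lit 0xd0502010283c8255) (nat_lit 3331))
 (.leaf (nat_lit 0xd0502010283c9275) (nat_lit 3330))
))) (.node (nat_lit 0xd0502010382c82d5) (.node (nat_lit 0xd0502010381cc2a5) (.node (nat_lit 0xd0502010380cd2d5) (.leaf (nat_lit 0xd0502010380cc2f5) (nat_lit 2817))
 (.leaf (nat_lit 0xd0502010380cd2d5) (nat_lit 2304))
) (.node (nat_lit 0xd0502010381cd285) (.leaf (nat_lit 0xd0502010381cc2a5) (nat_lit 2818))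
 (.leaf (nat_lit 0xd0502010381cd285) (nat_lit 2307))
)) (.node (nat_lit 0xd0502010383c8285) (.node (nat_lit 0xd0502010382c92f5) (.leaf (nat_lit 0xd0502010382c82d5) (nat_lit 3331))
 (.leaf (nat_lit 0xd0502010382c92f5) (nat_lit 3331))
) (.node (nat_lit 0xd0502010383c92a5) (.leaf (nat_lit 0xd0502010383c8285) (nat_lit 1793))
 (.leaf (nat_lit 0xd0502010383c92a5) (nat_lit 2819))
))))) (.node (nat_lit 0xd050201068ccc2a5) (.node (nat_lit 0xd050201058cc0255) (.node (nat_lit 0xd050201048ec42a5) (.node (nat_lit 0xd050201048dc02d5) (.node (nat_lit 0xd050201048cc12a5) (.leaf (nat_lit 0xd050201048cc0285) (nat_lit 1537))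
 (.leaf (nat_lit 0xd050201048cc12a5) (nat_lit 3074))
) (.node (nat_lit 0xd050201048dc12f5) (.leaf (nat_lit 0xd050201048dc02d5) (nat_lit 3075))
 (.leaf (nat_lit 0xd050201048dc12f5) (nat_lit 3587))
)) (.node (nat_lit 0xd050201048fc42f5) (.node (nat_lit 0xd050201048ec5285) (.leaf (nat_lit 0xd050201048ec42a5) (nat_lit 2563))
 (.leaf (nat_lit 0xd050201048ec5285) (nat_lit 2563))
) (.node (nat_lit 0xd050201048fc52d5) (.leaf (nat_lit 0xd050201048fc42f5) (nat_lit 2561))
 (.leaf (nat_lit 0xd050201048fc52d5) (nat_lit 2560))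
))) (.node (nat_lit 0xd050201058ec4275) (.node (nat_lit 0xd050201058dc0205) (.node (nat_lit 0xd050201058cc1275) (.leaf (nat_lit 0xd050201058cc0255) (nat_lit 3075))
 (.leaf (nat_lit 0xd050201058cc1275) (nat_lit 3587))
) (.node (nat_lit 0xd050201058dc1225) (.leaf (nat_lit 0xd050201058dc0205) (nat_lit 1538))
 (.leaf (nat_lit 0xd050201058dc1225) (nat_lit 3075))
)) (.node (nat_lit 0xd050201058fc4225) (.node (nat_lit 0xd050201058ec5255) (.leaf (nat_lit 0xd050201058ec4275) (nat_lit 3074))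
 (.leaf (nat_lit 0xd050201058ec5255) (nat_lit 2560))
) (.node (nat_lit 0xd050201058fc5205) (.leaf (nat_lit 0xd050201058fc4225) (nat_lit 3074))
 (.leaf (nat_lit 0xd050201058fc5205) (nat_lit 2563))
)))) (.node (nat_lit 0xd050201078ccc275) (.node (nat_lit 0xd050201068ec8285) (.node (nat_lit 0xd050201068dcc2f5) (.node (nat_lit 0xd050201068ccd285) (.leaf (nat_lit 0xd050201068ccc2a5) (nat_lit 2563))
 (.leaf (nat_lit 0xd050201068ccd285) (nat_lit 2563))
) (.node (nat_lit 0xd050201068dcd2d5) (.leaf (nat_lit 0xd050201068dcc2f5) (nat_lit 3074))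
 (.leaf (nat_lit 0xd050201068dcd2d5) (nat_lit 2048))
)) (.node (nat_lit 0xd050201068fc82d5) (.node (nat_lit 0xd050201068ec92a5) (.leaf (nat_lit 0xd050201068ec8285) (nat_lit 1537))
 (.leaf (nat_lit 0xd050201068ec92a5) (nat_lit 3074))
) (.node (nat_lit 0xd050201068fc92f5) (.leaf (nat_lit 0xd050201068fc82d5) (nat_lit 3587))
 (.leaf (nat_lit 0xd050201068fc92f5) (nat_lit 3587))
))) (.node (nat_lit 0xd050201078ec8255) (.node (nat_lit 0xd050201078dcc225) (.node (nat_lit 0xd050201078ccd255) (.leaf (nat_lit 0xd050201078ccc275) (nat_lit 2561))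
 (.leaf (nat_lit 0xd050201078ccd255) (nat_lit 2560))
) (.node (nat_lit 0xd050201078dcd205) (.leaf (nat_lit 0xd050201078dcc225) (nat_lit 3074))
 (.leaf (nat_lit 0xd050201078dcd205) (nat_lit 2051))
)) (.node (nat_lit 0xd050201078fc8205) (.node (nat_lit 0xd050201078ec9275) (.leaf (nat_lit 0xd050201078ec8255) (nat_lit 3075))
 (.leaf (nat_lit 0xd050201078ec9275) (nat_lit 3075))
) (.node (nat_lit 0xd050201078fc9225) (.leaf (nat_lit 0xd050201078fc8205) (nat_lit 1537))
 (.leaf (nat_lit 0xd050201078fc9225) (nat_lit 3075))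
)))))) (.node (nat_lit 0xd050301048cc0287) (.node (nat_lit 0xd0503010280cc2e7) (.node (nat_lit 0xd0503010180c02d7) (.node (nat_lit 0xd0503010082c4267) (.node (nat_lit 0xd0503010081c0257) (.node (nat_lit 0xd0503010080c1237) (.leaf (nat_lit 0xd0503010080c0207) (nat_lit 1025))
 (.leaf (nat_lit 0xd0503010080c1237) (nat_lit 3586))
) (.node (nat_lit 0xd0503010081c1267) (.leaf (nat_lit 0xd0503010081c0257) (nat_lit 3075))
 (.leaf (nat_lit 0xd0503010081c1267) (nat_lit 3075))
)) (.node (nat_lit 0xd0503010083c4237) (.node (nat_lit 0xd0503010082c5257) (.leaf (nat_lit 0xd0503010082c4267) (nat_lit 2561))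
 (.leaf (nat_lit 0xd0503010082c5257) (nat_lit 2560))
) (.node (nat_lit 0xd0503010083c5207) (.leaf (nat_lit 0xd0503010083c4237) (nat_lit 3075))
 (.leaf (nat_lit 0xd0503010083c5207) (nat_lit 2051))
))) (.node (nat_lit 0xd0503010182c42b7) (.node (nat_lit 0xd0503010181c0287) (.node (nat_lit 0xd0503010180c12e7) (.leaf (nat_lit 0xd0503010180c02d7) (nat_lit 3075))
 (.leaf (nat_lit 0xd0503010180c12e7) (nat_lit 3075))
) (.node (nat_lit 0xd0503010181c12b7) (.leaf (nat_lit 0xd0503010181c0287) (nat_lit 1538))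
 (.leaf (nat_lit 0xd0503010181c12b7) (nat_lit 3075))
)) (.node (nat_lit 0xd0503010183c42e7) (.node (nat_lit 0xd0503010182c5287) (.leaf (nat_lit 0xd0503010182c42b7) (nat_lit 3074))
 (.leaf (nat_lit 0xd0503010182c5287) (nat_lit 2563))
) (.node (nat_lit 0xd0503010183c52d7) (.leaf (nat_lit 0xd0503010183c42e7) (nat_lit 2562))
 (.leaf (nat_lit 0xd0503010183c52d7) (nat_lit 2560))
)))) (.node (nat_lit 0xd0503010380cc237) (.node (nat_lit 0xd0503010282c8287) (.node (nat_lit 0xd0503010281cc2b7) (.node (nat_lit 0xd0503010280cd2d7) (.leaf (nat_lit 0xd0503010280cc2e7) (nat_lit 2561))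
 (.leaf (nat_lit 0xd0503010280cd2d7) (nat_lit 2560))
) (.node (nat_lit 0xd0503010281cd287) (.leaf (nat_lit 0xd0503010281cc2b7) (nat_lit 3074))
 (.leaf (nat_lit 0xd0503010281cd287) (nat_lit 2051))
)) (.node (nat_lit 0xd0503010283c82d7) (.node (nat_lit 0xd0503010282c92b7) (.leaf (nat_lit 0xd0503010282c8287) (nat_lit 1537))
 (.leaf (nat_lit 0xd0503010282c92b7) (nat_lit 3075))
) (.node (nat_lit 0xd0503010283c92e7) (.leaf (nat_lit 0xd0503010283c82d7) (nat_lit 3075))
 (.leaf (nat_lit 0xd0503010283c92e7) (nat_lit 3075))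
))) (.node (nat_lit 0xd0503010382c8257) (.node (nat_lit 0xd0503010381cc267) (.node (nat_lit 0xd0503010380cd207) (.leaf (nat_lit 0xd0503010380cc237) (nat_lit 3075))
 (.leaf (nat_lit 0xd0503010380cd207) (nat_lit 2051))
) (.node (nat_lit 0xd0503010381cd257) (.leaf (nat_lit 0xd0503010381cc267) (nat_lit 2562))
 (.leaf (nat_lit 0xd0503010381cd257) (nat_lit 2560))
)) (.node (nat_lit 0xd0503010383c8207) (.node (nat_lit 0xd0503010382c9267) (.leaf (nat_lit 0xd0503010382c8257) (nat_lit 3587))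
 (.leaf (nat_lit 0xd0503010382c9267) (nat_lit 3586))
) (.node (nat_lit 0xd0503010383c9237) (.leaf (nat_lit 0xd0503010383c8207) (nat_lit 1538))
 (.leaf (nat_lit 0xd0503010383c9237) (nat_lit 3072))
))))) (.node (nat_lit 0xd050301068ccc267) (.node (nat_lit 0xd050301058cc0257) (.node (nat_lit 0xd050301048ec42e7) (.node (nat_lit 0xd050301048dc02d7) (.node (nat_lit 0xd050301048cc12b7) (.leaf (nat_lit 0xd050301048cc0287) (nat_lit 1281))
 (.leaf (nat_lit 0xd050301048cc12b7) (nat_lit 3330))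
) (.node (nat_lit 0xd050301048dc12e7) (.leaf (nat_lit 0xd050301048dc02d7) (nat_lit 2819))
 (.leaf (nat_lit 0xd050301048dc12e7) (nat_lit 3331))
)) (.node (nat_lit 0xd050301048fc42b7) (.node (nat_lit 0xd050301048ec52d7) (.leaf (nat_lit 0xd050301048ec42e7) (nat_lit 2305))
 (.leaf (nat_lit 0xd050301048ec52d7) (nat_lit 2816))
) (.node (nat_lit 0xd050301048fc5287) (.leaf (nat_lit 0xd050301048fc42b7) (nat_lit 2819))
 (.leaf (nat_lit 0xd050301048fc5287) (nat_lit 2307))
))) (.node (nat_lit 0xd050301058ec4237) (.node (nat_lit 0xd050301058dc0207) (.node (nat_lit 0xd050301058cc1267) (.leaf (nat_lit 0xd050301058cc0257) (nat_lit 3331))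
 (.leaf (nat_lit 0xd050301058cc1267) (nat_lit 3331))
) (.node (nat_lit 0xd050301058dc1237) (.leaf (nat_lit 0xd050301058dc0207) (nat_lit 1282))
 (.leaf (nat_lit 0xd050301058dc1237) (nat_lit 3331))
)) (.node (nat_lit 0xd050301058fc4267) (.node (nat_lit 0xd050301058ec5207) (.leaf (nat_lit 0xd050301058ec4237) (nat_lit 3330))
 (.leaf (nat_lit 0xd050301058ec5207) (nat_lit 2307))
) (.node (nat_lit 0xd050301058fc5257) (.leaf (nat_lit 0xd050301058fc4267) (nat_lit 2818))
 (.leaf (nat_lit 0xd050301058fc5257) (nat_lit 2816))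
)))) (.node (nat_lit 0xd050301078ccc2b7) (.node (nat_lit 0xd050301068ec8207) (.node (nat_lit 0xd050301068dcc237) (.node (nat_lit 0xd050301068ccd257) (.leaf (nat_lit 0xd050301068ccc267) (nat_lit 2305))
 (.leaf (nat_lit 0xd050301068ccd257) (nat_lit 2816))
) (.node (nat_lit 0xd050301068dcd207) (.leaf (nat_lit 0xd050301068dcc237) (nat_lit 3330))
 (.leaf (nat_lit 0xd050301068dcd207) (nat_lit 1795))
)) (.node (nat_lit 0xd050301068fc8257) (.node (nat_lit 0xd050301068ec9237) (.leaf (nat_lit 0xd050301068ec8207) (nat_lit 1281))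
 (.leaf (nat_lit 0xd050301068ec9237) (nat_lit 3331))
) (.node (nat_lit 0xd050301068fc9267) (.leaf (nat_lit 0xd050301068fc8257) (nat_lit 3331))
 (.leaf (nat_lit 0xd050301068fc9267) (nat_lit 3331))
))) (.node (nat_lit 0xd050301078ec82d7) (.node (nat_lit 0xd050301078dcc2e7) (.node (nat_lit 0xd050301078ccd287) (.leaf (nat_lit 0xd050301078ccc2b7) (nat_lit 2819))
 (.leaf (nat_lit 0xd050301078ccd287) (nat_lit 2307))
) (.node (nat_lit 0xd050301078dcd2d7) (.leaf (nat_lit 0xd050301078dcc2e7) (nat_lit 2818))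
 (.leaf (nat_lit 0xd050301078dcd2d7) (nat_lit 2304))
)) (.node (nat_lit 0xd050301078fc8287) (.node (nat_lit 0xd050301078ec92e7) (.leaf (nat_lit 0xd050301078ec82d7) (nat_lit 3331))
 (.leaf (nat_lit 0xd050301078ec92e7) (nat_lit 3331))
) (.node (nat_lit 0xd050301078fc92b7) (.leaf (nat_lit 0xd050301078fc8287) (nat_lit 1793))
 (.leaf (nat_lit 0xd050301078fc92b7) (nat_lit 3330))
)))))))) (.node (nat_lit 0xd0702010080c0e05) (.node (nat_lit 0xd0603010080c0e07) (.node (nat_lit 0xd060201048ccce49) (.node (nat_lit 0xd0602010280cce29) (.node (nat_lit 0xd0602010180c0ed9) (.node (nat_lit 0xd0602010082c6e09) (.node (nat_lit 0xd0602010081c0e69) (.node (nat_lit 0xd0602010080c1e29) (.leaf (nat_lit 0xd0602010080c0e09) (nat_lit 1536))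
 (.leaf (nat_lit 0xd0602010080c1e29) (nat_lit 3586))
) (.node (nat_lit 0xd0602010081c1e49) (.leaf (nat_lit 0xd0602010081c0e69) (nat_lit 3074))
 (.leaf (nat_lit 0xd0602010081c1e49) (nat_lit 2563))
)) (.node (nat_lit 0xd0602010083c6e69) (.node (nat_lit 0xd0602010082c7e29) (.leaf (nat_lit 0xd0602010082c6e09) (nat_lit 3075))
 (.leaf (nat_lit 0xd0602010082c7e29) (nat_lit 3075))
) (.node (nat_lit 0xd0602010083c7e49) (.leaf (nat_lit 0xd0602010083c6e69) (nat_lit 2050))
 (.leaf (nat_lit 0xd0602010083c7e49) (nat_lit 2561))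
))) (.node (nat_lit 0xd0602010182c6ed9) (.node (nat_lit 0xd0602010181c0eb9) (.node (nat_lit 0xd0602010180c1ef9) (.leaf (nat_lit 0xd0602010180c0ed9) (nat_lit 2563))
 (.leaf (nat_lit 0xd0602010180c1ef9) (nat_lit 3075))
) (.node (nat_lit 0xd0602010181c1e99) (.leaf (nat_lit 0xd0602010181c0eb9) (nat_lit 2562))
 (.leaf (nat_lit 0xd0602010181c1e99) (nat_lit 2048))
)) (.node (nat_lit 0xd0602010183c6eb9) (.node (nat_lit 0xd0602010182c7ef9) (.leaf (nat_lit 0xd0602010182c6ed9) (nat_lit 3073))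
 (.leaf (nat_lit 0xd0602010182c7ef9) (nat_lit 2562))
) (.node (nat_lit 0xd0602010183c7e99) (.leaf (nat_lit 0xd0602010183c6eb9) (nat_lit 3075))
 (.leaf (nat_lit 0xd0602010183c7e99) (nat_lit 3074))
)))) (.node (nat_lit 0xd0602010380ccef9) (.node (nat_lit 0xd0602010282cae29) (.node (nat_lit 0xd0602010281cce49) (.node (nat_lit 0xd0602010280cde09) (.leaf (nat_lit 0xd0602010280cce29) (nat_lit 3075))
 (.leaf (nat_lit 0xd0602010280cde09) (nat_lit 2563))
) (.node (nat_lit 0xd0602010281cde69) (.leaf (nat_lit 0xd0602010281cce49) (nat_lit 2050))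
 (.leaf (nat_lit 0xd0602010281cde69) (nat_lit 3075))
)) (.node (nat_lit 0xd0602010283cae49) (.node (nat_lit 0xd0602010282cbe09) (.leaf (nat_lit 0xd0602010282cae29) (nat_lit 2048))
 (.leaf (nat_lit 0xd0602010282cbe09) (nat_lit 2562))
) (.node (nat_lit 0xd0602010283cbe69) (.leaf (nat_lit 0xd0602010283cae49) (nat_lit 3075))
 (.leaf (nat_lit 0xd0602010283cbe69) (nat_lit 2563))
))) (.node (nat_lit 0xd0602010382caef9) (.node (nat_lit 0xd0602010381cce99) (.node (nat_lit 0xd0602010380cded9) (.leaf (nat_lit 0xd0602010380ccef9) (nat_lit 2561))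
 (.leaf (nat_lit 0xd0602010380cded9) (nat_lit 2050))
) (.node (nat_lit 0xd0602010381cdeb9) (.leaf (nat_lit 0xd0602010381cce99) (nat_lit 3075))
 (.leaf (nat_lit 0xd0602010381cdeb9) (nat_lit 3075))
)) (.node (nat_lit 0xd0602010383cae99) (.node (nat_lit 0xd0602010382cbed9) (.leaf (nat_lit 0xd0602010382caef9) (nat_lit 3075))
 (.leaf (nat_lit 0xd0602010382cbed9) (nat_lit 3075))
) (.node (nat_lit 0xd0602010383cbeb9) (.leaf (nat_lit 0xd0602010383cae99) (nat_lit 3075))
 (.leaf (nat_lit 0xd0602010383cbeb9) (nat_lit 2048))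
))))) (.node (nat_lit 0xd060201068cc0e69) (.node (nat_lit 0xd060201058ccce99) (.node (nat_lit 0xd060201048ecae49) (.node (nat_lit 0xd060201048dcce29) (.node (nat_lit 0xd060201048ccde69) (.leaf (nat_lit 0xd060201048ccce49) (nat_lit 1792))
 (.leaf (nat_lit 0xd060201048ccde69) (nat_lit 3330))
) (.node (nat_lit 0xd060201048dcde09) (.leaf (nat_lit 0xd060201048dcce29) (nat_lit 3330))
 (.leaf (nat_lit 0xd060201048dcde09) (nat_lit 2307))
)) (.node (nat_lit 0xd060201048fcae29) (.node (nat_lit 0xd060201048ecbe69) (.leaf (nat_lit 0xd060201048ecae49) (nat_lit 2819))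
 (.leaf (nat_lit 0xd060201048ecbe69) (nat_lit 2819))
) (.node (nat_lit 0xd060201048fcbe09) (.leaf (nat_lit 0xd060201048fcae29) (nat_lit 2306))
 (.leaf (nat_lit 0xd060201048fcbe09) (nat_lit 2305))
))) (.node (nat_lit 0xd060201058ecae99) (.node (nat_lit 0xd060201058dccef9) (.node (nat_lit 0xd060201058ccdeb9) (.leaf (nat_lit 0xd060201058ccce99) (nat_lit 2819))
 (.leaf (nat_lit 0xd060201058ccdeb9) (nat_lit 3331))
) (.node (nat_lit 0xd060201058dcded9) (.leaf (nat_lit 0xd060201058dccef9) (nat_lit 2818))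
 (.leaf (nat_lit 0xd060201058dcded9) (nat_lit 1792))
)) (.node (nat_lit 0xd060201058fcaef9) (.node (nat_lit 0xd060201058ecbeb9) (.leaf (nat_lit 0xd060201058ecae99) (nat_lit 3330))
 (.leaf (nat_lit 0xd060201058ecbeb9) (nat_lit 2305))
) (.node (nat_lit 0xd060201058fcbed9) (.leaf (nat_lit 0xd060201058fcaef9) (nat_lit 3331))
 (.leaf (nat_lit 0xd060201058fcbed9) (nat_lit 3329))
)))) (.node (nat_lit 0xd060201078cc0eb9) (.node (nat_lit 0xd060201068ec6e69) (.node (nat_lit 0xd060201068dc0e09) (.node (nat_lit 0xd060201068cc1e49) (.leaf (nat_lit 0xd060201068cc0e69) (nat_lit 2819))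
 (.leaf (nat_lit 0xd060201068cc1e49) (nat_lit 2819))
) (.node (nat_lit 0xd060201068dc1e29) (.leaf (nat_lit 0xd060201068dc0e09) (nat_lit 1794))
 (.leaf (nat_lit 0xd060201068dc1e29) (nat_lit 3331))
)) (.node (nat_lit 0xd060201068fc6e09) (.node (nat_lit 0xd060201068ec7e49) (.leaf (nat_lit 0xd060201068ec6e69) (nat_lit 1792))
 (.leaf (nat_lit 0xd060201068ec7e49) (nat_lit 2818))
) (.node (nat_lit 0xd060201068fc7e29) (.leaf (nat_lit 0xd060201068fc6e09) (nat_lit 2819))
 (.leaf (nat_lit 0xd060201068fc7e29) (nat_lit 2819))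
))) (.node (nat_lit 0xd060201078ec6eb9) (.node (nat_lit 0xd060201078dc0ed9) (.node (nat_lit 0xd060201078cc1e99) (.leaf (nat_lit 0xd060201078cc0eb9) (nat_lit 2305))
 (.leaf (nat_lit 0xd060201078cc1e99) (nat_lit 2306))
) (.node (nat_lit 0xd060201078dc1ef9) (.leaf (nat_lit 0xd060201078dc0ed9) (nat_lit 2819))
 (.leaf (nat_lit 0xd060201078dc1ef9) (nat_lit 3331))
)) (.node (nat_lit 0xd060201078fc6ed9) (.node (nat_lit 0xd060201078ec7e99) (.leaf (nat_lit 0xd060201078ec6eb9) (nat_lit 2819))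
 (.leaf (nat_lit 0xd060201078ec7e99) (nat_lit 2819))
) (.node (nat_lit 0xd060201078fc7ef9) (.leaf (nat_lit 0xd060201078fc6ed9) (nat_lit 3331))
 (.leaf (nat_lit 0xd060201078fc7ef9) (nat_lit 2304))
)))))) (.node (nat_lit 0xd060301048ccce87) (.node (nat_lit 0xd0603010280ccee7) (.node (nat_lit 0xd0603010180c0ed7) (.node (nat_lit 0xd0603010082c6e67) (.node (nat_lit 0xd0603010081c0e67) (.node (nat_lit 0xd0603010080c1e37) (.leaf (nat_lit 0xd0603010080c0e07) (nat_lit 1283))
 (.leaf (nat_lit 0xd0603010080c1e37) (nat_lit 3843))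
) (.node (nat_lit 0xd0603010081c1e57) (.leaf (nat_lit 0xd0603010081c0e67) (nat_lit 2818))
 (.leaf (nat_lit 0xd0603010081c1e57) (nat_lit 2816))
)) (.node (nat_lit 0xd0603010083c6e07) (.node (nat_lit 0xd0603010082c7e57) (.leaf (nat_lit 0xd0603010082c6e67) (nat_lit 2819))
 (.leaf (nat_lit 0xd0603010082c7e57) (nat_lit 2819))
) (.node (nat_lit 0xd0603010083c7e37) (.leaf (nat_lit 0xd0603010083c6e07) (nat_lit 1794))
 (.leaf (nat_lit 0xd0603010083c7e37) (nat_lit 2817))
))) (.node (nat_lit 0xd0603010182c6eb7) (.node (nat_lit 0xd0603010181c0eb7) (.node (nat_lit 0xd0603010180c1ee7) (.leaf (nat_lit 0xd0603010180c0ed7) (nat_lit 2818))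
 (.leaf (nat_lit 0xd0603010180c1ee7) (nat_lit 2817))
) (.node (nat_lit 0xd0603010181c1e87) (.leaf (nat_lit 0xd0603010181c0eb7) (nat_lit 2818))
 (.leaf (nat_lit 0xd0603010181c1e87) (nat_lit 1795))
)) (.node (nat_lit 0xd0603010183c6ed7) (.node (nat_lit 0xd0603010182c7e87) (.leaf (nat_lit 0xd0603010182c6eb7) (nat_lit 3331))
 (.leaf (nat_lit 0xd0603010182c7e87) (nat_lit 2306))
) (.node (nat_lit 0xd0603010183c7ee7) (.leaf (nat_lit 0xd0603010183c6ed7) (nat_lit 2819))
 (.leaf (nat_lit 0xd0603010183c7ee7) (nat_lit 2819))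
)))) (.node (nat_lit 0xd0603010380cce37) (.node (nat_lit 0xd0603010282cae87) (.node (nat_lit 0xd0603010281cce87) (.node (nat_lit 0xd0603010280cded7) (.leaf (nat_lit 0xd0603010280ccee7) (nat_lit 2819))
 (.leaf (nat_lit 0xd0603010280cded7) (nat_lit 2819))
) (.node (nat_lit 0xd0603010281cdeb7) (.leaf (nat_lit 0xd0603010281cce87) (nat_lit 1794))
 (.leaf (nat_lit 0xd0603010281cdeb7) (nat_lit 3331))
)) (.node (nat_lit 0xd0603010283caee7) (.node (nat_lit 0xd0603010282cbeb7) (.leaf (nat_lit 0xd0603010282cae87) (nat_lit 1795))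
 (.leaf (nat_lit 0xd0603010282cbeb7) (nat_lit 2817))
) (.node (nat_lit 0xd0603010283cbed7) (.leaf (nat_lit 0xd0603010283caee7) (nat_lit 2818))
 (.leaf (nat_lit 0xd0603010283cbed7) (nat_lit 2816))
))) (.node (nat_lit 0xd0603010382cae57) (.node (nat_lit 0xd0603010381cce57) (.node (nat_lit 0xd0603010380cde07) (.leaf (nat_lit 0xd0603010380cce37) (nat_lit 2817))
 (.leaf (nat_lit 0xd0603010380cde07) (nat_lit 1794))
) (.node (nat_lit 0xd0603010381cde67) (.leaf (nat_lit 0xd0603010381cce57) (nat_lit 2819))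
 (.leaf (nat_lit 0xd0603010381cde67) (nat_lit 2819))
)) (.node (nat_lit 0xd0603010383cae37) (.node (nat_lit 0xd0603010382cbe67) (.leaf (nat_lit 0xd0603010382cae57) (nat_lit 3330))
 (.leaf (nat_lit 0xd0603010382cbe67) (nat_lit 3329))
) (.node (nat_lit 0xd0603010383cbe07) (.leaf (nat_lit 0xd0603010383cae37) (nat_lit 3331))
 (.leaf (nat_lit 0xd0603010383cbe07) (nat_lit 1795))
))))) (.node (nat_lit 0xd060301068cc0e67) (.node (nat_lit 0xd060301058ccce57) (.node (nat_lit 0xd060301048ecaee7) (.node (nat_lit 0xd060301048dccee7) (.node (nat_lit 0xd060301048ccdeb7) (.leaf (nat_lit 0xd060301048ccce87) (nat_lit 1539))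
 (.leaf (nat_lit 0xd060301048ccdeb7) (nat_lit 3587))
) (.node (nat_lit 0xd060301048dcded7) (.leaf (nat_lit 0xd060301048dccee7) (nat_lit 3074))
 (.leaf (nat_lit 0xd060301048dcded7) (nat_lit 2560))
)) (.node (nat_lit 0xd060301048fcae87) (.node (nat_lit 0xd060301048ecbed7) (.leaf (nat_lit 0xd060301048ecaee7) (nat_lit 2563))
 (.leaf (nat_lit 0xd060301048ecbed7) (nat_lit 3075))
) (.node (nat_lit 0xd060301048fcbeb7) (.leaf (nat_lit 0xd060301048fcae87) (nat_lit 2050))
 (.leaf (nat_lit 0xd060301048fcbeb7) (nat_lit 2561))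
))) (.node (nat_lit 0xd060301058ecae37) (.node (nat_lit 0xd060301058dcce37) (.node (nat_lit 0xd060301058ccde67) (.leaf (nat_lit 0xd060301058ccce57) (nat_lit 3073))
 (.leaf (nat_lit 0xd060301058ccde67) (nat_lit 3074))
) (.node (nat_lit 0xd060301058dcde07) (.leaf (nat_lit 0xd060301058dcce37) (nat_lit 3074))
 (.leaf (nat_lit 0xd060301058dcde07) (nat_lit 1539))
)) (.node (nat_lit 0xd060301058fcae57) (.node (nat_lit 0xd060301058ecbe07) (.leaf (nat_lit 0xd060301058ecae37) (nat_lit 3587))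
 (.leaf (nat_lit 0xd060301058ecbe07) (nat_lit 2049))
) (.node (nat_lit 0xd060301058fcbe67) (.leaf (nat_lit 0xd060301058fcae57) (nat_lit 3075))
 (.leaf (nat_lit 0xd060301058fcbe67) (nat_lit 3075))
)))) (.node (nat_lit 0xd060301078cc0eb7) (.node (nat_lit 0xd060301068ec6e07) (.node (nat_lit 0xd060301068dc0e07) (.node (nat_lit 0xd060301068cc1e57) (.leaf (nat_lit 0xd060301068cc0e67) (nat_lit 2563))
 (.leaf (nat_lit 0xd060301068cc1e57) (nat_lit 3075))
) (.node (nat_lit 0xd060301068dc1e37) (.leaf (nat_lit 0xd060301068dc0e07) (nat_lit 1538))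
 (.leaf (nat_lit 0xd060301068dc1e37) (nat_lit 3587))
)) (.node (nat_lit 0xd060301068fc6e67) (.node (nat_lit 0xd060301068ec7e37) (.leaf (nat_lit 0xd060301068ec6e07) (nat_lit 1539))
 (.leaf (nat_lit 0xd060301068ec7e37) (nat_lit 3073))
) (.node (nat_lit 0xd060301068fc7e57) (.leaf (nat_lit 0xd060301068fc6e67) (nat_lit 3072))
 (.leaf (nat_lit 0xd060301068fc7e57) (nat_lit 3074))
))) (.node (nat_lit 0xd060301078ec6ed7) (.node (nat_lit 0xd060301078dc0ed7) (.node (nat_lit 0xd060301078cc1e87) (.leaf (nat_lit 0xd060301078cc0eb7) (nat_lit 2561))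
 (.leaf (nat_lit 0xd060301078cc1e87) (nat_lit 2050))
) (.node (nat_lit 0xd060301078dc1ee7) (.leaf (nat_lit 0xd060301078dc0ed7) (nat_lit 2563))
 (.leaf (nat_lit 0xd060301078dc1ee7) (nat_lit 3075))
)) (.node (nat_lit 0xd060301078fc6eb7) (.node (nat_lit 0xd060301078ec7ee7) (.leaf (nat_lit 0xd060301078ec6ed7) (nat_lit 3074))
 (.leaf (nat_lit 0xd060301078ec7ee7) (nat_lit 3073))
) (.node (nat_lit 0xd060301078fc7e87) (.leaf (nat_lit 0xd060301078fc6eb7) (nat_lit 3587))
 (.leaf (nat_lit 0xd060301078fc7e87) (nat_lit 2051))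
))))))) (.node (nat_lit 0xd0703010080c0e0b) (.node (nat_lit 0xd070201048ccce85) (.node (nat_lit 0xd0702010280cce25) (.node (nat_lit 0xd0702010180c0ed5) (.node (nat_lit 0xd0702010082c6e25) (.node (nat_lit 0xd0702010081c0e75) (.node (nat_lit 0xd0702010080c1e25) (.leaf (nat_lit 0xd0702010080c0e05) (nat_lit 1539))
 (.leaf (nat_lit 0xd0702010080c1e25) (nat_lit 3587))
) (.node (nat_lit 0xd0702010081c1e55) (.leaf (nat_lit 0xd0702010081c0e75) (nat_lit 3074))
 (.leaf (nat_lit 0xd0702010081c1e55) (nat_lit 3072))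
)) (.node (nat_lit 0xd0702010083c6e55) (.node (nat_lit 0xd0702010082c7e05) (.leaf (nat_lit 0xd0702010082c6e25) (nat_lit 2561))
 (.leaf (nat_lit 0xd0702010082c7e05) (nat_lit 2050))
) (.node (nat_lit 0xd0702010083c7e75) (.leaf (nat_lit 0xd0702010083c6e55) (nat_lit 2563))
 (.leaf (nat_lit 0xd0702010083c7e75) (nat_lit 3075))
))) (.node (nat_lit 0xd0702010182c6ef5) (.node (nat_lit 0xd0702010181c0ea5) (.node (nat_lit 0xd0702010180c1ef5) (.leaf (nat_lit 0xd0702010180c0ed5) (nat_lit 2562))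
 (.leaf (nat_lit 0xd0702010180c1ef5) (nat_lit 3073))
) (.node (nat_lit 0xd0702010181c1e85) (.leaf (nat_lit 0xd0702010181c0ea5) (nat_lit 2562))
 (.leaf (nat_lit 0xd0702010181c1e85) (nat_lit 2051))
)) (.node (nat_lit 0xd0702010183c6e85) (.node (nat_lit 0xd0702010182c7ed5) (.leaf (nat_lit 0xd0702010182c6ef5) (nat_lit 3075))
 (.leaf (nat_lit 0xd0702010182c7ed5) (nat_lit 3075))
) (.node (nat_lit 0xd0702010183c7ea5) (.leaf (nat_lit 0xd0702010183c6e85) (nat_lit 2050))
 (.leaf (nat_lit 0xd0702010183c7ea5) (nat_lit 3075))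
)))) (.node (nat_lit 0xd0702010380ccef5) (.node (nat_lit 0xd0702010282cae05) (.node (nat_lit 0xd0702010281cce55) (.node (nat_lit 0xd0702010280cde05) (.leaf (nat_lit 0xd0702010280cce25) (nat_lit 2561))
 (.leaf (nat_lit 0xd0702010280cde05) (nat_lit 2050))
) (.node (nat_lit 0xd0702010281cde75) (.leaf (nat_lit 0xd0702010281cce55) (nat_lit 2563))
 (.leaf (nat_lit 0xd0702010281cde75) (nat_lit 3075))
)) (.node (nat_lit 0xd0702010283cae75) (.node (nat_lit 0xd0702010282cbe25) (.leaf (nat_lit 0xd0702010282cae05) (nat_lit 2051))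
 (.leaf (nat_lit 0xd0702010282cbe25) (nat_lit 3587))
) (.node (nat_lit 0xd0702010283cbe55) (.leaf (nat_lit 0xd0702010283cae75) (nat_lit 3585))
 (.leaf (nat_lit 0xd0702010283cbe55) (nat_lit 3074))
))) (.node (nat_lit 0xd0702010382caed5) (.node (nat_lit 0xd0702010381cce85) (.node (nat_lit 0xd0702010380cded5) (.leaf (nat_lit 0xd0702010380ccef5) (nat_lit 3075))
 (.leaf (nat_lit 0xd0702010380cded5) (nat_lit 2563))
) (.node (nat_lit 0xd0702010381cdea5) (.leaf (nat_lit 0xd0702010381cce85) (nat_lit 2050))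
 (.leaf (nat_lit 0xd0702010381cdea5) (nat_lit 3075))
)) (.node (nat_lit 0xd0702010383caea5) (.node (nat_lit 0xd0702010382cbef5) (.leaf (nat_lit 0xd0702010382caed5) (nat_lit 3072))
 (.leaf (nat_lit 0xd0702010382cbef5) (nat_lit 3074))
) (.node (nat_lit 0xd0702010383cbe85) (.leaf (nat_lit 0xd0702010383caea5) (nat_lit 2561))
 (.leaf (nat_lit 0xd0702010383cbe85) (nat_lit 2051))
))))) (.node (nat_lit 0xd070201068cc0ea5) (.node (nat_lit 0xd070201058ccce55) (.node (nat_lit 0xd070201048ecaea5) (.node (nat_lit 0xd070201048dccef5) (.node (nat_lit 0xd070201048ccdea5) (.leaf (nat_lit 0xd070201048ccce85) (nat_lit 1795))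
 (.leaf (nat_lit 0xd070201048ccdea5) (nat_lit 3331))
) (.node (nat_lit 0xd070201048dcded5) (.leaf (nat_lit 0xd070201048dccef5) (nat_lit 3330))
 (.leaf (nat_lit 0xd070201048dcded5) (nat_lit 2816))
)) (.node (nat_lit 0xd070201048fcaed5) (.node (nat_lit 0xd070201048ecbe85) (.leaf (nat_lit 0xd070201048ecaea5) (nat_lit 2305))
 (.leaf (nat_lit 0xd070201048ecbe85) (nat_lit 2306))
) (.node (nat_lit 0xd070201048fcbef5) (.leaf (nat_lit 0xd070201048fcaed5) (nat_lit 2819))
 (.leaf (nat_lit 0xd070201048fcbef5) (nat_lit 2819))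
))) (.node (nat_lit 0xd070201058ecae75) (.node (nat_lit 0xd070201058dcce25) (.node (nat_lit 0xd070201058ccde75) (.leaf (nat_lit 0xd070201058ccce55) (nat_lit 2817))
 (.leaf (nat_lit 0xd070201058ccde75) (nat_lit 3330))
) (.node (nat_lit 0xd070201058dcde05) (.leaf (nat_lit 0xd070201058dcce25) (nat_lit 2818))
 (.leaf (nat_lit 0xd070201058dcde05) (nat_lit 1795))
)) (.node (nat_lit 0xd070201058fcae05) (.node (nat_lit 0xd070201058ecbe55) (.leaf (nat_lit 0xd070201058ecae75) (nat_lit 3331))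
 (.leaf (nat_lit 0xd070201058ecbe55) (nat_lit 2819))
) (.node (nat_lit 0xd070201058fcbe25) (.leaf (nat_lit 0xd070201058fcae05) (nat_lit 2305))
 (.leaf (nat_lit 0xd070201058fcbe25) (nat_lit 3331))
)))) (.node (nat_lit 0xd070201078cc0e75) (.node (nat_lit 0xd070201068ec6e85) (.node (nat_lit 0xd070201068dc0ed5) (.node (nat_lit 0xd070201068cc1e85) (.leaf (nat_lit 0xd070201068cc0ea5) (nat_lit 2305))
 (.leaf (nat_lit 0xd070201068cc1e85) (nat_lit 2306))
) (.node (nat_lit 0xd070201068dc1ef5) (.leaf (nat_lit 0xd070201068dc0ed5) (nat_lit 2307))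
 (.leaf (nat_lit 0xd070201068dc1ef5) (nat_lit 3331))
)) (.node (nat_lit 0xd070201068fc6ef5) (.node (nat_lit 0xd070201068ec7ea5) (.leaf (nat_lit 0xd070201068ec6e85) (nat_lit 1795))
 (.leaf (nat_lit 0xd070201068ec7ea5) (nat_lit 3331))
) (.node (nat_lit 0xd070201068fc7ed5) (.leaf (nat_lit 0xd070201068fc6ef5) (nat_lit 3329))
 (.leaf (nat_lit 0xd070201068fc7ed5) (nat_lit 3330))
))) (.node (nat_lit 0xd070201078ec6e55) (.node (nat_lit 0xd070201078dc0e05) (.node (nat_lit 0xd070201078cc1e55) (.leaf (nat_lit 0xd070201078cc0e75) (nat_lit 2819))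
 (.leaf (nat_lit 0xd070201078cc1e55) (nat_lit 2819))
) (.node (nat_lit 0xd070201078dc1e25) (.leaf (nat_lit 0xd070201078dc0e05) (nat_lit 1794))
 (.leaf (nat_lit 0xd070201078dc1e25) (nat_lit 3331))
)) (.node (nat_lit 0xd070201078fc6e25) (.node (nat_lit 0xd070201078ec7e75) (.leaf (nat_lit 0xd070201078ec6e55) (nat_lit 2818))
 (.leaf (nat_lit 0xd070201078ec7e75) (nat_lit 2816))
) (.node (nat_lit 0xd070201078fc7e05) (.leaf (nat_lit 0xd070201078fc6e25) (nat_lit 2817))
 (.leaf (nat_lit 0xd070201078fc7e05) (nat_lit 1795))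
)))))) (.node (nat_lit 0xd070301048ccce4b) (.node (nat_lit 0xd0703010280cceeb) (.node (nat_lit 0xd0703010180c0edb) (.node (nat_lit 0xd0703010082c6e4b) (.node (nat_lit 0xd0703010081c0e7b) (.node (nat_lit 0xd0703010080c1e3b) (.leaf (nat_lit 0xd0703010080c0e0b) (nat_lit 1792))
 (.leaf (nat_lit 0xd0703010080c1e3b) (nat_lit 3842))
) (.node (nat_lit 0xd0703010081c1e4b) (.leaf (nat_lit 0xd0703010081c0e7b) (nat_lit 3330))
 (.leaf (nat_lit 0xd0703010081c1e4b) (nat_lit 2819))
)) (.node (nat_lit 0xd0703010083c6e3b) (.node (nat_lit 0xd0703010082c7e7b) (.leaf (nat_lit 0xd0703010082c6e4b) (nat_lit 2305))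
 (.leaf (nat_lit 0xd0703010082c7e7b) (nat_lit 2306))
) (.node (nat_lit 0xd0703010083c7e0b) (.leaf (nat_lit 0xd0703010083c6e3b) (nat_lit 2819))
 (.leaf (nat_lit 0xd0703010083c7e0b) (nat_lit 2819))
))) (.node (nat_lit 0xd0703010182c6e9b) (.node (nat_lit 0xd0703010181c0eab) (.node (nat_lit 0xd0703010180c1eeb) (.leaf (nat_lit 0xd0703010180c0edb) (nat_lit 2819))
 (.leaf (nat_lit 0xd0703010180c1eeb) (nat_lit 2819))
) (.node (nat_lit 0xd0703010181c1e9b) (.leaf (nat_lit 0xd0703010181c0eab) (nat_lit 2306))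
 (.leaf (nat_lit 0xd0703010181c1e9b) (nat_lit 2304))
)) (.node (nat_lit 0xd0703010183c6eeb) (.node (nat_lit 0xd0703010182c7eab) (.leaf (nat_lit 0xd0703010182c6e9b) (nat_lit 3330))
 (.leaf (nat_lit 0xd0703010182c7eab) (nat_lit 3331))
) (.node (nat_lit 0xd0703010183c7edb) (.leaf (nat_lit 0xd0703010183c6eeb) (nat_lit 2306))
 (.leaf (nat_lit 0xd0703010183c7edb) (nat_lit 3329))
)))) (.node (nat_lit 0xd0703010380cce3b) (.node (nat_lit 0xd0703010282caeab) (.node (nat_lit 0xd0703010281cce9b) (.node (nat_lit 0xd0703010280cdedb) (.leaf (nat_lit 0xd0703010280cceeb) (nat_lit 2305))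
 (.leaf (nat_lit 0xd0703010280cdedb) (nat_lit 2306))
) (.node (nat_lit 0xd0703010281cdeab) (.leaf (nat_lit 0xd0703010281cce9b) (nat_lit 2819))
 (.leaf (nat_lit 0xd0703010281cdeab) (nat_lit 2819))
)) (.node (nat_lit 0xd0703010283caedb) (.node (nat_lit 0xd0703010282cbe9b) (.leaf (nat_lit 0xd0703010282caeab) (nat_lit 2304))
 (.leaf (nat_lit 0xd0703010282cbe9b) (nat_lit 3331))
) (.node (nat_lit 0xd0703010283cbeeb) (.leaf (nat_lit 0xd0703010283caedb) (nat_lit 3331))
 (.leaf (nat_lit 0xd0703010283cbeeb) (nat_lit 2819))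
))) (.node (nat_lit 0xd0703010382cae7b) (.node (nat_lit 0xd0703010381cce4b) (.node (nat_lit 0xd0703010380cde0b) (.leaf (nat_lit 0xd0703010380cce3b) (nat_lit 3331))
 (.leaf (nat_lit 0xd0703010380cde0b) (nat_lit 2819))
) (.node (nat_lit 0xd0703010381cde7b) (.leaf (nat_lit 0xd0703010381cce4b) (nat_lit 2306))
 (.leaf (nat_lit 0xd0703010381cde7b) (nat_lit 3331))
)) (.node (nat_lit 0xd0703010383cae0b) (.node (nat_lit 0xd0703010382cbe4b) (.leaf (nat_lit 0xd0703010382cae7b) (nat_lit 2819))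
 (.leaf (nat_lit 0xd0703010382cbe4b) (nat_lit 2819))
) (.node (nat_lit 0xd0703010383cbe3b) (.leaf (nat_lit 0xd0703010383cae0b) (nat_lit 2306))
 (.leaf (nat_lit 0xd0703010383cbe3b) (nat_lit 2304))
))))) (.node (nat_lit 0xd070301068cc0eab) (.node (nat_lit 0xd070301058ccce9b) (.node (nat_lit 0xd070301048ecae0b) (.node (nat_lit 0xd070301048dcce3b) (.node (nat_lit 0xd070301048ccde7b) (.leaf (nat_lit 0xd070301048ccce4b) (nat_lit 2048))
 (.leaf (nat_lit 0xd070301048ccde7b) (nat_lit 3586))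
) (.node (nat_lit 0xd070301048dcde0b) (.leaf (nat_lit 0xd070301048dcce3b) (nat_lit 3586))
 (.leaf (nat_lit 0xd070301048dcde0b) (nat_lit 2563))
)) (.node (nat_lit 0xd070301048fcae7b) (.node (nat_lit 0xd070301048ecbe3b) (.leaf (nat_lit 0xd070301048ecae0b) (nat_lit 2049))
 (.leaf (nat_lit 0xd070301048ecbe3b) (nat_lit 2562))
) (.node (nat_lit 0xd070301048fcbe4b) (.leaf (nat_lit 0xd070301048fcae7b) (nat_lit 3075))
 (.leaf (nat_lit 0xd070301048fcbe4b) (nat_lit 3075))
))) (.node (nat_lit 0xd070301058ecaedb) (.node (nat_lit 0xd070301058dcceeb) (.node (nat_lit 0xd070301058ccdeab) (.leaf (nat_lit 0xd070301058ccce9b) (nat_lit 3075))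
 (.leaf (nat_lit 0xd070301058ccdeab) (nat_lit 3075))
) (.node (nat_lit 0xd070301058dcdedb) (.leaf (nat_lit 0xd070301058dcceeb) (nat_lit 2562))
 (.leaf (nat_lit 0xd070301058dcdedb) (nat_lit 2048))
)) (.node (nat_lit 0xd070301058fcaeab) (.node (nat_lit 0xd070301058ecbeeb) (.leaf (nat_lit 0xd070301058ecaedb) (nat_lit 3585))
 (.leaf (nat_lit 0xd070301058ecbeeb) (nat_lit 3075))
) (.node (nat_lit 0xd070301058fcbe9b) (.leaf (nat_lit 0xd070301058fcaeab) (nat_lit 2561))
 (.leaf (nat_lit 0xd070301058fcbe9b) (nat_lit 3586))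
)))) (.node (nat_lit 0xd070301078cc0e7b) (.node (nat_lit 0xd070301068ec6eeb) (.node (nat_lit 0xd070301068dc0edb) (.node (nat_lit 0xd070301068cc1e9b) (.leaf (nat_lit 0xd070301068cc0eab) (nat_lit 2049))
 (.leaf (nat_lit 0xd070301068cc1e9b) (nat_lit 2562))
) (.node (nat_lit 0xd070301068dc1eeb) (.leaf (nat_lit 0xd070301068dc0edb) (nat_lit 2563))
 (.leaf (nat_lit 0xd070301068dc1eeb) (nat_lit 3075))
)) (.node (nat_lit 0xd070301068fc6e9b) (.node (nat_lit 0xd070301068ec7edb) (.leaf (nat_lit 0xd070301068ec6eeb) (nat_lit 2048))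
 (.leaf (nat_lit 0xd070301068ec7edb) (nat_lit 3587))
) (.node (nat_lit 0xd070301068fc7eab) (.leaf (nat_lit 0xd070301068fc6e9b) (nat_lit 3075))
 (.leaf (nat_lit 0xd070301068fc7eab) (nat_lit 3075))
))) (.node (nat_lit 0xd070301078ec6e3b) (.node (nat_lit 0xd070301078dc0e0b) (.node (nat_lit 0xd070301078cc1e4b) (.leaf (nat_lit 0xd070301078cc0e7b) (nat_lit 3075))
 (.leaf (nat_lit 0xd070301078cc1e4b) (nat_lit 3075))
) (.node (nat_lit 0xd070301078dc1e3b) (.leaf (nat_lit 0xd070301078dc0e0b) (nat_lit 2050))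
 (.leaf (nat_lit 0xd070301078dc1e3b) (nat_lit 3587))
)) (.node (nat_lit 0xd070301078fc6e4b) (.node (nat_lit 0xd070301078ec7e0b) (.leaf (nat_lit 0xd070301078ec6e3b) (nat_lit 3075))
 (.leaf (nat_lit 0xd070301078ec7e0b) (nat_lit 2563))
) (.node (nat_lit 0xd070301078fc7e7b) (.leaf (nat_lit 0xd070301078fc6e4b) (nat_lit 2562))
 (.leaf (nat_lit 0xd070301078fc7e7b) (nat_lit 2048))
)))))))))) (.node (nat_lit 0xf0402010080c0a09) (.node (nat_lit 0xe0602010080c0601) (.node (nat_lit 0xe0502010080c0a0d) (.node (nat_lit 0xe0403010080c0a0b) (.node (nat_lit 0xe040201048cc4a01) (.node (nat_lit 0xe0402010280cea01) (.node (nat_lit 0xe0402010180c0ae1) (.node (nat_lit 0xe0402010082c4a01) (.node (nat_lit 0xe0402010081c0a41) (.node (nat_lit 0xe0402010080c1a21) (.leaf (nat_lit 0xe0402010080c0a01) (nat_lit 771))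
 (.leaf (nat_lit 0xe0402010080c1a21) (nat_lit 3843))
) (.node (nat_lit 0xe0402010081c1a61) (.leaf (nat_lit 0xe0402010081c0a41) (nat_lit 3330))
 (.leaf (nat_lit 0xe0402010081c1a61) (nat_lit 3328))
)) (.node (nat_lit 0xe0402010083c4a41) (.node (nat_lit 0xe0402010082c5a21) (.leaf (nat_lit 0xe0402010082c4a01) (nat_lit 1282))
 (.leaf (nat_lit 0xe0402010082c5a21) (nat_lit 3328))
) (.node (nat_lit 0xe0402010083c5a61) (.leaf (nat_lit 0xe0402010083c4a41) (nat_lit 3331))
 (.leaf (nat_lit 0xe0402010083c5a61) (nat_lit 2819))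
))) (.node (nat_lit 0xe0402010182c4ae1) (.node (nat_lit 0xe0402010181c0aa1) (.node (nat_lit 0xe0402010180c1ac1) (.leaf (nat_lit 0xe0402010180c0ae1) (nat_lit 2306))
 (.leaf (nat_lit 0xe0402010180c1ac1) (nat_lit 2817))
) (.node (nat_lit 0xe0402010181c1a81) (.leaf (nat_lit 0xe0402010181c0aa1) (nat_lit 2818))
 (.leaf (nat_lit 0xe0402010181c1a81) (nat_lit 2307))
)) (.node (nat_lit 0xe0402010183c4aa1) (.node (nat_lit 0xe0402010182c5ac1) (.leaf (nat_lit 0xe0402010182c4ae1) (nat_lit 2307))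
 (.leaf (nat_lit 0xe0402010182c5ac1) (nat_lit 2819))
) (.node (nat_lit 0xe0402010183c5a81) (.leaf (nat_lit 0xe0402010183c4aa1) (nat_lit 2817))
 (.leaf (nat_lit 0xe0402010183c5a81) (nat_lit 2306))
)))) (.node (nat_lit 0xe0402010380ceae1) (.node (nat_lit 0xe0402010282caa01) (.node (nat_lit 0xe0402010281cea41) (.node (nat_lit 0xe0402010280cfa21) (.leaf (nat_lit 0xe0402010280cea01) (nat_lit 1282))
 (.leaf (nat_lit 0xe0402010280cfa21) (nat_lit 3329))
) (.node (nat_lit 0xe0402010281cfa61) (.leaf (nat_lit 0xe0402010281cea41) (nat_lit 3331))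
 (.leaf (nat_lit 0xe0402010281cfa61) (nat_lit 3331))
)) (.node (nat_lit 0xe0402010283caa41) (.node (nat_lit 0xe0402010282cba21) (.leaf (nat_lit 0xe0402010282caa01) (nat_lit 1283))
 (.leaf (nat_lit 0xe0402010282cba21) (nat_lit 3331))
) (.node (nat_lit 0xe0402010283cba61) (.leaf (nat_lit 0xe0402010283caa41) (nat_lit 3328))
 (.leaf (nat_lit 0xe0402010283cba61) (nat_lit 3330))
))) (.node (nat_lit 0xe0402010382caae1) (.node (nat_lit 0xe0402010381ceaa1) (.node (nat_lit 0xe0402010380cfac1) (.leaf (nat_lit 0xe0402010380ceae1) (nat_lit 2307))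
 (.leaf (nat_lit 0xe0402010380cfac1) (nat_lit 2819))
) (.node (nat_lit 0xe0402010381cfa81) (.leaf (nat_lit 0xe0402010381ceaa1) (nat_lit 2817))
 (.leaf (nat_lit 0xe0402010381cfa81) (nat_lit 2306))
)) (.node (nat_lit 0xe0402010383caaa1) (.node (nat_lit 0xe0402010382cbac1) (.leaf (nat_lit 0xe0402010382caae1) (nat_lit 2304))
 (.leaf (nat_lit 0xe0402010382cbac1) (nat_lit 2818))
) (.node (nat_lit 0xe0402010383cba81) (.leaf (nat_lit 0xe0402010383caaa1) (nat_lit 2817))
 (.leaf (nat_lit 0xe0402010383cba81) (nat_lit 2307))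
))))) (.node (nat_lit 0xe040201068ccaa01) (.node (nat_lit 0xe040201058cc4ae1) (.node (nat_lit 0xe040201048ec0a01) (.node (nat_lit 0xe040201048dc4a41) (.node (nat_lit 0xe040201048cc5a21) (.leaf (nat_lit 0xe040201048cc4a01) (nat_lit 1027))
 (.leaf (nat_lit 0xe040201048cc5a21) (nat_lit 3587))
) (.node (nat_lit 0xe040201048dc5a61) (.leaf (nat_lit 0xe040201048dc4a41) (nat_lit 3072))
 (.leaf (nat_lit 0xe040201048dc5a61) (nat_lit 3074))
)) (.node (nat_lit 0xe040201048fc0a41) (.node (nat_lit 0xe040201048ec1a21) (.leaf (nat_lit 0xe040201048ec0a01) (nat_lit 1026))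
 (.leaf (nat_lit 0xe040201048ec1a21) (nat_lit 3584))
) (.node (nat_lit 0xe040201048fc1a61) (.leaf (nat_lit 0xe040201048fc0a41) (nat_lit 3075))
 (.leaf (nat_lit 0xe040201048fc1a61) (nat_lit 3075))
))) (.node (nat_lit 0xe040201058ec0ae1) (.node (nat_lit 0xe040201058dc4aa1) (.node (nat_lit 0xe040201058cc5ac1) (.leaf (nat_lit 0xe040201058cc4ae1) (nat_lit 2562))
 (.leaf (nat_lit 0xe040201058cc5ac1) (nat_lit 2561))
) (.node (nat_lit 0xe040201058dc5a81) (.leaf (nat_lit 0xe040201058dc4aa1) (nat_lit 3074))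
 (.leaf (nat_lit 0xe040201058dc5a81) (nat_lit 2051))
)) (.node (nat_lit 0xe040201058fc0aa1) (.node (nat_lit 0xe040201058ec1ac1) (.leaf (nat_lit 0xe040201058ec0ae1) (nat_lit 2051))
 (.leaf (nat_lit 0xe040201058ec1ac1) (nat_lit 3075))
) (.node (nat_lit 0xe040201058fc1a81) (.leaf (nat_lit 0xe040201058fc0aa1) (nat_lit 2561))
 (.leaf (nat_lit 0xe040201058fc1a81) (nat_lit 2562))
)))) (.node (nat_lit 0xe040201078ccaae1) (.node (nat_lit 0xe040201068ecea01) (.node (nat_lit 0xe040201068dcaa41) (.node (nat_lit 0xe040201068ccba21) (.leaf (nat_lit 0xe040201068ccaa01) (nat_lit 1537))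
 (.leaf (nat_lit 0xe040201068ccba21) (nat_lit 3586))
) (.node (nat_lit 0xe040201068dcba61) (.leaf (nat_lit 0xe040201068dcaa41) (nat_lit 3587))
 (.leaf (nat_lit 0xe040201068dcba61) (nat_lit 3075))
)) (.node (nat_lit 0xe040201068fcea41) (.node (nat_lit 0xe040201068ecfa21) (.leaf (nat_lit 0xe040201068ecea01) (nat_lit 1027))
 (.leaf (nat_lit 0xe040201068ecfa21) (nat_lit 3587))
) (.node (nat_lit 0xe040201068fcfa61) (.leaf (nat_lit 0xe040201068fcea41) (nat_lit 3586))
 (.leaf (nat_lit 0xe040201068fcfa61) (nat_lit 3585))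
))) (.node (nat_lit 0xe040201078eceae1) (.node (nat_lit 0xe040201078dcaaa1) (.node (nat_lit 0xe040201078ccbac1) (.leaf (nat_lit 0xe040201078ccaae1) (nat_lit 2563))
 (.leaf (nat_lit 0xe040201078ccbac1) (nat_lit 2563))
) (.node (nat_lit 0xe040201078dcba81) (.leaf (nat_lit 0xe040201078dcaaa1) (nat_lit 2561))
 (.leaf (nat_lit 0xe040201078dcba81) (nat_lit 2562))
)) (.node (nat_lit 0xe040201078fceaa1) (.node (nat_lit 0xe040201078ecfac1) (.leaf (nat_lit 0xe040201078eceae1) (nat_lit 2048))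
 (.leaf (nat_lit 0xe040201078ecfac1) (nat_lit 3074))
) (.node (nat_lit 0xe040201078fcfa81) (.leaf (nat_lit 0xe040201078fceaa1) (nat_lit 3073))
 (.leaf (nat_lit 0xe040201078fcfa81) (nat_lit 2051))
)))))) (.node (nat_lit 0xe040301048cc4a4b) (.node (nat_lit 0xe0403010280ceaeb) (.node (nat_lit 0xe0403010180c0aeb) (.node (nat_lit 0xe0403010082c4a4b) (.node (nat_lit 0xe0403010081c0a4b) (.node (nat_lit 0xe0403010080c1a3b) (.leaf (nat_lit 0xe0403010080c0a0b) (nat_lit 1024))
 (.leaf (nat_lit 0xe0403010080c1a3b) (nat_lit 3586))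
) (.node (nat_lit 0xe0403010081c1a7b) (.leaf (nat_lit 0xe0403010081c0a4b) (nat_lit 3075))
 (.leaf (nat_lit 0xe0403010081c1a7b) (nat_lit 3075))
)) (.node (nat_lit 0xe0403010083c4a0b) (.node (nat_lit 0xe0403010082c5a7b) (.leaf (nat_lit 0xe0403010082c4a4b) (nat_lit 1538))
 (.leaf (nat_lit 0xe0403010082c5a7b) (nat_lit 3075))
) (.node (nat_lit 0xe0403010083c5a3b) (.leaf (nat_lit 0xe0403010083c4a0b) (nat_lit 3075))
 (.leaf (nat_lit 0xe0403010083c5a3b) (nat_lit 3075))
))) (.node (nat_lit 0xe0403010182c4aab) (.node (nat_lit 0xe0403010181c0aab) (.node (nat_lit 0xe0403010180c1adb) (.leaf (nat_lit 0xe0403010180c0aeb) (nat_lit 2051))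
 (.leaf (nat_lit 0xe0403010180c1adb) (nat_lit 3075))
) (.node (nat_lit 0xe0403010181c1a9b) (.leaf (nat_lit 0xe0403010181c0aab) (nat_lit 2561))
 (.leaf (nat_lit 0xe0403010181c1a9b) (nat_lit 2560))
)) (.node (nat_lit 0xe0403010183c4aeb) (.node (nat_lit 0xe0403010182c5a9b) (.leaf (nat_lit 0xe0403010182c4aab) (nat_lit 2563))
 (.leaf (nat_lit 0xe0403010182c5a9b) (nat_lit 3074))
) (.node (nat_lit 0xe0403010183c5adb) (.leaf (nat_lit 0xe0403010183c4aeb) (nat_lit 2561))
 (.leaf (nat_lit 0xe0403010183c5adb) (nat_lit 2562))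
)))) (.node (nat_lit 0xe0403010380cea0b) (.node (nat_lit 0xe0403010282caaab) (.node (nat_lit 0xe0403010281ceaab) (.node (nat_lit 0xe0403010280cfadb) (.leaf (nat_lit 0xe0403010280ceaeb) (nat_lit 1538))
 (.leaf (nat_lit 0xe0403010280cfadb) (nat_lit 3073))
) (.node (nat_lit 0xe0403010281cfa9b) (.leaf (nat_lit 0xe0403010281ceaab) (nat_lit 3587))
 (.leaf (nat_lit 0xe0403010281cfa9b) (nat_lit 3587))
)) (.node (nat_lit 0xe0403010283caaeb) (.node (nat_lit 0xe0403010282cba9b) (.leaf (nat_lit 0xe0403010282caaab) (nat_lit 1536))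
 (.leaf (nat_lit 0xe0403010282cba9b) (nat_lit 3075))
) (.node (nat_lit 0xe0403010283cbadb) (.leaf (nat_lit 0xe0403010283caaeb) (nat_lit 3075))
 (.leaf (nat_lit 0xe0403010283cbadb) (nat_lit 3075))
))) (.node (nat_lit 0xe0403010382caa4b) (.node (nat_lit 0xe0403010381cea4b) (.node (nat_lit 0xe0403010380cfa3b) (.leaf (nat_lit 0xe0403010380cea0b) (nat_lit 2051))
 (.leaf (nat_lit 0xe0403010380cfa3b) (nat_lit 3075))
) (.node (nat_lit 0xe0403010381cfa7b) (.leaf (nat_lit 0xe0403010381cea4b) (nat_lit 2561))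
 (.leaf (nat_lit 0xe0403010381cfa7b) (nat_lit 2562))
)) (.node (nat_lit 0xe0403010383caa0b) (.node (nat_lit 0xe0403010382cba7b) (.leaf (nat_lit 0xe0403010382caa4b) (nat_lit 2051))
 (.leaf (nat_lit 0xe0403010382cba7b) (nat_lit 3074))
) (.node (nat_lit 0xe0403010383cba3b) (.leaf (nat_lit 0xe0403010383caa0b) (nat_lit 2561))
 (.leaf (nat_lit 0xe0403010383cba3b) (nat_lit 2560))
))))) (.node (nat_lit 0xe040301068ccaaab) (.node (nat_lit 0xe040301058cc4aab) (.node (nat_lit 0xe040301048ec0a0b) (.node (nat_lit 0xe040301048dc4a0b) (.node (nat_lit 0xe040301048cc5a7b) (.leaf (nat_lit 0xe040301048cc4a4b) (nat_lit 1280))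
 (.leaf (nat_lit 0xe040301048cc5a7b) (nat_lit 3330))
) (.node (nat_lit 0xe040301048dc5a3b) (.leaf (nat_lit 0xe040301048dc4a0b) (nat_lit 2819))
 (.leaf (nat_lit 0xe040301048dc5a3b) (nat_lit 3331))
)) (.node (nat_lit 0xe040301048fc0a4b) (.node (nat_lit 0xe040301048ec1a3b) (.leaf (nat_lit 0xe040301048ec0a0b) (nat_lit 1282))
 (.leaf (nat_lit 0xe040301048ec1a3b) (nat_lit 3331))
) (.node (nat_lit 0xe040301048fc1a7b) (.leaf (nat_lit 0xe040301048fc0a4b) (nat_lit 3331))
 (.leaf (nat_lit 0xe040301048fc1a7b) (nat_lit 3331))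
))) (.node (nat_lit 0xe040301058ec0aeb) (.node (nat_lit 0xe040301058dc4aeb) (.node (nat_lit 0xe040301058cc5a9b) (.leaf (nat_lit 0xe040301058cc4aab) (nat_lit 2307))
 (.leaf (nat_lit 0xe040301058cc5a9b) (nat_lit 2819))
) (.node (nat_lit 0xe040301058dc5adb) (.leaf (nat_lit 0xe040301058dc4aeb) (nat_lit 2817))
 (.leaf (nat_lit 0xe040301058dc5adb) (nat_lit 2304))
)) (.node (nat_lit 0xe040301058fc0aab) (.node (nat_lit 0xe040301058ec1adb) (.leaf (nat_lit 0xe040301058ec0aeb) (nat_lit 2307))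
 (.leaf (nat_lit 0xe040301058ec1adb) (nat_lit 3330))
) (.node (nat_lit 0xe040301058fc1a9b) (.leaf (nat_lit 0xe040301058fc0aab) (nat_lit 2817))
 (.leaf (nat_lit 0xe040301058fc1a9b) (nat_lit 2818))
)))) (.node (nat_lit 0xe040301078ccaa4b) (.node (nat_lit 0xe040301068eceaeb) (.node (nat_lit 0xe040301068dcaaeb) (.node (nat_lit 0xe040301068ccba9b) (.leaf (nat_lit 0xe040301068ccaaab) (nat_lit 1793))
 (.leaf (nat_lit 0xe040301068ccba9b) (nat_lit 3330))
) (.node (nat_lit 0xe040301068dcbadb) (.leaf (nat_lit 0xe040301068dcaaeb) (nat_lit 3331))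
 (.leaf (nat_lit 0xe040301068dcbadb) (nat_lit 3331))
)) (.node (nat_lit 0xe040301068fceaab) (.node (nat_lit 0xe040301068ecfadb) (.leaf (nat_lit 0xe040301068eceaeb) (nat_lit 1280))
 (.leaf (nat_lit 0xe040301068ecfadb) (nat_lit 3331))
) (.node (nat_lit 0xe040301068fcfa9b) (.leaf (nat_lit 0xe040301068fceaab) (nat_lit 3331))
 (.leaf (nat_lit 0xe040301068fcfa9b) (nat_lit 3331))
))) (.node (nat_lit 0xe040301078ecea0b) (.node (nat_lit 0xe040301078dcaa0b) (.node (nat_lit 0xe040301078ccba7b) (.leaf (nat_lit 0xe040301078ccaa4b) (nat_lit 2307))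
 (.leaf (nat_lit 0xe040301078ccba7b) (nat_lit 2819))
) (.node (nat_lit 0xe040301078dcba3b) (.leaf (nat_lit 0xe040301078dcaa0b) (nat_lit 2305))
 (.leaf (nat_lit 0xe040301078dcba3b) (nat_lit 2818))
)) (.node (nat_lit 0xe040301078fcea4b) (.node (nat_lit 0xe040301078ecfa3b) (.leaf (nat_lit 0xe040301078ecea0b) (nat_lit 1795))
 (.leaf (nat_lit 0xe040301078ecfa3b) (nat_lit 3330))
) (.node (nat_lit 0xe040301078fcfa7b) (.leaf (nat_lit 0xe040301078fcea4b) (nat_lit 2817))
 (.leaf (nat_lit 0xe040301078fcfa7b) (nat_lit 2304))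
))))))) (.node (nat_lit 0xe0503010080c0a07) (.node (nat_lit 0xe050201048cc4acd) (.node (nat_lit 0xe0502010280cea0d) (.node (nat_lit 0xe0502010180c0aed) (.node (nat_lit 0xe0502010082c4a2d) (.node (nat_lit 0xe0502010081c0a5d) (.node (nat_lit 0xe0502010080c1a2d) (.leaf (nat_lit 0xe0502010080c0a0d) (nat_lit 1280))
 (.leaf (nat_lit 0xe0502010080c1a2d) (nat_lit 3329))
) (.node (nat_lit 0xe0502010081c1a7d) (.leaf (nat_lit 0xe0502010081c0a5d) (nat_lit 3331))
 (.leaf (nat_lit 0xe0502010081c1a7d) (nat_lit 3331))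
)) (.node (nat_lit 0xe0502010083c4a7d) (.node (nat_lit 0xe0502010082c5a0d) (.leaf (nat_lit 0xe0502010082c4a2d) (nat_lit 2307))
 (.leaf (nat_lit 0xe0502010082c5a0d) (nat_lit 2819))
) (.node (nat_lit 0xe0502010083c5a5d) (.leaf (nat_lit 0xe0502010083c4a7d) (nat_lit 2817))
 (.leaf (nat_lit 0xe0502010083c5a5d) (nat_lit 2306))
))) (.node (nat_lit 0xe0502010182c4acd) (.node (nat_lit 0xe0502010181c0abd) (.node (nat_lit 0xe0502010180c1acd) (.leaf (nat_lit 0xe0502010180c0aed) (nat_lit 2307))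
 (.leaf (nat_lit 0xe0502010180c1acd) (nat_lit 2819))
) (.node (nat_lit 0xe0502010181c1a9d) (.leaf (nat_lit 0xe0502010181c0abd) (nat_lit 2818))
 (.leaf (nat_lit 0xe0502010181c1a9d) (nat_lit 2304))
)) (.node (nat_lit 0xe0502010183c4a9d) (.node (nat_lit 0xe0502010182c5aed) (.leaf (nat_lit 0xe0502010182c4acd) (nat_lit 1794))
 (.leaf (nat_lit 0xe0502010182c5aed) (nat_lit 2817))
) (.node (nat_lit 0xe0502010183c5abd) (.leaf (nat_lit 0xe0502010183c4a9d) (nat_lit 3331))
 (.leaf (nat_lit 0xe0502010183c5abd) (nat_lit 3331))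
)))) (.node (nat_lit 0xe0502010380ceaed) (.node (nat_lit 0xe0502010282caa2d) (.node (nat_lit 0xe0502010281cea5d) (.node (nat_lit 0xe0502010280cfa2d) (.leaf (nat_lit 0xe0502010280cea0d) (nat_lit 2307))
 (.leaf (nat_lit 0xe0502010280cfa2d) (nat_lit 3843))
) (.node (nat_lit 0xe0502010281cfa7d) (.leaf (nat_lit 0xe0502010281cea5d) (nat_lit 3329))
 (.leaf (nat_lit 0xe0502010281cfa7d) (nat_lit 2818))
)) (.node (nat_lit 0xe0502010283caa7d) (.node (nat_lit 0xe0502010282cba0d) (.leaf (nat_lit 0xe0502010282caa2d) (nat_lit 1792))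
 (.leaf (nat_lit 0xe0502010282cba0d) (nat_lit 2306))
) (.node (nat_lit 0xe0502010283cba5d) (.leaf (nat_lit 0xe0502010283caa7d) (nat_lit 3331))
 (.leaf (nat_lit 0xe0502010283cba5d) (nat_lit 2819))
))) (.node (nat_lit 0xe0502010382caacd) (.node (nat_lit 0xe0502010381ceabd) (.node (nat_lit 0xe0502010380cfacd) (.leaf (nat_lit 0xe0502010380ceaed) (nat_lit 1794))
 (.leaf (nat_lit 0xe0502010380cfacd) (nat_lit 2305))
) (.node (nat_lit 0xe0502010381cfa9d) (.leaf (nat_lit 0xe0502010381ceabd) (nat_lit 3331))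
 (.leaf (nat_lit 0xe0502010381cfa9d) (nat_lit 3331))
)) (.node (nat_lit 0xe0502010383caa9d) (.node (nat_lit 0xe0502010382cbaed) (.leaf (nat_lit 0xe0502010382caacd) (nat_lit 2307))
 (.leaf (nat_lit 0xe0502010382cbaed) (nat_lit 3331))
) (.node (nat_lit 0xe0502010383cbabd) (.leaf (nat_lit 0xe0502010383caa9d) (nat_lit 3331))
 (.leaf (nat_lit 0xe0502010383cbabd) (nat_lit 2304))
))))) (.node (nat_lit 0xe050201068ccaacd) (.node (nat_lit 0xe050201058cc4a2d) (.node (nat_lit 0xe050201048ec0aed) (.node (nat_lit 0xe050201048dc4a9d) (.node (nat_lit 0xe050201048cc5aed) (.leaf (nat_lit 0xe050201048cc4acd) (nat_lit 1536))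
 (.leaf (nat_lit 0xe050201048cc5aed) (nat_lit 3073))
) (.node (nat_lit 0xe050201048dc5abd) (.leaf (nat_lit 0xe050201048dc4a9d) (nat_lit 3075))
 (.leaf (nat_lit 0xe050201048dc5abd) (nat_lit 3075))
)) (.node (nat_lit 0xe050201048fc0abd) (.node (nat_lit 0xe050201048ec1acd) (.leaf (nat_lit 0xe050201048ec0aed) (nat_lit 2051))
 (.leaf (nat_lit 0xe050201048ec1acd) (nat_lit 3075))
) (.node (nat_lit 0xe050201048fc1a9d) (.leaf (nat_lit 0xe050201048fc0abd) (nat_lit 2561))
 (.leaf (nat_lit 0xe050201048fc1a9d) (nat_lit 2562))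
))) (.node (nat_lit 0xe050201058ec0a0d) (.node (nat_lit 0xe050201058dc4a7d) (.node (nat_lit 0xe050201058cc5a0d) (.leaf (nat_lit 0xe050201058cc4a2d) (nat_lit 2563))
 (.leaf (nat_lit 0xe050201058cc5a0d) (nat_lit 2563))
) (.node (nat_lit 0xe050201058dc5a5d) (.leaf (nat_lit 0xe050201058dc4a7d) (nat_lit 3074))
 (.leaf (nat_lit 0xe050201058dc5a5d) (nat_lit 2048))
)) (.node (nat_lit 0xe050201058fc0a5d) (.node (nat_lit 0xe050201058ec1a2d) (.leaf (nat_lit 0xe050201058ec0a0d) (nat_lit 1538))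
 (.leaf (nat_lit 0xe050201058ec1a2d) (nat_lit 3073))
) (.node (nat_lit 0xe050201058fc1a7d) (.leaf (nat_lit 0xe050201058fc0a5d) (nat_lit 3587))
 (.leaf (nat_lit 0xe050201058fc1a7d) (nat_lit 3587))
)))) (.node (nat_lit 0xe050201078ccaa2d) (.node (nat_lit 0xe050201068eceaed) (.node (nat_lit 0xe050201068dcaa9d) (.node (nat_lit 0xe050201068ccbaed) (.leaf (nat_lit 0xe050201068ccaacd) (nat_lit 2563))
 (.leaf (nat_lit 0xe050201068ccbaed) (nat_lit 3587))
) (.node (nat_lit 0xe050201068dcbabd) (.leaf (nat_lit 0xe050201068dcaa9d) (nat_lit 3586))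
 (.leaf (nat_lit 0xe050201068dcbabd) (nat_lit 2561))
)) (.node (nat_lit 0xe050201068fceabd) (.node (nat_lit 0xe050201068ecfacd) (.leaf (nat_lit 0xe050201068eceaed) (nat_lit 1536))
 (.leaf (nat_lit 0xe050201068ecfacd) (nat_lit 2562))
) (.node (nat_lit 0xe050201068fcfa9d) (.leaf (nat_lit 0xe050201068fceabd) (nat_lit 3587))
 (.leaf (nat_lit 0xe050201068fcfa9d) (nat_lit 3075))
))) (.node (nat_lit 0xe050201078ecea0d) (.node (nat_lit 0xe050201078dcaa7d) (.node (nat_lit 0xe050201078ccba0d) (.leaf (nat_lit 0xe050201078ccaa2d) (nat_lit 2050))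
 (.leaf (nat_lit 0xe050201078ccba0d) (nat_lit 2049))
) (.node (nat_lit 0xe050201078dcba5d) (.leaf (nat_lit 0xe050201078dcaa7d) (nat_lit 3075))
 (.leaf (nat_lit 0xe050201078dcba5d) (nat_lit 3075))
)) (.node (nat_lit 0xe050201078fcea5d) (.node (nat_lit 0xe050201078ecfa2d) (.leaf (nat_lit 0xe050201078ecea0d) (nat_lit 2051))
 (.leaf (nat_lit 0xe050201078ecfa2d) (nat_lit 3587))
) (.node (nat_lit 0xe050201078fcfa7d) (.leaf (nat_lit 0xe050201078fcea5d) (nat_lit 3587))
 (.leaf (nat_lit 0xe050201078fcfa7d) (nat_lit 2560))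
)))))) (.node (nat_lit 0xe050301048cc4a87) (.node (nat_lit 0xe0503010280ceae7) (.node (nat_lit 0xe0503010180c0ae7) (.node (nat_lit 0xe0503010082c4a67) (.node (nat_lit 0xe0503010081c0a57) (.node (nat_lit 0xe0503010080c1a37) (.leaf (nat_lit 0xe0503010080c0a07) (nat_lit 1027))
 (.leaf (nat_lit 0xe0503010080c1a37) (nat_lit 3587))
) (.node (nat_lit 0xe0503010081c1a67) (.leaf (nat_lit 0xe0503010081c0a57) (nat_lit 3586))
 (.leaf (nat_lit 0xe0503010081c1a67) (nat_lit 3584))
)) (.node (nat_lit 0xe0503010083c4a37) (.node (nat_lit 0xe0503010082c5a57) (.leaf (nat_lit 0xe0503010082c4a67) (nat_lit 2051))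
 (.leaf (nat_lit 0xe0503010082c5a57) (nat_lit 3072))
) (.node (nat_lit 0xe0503010083c5a07) (.leaf (nat_lit 0xe0503010083c4a37) (nat_lit 3073))
 (.leaf (nat_lit 0xe0503010083c5a07) (nat_lit 2050))
))) (.node (nat_lit 0xe0503010182c4a87) (.node (nat_lit 0xe0503010181c0ab7) (.node (nat_lit 0xe0503010180c1ad7) (.leaf (nat_lit 0xe0503010180c0ae7) (nat_lit 2050))
 (.leaf (nat_lit 0xe0503010180c1ad7) (nat_lit 3072))
) (.node (nat_lit 0xe0503010181c1a87) (.leaf (nat_lit 0xe0503010181c0ab7) (nat_lit 3073))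
 (.leaf (nat_lit 0xe0503010181c1a87) (nat_lit 2051))
)) (.node (nat_lit 0xe0503010183c4ad7) (.node (nat_lit 0xe0503010182c5ab7) (.leaf (nat_lit 0xe0503010182c4a87) (nat_lit 1538))
 (.leaf (nat_lit 0xe0503010182c5ab7) (nat_lit 3075))
) (.node (nat_lit 0xe0503010183c5ae7) (.leaf (nat_lit 0xe0503010183c4ad7) (nat_lit 3587))
 (.leaf (nat_lit 0xe0503010183c5ae7) (nat_lit 3075))
)))) (.node (nat_lit 0xe0503010380cea07) (.node (nat_lit 0xe0503010282caa87) (.node (nat_lit 0xe0503010281ceab7) (.node (nat_lit 0xe0503010280cfad7) (.leaf (nat_lit 0xe0503010280ceae7) (nat_lit 2051))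
 (.leaf (nat_lit 0xe0503010280cfad7) (nat_lit 3587))
) (.node (nat_lit 0xe0503010281cfa87) (.leaf (nat_lit 0xe0503010281ceab7) (nat_lit 3587))
 (.leaf (nat_lit 0xe0503010281cfa87) (nat_lit 2562))
)) (.node (nat_lit 0xe0503010283caad7) (.node (nat_lit 0xe0503010282cbab7) (.leaf (nat_lit 0xe0503010282caa87) (nat_lit 1539))
 (.leaf (nat_lit 0xe0503010282cbab7) (nat_lit 2562))
) (.node (nat_lit 0xe0503010283cbae7) (.leaf (nat_lit 0xe0503010283caad7) (nat_lit 3586))
 (.leaf (nat_lit 0xe0503010283cbae7) (nat_lit 3072))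
))) (.node (nat_lit 0xe0503010382caa67) (.node (nat_lit 0xe0503010381cea57) (.node (nat_lit 0xe0503010380cfa37) (.leaf (nat_lit 0xe0503010380cea07) (nat_lit 1538))
 (.leaf (nat_lit 0xe0503010380cfa37) (nat_lit 2561))
) (.node (nat_lit 0xe0503010381cfa67) (.leaf (nat_lit 0xe0503010381cea57) (nat_lit 3585))
 (.leaf (nat_lit 0xe0503010381cfa67) (nat_lit 3075))
)) (.node (nat_lit 0xe0503010383caa37) (.node (nat_lit 0xe0503010382cba57) (.leaf (nat_lit 0xe0503010382caa67) (nat_lit 2562))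
 (.leaf (nat_lit 0xe0503010382cba57) (nat_lit 3587))
) (.node (nat_lit 0xe0503010383cba07) (.leaf (nat_lit 0xe0503010383caa37) (nat_lit 3587))
 (.leaf (nat_lit 0xe0503010383cba07) (nat_lit 2051))
))))) (.node (nat_lit 0xe050301068ccaa67) (.node (nat_lit 0xe050301058cc4a67) (.node (nat_lit 0xe050301048ec0ae7) (.node (nat_lit 0xe050301048dc4ad7) (.node (nat_lit 0xe050301048cc5ab7) (.leaf (nat_lit 0xe050301048cc4a87) (nat_lit 1283))
 (.leaf (nat_lit 0xe050301048cc5ab7) (nat_lit 3331))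
) (.node (nat_lit 0xe050301048dc5ae7) (.leaf (nat_lit 0xe050301048dc4ad7) (nat_lit 3329))
 (.leaf (nat_lit 0xe050301048dc5ae7) (nat_lit 3328))
)) (.node (nat_lit 0xe050301048fc0ab7) (.node (nat_lit 0xe050301048ec1ad7) (.leaf (nat_lit 0xe050301048ec0ae7) (nat_lit 1795))
 (.leaf (nat_lit 0xe050301048ec1ad7) (nat_lit 3328))
) (.node (nat_lit 0xe050301048fc1a87) (.leaf (nat_lit 0xe050301048fc0ab7) (nat_lit 2817))
 (.leaf (nat_lit 0xe050301048fc1a87) (nat_lit 2306))
))) (.node (nat_lit 0xe050301058ec0a07) (.node (nat_lit 0xe050301058dc4a37) (.node (nat_lit 0xe050301058cc5a57) (.leaf (nat_lit 0xe050301058cc4a67) (nat_lit 2306))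
 (.leaf (nat_lit 0xe050301058cc5a57) (nat_lit 2816))
) (.node (nat_lit 0xe050301058dc5a07) (.leaf (nat_lit 0xe050301058dc4a37) (nat_lit 3329))
 (.leaf (nat_lit 0xe050301058dc5a07) (nat_lit 1795))
)) (.node (nat_lit 0xe050301058fc0a57) (.node (nat_lit 0xe050301058ec1a37) (.leaf (nat_lit 0xe050301058ec0a07) (nat_lit 1282))
 (.leaf (nat_lit 0xe050301058ec1a37) (nat_lit 3331))
) (.node (nat_lit 0xe050301058fc1a67) (.leaf (nat_lit 0xe050301058fc0a57) (nat_lit 3331))
 (.leaf (nat_lit 0xe050301058fc1a67) (nat_lit 3331))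
)))) (.node (nat_lit 0xe050301078ccaa87) (.node (nat_lit 0xe050301068ecea07) (.node (nat_lit 0xe050301068dcaa37) (.node (nat_lit 0xe050301068ccba57) (.leaf (nat_lit 0xe050301068ccaa67) (nat_lit 2307))
 (.leaf (nat_lit 0xe050301068ccba57) (nat_lit 3843))
) (.node (nat_lit 0xe050301068dcba07) (.leaf (nat_lit 0xe050301068dcaa37) (nat_lit 3843))
 (.leaf (nat_lit 0xe050301068dcba07) (nat_lit 2305))
)) (.node (nat_lit 0xe050301068fcea57) (.node (nat_lit 0xe050301068ecfa37) (.leaf (nat_lit 0xe050301068ecea07) (nat_lit 1283))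
 (.leaf (nat_lit 0xe050301068ecfa37) (nat_lit 2818))
) (.node (nat_lit 0xe050301068fcfa67) (.leaf (nat_lit 0xe050301068fcea57) (nat_lit 3841))
 (.leaf (nat_lit 0xe050301068fcfa67) (nat_lit 3329))
))) (.node (nat_lit 0xe050301078eceae7) (.node (nat_lit 0xe050301078dcaad7) (.node (nat_lit 0xe050301078ccbab7) (.leaf (nat_lit 0xe050301078ccaa87) (nat_lit 1794))
 (.leaf (nat_lit 0xe050301078ccbab7) (nat_lit 2305))
) (.node (nat_lit 0xe050301078dcbae7) (.leaf (nat_lit 0xe050301078dcaad7) (nat_lit 3331))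
 (.leaf (nat_lit 0xe050301078dcbae7) (nat_lit 3331))
)) (.node (nat_lit 0xe050301078fceab7) (.node (nat_lit 0xe050301078ecfad7) (.leaf (nat_lit 0xe050301078eceae7) (nat_lit 2304))
 (.leaf (nat_lit 0xe050301078ecfad7) (nat_lit 3843))
) (.node (nat_lit 0xe050301078fcfa87) (.leaf (nat_lit 0xe050301078fceab7) (nat_lit 3843))
 (.leaf (nat_lit 0xe050301078fcfa87) (nat_lit 2307))
)))))))) (.node (nat_lit 0xe0702010080c060d) (.node (nat_lit 0xe0603010080c0607) (.node (nat_lit 0xe060201048cc8601) (.node (nat_lit 0xe0602010280ce601) (.node (nat_lit 0xe0602010180c06e1) (.node (nat_lit 0xe0602010082c6601) (.node (nat_lit 0xe0602010081c0661) (.node (nat_lit 0xe0602010080c1621) (.leaf (nat_lit 0xe0602010080c0601) (nat_lit 513))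
 (.leaf (nat_lit 0xe0602010080c1621) (nat_lit 3586))
) (.node (nat_lit 0xe0602010081c1641) (.leaf (nat_lit 0xe0602010081c0661) (nat_lit 3587))
 (.leaf (nat_lit 0xe0602010081c1641) (nat_lit 3587))
)) (.node (nat_lit 0xe0602010083c6661) (.node (nat_lit 0xe0602010082c7621) (.leaf (nat_lit 0xe0602010082c6601) (nat_lit 1539))
 (.leaf (nat_lit 0xe0602010082c7621) (nat_lit 3587))
) (.node (nat_lit 0xe0602010083c7641) (.leaf (nat_lit 0xe0602010083c6661) (nat_lit 2560))
 (.leaf (nat_lit 0xe0602010083c7641) (nat_lit 3073))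
))) (.node (nat_lit 0xe0602010182c66e1) (.node (nat_lit 0xe0602010181c0681) (.node (nat_lit 0xe0602010180c16c1) (.leaf (nat_lit 0xe0602010180c06e1) (nat_lit 2563))
 (.leaf (nat_lit 0xe0602010180c16c1) (nat_lit 3075))
) (.node (nat_lit 0xe0602010181c16a1) (.leaf (nat_lit 0xe0602010181c0681) (nat_lit 2050))
 (.leaf (nat_lit 0xe0602010181c16a1) (nat_lit 3075))
)) (.node (nat_lit 0xe0602010183c6681) (.node (nat_lit 0xe0602010182c76c1) (.leaf (nat_lit 0xe0602010182c66e1) (nat_lit 2048))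
 (.leaf (nat_lit 0xe0602010182c76c1) (nat_lit 2562))
) (.node (nat_lit 0xe0602010183c76a1) (.leaf (nat_lit 0xe0602010183c6681) (nat_lit 2563))
 (.leaf (nat_lit 0xe0602010183c76a1) (nat_lit 3075))
)))) (.node (nat_lit 0xe0602010380ce6e1) (.node (nat_lit 0xe0602010282c8601) (.node (nat_lit 0xe0602010281ce661) (.node (nat_lit 0xe0602010280cf621) (.leaf (nat_lit 0xe0602010280ce601) (nat_lit 1539))
 (.leaf (nat_lit 0xe0602010280cf621) (nat_lit 3587))
) (.node (nat_lit 0xe0602010281cf641) (.leaf (nat_lit 0xe0602010281ce661) (nat_lit 3072))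
 (.leaf (nat_lit 0xe0602010281cf641) (nat_lit 3074))
)) (.node (nat_lit 0xe0602010283c8661) (.node (nat_lit 0xe0602010282c9621) (.leaf (nat_lit 0xe0602010282c8601) (nat_lit 1026))
 (.leaf (nat_lit 0xe0602010282c9621) (nat_lit 3072))
) (.node (nat_lit 0xe0602010283c9641) (.leaf (nat_lit 0xe0602010283c8661) (nat_lit 3587))
 (.leaf (nat_lit 0xe0602010283c9641) (nat_lit 3587))
))) (.node (nat_lit 0xe0602010382c86e1) (.node (nat_lit 0xe0602010381ce681) (.node (nat_lit 0xe0602010380cf6c1) (.leaf (nat_lit 0xe0602010380ce6e1) (nat_lit 2048))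
 (.leaf (nat_lit 0xe0602010380cf6c1) (nat_lit 2561))
) (.node (nat_lit 0xe0602010381cf6a1) (.leaf (nat_lit 0xe0602010381ce681) (nat_lit 2563))
 (.leaf (nat_lit 0xe0602010381cf6a1) (nat_lit 3075))
)) (.node (nat_lit 0xe0602010383c8681) (.node (nat_lit 0xe0602010382c96c1) (.leaf (nat_lit 0xe0602010382c86e1) (nat_lit 2563))
 (.leaf (nat_lit 0xe0602010382c96c1) (nat_lit 3075))
) (.node (nat_lit 0xe0602010383c96a1) (.leaf (nat_lit 0xe0602010383c8681) (nat_lit 2049))
 (.leaf (nat_lit 0xe0602010383c96a1) (nat_lit 3075))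
))))) (.node (nat_lit 0xe060201068cc6601) (.node (nat_lit 0xe060201058cc86e1) (.node (nat_lit 0xe060201048ece601) (.node (nat_lit 0xe060201048dc8661) (.node (nat_lit 0xe060201048cc9621) (.leaf (nat_lit 0xe060201048cc8601) (nat_lit 769))
 (.leaf (nat_lit 0xe060201048cc9621) (nat_lit 3330))
) (.node (nat_lit 0xe060201048dc9641) (.leaf (nat_lit 0xe060201048dc8661) (nat_lit 3331))
 (.leaf (nat_lit 0xe060201048dc9641) (nat_lit 3331))
)) (.node (nat_lit 0xe060201048fce661) (.node (nat_lit 0xe060201048ecf621) (.leaf (nat_lit 0xe060201048ece601) (nat_lit 1283))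
 (.leaf (nat_lit 0xe060201048ecf621) (nat_lit 3843))
) (.node (nat_lit 0xe060201048fcf641) (.leaf (nat_lit 0xe060201048fce661) (nat_lit 2816))
 (.leaf (nat_lit 0xe060201048fcf641) (nat_lit 2817))
))) (.node (nat_lit 0xe060201058ece6e1) (.node (nat_lit 0xe060201058dc8681) (.node (nat_lit 0xe060201058cc96c1) (.leaf (nat_lit 0xe060201058cc86e1) (nat_lit 2819))
 (.leaf (nat_lit 0xe060201058cc96c1) (nat_lit 2819))
) (.node (nat_lit 0xe060201058dc96a1) (.leaf (nat_lit 0xe060201058dc8681) (nat_lit 1793))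
 (.leaf (nat_lit 0xe060201058dc96a1) (nat_lit 3331))
)) (.node (nat_lit 0xe060201058fce681) (.node (nat_lit 0xe060201058ecf6c1) (.leaf (nat_lit 0xe060201058ece6e1) (nat_lit 1792))
 (.leaf (nat_lit 0xe060201058ecf6c1) (nat_lit 2818))
) (.node (nat_lit 0xe060201058fcf6a1) (.leaf (nat_lit 0xe060201058fce681) (nat_lit 2819))
 (.leaf (nat_lit 0xe060201058fcf6a1) (nat_lit 2819))
)))) (.node (nat_lit 0xe060201078cc66e1) (.node (nat_lit 0xe060201068ec0601) (.node (nat_lit 0xe060201068dc6661) (.node (nat_lit 0xe060201068cc7621) (.leaf (nat_lit 0xe060201068cc6601) (nat_lit 1795))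
 (.leaf (nat_lit 0xe060201068cc7621) (nat_lit 3843))
) (.node (nat_lit 0xe060201068dc7641) (.leaf (nat_lit 0xe060201068dc6661) (nat_lit 2816))
 (.leaf (nat_lit 0xe060201068dc7641) (nat_lit 3330))
)) (.node (nat_lit 0xe060201068fc0661) (.node (nat_lit 0xe060201068ec1621) (.leaf (nat_lit 0xe060201068ec0601) (nat_lit 770))
 (.leaf (nat_lit 0xe060201068ec1621) (nat_lit 3328))
) (.node (nat_lit 0xe060201068fc1641) (.leaf (nat_lit 0xe060201068fc0661) (nat_lit 3843))
 (.leaf (nat_lit 0xe060201068fc1641) (nat_lit 3843))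
))) (.node (nat_lit 0xe060201078ec06e1) (.node (nat_lit 0xe060201078dc6681) (.node (nat_lit 0xe060201078cc76c1) (.leaf (nat_lit 0xe060201078cc66e1) (nat_lit 2304))
 (.leaf (nat_lit 0xe060201078cc76c1) (nat_lit 2305))
) (.node (nat_lit 0xe060201078dc76a1) (.leaf (nat_lit 0xe060201078dc6681) (nat_lit 2819))
 (.leaf (nat_lit 0xe060201078dc76a1) (nat_lit 2819))
)) (.node (nat_lit 0xe060201078fc0681) (.node (nat_lit 0xe060201078ec16c1) (.leaf (nat_lit 0xe060201078ec06e1) (nat_lit 2307))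
 (.leaf (nat_lit 0xe060201078ec16c1) (nat_lit 3331))
) (.node (nat_lit 0xe060201078fc16a1) (.leaf (nat_lit 0xe060201078fc0681) (nat_lit 1793))
 (.leaf (nat_lit 0xe060201078fc16a1) (nat_lit 3331))
)))))) (.node (nat_lit 0xe060301048cc8687) (.node (nat_lit 0xe0603010280ce6e7) (.node (nat_lit 0xe0603010180c06e7) (.node (nat_lit 0xe0603010082c6667) (.node (nat_lit 0xe0603010081c0667) (.node (nat_lit 0xe0603010080c1637) (.leaf (nat_lit 0xe0603010080c0607) (nat_lit 769))
 (.leaf (nat_lit 0xe0603010080c1637) (nat_lit 3330))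
) (.node (nat_lit 0xe0603010081c1657) (.leaf (nat_lit 0xe0603010081c0667) (nat_lit 3843))
 (.leaf (nat_lit 0xe0603010081c1657) (nat_lit 3843))
)) (.node (nat_lit 0xe0603010083c6607) (.node (nat_lit 0xe0603010082c7657) (.leaf (nat_lit 0xe0603010082c6667) (nat_lit 1792))
 (.leaf (nat_lit 0xe0603010082c7657) (nat_lit 3331))
) (.node (nat_lit 0xe0603010083c7637) (.leaf (nat_lit 0xe0603010083c6607) (nat_lit 2307))
 (.leaf (nat_lit 0xe0603010083c7637) (nat_lit 3331))
))) (.node (nat_lit 0xe0603010182c6687) (.node (nat_lit 0xe0603010181c0687) (.node (nat_lit 0xe0603010180c16d7) (.leaf (nat_lit 0xe0603010180c06e7) (nat_lit 2307))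
 (.leaf (nat_lit 0xe0603010180c16d7) (nat_lit 3331))
) (.node (nat_lit 0xe0603010181c16b7) (.leaf (nat_lit 0xe0603010181c0687) (nat_lit 1793))
 (.leaf (nat_lit 0xe0603010181c16b7) (nat_lit 3331))
)) (.node (nat_lit 0xe0603010183c66e7) (.node (nat_lit 0xe0603010182c76b7) (.leaf (nat_lit 0xe0603010182c6687) (nat_lit 1795))
 (.leaf (nat_lit 0xe0603010182c76b7) (nat_lit 2818))
) (.node (nat_lit 0xe0603010183c76d7) (.leaf (nat_lit 0xe0603010183c66e7) (nat_lit 2816))
 (.leaf (nat_lit 0xe0603010183c76d7) (nat_lit 3329))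
)))) (.node (nat_lit 0xe0603010380ce607) (.node (nat_lit 0xe0603010282c8687) (.node (nat_lit 0xe0603010281ce687) (.node (nat_lit 0xe0603010280cf6d7) (.leaf (nat_lit 0xe0603010280ce6e7) (nat_lit 1792))
 (.leaf (nat_lit 0xe0603010280cf6d7) (nat_lit 3329))
) (.node (nat_lit 0xe0603010281cf6b7) (.leaf (nat_lit 0xe0603010281ce687) (nat_lit 2819))
 (.leaf (nat_lit 0xe0603010281cf6b7) (nat_lit 3330))
)) (.node (nat_lit 0xe0603010283c86e7) (.node (nat_lit 0xe0603010282c96b7) (.leaf (nat_lit 0xe0603010282c8687) (nat_lit 1282))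
 (.leaf (nat_lit 0xe0603010282c96b7) (nat_lit 2819))
) (.node (nat_lit 0xe0603010283c96d7) (.leaf (nat_lit 0xe0603010283c86e7) (nat_lit 3331))
 (.leaf (nat_lit 0xe0603010283c96d7) (nat_lit 3843))
))) (.node (nat_lit 0xe0603010382c8667) (.node (nat_lit 0xe0603010381ce667) (.node (nat_lit 0xe0603010380cf637) (.leaf (nat_lit 0xe0603010380ce607) (nat_lit 1795))
 (.leaf (nat_lit 0xe0603010380cf637) (nat_lit 2819))
) (.node (nat_lit 0xe0603010381cf657) (.leaf (nat_lit 0xe0603010381ce667) (nat_lit 2816))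
 (.leaf (nat_lit 0xe0603010381cf657) (nat_lit 3329))
)) (.node (nat_lit 0xe0603010383c8607) (.node (nat_lit 0xe0603010382c9657) (.leaf (nat_lit 0xe0603010382c8667) (nat_lit 2819))
 (.leaf (nat_lit 0xe0603010382c9657) (nat_lit 3330))
) (.node (nat_lit 0xe0603010383c9637) (.leaf (nat_lit 0xe0603010383c8607) (nat_lit 1793))
 (.leaf (nat_lit 0xe0603010383c9637) (nat_lit 3328))
))))) (.node (nat_lit 0xe060301068cc6667) (.node (nat_lit 0xe060301058cc8667) (.node (nat_lit 0xe060301048ece6e7) (.node (nat_lit 0xe060301048dc86e7) (.node (nat_lit 0xe060301048cc96b7) (.leaf (nat_lit 0xe060301048cc8687) (nat_lit 1025))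
 (.leaf (nat_lit 0xe060301048cc96b7) (nat_lit 3074))
) (.node (nat_lit 0xe060301048dc96d7) (.leaf (nat_lit 0xe060301048dc86e7) (nat_lit 3587))
 (.leaf (nat_lit 0xe060301048dc96d7) (nat_lit 3587))
)) (.node (nat_lit 0xe060301048fce687) (.node (nat_lit 0xe060301048ecf6d7) (.leaf (nat_lit 0xe060301048ece6e7) (nat_lit 1536))
 (.leaf (nat_lit 0xe060301048ecf6d7) (nat_lit 3587))
) (.node (nat_lit 0xe060301048fcf6b7) (.leaf (nat_lit 0xe060301048fce687) (nat_lit 2563))
 (.leaf (nat_lit 0xe060301048fcf6b7) (nat_lit 3075))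
))) (.node (nat_lit 0xe060301058ece607) (.node (nat_lit 0xe060301058dc8607) (.node (nat_lit 0xe060301058cc9657) (.leaf (nat_lit 0xe060301058cc8667) (nat_lit 2563))
 (.leaf (nat_lit 0xe060301058cc9657) (nat_lit 3075))
) (.node (nat_lit 0xe060301058dc9637) (.leaf (nat_lit 0xe060301058dc8607) (nat_lit 1537))
 (.leaf (nat_lit 0xe060301058dc9637) (nat_lit 3587))
)) (.node (nat_lit 0xe060301058fce667) (.node (nat_lit 0xe060301058ecf637) (.leaf (nat_lit 0xe060301058ece607) (nat_lit 1539))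
 (.leaf (nat_lit 0xe060301058ecf637) (nat_lit 3074))
) (.node (nat_lit 0xe060301058fcf657) (.leaf (nat_lit 0xe060301058fce667) (nat_lit 3072))
 (.leaf (nat_lit 0xe060301058fcf657) (nat_lit 3073))
)))) (.node (nat_lit 0xe060301078cc6687) (.node (nat_lit 0xe060301068ec0607) (.node (nat_lit 0xe060301068dc6607) (.node (nat_lit 0xe060301068cc7657) (.leaf (nat_lit 0xe060301068cc6667) (nat_lit 2048))
 (.leaf (nat_lit 0xe060301068cc7657) (nat_lit 3586))
) (.node (nat_lit 0xe060301068dc7637) (.leaf (nat_lit 0xe060301068dc6607) (nat_lit 2563))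
 (.leaf (nat_lit 0xe060301068dc7637) (nat_lit 3586))
)) (.node (nat_lit 0xe060301068fc0667) (.node (nat_lit 0xe060301068ec1637) (.leaf (nat_lit 0xe060301068ec0607) (nat_lit 1026))
 (.leaf (nat_lit 0xe060301068ec1637) (nat_lit 3075))
) (.node (nat_lit 0xe060301068fc1657) (.leaf (nat_lit 0xe060301068fc0667) (nat_lit 3587))
 (.leaf (nat_lit 0xe060301068fc1657) (nat_lit 4099))
))) (.node (nat_lit 0xe060301078ec06e7) (.node (nat_lit 0xe060301078dc66e7) (.node (nat_lit 0xe060301078cc76b7) (.leaf (nat_lit 0xe060301078cc6687) (nat_lit 2051))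
 (.leaf (nat_lit 0xe060301078cc76b7) (nat_lit 2563))
) (.node (nat_lit 0xe060301078dc76d7) (.leaf (nat_lit 0xe060301078dc66e7) (nat_lit 3072))
 (.leaf (nat_lit 0xe060301078dc76d7) (nat_lit 3073))
)) (.node (nat_lit 0xe060301078fc0687) (.node (nat_lit 0xe060301078ec16d7) (.leaf (nat_lit 0xe060301078ec06e7) (nat_lit 2563))
 (.leaf (nat_lit 0xe060301078ec16d7) (nat_lit 3586))
) (.node (nat_lit 0xe060301078fc16b7) (.leaf (nat_lit 0xe060301078fc0687) (nat_lit 2049))
 (.leaf (nat_lit 0xe060301078fc16b7) (nat_lit 3586))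
))))))) (.node (nat_lit 0xe0703010080c060b) (.node (nat_lit 0xe070201048cc86cd) (.node (nat_lit 0xe0702010280ce60d) (.node (nat_lit 0xe0702010180c06ed) (.node (nat_lit 0xe0702010082c662d) (.node (nat_lit 0xe0702010081c067d) (.node (nat_lit 0xe0702010080c162d) (.leaf (nat_lit 0xe0702010080c060d) (nat_lit 1539))
 (.leaf (nat_lit 0xe0702010080c162d) (nat_lit 3587))
) (.node (nat_lit 0xe0702010081c165d) (.leaf (nat_lit 0xe0702010081c067d) (nat_lit 3074))
 (.leaf (nat_lit 0xe0702010081c165d) (nat_lit 3073))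
)) (.node (nat_lit 0xe0702010083c665d) (.node (nat_lit 0xe0702010082c760d) (.leaf (nat_lit 0xe0702010082c662d) (nat_lit 2048))
 (.leaf (nat_lit 0xe0702010082c760d) (nat_lit 2562))
) (.node (nat_lit 0xe0702010083c767d) (.leaf (nat_lit 0xe0702010083c665d) (nat_lit 2563))
 (.leaf (nat_lit 0xe0702010083c767d) (nat_lit 3075))
))) (.node (nat_lit 0xe0702010182c66cd) (.node (nat_lit 0xe0702010181c069d) (.node (nat_lit 0xe0702010180c16cd) (.leaf (nat_lit 0xe0702010180c06ed) (nat_lit 2050))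
 (.leaf (nat_lit 0xe0702010180c16cd) (nat_lit 2561))
) (.node (nat_lit 0xe0702010181c16bd) (.leaf (nat_lit 0xe0702010181c069d) (nat_lit 2563))
 (.leaf (nat_lit 0xe0702010181c16bd) (nat_lit 3075))
)) (.node (nat_lit 0xe0702010183c66bd) (.node (nat_lit 0xe0702010182c76ed) (.leaf (nat_lit 0xe0702010182c66cd) (nat_lit 2051))
 (.leaf (nat_lit 0xe0702010182c76ed) (nat_lit 3075))
) (.node (nat_lit 0xe0702010183c769d) (.leaf (nat_lit 0xe0702010183c66bd) (nat_lit 3074))
 (.leaf (nat_lit 0xe0702010183c769d) (nat_lit 3072))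
)))) (.node (nat_lit 0xe0702010380ce6ed) (.node (nat_lit 0xe0702010282c862d) (.node (nat_lit 0xe0702010281ce67d) (.node (nat_lit 0xe0702010280cf62d) (.leaf (nat_lit 0xe0702010280ce60d) (nat_lit 2050))
 (.leaf (nat_lit 0xe0702010280cf62d) (nat_lit 3585))
) (.node (nat_lit 0xe0702010281cf65d) (.leaf (nat_lit 0xe0702010281ce67d) (nat_lit 3075))
 (.leaf (nat_lit 0xe0702010281cf65d) (nat_lit 3586))
)) (.node (nat_lit 0xe0702010283c865d) (.node (nat_lit 0xe0702010282c960d) (.leaf (nat_lit 0xe0702010282c862d) (nat_lit 2051))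
 (.leaf (nat_lit 0xe0702010282c960d) (nat_lit 2563))
) (.node (nat_lit 0xe0702010283c967d) (.leaf (nat_lit 0xe0702010283c865d) (nat_lit 2562))
 (.leaf (nat_lit 0xe0702010283c967d) (nat_lit 3073))
))) (.node (nat_lit 0xe0702010382c86cd) (.node (nat_lit 0xe0702010381ce69d) (.node (nat_lit 0xe0702010380cf6cd) (.leaf (nat_lit 0xe0702010380ce6ed) (nat_lit 2051))
 (.leaf (nat_lit 0xe0702010380cf6cd) (nat_lit 2563))
) (.node (nat_lit 0xe0702010381cf6bd) (.leaf (nat_lit 0xe0702010381ce69d) (nat_lit 3072))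
 (.leaf (nat_lit 0xe0702010381cf6bd) (nat_lit 3074))
)) (.node (nat_lit 0xe0702010383c86bd) (.node (nat_lit 0xe0702010382c96ed) (.leaf (nat_lit 0xe0702010382c86cd) (nat_lit 2050))
 (.leaf (nat_lit 0xe0702010382c96ed) (nat_lit 3073))
) (.node (nat_lit 0xe0702010383c969d) (.leaf (nat_lit 0xe0702010383c86bd) (nat_lit 2563))
 (.leaf (nat_lit 0xe0702010383c969d) (nat_lit 3073))
))))) (.node (nat_lit 0xe070201068cc66cd) (.node (nat_lit 0xe070201058cc862d) (.node (nat_lit 0xe070201048ece6ed) (.node (nat_lit 0xe070201048dc86bd) (.node (nat_lit 0xe070201048cc96ed) (.leaf (nat_lit 0xe070201048cc86cd) (nat_lit 1795))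
 (.leaf (nat_lit 0xe070201048cc96ed) (nat_lit 3331))
) (.node (nat_lit 0xe070201048dc969d) (.leaf (nat_lit 0xe070201048dc86bd) (nat_lit 2818))
 (.leaf (nat_lit 0xe070201048dc969d) (nat_lit 2817))
)) (.node (nat_lit 0xe070201048fce69d) (.node (nat_lit 0xe070201048ecf6cd) (.leaf (nat_lit 0xe070201048ece6ed) (nat_lit 1792))
 (.leaf (nat_lit 0xe070201048ecf6cd) (nat_lit 2818))
) (.node (nat_lit 0xe070201048fcf6bd) (.leaf (nat_lit 0xe070201048fce69d) (nat_lit 2819))
 (.leaf (nat_lit 0xe070201048fcf6bd) (nat_lit 2819))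
))) (.node (nat_lit 0xe070201058ece60d) (.node (nat_lit 0xe070201058dc865d) (.node (nat_lit 0xe070201058cc960d) (.leaf (nat_lit 0xe070201058cc862d) (nat_lit 2306))
 (.leaf (nat_lit 0xe070201058cc960d) (nat_lit 2305))
) (.node (nat_lit 0xe070201058dc967d) (.leaf (nat_lit 0xe070201058dc865d) (nat_lit 2307))
 (.leaf (nat_lit 0xe070201058dc967d) (nat_lit 3331))
)) (.node (nat_lit 0xe070201058fce67d) (.node (nat_lit 0xe070201058ecf62d) (.leaf (nat_lit 0xe070201058ece60d) (nat_lit 1795))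
 (.leaf (nat_lit 0xe070201058ecf62d) (nat_lit 3331))
) (.node (nat_lit 0xe070201058fcf65d) (.leaf (nat_lit 0xe070201058fce67d) (nat_lit 3330))
 (.leaf (nat_lit 0xe070201058fcf65d) (nat_lit 3329))
)))) (.node (nat_lit 0xe070201078cc662d) (.node (nat_lit 0xe070201068ec06ed) (.node (nat_lit 0xe070201068dc66bd) (.node (nat_lit 0xe070201068cc76ed) (.leaf (nat_lit 0xe070201068cc66cd) (nat_lit 2305))
 (.leaf (nat_lit 0xe070201068cc76ed) (nat_lit 3330))
) (.node (nat_lit 0xe070201068dc769d) (.leaf (nat_lit 0xe070201068dc66bd) (nat_lit 2819))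
 (.leaf (nat_lit 0xe070201068dc769d) (nat_lit 3330))
)) (.node (nat_lit 0xe070201068fc069d) (.node (nat_lit 0xe070201068ec16cd) (.leaf (nat_lit 0xe070201068ec06ed) (nat_lit 1795))
 (.leaf (nat_lit 0xe070201068ec16cd) (nat_lit 2819))
) (.node (nat_lit 0xe070201068fc16bd) (.leaf (nat_lit 0xe070201068fc069d) (nat_lit 2817))
 (.leaf (nat_lit 0xe070201068fc16bd) (nat_lit 3330))
))) (.node (nat_lit 0xe070201078ec060d) (.node (nat_lit 0xe070201078dc665d) (.node (nat_lit 0xe070201078cc760d) (.leaf (nat_lit 0xe070201078cc662d) (nat_lit 2307))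
 (.leaf (nat_lit 0xe070201078cc760d) (nat_lit 2307))
) (.node (nat_lit 0xe070201078dc767d) (.leaf (nat_lit 0xe070201078dc665d) (nat_lit 2818))
 (.leaf (nat_lit 0xe070201078dc767d) (nat_lit 2816))
)) (.node (nat_lit 0xe070201078fc067d) (.node (nat_lit 0xe070201078ec162d) (.leaf (nat_lit 0xe070201078ec060d) (nat_lit 1794))
 (.leaf (nat_lit 0xe070201078ec162d) (nat_lit 3329))
) (.node (nat_lit 0xe070201078fc165d) (.leaf (nat_lit 0xe070201078fc067d) (nat_lit 2819))
 (.leaf (nat_lit 0xe070201078fc165d) (nat_lit 3329))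
)))))) (.node (nat_lit 0xe070301048cc864b) (.node (nat_lit 0xe0703010280ce6eb) (.node (nat_lit 0xe0703010180c06eb) (.node (nat_lit 0xe0703010082c664b) (.node (nat_lit 0xe0703010081c067b) (.node (nat_lit 0xe0703010080c163b) (.leaf (nat_lit 0xe0703010080c060b) (nat_lit 1283))
 (.leaf (nat_lit 0xe0703010080c163b) (nat_lit 3843))
) (.node (nat_lit 0xe0703010081c164b) (.leaf (nat_lit 0xe0703010081c067b) (nat_lit 2818))
 (.leaf (nat_lit 0xe0703010081c164b) (nat_lit 2817))
)) (.node (nat_lit 0xe0703010083c663b) (.node (nat_lit 0xe0703010082c767b) (.leaf (nat_lit 0xe0703010082c664b) (nat_lit 1795))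
 (.leaf (nat_lit 0xe0703010082c767b) (nat_lit 2818))
) (.node (nat_lit 0xe0703010083c760b) (.leaf (nat_lit 0xe0703010083c663b) (nat_lit 2816))
 (.leaf (nat_lit 0xe0703010083c760b) (nat_lit 2818))
))) (.node (nat_lit 0xe0703010182c66ab) (.node (nat_lit 0xe0703010181c069b) (.node (nat_lit 0xe0703010180c16db) (.leaf (nat_lit 0xe0703010180c06eb) (nat_lit 1794))
 (.leaf (nat_lit 0xe0703010180c16db) (nat_lit 2817))
) (.node (nat_lit 0xe0703010181c16ab) (.leaf (nat_lit 0xe0703010181c069b) (nat_lit 2819))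
 (.leaf (nat_lit 0xe0703010181c16ab) (nat_lit 2819))
)) (.node (nat_lit 0xe0703010183c66db) (.node (nat_lit 0xe0703010182c769b) (.leaf (nat_lit 0xe0703010182c66ab) (nat_lit 2306))
 (.leaf (nat_lit 0xe0703010182c769b) (nat_lit 3331))
) (.node (nat_lit 0xe0703010183c76eb) (.leaf (nat_lit 0xe0703010183c66db) (nat_lit 2819))
 (.leaf (nat_lit 0xe0703010183c76eb) (nat_lit 2819))
)))) (.node (nat_lit 0xe0703010380ce60b) (.node (nat_lit 0xe0703010282c86ab) (.node (nat_lit 0xe0703010281ce69b) (.node (nat_lit 0xe0703010280cf6db) (.leaf (nat_lit 0xe0703010280ce6eb) (nat_lit 1795))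
 (.leaf (nat_lit 0xe0703010280cf6db) (nat_lit 3331))
) (.node (nat_lit 0xe0703010281cf6ab) (.leaf (nat_lit 0xe0703010281ce69b) (nat_lit 3328))
 (.leaf (nat_lit 0xe0703010281cf6ab) (nat_lit 3330))
)) (.node (nat_lit 0xe0703010283c86db) (.node (nat_lit 0xe0703010282c969b) (.leaf (nat_lit 0xe0703010282c86ab) (nat_lit 1795))
 (.leaf (nat_lit 0xe0703010282c969b) (nat_lit 2816))
) (.node (nat_lit 0xe0703010283c96eb) (.leaf (nat_lit 0xe0703010283c86db) (nat_lit 2818))
 (.leaf (nat_lit 0xe0703010283c96eb) (nat_lit 2817))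
))) (.node (nat_lit 0xe0703010382c864b) (.node (nat_lit 0xe0703010381ce67b) (.node (nat_lit 0xe0703010380cf63b) (.leaf (nat_lit 0xe0703010380ce60b) (nat_lit 1794))
 (.leaf (nat_lit 0xe0703010380cf63b) (nat_lit 2816))
) (.node (nat_lit 0xe0703010381cf64b) (.leaf (nat_lit 0xe0703010381ce67b) (nat_lit 2819))
 (.leaf (nat_lit 0xe0703010381cf64b) (nat_lit 2819))
)) (.node (nat_lit 0xe0703010383c863b) (.node (nat_lit 0xe0703010382c967b) (.leaf (nat_lit 0xe0703010382c864b) (nat_lit 1794))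
 (.leaf (nat_lit 0xe0703010382c967b) (nat_lit 3331))
) (.node (nat_lit 0xe0703010383c960b) (.leaf (nat_lit 0xe0703010383c863b) (nat_lit 2819))
 (.leaf (nat_lit 0xe0703010383c960b) (nat_lit 2819))
))))) (.node (nat_lit 0xe070301068cc66ab) (.node (nat_lit 0xe070301058cc86ab) (.node (nat_lit 0xe070301048ece60b) (.node (nat_lit 0xe070301048dc863b) (.node (nat_lit 0xe070301048cc967b) (.leaf (nat_lit 0xe070301048cc864b) (nat_lit 1539))
 (.leaf (nat_lit 0xe070301048cc967b) (nat_lit 3587))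
) (.node (nat_lit 0xe070301048dc960b) (.leaf (nat_lit 0xe070301048dc863b) (nat_lit 3074))
 (.leaf (nat_lit 0xe070301048dc960b) (nat_lit 2561))
)) (.node (nat_lit 0xe070301048fce67b) (.node (nat_lit 0xe070301048ecf63b) (.leaf (nat_lit 0xe070301048ece60b) (nat_lit 1539))
 (.leaf (nat_lit 0xe070301048ecf63b) (nat_lit 3074))
) (.node (nat_lit 0xe070301048fcf64b) (.leaf (nat_lit 0xe070301048fce67b) (nat_lit 3074))
 (.leaf (nat_lit 0xe070301048fcf64b) (nat_lit 3072))
))) (.node (nat_lit 0xe070301058ece6eb) (.node (nat_lit 0xe070301058dc86db) (.node (nat_lit 0xe070301058cc969b) (.leaf (nat_lit 0xe070301058cc86ab) (nat_lit 2050))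
 (.leaf (nat_lit 0xe070301058cc969b) (nat_lit 2561))
) (.node (nat_lit 0xe070301058dc96eb) (.leaf (nat_lit 0xe070301058dc86db) (nat_lit 2563))
 (.leaf (nat_lit 0xe070301058dc96eb) (nat_lit 3075))
)) (.node (nat_lit 0xe070301058fce69b) (.node (nat_lit 0xe070301058ecf6db) (.leaf (nat_lit 0xe070301058ece6eb) (nat_lit 2048))
 (.leaf (nat_lit 0xe070301058ecf6db) (nat_lit 3587))
) (.node (nat_lit 0xe070301058fcf6ab) (.leaf (nat_lit 0xe070301058fce69b) (nat_lit 3075))
 (.leaf (nat_lit 0xe070301058fcf6ab) (nat_lit 3075))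
)))) (.node (nat_lit 0xe070301078cc664b) (.node (nat_lit 0xe070301068ec06eb) (.node (nat_lit 0xe070301068dc66db) (.node (nat_lit 0xe070301068cc769b) (.leaf (nat_lit 0xe070301068cc66ab) (nat_lit 2051))
 (.leaf (nat_lit 0xe070301068cc769b) (nat_lit 3587))
) (.node (nat_lit 0xe070301068dc76eb) (.leaf (nat_lit 0xe070301068dc66db) (nat_lit 3072))
 (.leaf (nat_lit 0xe070301068dc76eb) (nat_lit 3074))
)) (.node (nat_lit 0xe070301068fc069b) (.node (nat_lit 0xe070301068ec16db) (.leaf (nat_lit 0xe070301068ec06eb) (nat_lit 1539))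
 (.leaf (nat_lit 0xe070301068ec16db) (nat_lit 3072))
) (.node (nat_lit 0xe070301068fc16ab) (.leaf (nat_lit 0xe070301068fc069b) (nat_lit 3073))
 (.leaf (nat_lit 0xe070301068fc16ab) (nat_lit 3074))
))) (.node (nat_lit 0xe070301078ec060b) (.node (nat_lit 0xe070301078dc663b) (.node (nat_lit 0xe070301078cc767b) (.leaf (nat_lit 0xe070301078cc664b) (nat_lit 2050))
 (.leaf (nat_lit 0xe070301078cc767b) (nat_lit 2560))
) (.node (nat_lit 0xe070301078dc760b) (.leaf (nat_lit 0xe070301078dc663b) (nat_lit 3075))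
 (.leaf (nat_lit 0xe070301078dc760b) (nat_lit 2563))
)) (.node (nat_lit 0xe070301078fc067b) (.node (nat_lit 0xe070301078ec163b) (.leaf (nat_lit 0xe070301078ec060b) (nat_lit 1538))
 (.leaf (nat_lit 0xe070301078ec163b) (nat_lit 3587))
) (.node (nat_lit 0xe070301078fc164b) (.leaf (nat_lit 0xe070301078fc067b) (nat_lit 2563))
 (.leaf (nat_lit 0xe070301078fc164b) (nat_lit 3075))
))))))))) (.node (nat_lit 0xf0602010080c0609) (.node (nat_lit 0xf0502010080c0a05) (.node (nat_lit 0xf0403010080c0a03) (.node (nat_lit 0xf040201048cc4a49) (.node (nat_lit 0xf0402010280cea29) (.node (nat_lit 0xf0402010180c0af9) (.node (nat_lit 0xf0402010082c4a09) (.node (nat_lit 0xf0402010081c0a49) (.node (nat_lit 0xf0402010080c1a29) (.leaf (nat_lit 0xf0402010080c0a09) (nat_lit 1280))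
 (.leaf (nat_lit 0xf0402010080c1a29) (nat_lit 3330))
) (.node (nat_lit 0xf0402010081c1a69) (.leaf (nat_lit 0xf0402010081c0a49) (nat_lit 3331))
 (.leaf (nat_lit 0xf0402010081c1a69) (nat_lit 2819))
)) (.node (nat_lit 0xf0402010083c4a49) (.node (nat_lit 0xf0402010082c5a29) (.leaf (nat_lit 0xf0402010082c4a09) (nat_lit 3331))
 (.leaf (nat_lit 0xf0402010082c5a29) (nat_lit 3331))
) (.node (nat_lit 0xf0402010083c5a69) (.leaf (nat_lit 0xf0402010083c4a49) (nat_lit 1794))
 (.leaf (nat_lit 0xf0402010083c5a69) (nat_lit 2819))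
))) (.node (nat_lit 0xf0402010182c4af9) (.node (nat_lit 0xf0402010181c0ab9) (.node (nat_lit 0xf0402010180c1ad9) (.leaf (nat_lit 0xf0402010180c0af9) (nat_lit 2307))
 (.leaf (nat_lit 0xf0402010180c1ad9) (nat_lit 2819))
) (.node (nat_lit 0xf0402010181c1a99) (.leaf (nat_lit 0xf0402010181c0ab9) (nat_lit 2817))
 (.leaf (nat_lit 0xf0402010181c1a99) (nat_lit 2304))
)) (.node (nat_lit 0xf0402010183c4ab9) (.node (nat_lit 0xf0402010182c5ad9) (.leaf (nat_lit 0xf0402010182c4af9) (nat_lit 2817))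
 (.leaf (nat_lit 0xf0402010182c5ad9) (nat_lit 2818))
) (.node (nat_lit 0xf0402010183c5a99) (.leaf (nat_lit 0xf0402010183c4ab9) (nat_lit 2819))
 (.leaf (nat_lit 0xf0402010183c5a99) (nat_lit 2818))
)))) (.node (nat_lit 0xf0402010380cead9) (.node (nat_lit 0xf0402010282caa29) (.node (nat_lit 0xf0402010281cea69) (.node (nat_lit 0xf0402010280cfa09) (.leaf (nat_lit 0xf0402010280cea29) (nat_lit 2819))
 (.leaf (nat_lit 0xf0402010280cfa09) (nat_lit 2307))
) (.node (nat_lit 0xf0402010281cfa49) (.leaf (nat_lit 0xf0402010281cea69) (nat_lit 2306))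
 (.leaf (nat_lit 0xf0402010281cfa49) (nat_lit 2817))
)) (.node (nat_lit 0xf0402010283caa69) (.node (nat_lit 0xf0402010282cba09) (.leaf (nat_lit 0xf0402010282caa29) (nat_lit 2304))
 (.leaf (nat_lit 0xf0402010282cba09) (nat_lit 2817))
) (.node (nat_lit 0xf0402010283cba49) (.leaf (nat_lit 0xf0402010283caa69) (nat_lit 2818))
 (.leaf (nat_lit 0xf0402010283cba49) (nat_lit 2307))
))) (.node (nat_lit 0xf0402010382caad9) (.node (nat_lit 0xf0402010381cea99) (.node (nat_lit 0xf0402010380cfaf9) (.leaf (nat_lit 0xf0402010380cead9) (nat_lit 2817))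
 (.leaf (nat_lit 0xf0402010380cfaf9) (nat_lit 1794))
) (.node (nat_lit 0xf0402010381cfab9) (.leaf (nat_lit 0xf0402010381cea99) (nat_lit 3331))
 (.leaf (nat_lit 0xf0402010381cfab9) (nat_lit 3331))
)) (.node (nat_lit 0xf0402010383caa99) (.node (nat_lit 0xf0402010382cbaf9) (.leaf (nat_lit 0xf0402010382caad9) (nat_lit 3331))
 (.leaf (nat_lit 0xf0402010382cbaf9) (nat_lit 3331))
) (.node (nat_lit 0xf0402010383cbab9) (.leaf (nat_lit 0xf0402010383caa99) (nat_lit 2819))
 (.leaf (nat_lit 0xf0402010383cbab9) (nat_lit 1792))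
))))) (.node (nat_lit 0xf040201068ccaa69) (.node (nat_lit 0xf040201058cc4ab9) (.node (nat_lit 0xf040201048ec0a49) (.node (nat_lit 0xf040201048dc4a09) (.node (nat_lit 0xf040201048cc5a69) (.leaf (nat_lit 0xf040201048cc4a49) (nat_lit 1536))
 (.leaf (nat_lit 0xf040201048cc5a69) (nat_lit 3074))
) (.node (nat_lit 0xf040201048dc5a29) (.leaf (nat_lit 0xf040201048dc4a09) (nat_lit 3075))
 (.leaf (nat_lit 0xf040201048dc5a29) (nat_lit 3075))
)) (.node (nat_lit 0xf040201048fc0a09) (.node (nat_lit 0xf040201048ec1a69) (.leaf (nat_lit 0xf040201048ec0a49) (nat_lit 3075))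
 (.leaf (nat_lit 0xf040201048ec1a69) (nat_lit 3075))
) (.node (nat_lit 0xf040201048fc1a29) (.leaf (nat_lit 0xf040201048fc0a09) (nat_lit 1538))
 (.leaf (nat_lit 0xf040201048fc1a29) (nat_lit 3075))
))) (.node (nat_lit 0xf040201058ec0ab9) (.node (nat_lit 0xf040201058dc4af9) (.node (nat_lit 0xf040201058cc5a99) (.leaf (nat_lit 0xf040201058cc4ab9) (nat_lit 2563))
 (.leaf (nat_lit 0xf040201058cc5a99) (nat_lit 2563))
) (.node (nat_lit 0xf040201058dc5ad9) (.leaf (nat_lit 0xf040201058dc4af9) (nat_lit 3073))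
 (.leaf (nat_lit 0xf040201058dc5ad9) (nat_lit 2560))
)) (.node (nat_lit 0xf040201058fc0af9) (.node (nat_lit 0xf040201058ec1a99) (.leaf (nat_lit 0xf040201058ec0ab9) (nat_lit 2561))
 (.leaf (nat_lit 0xf040201058ec1a99) (nat_lit 2562))
) (.node (nat_lit 0xf040201058fc1ad9) (.leaf (nat_lit 0xf040201058fc0af9) (nat_lit 2563))
 (.leaf (nat_lit 0xf040201058fc1ad9) (nat_lit 3074))
)))) (.node (nat_lit 0xf040201078ccaa99) (.node (nat_lit 0xf040201068ecea69) (.node (nat_lit 0xf040201068dcaa29) (.node (nat_lit 0xf040201068ccba49) (.leaf (nat_lit 0xf040201068ccaa69) (nat_lit 2563))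
 (.leaf (nat_lit 0xf040201068ccba49) (nat_lit 2563))
) (.node (nat_lit 0xf040201068dcba09) (.leaf (nat_lit 0xf040201068dcaa29) (nat_lit 2562))
 (.leaf (nat_lit 0xf040201068dcba09) (nat_lit 2561))
)) (.node (nat_lit 0xf040201068fcea29) (.node (nat_lit 0xf040201068ecfa49) (.leaf (nat_lit 0xf040201068ecea69) (nat_lit 2048))
 (.leaf (nat_lit 0xf040201068ecfa49) (nat_lit 3073))
) (.node (nat_lit 0xf040201068fcfa09) (.leaf (nat_lit 0xf040201068fcea29) (nat_lit 3074))
 (.leaf (nat_lit 0xf040201068fcfa09) (nat_lit 2051))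
))) (.node (nat_lit 0xf040201078ecea99) (.node (nat_lit 0xf040201078dcaad9) (.node (nat_lit 0xf040201078ccbab9) (.leaf (nat_lit 0xf040201078ccaa99) (nat_lit 3074))
 (.leaf (nat_lit 0xf040201078ccbab9) (nat_lit 2049))
) (.node (nat_lit 0xf040201078dcbaf9) (.leaf (nat_lit 0xf040201078dcaad9) (nat_lit 3587))
 (.leaf (nat_lit 0xf040201078dcbaf9) (nat_lit 3587))
)) (.node (nat_lit 0xf040201078fcead9) (.node (nat_lit 0xf040201078ecfab9) (.leaf (nat_lit 0xf040201078ecea99) (nat_lit 3075))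
 (.leaf (nat_lit 0xf040201078ecfab9) (nat_lit 3587))
) (.node (nat_lit 0xf040201078fcfaf9) (.leaf (nat_lit 0xf040201078fcead9) (nat_lit 3075))
 (.leaf (nat_lit 0xf040201078fcfaf9) (nat_lit 1536))
)))))) (.node (nat_lit 0xf040301048cc4a03) (.node (nat_lit 0xf0403010280ceac3) (.node (nat_lit 0xf0403010180c0af3) (.node (nat_lit 0xf0403010082c4a43) (.node (nat_lit 0xf0403010081c0a43) (.node (nat_lit 0xf0403010080c1a33) (.leaf (nat_lit 0xf0403010080c0a03) (nat_lit 1027))
 (.leaf (nat_lit 0xf0403010080c1a33) (nat_lit 3587))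
) (.node (nat_lit 0xf0403010081c1a73) (.leaf (nat_lit 0xf0403010081c0a43) (nat_lit 3074))
 (.leaf (nat_lit 0xf0403010081c1a73) (nat_lit 3072))
)) (.node (nat_lit 0xf0403010083c4a03) (.node (nat_lit 0xf0403010082c5a73) (.leaf (nat_lit 0xf0403010082c4a43) (nat_lit 3075))
 (.leaf (nat_lit 0xf0403010082c5a73) (nat_lit 3075))
) (.node (nat_lit 0xf0403010083c5a33) (.leaf (nat_lit 0xf0403010083c4a03) (nat_lit 1538))
 (.leaf (nat_lit 0xf0403010083c5a33) (nat_lit 3072))
))) (.node (nat_lit 0xf0403010182c4ab3) (.node (nat_lit 0xf0403010181c0ab3) (.node (nat_lit 0xf0403010180c1ac3) (.leaf (nat_lit 0xf0403010180c0af3) (nat_lit 2562))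
 (.leaf (nat_lit 0xf0403010180c1ac3) (nat_lit 2561))
) (.node (nat_lit 0xf0403010181c1a83) (.leaf (nat_lit 0xf0403010181c0ab3) (nat_lit 3074))
 (.leaf (nat_lit 0xf0403010181c1a83) (nat_lit 2051))
)) (.node (nat_lit 0xf0403010183c4af3) (.node (nat_lit 0xf0403010182c5a83) (.leaf (nat_lit 0xf0403010182c4ab3) (nat_lit 3073))
 (.leaf (nat_lit 0xf0403010182c5a83) (nat_lit 2562))
) (.node (nat_lit 0xf0403010183c5ac3) (.leaf (nat_lit 0xf0403010183c4af3) (nat_lit 2563))
 (.leaf (nat_lit 0xf0403010183c5ac3) (nat_lit 2563))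
)))) (.node (nat_lit 0xf0403010380cea33) (.node (nat_lit 0xf0403010282caa83) (.node (nat_lit 0xf0403010281cea83) (.node (nat_lit 0xf0403010280cfaf3) (.leaf (nat_lit 0xf0403010280ceac3) (nat_lit 2563))
 (.leaf (nat_lit 0xf0403010280cfaf3) (nat_lit 2563))
) (.node (nat_lit 0xf0403010281cfab3) (.leaf (nat_lit 0xf0403010281cea83) (nat_lit 2050))
 (.leaf (nat_lit 0xf0403010281cfab3) (nat_lit 3073))
)) (.node (nat_lit 0xf0403010283caac3) (.node (nat_lit 0xf0403010282cbab3) (.leaf (nat_lit 0xf0403010282caa83) (nat_lit 2051))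
 (.leaf (nat_lit 0xf0403010282cbab3) (nat_lit 3073))
) (.node (nat_lit 0xf0403010283cbaf3) (.leaf (nat_lit 0xf0403010283caac3) (nat_lit 2562))
 (.leaf (nat_lit 0xf0403010283cbaf3) (nat_lit 2560))
))) (.node (nat_lit 0xf0403010382caa73) (.node (nat_lit 0xf0403010381cea73) (.node (nat_lit 0xf0403010380cfa03) (.leaf (nat_lit 0xf0403010380cea33) (nat_lit 3073))
 (.leaf (nat_lit 0xf0403010380cfa03) (nat_lit 1538))
) (.node (nat_lit 0xf0403010381cfa43) (.leaf (nat_lit 0xf0403010381cea73) (nat_lit 3075))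
 (.leaf (nat_lit 0xf0403010381cfa43) (nat_lit 3075))
)) (.node (nat_lit 0xf0403010383caa33) (.node (nat_lit 0xf0403010382cba43) (.leaf (nat_lit 0xf0403010382caa73) (nat_lit 3586))
 (.leaf (nat_lit 0xf0403010382cba43) (nat_lit 3584))
) (.node (nat_lit 0xf0403010383cba03) (.leaf (nat_lit 0xf0403010383caa33) (nat_lit 3075))
 (.leaf (nat_lit 0xf0403010383cba03) (nat_lit 1539))
))))) (.node (nat_lit 0xf040301068ccaac3) (.node (nat_lit 0xf040301058cc4af3) (.node (nat_lit 0xf040301048ec0a43) (.node (nat_lit 0xf040301048dc4a43) (.node (nat_lit 0xf040301048cc5a33) (.leaf (nat_lit 0xf040301048cc4a03) (nat_lit 1283))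
 (.leaf (nat_lit 0xf040301048cc5a33) (nat_lit 3331))
) (.node (nat_lit 0xf040301048dc5a73) (.leaf (nat_lit 0xf040301048dc4a43) (nat_lit 3328))
 (.leaf (nat_lit 0xf040301048dc5a73) (nat_lit 3330))
)) (.node (nat_lit 0xf040301048fc0a03) (.node (nat_lit 0xf040301048ec1a73) (.leaf (nat_lit 0xf040301048ec0a43) (nat_lit 2819))
 (.leaf (nat_lit 0xf040301048ec1a73) (nat_lit 3331))
) (.node (nat_lit 0xf040301048fc1a33) (.leaf (nat_lit 0xf040301048fc0a03) (nat_lit 1282))
 (.leaf (nat_lit 0xf040301048fc1a33) (nat_lit 3328))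
))) (.node (nat_lit 0xf040301058ec0ab3) (.node (nat_lit 0xf040301058dc4ab3) (.node (nat_lit 0xf040301058cc5ac3) (.leaf (nat_lit 0xf040301058cc4af3) (nat_lit 2818))
 (.leaf (nat_lit 0xf040301058cc5ac3) (nat_lit 2817))
) (.node (nat_lit 0xf040301058dc5a83) (.leaf (nat_lit 0xf040301058dc4ab3) (nat_lit 3330))
 (.leaf (nat_lit 0xf040301058dc5a83) (nat_lit 2307))
)) (.node (nat_lit 0xf040301058fc0af3) (.node (nat_lit 0xf040301058ec1a83) (.leaf (nat_lit 0xf040301058ec0ab3) (nat_lit 2817))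
 (.leaf (nat_lit 0xf040301058ec1a83) (nat_lit 2306))
) (.node (nat_lit 0xf040301058fc1ac3) (.leaf (nat_lit 0xf040301058fc0af3) (nat_lit 2307))
 (.leaf (nat_lit 0xf040301058fc1ac3) (nat_lit 2819))
)))) (.node (nat_lit 0xf040301078ccaa33) (.node (nat_lit 0xf040301068ecea83) (.node (nat_lit 0xf040301068dcaa83) (.node (nat_lit 0xf040301068ccbaf3) (.leaf (nat_lit 0xf040301068ccaac3) (nat_lit 2307))
 (.leaf (nat_lit 0xf040301068ccbaf3) (nat_lit 2819))
) (.node (nat_lit 0xf040301068dcbab3) (.leaf (nat_lit 0xf040301068dcaa83) (nat_lit 2306))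
 (.leaf (nat_lit 0xf040301068dcbab3) (nat_lit 2817))
)) (.node (nat_lit 0xf040301068fceac3) (.node (nat_lit 0xf040301068ecfab3) (.leaf (nat_lit 0xf040301068ecea83) (nat_lit 1795))
 (.leaf (nat_lit 0xf040301068ecfab3) (nat_lit 3329))
) (.node (nat_lit 0xf040301068fcfaf3) (.leaf (nat_lit 0xf040301068fceac3) (nat_lit 2818))
 (.leaf (nat_lit 0xf040301068fcfaf3) (nat_lit 2304))
))) (.node (nat_lit 0xf040301078ecea73) (.node (nat_lit 0xf040301078dcaa73) (.node (nat_lit 0xf040301078ccba03) (.leaf (nat_lit 0xf040301078ccaa33) (nat_lit 3330))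
 (.leaf (nat_lit 0xf040301078ccba03) (nat_lit 1793))
) (.node (nat_lit 0xf040301078dcba43) (.leaf (nat_lit 0xf040301078dcaa73) (nat_lit 3331))
 (.leaf (nat_lit 0xf040301078dcba43) (nat_lit 3331))
)) (.node (nat_lit 0xf040301078fcea33) (.node (nat_lit 0xf040301078ecfa43) (.leaf (nat_lit 0xf040301078ecea73) (nat_lit 3329))
 (.leaf (nat_lit 0xf040301078ecfa43) (nat_lit 3330))
) (.node (nat_lit 0xf040301078fcfa03) (.leaf (nat_lit 0xf040301078fcea33) (nat_lit 3331))
 (.leaf (nat_lit 0xf040301078fcfa03) (nat_lit 1283))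
))))))) (.node (nat_lit 0xf0503010080c0a0f) (.node (nat_lit 0xf050201048cc4a85) (.node (nat_lit 0xf0502010280cea25) (.node (nat_lit 0xf0502010180c0af5) (.node (nat_lit 0xf0502010082c4a25) (.node (nat_lit 0xf0502010081c0a55) (.node (nat_lit 0xf0502010080c1a25) (.leaf (nat_lit 0xf0502010080c0a05) (nat_lit 1283))
 (.leaf (nat_lit 0xf0502010080c1a25) (nat_lit 3331))
) (.node (nat_lit 0xf0502010081c1a75) (.leaf (nat_lit 0xf0502010081c0a55) (nat_lit 3330))
 (.leaf (nat_lit 0xf0502010081c1a75) (nat_lit 3328))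
)) (.node (nat_lit 0xf0502010083c4a75) (.node (nat_lit 0xf0502010082c5a05) (.leaf (nat_lit 0xf0502010082c4a25) (nat_lit 2817))
 (.leaf (nat_lit 0xf0502010082c5a05) (nat_lit 2306))
) (.node (nat_lit 0xf0502010083c5a55) (.leaf (nat_lit 0xf0502010083c4a75) (nat_lit 2307))
 (.leaf (nat_lit 0xf0502010083c5a55) (nat_lit 2816))
))) (.node (nat_lit 0xf0502010182c4ad5) (.node (nat_lit 0xf0502010181c0aa5) (.node (nat_lit 0xf0502010180c1ad5) (.leaf (nat_lit 0xf0502010180c0af5) (nat_lit 2306))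
 (.leaf (nat_lit 0xf0502010180c1ad5) (nat_lit 2816))
) (.node (nat_lit 0xf0502010181c1a85) (.leaf (nat_lit 0xf0502010181c0aa5) (nat_lit 2817))
 (.leaf (nat_lit 0xf0502010181c1a85) (nat_lit 2307))
)) (.node (nat_lit 0xf0502010183c4a85) (.node (nat_lit 0xf0502010182c5af5) (.leaf (nat_lit 0xf0502010182c4ad5) (nat_lit 3331))
 (.leaf (nat_lit 0xf0502010182c5af5) (nat_lit 3331))
) (.node (nat_lit 0xf0502010183c5aa5) (.leaf (nat_lit 0xf0502010183c4a85) (nat_lit 1794))
 (.leaf (nat_lit 0xf0502010183c5aa5) (nat_lit 2819))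
)))) (.node (nat_lit 0xf0502010380cead5) (.node (nat_lit 0xf0502010282caa05) (.node (nat_lit 0xf0502010281cea75) (.node (nat_lit 0xf0502010280cfa05) (.leaf (nat_lit 0xf0502010280cea25) (nat_lit 2305))
 (.leaf (nat_lit 0xf0502010280cfa05) (nat_lit 1794))
) (.node (nat_lit 0xf0502010281cfa55) (.leaf (nat_lit 0xf0502010281cea75) (nat_lit 2819))
 (.leaf (nat_lit 0xf0502010281cfa55) (nat_lit 3329))
)) (.node (nat_lit 0xf0502010283caa55) (.node (nat_lit 0xf0502010282cba25) (.leaf (nat_lit 0xf0502010282caa05) (nat_lit 2307))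
 (.leaf (nat_lit 0xf0502010282cba25) (nat_lit 3843))
) (.node (nat_lit 0xf0502010283cba75) (.leaf (nat_lit 0xf0502010283caa55) (nat_lit 3331))
 (.leaf (nat_lit 0xf0502010283cba75) (nat_lit 2818))
))) (.node (nat_lit 0xf0502010382caaf5) (.node (nat_lit 0xf0502010381cea85) (.node (nat_lit 0xf0502010380cfaf5) (.leaf (nat_lit 0xf0502010380cead5) (nat_lit 3331))
 (.leaf (nat_lit 0xf0502010380cfaf5) (nat_lit 2307))
) (.node (nat_lit 0xf0502010381cfaa5) (.leaf (nat_lit 0xf0502010381cea85) (nat_lit 2306))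
 (.leaf (nat_lit 0xf0502010381cfaa5) (nat_lit 3331))
)) (.node (nat_lit 0xf0502010383caaa5) (.node (nat_lit 0xf0502010382cbad5) (.leaf (nat_lit 0xf0502010382caaf5) (nat_lit 3328))
 (.leaf (nat_lit 0xf0502010382cbad5) (nat_lit 3330))
) (.node (nat_lit 0xf0502010383cba85) (.leaf (nat_lit 0xf0502010383caaa5) (nat_lit 2306))
 (.leaf (nat_lit 0xf0502010383cba85) (nat_lit 1795))
))))) (.node (nat_lit 0xf050201068ccaaa5) (.node (nat_lit 0xf050201058cc4a75) (.node (nat_lit 0xf050201048ec0aa5) (.node (nat_lit 0xf050201048dc4ad5) (.node (nat_lit 0xf050201048cc5aa5) (.leaf (nat_lit 0xf050201048cc4a85) (nat_lit 1539))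
 (.leaf (nat_lit 0xf050201048cc5aa5) (nat_lit 3075))
) (.node (nat_lit 0xf050201048dc5af5) (.leaf (nat_lit 0xf050201048dc4ad5) (nat_lit 3585))
 (.leaf (nat_lit 0xf050201048dc5af5) (nat_lit 3584))
)) (.node (nat_lit 0xf050201048fc0af5) (.node (nat_lit 0xf050201048ec1a85) (.leaf (nat_lit 0xf050201048ec0aa5) (nat_lit 2561))
 (.leaf (nat_lit 0xf050201048ec1a85) (nat_lit 2562))
) (.node (nat_lit 0xf050201048fc1ad5) (.leaf (nat_lit 0xf050201048fc0af5) (nat_lit 2051))
 (.leaf (nat_lit 0xf050201048fc1ad5) (nat_lit 3072))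
))) (.node (nat_lit 0xf050201058ec0a55) (.node (nat_lit 0xf050201058dc4a25) (.node (nat_lit 0xf050201058cc5a55) (.leaf (nat_lit 0xf050201058cc4a75) (nat_lit 2562))
 (.leaf (nat_lit 0xf050201058cc5a55) (nat_lit 2560))
) (.node (nat_lit 0xf050201058dc5a05) (.leaf (nat_lit 0xf050201058dc4a25) (nat_lit 3073))
 (.leaf (nat_lit 0xf050201058dc5a05) (nat_lit 2051))
)) (.node (nat_lit 0xf050201058fc0a05) (.node (nat_lit 0xf050201058ec1a75) (.leaf (nat_lit 0xf050201058ec0a55) (nat_lit 3075))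
 (.leaf (nat_lit 0xf050201058ec1a75) (nat_lit 3075))
) (.node (nat_lit 0xf050201058fc1a25) (.leaf (nat_lit 0xf050201058fc0a05) (nat_lit 1538))
 (.leaf (nat_lit 0xf050201058fc1a25) (nat_lit 3075))
)))) (.node (nat_lit 0xf050201078ccaa55) (.node (nat_lit 0xf050201068ecea85) (.node (nat_lit 0xf050201068dcaaf5) (.node (nat_lit 0xf050201068ccba85) (.leaf (nat_lit 0xf050201068ccaaa5) (nat_lit 2049))
 (.leaf (nat_lit 0xf050201068ccba85) (nat_lit 2050))
) (.node (nat_lit 0xf050201068dcbad5) (.leaf (nat_lit 0xf050201068dcaaf5) (nat_lit 3075))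
 (.leaf (nat_lit 0xf050201068dcbad5) (nat_lit 3075))
)) (.node (nat_lit 0xf050201068fcead5) (.node (nat_lit 0xf050201068ecfaa5) (.leaf (nat_lit 0xf050201068ecea85) (nat_lit 2051))
 (.leaf (nat_lit 0xf050201068ecfaa5) (nat_lit 3587))
) (.node (nat_lit 0xf050201068fcfaf5) (.leaf (nat_lit 0xf050201068fcead5) (nat_lit 3587))
 (.leaf (nat_lit 0xf050201068fcfaf5) (nat_lit 2560))
))) (.node (nat_lit 0xf050201078ecea75) (.node (nat_lit 0xf050201078dcaa05) (.node (nat_lit 0xf050201078ccba75) (.leaf (nat_lit 0xf050201078ccaa55) (nat_lit 3587))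
 (.leaf (nat_lit 0xf050201078ccba75) (nat_lit 2563))
) (.node (nat_lit 0xf050201078dcba25) (.leaf (nat_lit 0xf050201078dcaa05) (nat_lit 2561))
 (.leaf (nat_lit 0xf050201078dcba25) (nat_lit 3587))
)) (.node (nat_lit 0xf050201078fcea25) (.node (nat_lit 0xf050201078ecfa55) (.leaf (nat_lit 0xf050201078ecea75) (nat_lit 3073))
 (.leaf (nat_lit 0xf050201078ecfa55) (nat_lit 3585))
) (.node (nat_lit 0xf050201078fcfa05) (.leaf (nat_lit 0xf050201078fcea25) (nat_lit 2562))
 (.leaf (nat_lit 0xf050201078fcfa05) (nat_lit 1539))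
)))))) (.node (nat_lit 0xf050301048cc4acf) (.node (nat_lit 0xf0503010280ceacf) (.node (nat_lit 0xf0503010180c0aff) (.node (nat_lit 0xf0503010082c4a6f) (.node (nat_lit 0xf0503010081c0a5f) (.node (nat_lit 0xf0503010080c1a3f) (.leaf (nat_lit 0xf0503010080c0a0f) (nat_lit 1536))
 (.leaf (nat_lit 0xf0503010080c1a3f) (nat_lit 3585))
) (.node (nat_lit 0xf0503010081c1a6f) (.leaf (nat_lit 0xf0503010081c0a5f) (nat_lit 3587))
 (.leaf (nat_lit 0xf0503010081c1a6f) (nat_lit 3075))
)) (.node (nat_lit 0xf0503010083c4a3f) (.node (nat_lit 0xf0503010082c5a5f) (.leaf (nat_lit 0xf0503010082c4a6f) (nat_lit 2561))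
 (.leaf (nat_lit 0xf0503010082c5a5f) (nat_lit 2562))
) (.node (nat_lit 0xf0503010083c5a0f) (.leaf (nat_lit 0xf0503010083c4a3f) (nat_lit 2563))
 (.leaf (nat_lit 0xf0503010083c5a0f) (nat_lit 2563))
))) (.node (nat_lit 0xf0503010182c4a9f) (.node (nat_lit 0xf0503010181c0aaf) (.node (nat_lit 0xf0503010180c1acf) (.leaf (nat_lit 0xf0503010180c0aff) (nat_lit 2563))
 (.leaf (nat_lit 0xf0503010180c1acf) (nat_lit 2563))
) (.node (nat_lit 0xf0503010181c1a9f) (.leaf (nat_lit 0xf0503010181c0aaf) (nat_lit 2562))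
 (.leaf (nat_lit 0xf0503010181c1a9f) (nat_lit 2560))
)) (.node (nat_lit 0xf0503010183c4acf) (.node (nat_lit 0xf0503010182c5aaf) (.leaf (nat_lit 0xf0503010182c4a9f) (nat_lit 3587))
 (.leaf (nat_lit 0xf0503010182c5aaf) (nat_lit 3587))
) (.node (nat_lit 0xf0503010183c5aff) (.leaf (nat_lit 0xf0503010183c4acf) (nat_lit 2050))
 (.leaf (nat_lit 0xf0503010183c5aff) (nat_lit 3073))
)))) (.node (nat_lit 0xf0503010380cea3f) (.node (nat_lit 0xf0503010282caaaf) (.node (nat_lit 0xf0503010281cea9f) (.node (nat_lit 0xf0503010280cfaff) (.leaf (nat_lit 0xf0503010280ceacf) (nat_lit 2049))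
 (.leaf (nat_lit 0xf0503010280cfaff) (nat_lit 2050))
) (.node (nat_lit 0xf0503010281cfaaf) (.leaf (nat_lit 0xf0503010281cea9f) (nat_lit 3075))
 (.leaf (nat_lit 0xf0503010281cfaaf) (nat_lit 3075))
)) (.node (nat_lit 0xf0503010283caaff) (.node (nat_lit 0xf0503010282cba9f) (.leaf (nat_lit 0xf0503010282caaaf) (nat_lit 2560))
 (.leaf (nat_lit 0xf0503010282cba9f) (nat_lit 3587))
) (.node (nat_lit 0xf0503010283cbacf) (.leaf (nat_lit 0xf0503010283caaff) (nat_lit 3587))
 (.leaf (nat_lit 0xf0503010283cbacf) (nat_lit 2563))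
))) (.node (nat_lit 0xf0503010382caa5f) (.node (nat_lit 0xf0503010381cea6f) (.node (nat_lit 0xf0503010380cfa0f) (.leaf (nat_lit 0xf0503010380cea3f) (nat_lit 3587))
 (.leaf (nat_lit 0xf0503010380cfa0f) (nat_lit 2563))
) (.node (nat_lit 0xf0503010381cfa5f) (.leaf (nat_lit 0xf0503010381cea6f) (nat_lit 2562))
 (.leaf (nat_lit 0xf0503010381cfa5f) (nat_lit 3585))
)) (.node (nat_lit 0xf0503010383caa0f) (.node (nat_lit 0xf0503010382cba6f) (.leaf (nat_lit 0xf0503010382caa5f) (nat_lit 3075))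
 (.leaf (nat_lit 0xf0503010382cba6f) (nat_lit 3075))
) (.node (nat_lit 0xf0503010383cba3f) (.leaf (nat_lit 0xf0503010383caa0f) (nat_lit 2050))
 (.leaf (nat_lit 0xf0503010383cba3f) (nat_lit 2048))
))))) (.node (nat_lit 0xf050301068ccaa0f) (.node (nat_lit 0xf050301058cc4a3f) (.node (nat_lit 0xf050301048ec0aaf) (.node (nat_lit 0xf050301048dc4a9f) (.node (nat_lit 0xf050301048cc5aff) (.leaf (nat_lit 0xf050301048cc4acf) (nat_lit 1792))
 (.leaf (nat_lit 0xf050301048cc5aff) (nat_lit 3329))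
) (.node (nat_lit 0xf050301048dc5aaf) (.leaf (nat_lit 0xf050301048dc4a9f) (nat_lit 3331))
 (.leaf (nat_lit 0xf050301048dc5aaf) (nat_lit 3331))
)) (.node (nat_lit 0xf050301048fc0aff) (.node (nat_lit 0xf050301048ec1a9f) (.leaf (nat_lit 0xf050301048ec0aaf) (nat_lit 2305))
 (.leaf (nat_lit 0xf050301048ec1a9f) (nat_lit 2818))
) (.node (nat_lit 0xf050301048fc1acf) (.leaf (nat_lit 0xf050301048fc0aff) (nat_lit 2307))
 (.leaf (nat_lit 0xf050301048fc1acf) (nat_lit 2819))
))) (.node (nat_lit 0xf050301058ec0a5f) (.node (nat_lit 0xf050301058dc4a6f) (.node (nat_lit 0xf050301058cc5a0f) (.leaf (nat_lit 0xf050301058cc4a3f) (nat_lit 2819))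
 (.leaf (nat_lit 0xf050301058cc5a0f) (nat_lit 2307))
) (.node (nat_lit 0xf050301058dc5a5f) (.leaf (nat_lit 0xf050301058dc4a6f) (nat_lit 2818))
 (.leaf (nat_lit 0xf050301058dc5a5f) (nat_lit 2304))
)) (.node (nat_lit 0xf050301058fc0a0f) (.node (nat_lit 0xf050301058ec1a6f) (.leaf (nat_lit 0xf050301058ec0a5f) (nat_lit 3331))
 (.leaf (nat_lit 0xf050301058ec1a6f) (nat_lit 3331))
) (.node (nat_lit 0xf050301058fc1a3f) (.leaf (nat_lit 0xf050301058fc0a0f) (nat_lit 1794))
 (.leaf (nat_lit 0xf050301058fc1a3f) (nat_lit 3329))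
)))) (.node (nat_lit 0xf050301078ccaaff) (.node (nat_lit 0xf050301068ecea6f) (.node (nat_lit 0xf050301068dcaa5f) (.node (nat_lit 0xf050301068ccba3f) (.leaf (nat_lit 0xf050301068ccaa0f) (nat_lit 1793))
 (.leaf (nat_lit 0xf050301068ccba3f) (nat_lit 2306))
) (.node (nat_lit 0xf050301068dcba6f) (.leaf (nat_lit 0xf050301068dcaa5f) (nat_lit 3331))
 (.leaf (nat_lit 0xf050301068dcba6f) (nat_lit 3331))
)) (.node (nat_lit 0xf050301068fcea3f) (.node (nat_lit 0xf050301068ecfa5f) (.leaf (nat_lit 0xf050301068ecea6f) (nat_lit 2304))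
 (.leaf (nat_lit 0xf050301068ecfa5f) (nat_lit 3843))
) (.node (nat_lit 0xf050301068fcfa0f) (.leaf (nat_lit 0xf050301068fcea3f) (nat_lit 3843))
 (.leaf (nat_lit 0xf050301068fcfa0f) (nat_lit 2307))
))) (.node (nat_lit 0xf050301078ecea9f) (.node (nat_lit 0xf050301078dcaaaf) (.node (nat_lit 0xf050301078ccbacf) (.leaf (nat_lit 0xf050301078ccaaff) (nat_lit 3843))
 (.leaf (nat_lit 0xf050301078ccbacf) (nat_lit 2819))
) (.node (nat_lit 0xf050301078dcba9f) (.leaf (nat_lit 0xf050301078dcaaaf) (nat_lit 2817))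
 (.leaf (nat_lit 0xf050301078dcba9f) (nat_lit 3842))
)) (.node (nat_lit 0xf050301078fceacf) (.node (nat_lit 0xf050301078ecfaaf) (.leaf (nat_lit 0xf050301078ecea9f) (nat_lit 3331))
 (.leaf (nat_lit 0xf050301078ecfaaf) (nat_lit 3331))
) (.node (nat_lit 0xf050301078fcfaff) (.leaf (nat_lit 0xf050301078fceacf) (nat_lit 2306))
 (.leaf (nat_lit 0xf050301078fcfaff) (nat_lit 1792))
)))))))) (.node (nat_lit 0xf0702010080c0605) (.node (nat_lit 0xf0603010080c060f) (.node (nat_lit 0xf060201048cc8649) (.node (nat_lit 0xf0602010280ce629) (.node (nat_lit 0xf0602010180c06f9) (.node (nat_lit 0xf0602010082c6609) (.node (nat_lit 0xf0602010081c0669) (.node (nat_lit 0xf0602010080c1629) (.leaf (nat_lit 0xf0602010080c0609) (nat_lit 1539))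
 (.leaf (nat_lit 0xf0602010080c1629) (nat_lit 3587))
) (.node (nat_lit 0xf0602010081c1649) (.leaf (nat_lit 0xf0602010081c0669) (nat_lit 2562))
 (.leaf (nat_lit 0xf0602010081c1649) (nat_lit 3073))
)) (.node (nat_lit 0xf0602010083c6669) (.node (nat_lit 0xf0602010082c7629) (.leaf (nat_lit 0xf0602010082c6609) (nat_lit 3074))
 (.leaf (nat_lit 0xf0602010082c7629) (nat_lit 3072))
) (.node (nat_lit 0xf0602010083c7649) (.leaf (nat_lit 0xf0602010083c6669) (nat_lit 2562))
 (.leaf (nat_lit 0xf0602010083c7649) (nat_lit 2051))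
))) (.node (nat_lit 0xf0602010182c66f9) (.node (nat_lit 0xf0602010181c0699) (.node (nat_lit 0xf0602010180c16d9) (.leaf (nat_lit 0xf0602010180c06f9) (nat_lit 2050))
 (.leaf (nat_lit 0xf0602010180c16d9) (nat_lit 2561))
) (.node (nat_lit 0xf0602010181c16b9) (.leaf (nat_lit 0xf0602010181c0699) (nat_lit 2563))
 (.leaf (nat_lit 0xf0602010181c16b9) (nat_lit 3075))
)) (.node (nat_lit 0xf0602010183c6699) (.node (nat_lit 0xf0602010182c76d9) (.leaf (nat_lit 0xf0602010182c66f9) (nat_lit 3075))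
 (.leaf (nat_lit 0xf0602010182c76d9) (nat_lit 3075))
) (.node (nat_lit 0xf0602010183c76b9) (.leaf (nat_lit 0xf0602010183c6699) (nat_lit 3075))
 (.leaf (nat_lit 0xf0602010183c76b9) (nat_lit 2562))
)))) (.node (nat_lit 0xf0602010380ce6d9) (.node (nat_lit 0xf0602010282c8629) (.node (nat_lit 0xf0602010281ce649) (.node (nat_lit 0xf0602010280cf609) (.leaf (nat_lit 0xf0602010280ce629) (nat_lit 2560))
 (.leaf (nat_lit 0xf0602010280cf609) (nat_lit 2050))
) (.node (nat_lit 0xf0602010281cf669) (.leaf (nat_lit 0xf0602010281ce649) (nat_lit 3075))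
 (.leaf (nat_lit 0xf0602010281cf669) (nat_lit 2563))
)) (.node (nat_lit 0xf0602010283c8649) (.node (nat_lit 0xf0602010282c9609) (.leaf (nat_lit 0xf0602010282c8629) (nat_lit 2563))
 (.leaf (nat_lit 0xf0602010282c9609) (nat_lit 3075))
) (.node (nat_lit 0xf0602010283c9669) (.leaf (nat_lit 0xf0602010283c8649) (nat_lit 2050))
 (.leaf (nat_lit 0xf0602010283c9669) (nat_lit 3075))
))) (.node (nat_lit 0xf0602010382c86d9) (.node (nat_lit 0xf0602010381ce6b9) (.node (nat_lit 0xf0602010380cf6f9) (.leaf (nat_lit 0xf0602010380ce6d9) (nat_lit 3075))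
 (.leaf (nat_lit 0xf0602010380cf6f9) (nat_lit 2051))
) (.node (nat_lit 0xf0602010381cf699) (.leaf (nat_lit 0xf0602010381ce6b9) (nat_lit 3074))
 (.leaf (nat_lit 0xf0602010381cf699) (nat_lit 3072))
)) (.node (nat_lit 0xf0602010383c86b9) (.node (nat_lit 0xf0602010382c96f9) (.leaf (nat_lit 0xf0602010382c86d9) (nat_lit 3074))
 (.leaf (nat_lit 0xf0602010382c96f9) (nat_lit 3073))
) (.node (nat_lit 0xf0602010383c9699) (.leaf (nat_lit 0xf0602010383c86b9) (nat_lit 2051))
 (.leaf (nat_lit 0xf0602010383c9699) (nat_lit 2560))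
))))) (.node (nat_lit 0xf060201068cc6669) (.node (nat_lit 0xf060201058cc86b9) (.node (nat_lit 0xf060201048ece649) (.node (nat_lit 0xf060201048dc8629) (.node (nat_lit 0xf060201048cc9669) (.leaf (nat_lit 0xf060201048cc8649) (nat_lit 1795))
 (.leaf (nat_lit 0xf060201048cc9669) (nat_lit 3331))
) (.node (nat_lit 0xf060201048dc9609) (.leaf (nat_lit 0xf060201048dc8629) (nat_lit 2818))
 (.leaf (nat_lit 0xf060201048dc9609) (nat_lit 2817))
)) (.node (nat_lit 0xf060201048fce629) (.node (nat_lit 0xf060201048ecf669) (.leaf (nat_lit 0xf060201048ece649) (nat_lit 2816))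
 (.leaf (nat_lit 0xf060201048ecf669) (nat_lit 2818))
) (.node (nat_lit 0xf060201048fcf609) (.leaf (nat_lit 0xf060201048fce629) (nat_lit 2818))
 (.leaf (nat_lit 0xf060201048fcf609) (nat_lit 1795))
))) (.node (nat_lit 0xf060201058ece6b9) (.node (nat_lit 0xf060201058dc86d9) (.node (nat_lit 0xf060201058cc9699) (.leaf (nat_lit 0xf060201058cc86b9) (nat_lit 2306))
 (.leaf (nat_lit 0xf060201058cc9699) (nat_lit 2305))
) (.node (nat_lit 0xf060201058dc96f9) (.leaf (nat_lit 0xf060201058dc86d9) (nat_lit 2819))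
 (.leaf (nat_lit 0xf060201058dc96f9) (nat_lit 3331))
)) (.node (nat_lit 0xf060201058fce6d9) (.node (nat_lit 0xf060201058ecf699) (.leaf (nat_lit 0xf060201058ece6b9) (nat_lit 2819))
 (.leaf (nat_lit 0xf060201058ecf699) (nat_lit 2819))
) (.node (nat_lit 0xf060201058fcf6f9) (.leaf (nat_lit 0xf060201058fce6d9) (nat_lit 3331))
 (.leaf (nat_lit 0xf060201058fcf6f9) (nat_lit 2304))
)))) (.node (nat_lit 0xf060201078cc6699) (.node (nat_lit 0xf060201068ec0669) (.node (nat_lit 0xf060201068dc6609) (.node (nat_lit 0xf060201068cc7649) (.leaf (nat_lit 0xf060201068cc6669) (nat_lit 2304))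
 (.leaf (nat_lit 0xf060201068cc7649) (nat_lit 2306))
) (.node (nat_lit 0xf060201068dc7629) (.leaf (nat_lit 0xf060201068dc6609) (nat_lit 2819))
 (.leaf (nat_lit 0xf060201068dc7629) (nat_lit 2819))
)) (.node (nat_lit 0xf060201068fc0609) (.node (nat_lit 0xf060201068ec1649) (.leaf (nat_lit 0xf060201068ec0669) (nat_lit 2307))
 (.leaf (nat_lit 0xf060201068ec1649) (nat_lit 3331))
) (.node (nat_lit 0xf060201068fc1629) (.leaf (nat_lit 0xf060201068fc0609) (nat_lit 1794))
 (.leaf (nat_lit 0xf060201068fc1629) (nat_lit 3331))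
))) (.node (nat_lit 0xf060201078ec0699) (.node (nat_lit 0xf060201078dc66f9) (.node (nat_lit 0xf060201078cc76b9) (.leaf (nat_lit 0xf060201078cc6699) (nat_lit 3331))
 (.leaf (nat_lit 0xf060201078cc76b9) (nat_lit 2307))
) (.node (nat_lit 0xf060201078dc76d9) (.leaf (nat_lit 0xf060201078dc66f9) (nat_lit 3330))
 (.leaf (nat_lit 0xf060201078dc76d9) (nat_lit 3328))
)) (.node (nat_lit 0xf060201078fc06f9) (.node (nat_lit 0xf060201078ec16b9) (.leaf (nat_lit 0xf060201078ec0699) (nat_lit 2817))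
 (.leaf (nat_lit 0xf060201078ec16b9) (nat_lit 3330))
) (.node (nat_lit 0xf060201078fc16d9) (.leaf (nat_lit 0xf060201078fc06f9) (nat_lit 1795))
 (.leaf (nat_lit 0xf060201078fc16d9) (nat_lit 2816))
)))))) (.node (nat_lit 0xf060301048cc86cf) (.node (nat_lit 0xf0603010280ce6cf) (.node (nat_lit 0xf0603010180c06ff) (.node (nat_lit 0xf0603010082c666f) (.node (nat_lit 0xf0603010081c066f) (.node (nat_lit 0xf0603010080c163f) (.leaf (nat_lit 0xf0603010080c060f) (nat_lit 1795))
 (.leaf (nat_lit 0xf0603010080c163f) (nat_lit 3843))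
) (.node (nat_lit 0xf0603010081c165f) (.leaf (nat_lit 0xf0603010081c066f) (nat_lit 2818))
 (.leaf (nat_lit 0xf0603010081c165f) (nat_lit 3329))
)) (.node (nat_lit 0xf0603010083c660f) (.node (nat_lit 0xf0603010082c765f) (.leaf (nat_lit 0xf0603010082c666f) (nat_lit 2819))
 (.leaf (nat_lit 0xf0603010082c765f) (nat_lit 2819))
) (.node (nat_lit 0xf0603010083c763f) (.leaf (nat_lit 0xf0603010083c660f) (nat_lit 2306))
 (.leaf (nat_lit 0xf0603010083c763f) (nat_lit 2304))
))) (.node (nat_lit 0xf0603010182c669f) (.node (nat_lit 0xf0603010181c069f) (.node (nat_lit 0xf0603010180c16cf) (.leaf (nat_lit 0xf0603010180c06ff) (nat_lit 2306))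
 (.leaf (nat_lit 0xf0603010180c16cf) (nat_lit 2305))
) (.node (nat_lit 0xf0603010181c16af) (.leaf (nat_lit 0xf0603010181c069f) (nat_lit 2819))
 (.leaf (nat_lit 0xf0603010181c16af) (nat_lit 2819))
)) (.node (nat_lit 0xf0603010183c66ff) (.node (nat_lit 0xf0603010182c76af) (.leaf (nat_lit 0xf0603010182c669f) (nat_lit 3328))
 (.leaf (nat_lit 0xf0603010182c76af) (nat_lit 3330))
) (.node (nat_lit 0xf0603010183c76cf) (.leaf (nat_lit 0xf0603010183c66ff) (nat_lit 3331))
 (.leaf (nat_lit 0xf0603010183c76cf) (nat_lit 2307))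
)))) (.node (nat_lit 0xf0603010380ce63f) (.node (nat_lit 0xf0603010282c86af) (.node (nat_lit 0xf0603010281ce6af) (.node (nat_lit 0xf0603010280cf6ff) (.leaf (nat_lit 0xf0603010280ce6cf) (nat_lit 2307))
 (.leaf (nat_lit 0xf0603010280cf6ff) (nat_lit 2307))
) (.node (nat_lit 0xf0603010281cf69f) (.leaf (nat_lit 0xf0603010281ce6af) (nat_lit 2818))
 (.leaf (nat_lit 0xf0603010281cf69f) (nat_lit 2816))
)) (.node (nat_lit 0xf0603010283c86cf) (.node (nat_lit 0xf0603010282c969f) (.leaf (nat_lit 0xf0603010282c86af) (nat_lit 2819))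
 (.leaf (nat_lit 0xf0603010282c969f) (nat_lit 3329))
) (.node (nat_lit 0xf0603010283c96ff) (.leaf (nat_lit 0xf0603010283c86cf) (nat_lit 2306))
 (.leaf (nat_lit 0xf0603010283c96ff) (nat_lit 3329))
))) (.node (nat_lit 0xf0603010382c865f) (.node (nat_lit 0xf0603010381ce65f) (.node (nat_lit 0xf0603010380cf60f) (.leaf (nat_lit 0xf0603010380ce63f) (nat_lit 3329))
 (.leaf (nat_lit 0xf0603010380cf60f) (nat_lit 2306))
) (.node (nat_lit 0xf0603010381cf66f) (.leaf (nat_lit 0xf0603010381ce65f) (nat_lit 3330))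
 (.leaf (nat_lit 0xf0603010381cf66f) (nat_lit 2819))
)) (.node (nat_lit 0xf0603010383c863f) (.node (nat_lit 0xf0603010382c966f) (.leaf (nat_lit 0xf0603010382c865f) (nat_lit 2818))
 (.leaf (nat_lit 0xf0603010382c966f) (nat_lit 2817))
) (.node (nat_lit 0xf0603010383c960f) (.leaf (nat_lit 0xf0603010383c863f) (nat_lit 2307))
 (.leaf (nat_lit 0xf0603010383c960f) (nat_lit 2307))
))))) (.node (nat_lit 0xf060301068cc660f) (.node (nat_lit 0xf060301058cc863f) (.node (nat_lit 0xf060301048ece6af) (.node (nat_lit 0xf060301048dc86af) (.node (nat_lit 0xf060301048cc96ff) (.leaf (nat_lit 0xf060301048cc86cf) (nat_lit 2051))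
 (.leaf (nat_lit 0xf060301048cc96ff) (nat_lit 3587))
) (.node (nat_lit 0xf060301048dc969f) (.leaf (nat_lit 0xf060301048dc86af) (nat_lit 3074))
 (.leaf (nat_lit 0xf060301048dc969f) (nat_lit 3073))
)) (.node (nat_lit 0xf060301048fce6cf) (.node (nat_lit 0xf060301048ecf69f) (.leaf (nat_lit 0xf060301048ece6af) (nat_lit 2563))
 (.leaf (nat_lit 0xf060301048ecf69f) (nat_lit 3075))
) (.node (nat_lit 0xf060301048fcf6ff) (.leaf (nat_lit 0xf060301048fce6cf) (nat_lit 2562))
 (.leaf (nat_lit 0xf060301048fcf6ff) (nat_lit 2048))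
))) (.node (nat_lit 0xf060301058ece65f) (.node (nat_lit 0xf060301058dc865f) (.node (nat_lit 0xf060301058cc960f) (.leaf (nat_lit 0xf060301058cc863f) (nat_lit 2562))
 (.leaf (nat_lit 0xf060301058cc960f) (nat_lit 2049))
) (.node (nat_lit 0xf060301058dc966f) (.leaf (nat_lit 0xf060301058dc865f) (nat_lit 2563))
 (.leaf (nat_lit 0xf060301058dc966f) (nat_lit 3075))
)) (.node (nat_lit 0xf060301058fce63f) (.node (nat_lit 0xf060301058ecf66f) (.leaf (nat_lit 0xf060301058ece65f) (nat_lit 3073))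
 (.leaf (nat_lit 0xf060301058ecf66f) (nat_lit 3074))
) (.node (nat_lit 0xf060301058fcf60f) (.leaf (nat_lit 0xf060301058fce63f) (nat_lit 3587))
 (.leaf (nat_lit 0xf060301058fcf60f) (nat_lit 2051))
)))) (.node (nat_lit 0xf060301078cc66ff) (.node (nat_lit 0xf060301068ec066f) (.node (nat_lit 0xf060301068dc666f) (.node (nat_lit 0xf060301068cc763f) (.leaf (nat_lit 0xf060301068cc660f) (nat_lit 2051))
 (.leaf (nat_lit 0xf060301068cc763f) (nat_lit 2563))
) (.node (nat_lit 0xf060301068dc765f) (.leaf (nat_lit 0xf060301068dc666f) (nat_lit 3072))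
 (.leaf (nat_lit 0xf060301068dc765f) (nat_lit 3074))
)) (.node (nat_lit 0xf060301068fc060f) (.node (nat_lit 0xf060301068ec165f) (.leaf (nat_lit 0xf060301068ec066f) (nat_lit 2563))
 (.leaf (nat_lit 0xf060301068ec165f) (nat_lit 3585))
) (.node (nat_lit 0xf060301068fc163f) (.leaf (nat_lit 0xf060301068fc060f) (nat_lit 2050))
 (.leaf (nat_lit 0xf060301068fc163f) (nat_lit 3585))
))) (.node (nat_lit 0xf060301078ec069f) (.node (nat_lit 0xf060301078dc669f) (.node (nat_lit 0xf060301078cc76cf) (.leaf (nat_lit 0xf060301078cc66ff) (nat_lit 3586))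
 (.leaf (nat_lit 0xf060301078cc76cf) (nat_lit 2561))
) (.node (nat_lit 0xf060301078dc76af) (.leaf (nat_lit 0xf060301078dc669f) (nat_lit 3586))
 (.leaf (nat_lit 0xf060301078dc76af) (nat_lit 3075))
)) (.node (nat_lit 0xf060301078fc06ff) (.node (nat_lit 0xf060301078ec16af) (.leaf (nat_lit 0xf060301078ec069f) (nat_lit 3073))
 (.leaf (nat_lit 0xf060301078ec16af) (nat_lit 3074))
) (.node (nat_lit 0xf060301078fc16cf) (.leaf (nat_lit 0xf060301078fc06ff) (nat_lit 2051))
 (.leaf (nat_lit 0xf060301078fc16cf) (nat_lit 2563))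
))))))) (.node (nat_lit 0xf0703010080c0603) (.node (nat_lit 0xf070201048cc8685) (.node (nat_lit 0xf0702010280ce625) (.node (nat_lit 0xf0702010180c06f5) (.node (nat_lit 0xf0702010082c6625) (.node (nat_lit 0xf0702010081c0675) (.node (nat_lit 0xf0702010080c1625) (.leaf (nat_lit 0xf0702010080c0605) (nat_lit 1025))
 (.leaf (nat_lit 0xf0702010080c1625) (nat_lit 3074))
) (.node (nat_lit 0xf0702010081c1655) (.leaf (nat_lit 0xf0702010081c0675) (nat_lit 3587))
 (.leaf (nat_lit 0xf0702010081c1655) (nat_lit 3587))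
)) (.node (nat_lit 0xf0702010083c6655) (.node (nat_lit 0xf0702010082c7605) (.leaf (nat_lit 0xf0702010082c6625) (nat_lit 3075))
 (.leaf (nat_lit 0xf0702010082c7605) (nat_lit 2563))
) (.node (nat_lit 0xf0702010083c7675) (.leaf (nat_lit 0xf0702010083c6655) (nat_lit 3075))
 (.leaf (nat_lit 0xf0702010083c7675) (nat_lit 2048))
))) (.node (nat_lit 0xf0702010182c66d5) (.node (nat_lit 0xf0702010181c0685) (.node (nat_lit 0xf0702010180c16d5) (.leaf (nat_lit 0xf0702010180c06f5) (nat_lit 2563))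
 (.leaf (nat_lit 0xf0702010180c16d5) (nat_lit 3075))
) (.node (nat_lit 0xf0702010181c16a5) (.leaf (nat_lit 0xf0702010181c0685) (nat_lit 2049))
 (.leaf (nat_lit 0xf0702010181c16a5) (nat_lit 3075))
)) (.node (nat_lit 0xf0702010183c66a5) (.node (nat_lit 0xf0702010182c76f5) (.leaf (nat_lit 0xf0702010182c66d5) (nat_lit 3073))
 (.leaf (nat_lit 0xf0702010182c76f5) (nat_lit 3072))
) (.node (nat_lit 0xf0702010183c7685) (.leaf (nat_lit 0xf0702010183c66a5) (nat_lit 2562))
 (.leaf (nat_lit 0xf0702010183c7685) (nat_lit 2051))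
)))) (.node (nat_lit 0xf0702010380ce6d5) (.node (nat_lit 0xf0702010282c8605) (.node (nat_lit 0xf0702010281ce655) (.node (nat_lit 0xf0702010280cf605) (.leaf (nat_lit 0xf0702010280ce625) (nat_lit 2563))
 (.leaf (nat_lit 0xf0702010280cf605) (nat_lit 2051))
) (.node (nat_lit 0xf0702010281cf675) (.leaf (nat_lit 0xf0702010281ce655) (nat_lit 3073))
 (.leaf (nat_lit 0xf0702010281cf675) (nat_lit 2560))
)) (.node (nat_lit 0xf0702010283c8675) (.node (nat_lit 0xf0702010282c9625) (.leaf (nat_lit 0xf0702010282c8605) (nat_lit 2049))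
 (.leaf (nat_lit 0xf0702010282c9625) (nat_lit 3584))
) (.node (nat_lit 0xf0702010283c9655) (.leaf (nat_lit 0xf0702010283c8675) (nat_lit 3075))
 (.leaf (nat_lit 0xf0702010283c9655) (nat_lit 3074))
))) (.node (nat_lit 0xf0702010382c86f5) (.node (nat_lit 0xf0702010381ce6a5) (.node (nat_lit 0xf0702010380cf6f5) (.leaf (nat_lit 0xf0702010380ce6d5) (nat_lit 3073))
 (.leaf (nat_lit 0xf0702010380cf6f5) (nat_lit 2048))
) (.node (nat_lit 0xf0702010381cf685) (.leaf (nat_lit 0xf0702010381ce6a5) (nat_lit 3074))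
 (.leaf (nat_lit 0xf0702010381cf685) (nat_lit 2563))
)) (.node (nat_lit 0xf0702010383c8685) (.node (nat_lit 0xf0702010382c96d5) (.leaf (nat_lit 0xf0702010382c86f5) (nat_lit 3587))
 (.leaf (nat_lit 0xf0702010382c96d5) (nat_lit 3587))
) (.node (nat_lit 0xf0702010383c96a5) (.leaf (nat_lit 0xf0702010383c8685) (nat_lit 1538))
 (.leaf (nat_lit 0xf0702010383c96a5) (nat_lit 2563))
))))) (.node (nat_lit 0xf070201068cc66a5) (.node (nat_lit 0xf070201058cc8675) (.node (nat_lit 0xf070201048ece6a5) (.node (nat_lit 0xf070201048dc86f5) (.node (nat_lit 0xf070201048cc96a5) (.leaf (nat_lit 0xf070201048cc8685) (nat_lit 1281))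
 (.leaf (nat_lit 0xf070201048cc96a5) (nat_lit 2818))
) (.node (nat_lit 0xf070201048dc96d5) (.leaf (nat_lit 0xf070201048dc86f5) (nat_lit 3843))
 (.leaf (nat_lit 0xf070201048dc96d5) (nat_lit 3843))
)) (.node (nat_lit 0xf070201048fce6d5) (.node (nat_lit 0xf070201048ecf685) (.leaf (nat_lit 0xf070201048ece6a5) (nat_lit 2819))
 (.leaf (nat_lit 0xf070201048ecf685) (nat_lit 2819))
) (.node (nat_lit 0xf070201048fcf6f5) (.leaf (nat_lit 0xf070201048fce6d5) (nat_lit 3331))
 (.leaf (nat_lit 0xf070201048fcf6f5) (nat_lit 1792))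
))) (.node (nat_lit 0xf070201058ece655) (.node (nat_lit 0xf070201058dc8605) (.node (nat_lit 0xf070201058cc9655) (.leaf (nat_lit 0xf070201058cc8675) (nat_lit 2819))
 (.leaf (nat_lit 0xf070201058cc9655) (nat_lit 2819))
) (.node (nat_lit 0xf070201058dc9625) (.leaf (nat_lit 0xf070201058dc8605) (nat_lit 1793))
 (.leaf (nat_lit 0xf070201058dc9625) (nat_lit 3331))
)) (.node (nat_lit 0xf070201058fce625) (.node (nat_lit 0xf070201058ecf675) (.leaf (nat_lit 0xf070201058ece655) (nat_lit 2817))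
 (.leaf (nat_lit 0xf070201058ecf675) (nat_lit 2816))
) (.node (nat_lit 0xf070201058fcf605) (.leaf (nat_lit 0xf070201058fce625) (nat_lit 2818))
 (.leaf (nat_lit 0xf070201058fcf605) (nat_lit 1795))
)))) (.node (nat_lit 0xf070201078cc6655) (.node (nat_lit 0xf070201068ec0685) (.node (nat_lit 0xf070201068dc66d5) (.node (nat_lit 0xf070201068cc7685) (.leaf (nat_lit 0xf070201068cc66a5) (nat_lit 2307))
 (.leaf (nat_lit 0xf070201068cc7685) (nat_lit 2307))
) (.node (nat_lit 0xf070201068dc76f5) (.leaf (nat_lit 0xf070201068dc66d5) (nat_lit 2817))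
 (.leaf (nat_lit 0xf070201068dc76f5) (nat_lit 2816))
)) (.node (nat_lit 0xf070201068fc06f5) (.node (nat_lit 0xf070201068ec16a5) (.leaf (nat_lit 0xf070201068ec0685) (nat_lit 1793))
 (.leaf (nat_lit 0xf070201068ec16a5) (nat_lit 3330))
) (.node (nat_lit 0xf070201068fc16d5) (.leaf (nat_lit 0xf070201068fc06f5) (nat_lit 2819))
 (.leaf (nat_lit 0xf070201068fc16d5) (nat_lit 3330))
))) (.node (nat_lit 0xf070201078ec0675) (.node (nat_lit 0xf070201078dc6625) (.node (nat_lit 0xf070201078cc7675) (.leaf (nat_lit 0xf070201078cc6655) (nat_lit 3330))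
 (.leaf (nat_lit 0xf070201078cc7675) (nat_lit 2304))
) (.node (nat_lit 0xf070201078dc7605) (.leaf (nat_lit 0xf070201078dc6625) (nat_lit 3330))
 (.leaf (nat_lit 0xf070201078dc7605) (nat_lit 2819))
)) (.node (nat_lit 0xf070201078fc0605) (.node (nat_lit 0xf070201078ec1655) (.leaf (nat_lit 0xf070201078ec0675) (nat_lit 3331))
 (.leaf (nat_lit 0xf070201078ec1655) (nat_lit 3843))
) (.node (nat_lit 0xf070201078fc1625) (.leaf (nat_lit 0xf070201078fc0605) (nat_lit 1282))
 (.leaf (nat_lit 0xf070201078fc1625) (nat_lit 2819))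
)))))) (.node (nat_lit 0xf070301048cc8603) (.node (nat_lit 0xf0703010280ce6c3) (.node (nat_lit 0xf0703010180c06f3) (.node (nat_lit 0xf0703010082c6643) (.node (nat_lit 0xf0703010081c0673) (.node (nat_lit 0xf0703010080c1633) (.leaf (nat_lit 0xf0703010080c0603) (nat_lit 769))
 (.leaf (nat_lit 0xf0703010080c1633) (nat_lit 3330))
) (.node (nat_lit 0xf0703010081c1643) (.leaf (nat_lit 0xf0703010081c0673) (nat_lit 3331))
 (.leaf (nat_lit 0xf0703010081c1643) (nat_lit 3331))
)) (.node (nat_lit 0xf0703010083c6633) (.node (nat_lit 0xf0703010082c7673) (.leaf (nat_lit 0xf0703010082c6643) (nat_lit 2817))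
 (.leaf (nat_lit 0xf0703010082c7673) (nat_lit 2816))
) (.node (nat_lit 0xf0703010083c7603) (.leaf (nat_lit 0xf0703010083c6633) (nat_lit 3331))
 (.leaf (nat_lit 0xf0703010083c7603) (nat_lit 1795))
))) (.node (nat_lit 0xf0703010182c66b3) (.node (nat_lit 0xf0703010181c0683) (.node (nat_lit 0xf0703010180c16c3) (.leaf (nat_lit 0xf0703010180c06f3) (nat_lit 2819))
 (.leaf (nat_lit 0xf0703010180c16c3) (nat_lit 2819))
) (.node (nat_lit 0xf0703010181c16b3) (.leaf (nat_lit 0xf0703010181c0683) (nat_lit 1794))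
 (.leaf (nat_lit 0xf0703010181c16b3) (nat_lit 3331))
)) (.node (nat_lit 0xf0703010183c66c3) (.node (nat_lit 0xf0703010182c7683) (.leaf (nat_lit 0xf0703010182c66b3) (nat_lit 3331))
 (.leaf (nat_lit 0xf0703010182c7683) (nat_lit 2819))
) (.node (nat_lit 0xf0703010183c76f3) (.leaf (nat_lit 0xf0703010183c66c3) (nat_lit 2306))
 (.leaf (nat_lit 0xf0703010183c76f3) (nat_lit 2304))
)))) (.node (nat_lit 0xf0703010380ce633) (.node (nat_lit 0xf0703010282c8683) (.node (nat_lit 0xf0703010281ce6b3) (.node (nat_lit 0xf0703010280cf6f3) (.leaf (nat_lit 0xf0703010280ce6c3) (nat_lit 2305))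
 (.leaf (nat_lit 0xf0703010280cf6f3) (nat_lit 2304))
) (.node (nat_lit 0xf0703010281cf683) (.leaf (nat_lit 0xf0703010281ce6b3) (nat_lit 3331))
 (.leaf (nat_lit 0xf0703010281cf683) (nat_lit 2307))
)) (.node (nat_lit 0xf0703010283c86f3) (.node (nat_lit 0xf0703010282c96b3) (.leaf (nat_lit 0xf0703010282c8683) (nat_lit 1793))
 (.leaf (nat_lit 0xf0703010282c96b3) (nat_lit 3331))
) (.node (nat_lit 0xf0703010283c96c3) (.leaf (nat_lit 0xf0703010283c86f3) (nat_lit 2819))
 (.leaf (nat_lit 0xf0703010283c96c3) (nat_lit 2819))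
))) (.node (nat_lit 0xf0703010382c8673) (.node (nat_lit 0xf0703010381ce643) (.node (nat_lit 0xf0703010380cf603) (.leaf (nat_lit 0xf0703010380ce633) (nat_lit 3331))
 (.leaf (nat_lit 0xf0703010380cf603) (nat_lit 1795))
) (.node (nat_lit 0xf0703010381cf673) (.leaf (nat_lit 0xf0703010381ce643) (nat_lit 2818))
 (.leaf (nat_lit 0xf0703010381cf673) (nat_lit 2816))
)) (.node (nat_lit 0xf0703010383c8603) (.node (nat_lit 0xf0703010382c9643) (.leaf (nat_lit 0xf0703010382c8673) (nat_lit 3843))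
 (.leaf (nat_lit 0xf0703010382c9643) (nat_lit 3843))
) (.node (nat_lit 0xf0703010383c9633) (.leaf (nat_lit 0xf0703010383c8603) (nat_lit 1282))
 (.leaf (nat_lit 0xf0703010383c9633) (nat_lit 2816))
))))) (.node (nat_lit 0xf070301068cc66c3) (.node (nat_lit 0xf070301058cc86f3) (.node (nat_lit 0xf070301048ece643) (.node (nat_lit 0xf070301048dc8673) (.node (nat_lit 0xf070301048cc9633) (.leaf (nat_lit 0xf070301048cc8603) (nat_lit 1025))
 (.leaf (nat_lit 0xf070301048cc9633) (nat_lit 3074))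
) (.node (nat_lit 0xf070301048dc9643) (.leaf (nat_lit 0xf070301048dc8673) (nat_lit 3587))
 (.leaf (nat_lit 0xf070301048dc9643) (nat_lit 3587))
)) (.node (nat_lit 0xf070301048fce633) (.node (nat_lit 0xf070301048ecf673) (.leaf (nat_lit 0xf070301048ece643) (nat_lit 2561))
 (.leaf (nat_lit 0xf070301048ecf673) (nat_lit 3072))
) (.node (nat_lit 0xf070301048fcf603) (.leaf (nat_lit 0xf070301048fce633) (nat_lit 3587))
 (.leaf (nat_lit 0xf070301048fcf603) (nat_lit 1539))
))) (.node (nat_lit 0xf070301058ece6b3) (.node (nat_lit 0xf070301058dc8683) (.node (nat_lit 0xf070301058cc96c3) (.leaf (nat_lit 0xf070301058cc86f3) (nat_lit 3075))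
 (.leaf (nat_lit 0xf070301058cc96c3) (nat_lit 3075))
) (.node (nat_lit 0xf070301058dc96b3) (.leaf (nat_lit 0xf070301058dc8683) (nat_lit 2049))
 (.leaf (nat_lit 0xf070301058dc96b3) (nat_lit 3587))
)) (.node (nat_lit 0xf070301058fce6c3) (.node (nat_lit 0xf070301058ecf683) (.leaf (nat_lit 0xf070301058ece6b3) (nat_lit 3075))
 (.leaf (nat_lit 0xf070301058ecf683) (nat_lit 2563))
) (.node (nat_lit 0xf070301058fcf6f3) (.leaf (nat_lit 0xf070301058fce6c3) (nat_lit 2562))
 (.leaf (nat_lit 0xf070301058fcf6f3) (nat_lit 2048))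
)))) (.node (nat_lit 0xf070301078cc6633) (.node (nat_lit 0xf070301068ec0683) (.node (nat_lit 0xf070301068dc66b3) (.node (nat_lit 0xf070301068cc76f3) (.leaf (nat_lit 0xf070301068cc66c3) (nat_lit 2049))
 (.leaf (nat_lit 0xf070301068cc76f3) (nat_lit 2560))
) (.node (nat_lit 0xf070301068dc7683) (.leaf (nat_lit 0xf070301068dc66b3) (nat_lit 3075))
 (.leaf (nat_lit 0xf070301068dc7683) (nat_lit 2563))
)) (.node (nat_lit 0xf070301068fc06f3) (.node (nat_lit 0xf070301068ec16b3) (.leaf (nat_lit 0xf070301068ec0683) (nat_lit 1537))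
 (.leaf (nat_lit 0xf070301068ec16b3) (nat_lit 3587))
) (.node (nat_lit 0xf070301068fc16c3) (.leaf (nat_lit 0xf070301068fc06f3) (nat_lit 2563))
 (.leaf (nat_lit 0xf070301068fc16c3) (nat_lit 3075))
))) (.node (nat_lit 0xf070301078ec0673) (.node (nat_lit 0xf070301078dc6643) (.node (nat_lit 0xf070301078cc7603) (.leaf (nat_lit 0xf070301078cc6633) (nat_lit 3587))
 (.leaf (nat_lit 0xf070301078cc7603) (nat_lit 2051))
) (.node (nat_lit 0xf070301078dc7673) (.leaf (nat_lit 0xf070301078dc6643) (nat_lit 3074))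
 (.leaf (nat_lit 0xf070301078dc7673) (nat_lit 3072))
)) (.node (nat_lit 0xf070301078fc0603) (.node (nat_lit 0xf070301078ec1643) (.leaf (nat_lit 0xf070301078ec0673) (nat_lit 3587))
 (.leaf (nat_lit 0xf070301078ec1643) (nat_lit 3587))
) (.node (nat_lit 0xf070301078fc1633) (.leaf (nat_lit 0xf070301078fc0603) (nat_lit 1026))
 (.leaf (nat_lit 0xf070301078fc1633) (nat_lit 3072))
))))))))))))

theorem U_ok : genOK B8.A [(nat_lit 0x8040301008040203), (nat_lit 0xc0402010080c0201), (nat_lit 0x8040201048840201), (nat_lit 0x8060201008040601)] U_t (nat_lit 4096) = true := by decide +kernel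

noncomputable def V0_t : ST :=
(.node (nat_lit 0xc0402010080c0201) (.node (nat_lit 0xa040201008040a01) (.node (nat_lit 0x9040201008040209) (.node (nat_lit 0x8050201008040205) (.node (nat_lit 0x8040301008040203) (.node (nat_lit 0x8040201048840201) (.node (nat_lit 0x8040201028048201) (.node (nat_lit 0x8040201018040281) (.node (nat_lit 0x8040201008244201) (.node (nat_lit 0x8040201008140241) (.node (nat_lit 0x8040201008041221) (.leaf (nat_lit 0x8040201008040201) (nat_lit 0))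
 (.leaf (nat_lit 0x8040201008041221) (nat_lit 2053))
) (.node (nat_lit 0x8040201008141261) (.leaf (nat_lit 0x8040201008140241) (nat_lit 2052))
 (.leaf (nat_lit 0x8040201008141261) (nat_lit 3077))
)) (.node (nat_lit 0x8040201008344241) (.node (nat_lit 0x8040201008245221) (.leaf (nat_lit 0x8040201008244201) (nat_lit 1029))
 (.leaf (nat_lit 0x8040201008245221) (nat_lit 1541))
) (.node (nat_lit 0x8040201008345261) (.leaf (nat_lit 0x8040201008344241) (nat_lit 1536))
 (.leaf (nat_lit 0x8040201008345261) (nat_lit 2048))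
))) (.node (nat_lit 0x8040201018244281) (.node (nat_lit 0x80402010181402c1) (.node (nat_lit 0x80402010180412a1) (.leaf (nat_lit 0x8040201018040281) (nat_lit 1029))
 (.leaf (nat_lit 0x80402010180412a1) (nat_lit 1540))
) (.node (nat_lit 0x80402010181412e1) (.leaf (nat_lit 0x80402010181402c1) (nat_lit 1537))
 (.leaf (nat_lit 0x80402010181412e1) (nat_lit 2052))
)) (.node (nat_lit 0x80402010183442c1) (.node (nat_lit 0x80402010182452a1) (.leaf (nat_lit 0x8040201018244281) (nat_lit 1537))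
 (.leaf (nat_lit 0x80402010182452a1) (nat_lit 1540))
) (.node (nat_lit 0x80402010183452e1) (.leaf (nat_lit 0x80402010183442c1) (nat_lit 1541))
 (.leaf (nat_lit 0x80402010183452e1) (nat_lit 2048))
)))) (.node (nat_lit 0x8040201038048281) (.node (nat_lit 0x804020102824c201) (.node (nat_lit 0x8040201028148241) (.node (nat_lit 0x8040201028049221) (.leaf (nat_lit 0x8040201028048201) (nat_lit 261))
 (.leaf (nat_lit 0x8040201028049221) (nat_lit 1792))
) (.node (nat_lit 0x8040201028149261) (.leaf (nat_lit 0x8040201028148241) (nat_lit 1793))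
 (.leaf (nat_lit 0x8040201028149261) (nat_lit 2820))
)) (.node (nat_lit 0x804020102834c241) (.node (nat_lit 0x804020102824d221) (.leaf (nat_lit 0x804020102824c201) (nat_lit 769))
 (.leaf (nat_lit 0x804020102824d221) (nat_lit 1283))
) (.node (nat_lit 0x804020102834d261) (.leaf (nat_lit 0x804020102834c241) (nat_lit 1797))
 (.leaf (nat_lit 0x804020102834d261) (nat_lit 2307))
))) (.node (nat_lit 0x804020103824c281) (.node (nat_lit 0x80402010381482c1) (.node (nat_lit 0x80402010380492a1) (.leaf (nat_lit 0x8040201038048281) (nat_lit 768))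
 (.leaf (nat_lit 0x80402010380492a1) (nat_lit 1284))
) (.node (nat_lit 0x80402010381492e1) (.leaf (nat_lit 0x80402010381482c1) (nat_lit 1797))
 (.leaf (nat_lit 0x80402010381492e1) (nat_lit 2305))
)) (.node (nat_lit 0x804020103834c2c1) (.node (nat_lit 0x804020103824d2a1) (.leaf (nat_lit 0x804020103824c281) (nat_lit 1796))
 (.leaf (nat_lit 0x804020103824d2a1) (nat_lit 1795))
) (.node (nat_lit 0x804020103834d2e1) (.leaf (nat_lit 0x804020103834c2c1) (nat_lit 1281))
 (.leaf (nat_lit 0x804020103834d2e1) (nat_lit 1795))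
))))) (.node (nat_lit 0x8040201068848201) (.node (nat_lit 0x8040201058840281) (.node (nat_lit 0x8040201048a44201) (.node (nat_lit 0x8040201048940241) (.node (nat_lit 0x8040201048841221) (.leaf (nat_lit 0x8040201048840201) (nat_lit 258))
 (.leaf (nat_lit 0x8040201048841221) (nat_lit 1796))
) (.node (nat_lit 0x8040201048941261) (.leaf (nat_lit 0x8040201048940241) (nat_lit 1795))
 (.leaf (nat_lit 0x8040201048941261) (nat_lit 2821))
)) (.node (nat_lit 0x8040201048b44241) (.node (nat_lit 0x8040201048a45221) (.leaf (nat_lit 0x8040201048a44201) (nat_lit 772))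
 (.leaf (nat_lit 0x8040201048a45221) (nat_lit 1797))
) (.node (nat_lit 0x8040201048b45261) (.leaf (nat_lit 0x8040201048b44241) (nat_lit 1280))
 (.leaf (nat_lit 0x8040201048b45261) (nat_lit 2304))
))) (.node (nat_lit 0x8040201058a44281) (.node (nat_lit 0x80402010589402c1) (.node (nat_lit 0x80402010588412a1) (.leaf (nat_lit 0x8040201058840281) (nat_lit 771))
 (.leaf (nat_lit 0x80402010588412a1) (nat_lit 1796))
) (.node (nat_lit 0x80402010589412e1) (.leaf (nat_lit 0x80402010589402c1) (nat_lit 1281))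
 (.leaf (nat_lit 0x80402010589412e1) (nat_lit 2308))
)) (.node (nat_lit 0x8040201058b442c1) (.node (nat_lit 0x8040201058a452a1) (.leaf (nat_lit 0x8040201058a44281) (nat_lit 1793))
 (.leaf (nat_lit 0x8040201058a452a1) (nat_lit 1284))
) (.node (nat_lit 0x8040201058b452e1) (.leaf (nat_lit 0x8040201058b442c1) (nat_lit 1797))
 (.leaf (nat_lit 0x8040201058b452e1) (nat_lit 1792))
)))) (.node (nat_lit 0x8040201078848281) (.node (nat_lit 0x8040201068a4c201) (.node (nat_lit 0x8040201068948241) (.node (nat_lit 0x8040201068849221) (.leaf (nat_lit 0x8040201068848201) (nat_lit 517))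
 (.leaf (nat_lit 0x8040201068849221) (nat_lit 2048))
) (.node (nat_lit 0x8040201068949261) (.leaf (nat_lit 0x8040201068948241) (nat_lit 2048))
 (.leaf (nat_lit 0x8040201068949261) (nat_lit 2564))
)) (.node (nat_lit 0x8040201068b4c241) (.node (nat_lit 0x8040201068a4d221) (.leaf (nat_lit 0x8040201068a4c201) (nat_lit 1025))
 (.leaf (nat_lit 0x8040201068a4d221) (nat_lit 1539))
) (.node (nat_lit 0x8040201068b4d261) (.leaf (nat_lit 0x8040201068b4c241) (nat_lit 1541))
 (.leaf (nat_lit 0x8040201068b4d261) (nat_lit 2051))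
))) (.node (nat_lit 0x8040201078a4c281) (.node (nat_lit 0x80402010789482c1) (.node (nat_lit 0x80402010788492a1) (.leaf (nat_lit 0x8040201078848281) (nat_lit 1024))
 (.leaf (nat_lit 0x80402010788492a1) (nat_lit 1540))
) (.node (nat_lit 0x80402010789492e1) (.leaf (nat_lit 0x80402010789482c1) (nat_lit 1541))
 (.leaf (nat_lit 0x80402010789492e1) (nat_lit 2049))
)) (.node (nat_lit 0x8040201078b4c2c1) (.node (nat_lit 0x8040201078a4d2a1) (.leaf (nat_lit 0x8040201078a4c281) (nat_lit 1540))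
 (.leaf (nat_lit 0x8040201078a4d2a1) (nat_lit 1539))
) (.node (nat_lit 0x8040201078b4d2e1) (.leaf (nat_lit 0x8040201078b4c2c1) (nat_lit 1537))
 (.leaf (nat_lit 0x8040201078b4d2e1) (nat_lit 2051))
)))))) (.node (nat_lit 0x8040301048840203) (.node (nat_lit 0x8040301028048283) (.node (nat_lit 0x8040301018040283) (.node (nat_lit 0x8040301008244243) (.node (nat_lit 0x8040301008140243) (.node (nat_lit 0x8040301008041233) (.leaf (nat_lit 0x8040301008040203) (nat_lit 256))
 (.leaf (nat_lit 0x8040301008041233) (nat_lit 1797))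
) (.node (nat_lit 0x8040301008141273) (.leaf (nat_lit 0x8040301008140243) (nat_lit 1796))
 (.leaf (nat_lit 0x8040301008141273) (nat_lit 2821))
)) (.node (nat_lit 0x8040301008344203) (.node (nat_lit 0x8040301008245273) (.leaf (nat_lit 0x8040301008244243) (nat_lit 1280))
 (.leaf (nat_lit 0x8040301008245273) (nat_lit 1792))
) (.node (nat_lit 0x8040301008345233) (.leaf (nat_lit 0x8040301008344203) (nat_lit 1285))
 (.leaf (nat_lit 0x8040301008345233) (nat_lit 1797))
))) (.node (nat_lit 0x80403010182442c3) (.node (nat_lit 0x80403010181402c3) (.node (nat_lit 0x80403010180412b3) (.leaf (nat_lit 0x8040301018040283) (nat_lit 773))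
 (.leaf (nat_lit 0x80403010180412b3) (nat_lit 1796))
) (.node (nat_lit 0x80403010181412f3) (.leaf (nat_lit 0x80403010181402c3) (nat_lit 1281))
 (.leaf (nat_lit 0x80403010181412f3) (nat_lit 2308))
)) (.node (nat_lit 0x8040301018344283) (.node (nat_lit 0x80403010182452f3) (.leaf (nat_lit 0x80403010182442c3) (nat_lit 1285))
 (.leaf (nat_lit 0x80403010182452f3) (nat_lit 1792))
) (.node (nat_lit 0x80403010183452b3) (.leaf (nat_lit 0x8040301018344283) (nat_lit 1281))
 (.leaf (nat_lit 0x80403010183452b3) (nat_lit 1796))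
)))) (.node (nat_lit 0x8040301038048203) (.node (nat_lit 0x804030102824c2c3) (.node (nat_lit 0x80403010281482c3) (.node (nat_lit 0x80403010280492b3) (.leaf (nat_lit 0x8040301028048283) (nat_lit 512))
 (.leaf (nat_lit 0x80403010280492b3) (nat_lit 1540))
) (.node (nat_lit 0x80403010281492f3) (.leaf (nat_lit 0x80403010281482c3) (nat_lit 1541))
 (.leaf (nat_lit 0x80403010281492f3) (nat_lit 2561))
)) (.node (nat_lit 0x804030102834c283) (.node (nat_lit 0x804030102824d2f3) (.leaf (nat_lit 0x804030102824c2c3) (nat_lit 1025))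
 (.leaf (nat_lit 0x804030102824d2f3) (nat_lit 1539))
) (.node (nat_lit 0x804030102834d2b3) (.leaf (nat_lit 0x804030102834c283) (nat_lit 1540))
 (.leaf (nat_lit 0x804030102834d2b3) (nat_lit 2051))
))) (.node (nat_lit 0x804030103824c243) (.node (nat_lit 0x8040301038148243) (.node (nat_lit 0x8040301038049233) (.leaf (nat_lit 0x8040301038048203) (nat_lit 517))
 (.leaf (nat_lit 0x8040301038049233) (nat_lit 1536))
) (.node (nat_lit 0x8040301038149273) (.leaf (nat_lit 0x8040301038148243) (nat_lit 1537))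
 (.leaf (nat_lit 0x8040301038149273) (nat_lit 2564))
)) (.node (nat_lit 0x804030103834c203) (.node (nat_lit 0x804030103824d273) (.leaf (nat_lit 0x804030103824c243) (nat_lit 1541))
 (.leaf (nat_lit 0x804030103824d273) (nat_lit 2051))
) (.node (nat_lit 0x804030103834d233) (.leaf (nat_lit 0x804030103834c203) (nat_lit 1025))
 (.leaf (nat_lit 0x804030103834d233) (nat_lit 1539))
))))) (.node (nat_lit 0x8040301068848283) (.node (nat_lit 0x8040301058840283) (.node (nat_lit 0x8040301048a44243) (.node (nat_lit 0x8040301048940243) (.node (nat_lit 0x8040301048841233) (.leaf (nat_lit 0x8040301048840203) (nat_lit 514))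
 (.leaf (nat_lit 0x8040301048841233) (nat_lit 2052))
) (.node (nat_lit 0x8040301048941273) (.leaf (nat_lit 0x8040301048940243) (nat_lit 2051))
 (.leaf (nat_lit 0x8040301048941273) (nat_lit 2565))
)) (.node (nat_lit 0x8040301048b44203) (.node (nat_lit 0x8040301048a45273) (.leaf (nat_lit 0x8040301048a44243) (nat_lit 1024))
 (.leaf (nat_lit 0x8040301048a45273) (nat_lit 2048))
) (.node (nat_lit 0x8040301048b45233) (.leaf (nat_lit 0x8040301048b44203) (nat_lit 1028))
 (.leaf (nat_lit 0x8040301048b45233) (nat_lit 2053))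
))) (.node (nat_lit 0x8040301058a442c3) (.node (nat_lit 0x80403010589402c3) (.node (nat_lit 0x80403010588412b3) (.leaf (nat_lit 0x8040301058840283) (nat_lit 1027))
 (.leaf (nat_lit 0x80403010588412b3) (nat_lit 2052))
) (.node (nat_lit 0x80403010589412f3) (.leaf (nat_lit 0x80403010589402c3) (nat_lit 1537))
 (.leaf (nat_lit 0x80403010589412f3) (nat_lit 2564))
)) (.node (nat_lit 0x8040301058b44283) (.node (nat_lit 0x8040301058a452f3) (.leaf (nat_lit 0x8040301058a442c3) (nat_lit 1541))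
 (.leaf (nat_lit 0x8040301058a452f3) (nat_lit 1536))
) (.node (nat_lit 0x8040301058b452b3) (.leaf (nat_lit 0x8040301058b44283) (nat_lit 1537))
 (.leaf (nat_lit 0x8040301058b452b3) (nat_lit 1540))
)))) (.node (nat_lit 0x8040301078848203) (.node (nat_lit 0x8040301068a4c2c3) (.node (nat_lit 0x80403010689482c3) (.node (nat_lit 0x80403010688492b3) (.leaf (nat_lit 0x8040301068848283) (nat_lit 768))
 (.leaf (nat_lit 0x80403010688492b3) (nat_lit 1796))
) (.node (nat_lit 0x80403010689492f3) (.leaf (nat_lit 0x80403010689482c3) (nat_lit 1797))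
 (.leaf (nat_lit 0x80403010689492f3) (nat_lit 2305))
)) (.node (nat_lit 0x8040301068b4c283) (.node (nat_lit 0x8040301068a4d2f3) (.leaf (nat_lit 0x8040301068a4c2c3) (nat_lit 1281))
 (.leaf (nat_lit 0x8040301068a4d2f3) (nat_lit 1795))
) (.node (nat_lit 0x8040301068b4d2b3) (.leaf (nat_lit 0x8040301068b4c283) (nat_lit 1284))
 (.leaf (nat_lit 0x8040301068b4d2b3) (nat_lit 1795))
))) (.node (nat_lit 0x8040301078a4c243) (.node (nat_lit 0x8040301078948243) (.node (nat_lit 0x8040301078849233) (.leaf (nat_lit 0x8040301078848203) (nat_lit 773))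
 (.leaf (nat_lit 0x8040301078849233) (nat_lit 1792))
) (.node (nat_lit 0x8040301078949273) (.leaf (nat_lit 0x8040301078948243) (nat_lit 1792))
 (.leaf (nat_lit 0x8040301078949273) (nat_lit 2308))
)) (.node (nat_lit 0x8040301078b4c203) (.node (nat_lit 0x8040301078a4d273) (.leaf (nat_lit 0x8040301078a4c243) (nat_lit 1285))
 (.leaf (nat_lit 0x8040301078a4d273) (nat_lit 1795))
) (.node (nat_lit 0x8040301078b4d233) (.leaf (nat_lit 0x8040301078b4c203) (nat_lit 1281))
 (.leaf (nat_lit 0x8040301078b4d233) (nat_lit 1795))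
))))))) (.node (nat_lit 0x8050301008040207) (.node (nat_lit 0x8050201048840285) (.node (nat_lit 0x8050201028048205) (.node (nat_lit 0x8050201018040285) (.node (nat_lit 0x8050201008244225) (.node (nat_lit 0x8050201008140255) (.node (nat_lit 0x8050201008041225) (.leaf (nat_lit 0x8050201008040205) (nat_lit 259))
 (.leaf (nat_lit 0x8050201008041225) (nat_lit 1793))
) (.node (nat_lit 0x8050201008141275) (.leaf (nat_lit 0x8050201008140255) (nat_lit 1794))
 (.leaf (nat_lit 0x8050201008141275) (nat_lit 2821))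
)) (.node (nat_lit 0x8050201008344275) (.node (nat_lit 0x8050201008245205) (.leaf (nat_lit 0x8050201008244225) (nat_lit 1285))
 (.leaf (nat_lit 0x8050201008245205) (nat_lit 1285))
) (.node (nat_lit 0x8050201008345255) (.leaf (nat_lit 0x8050201008344275) (nat_lit 1792))
 (.leaf (nat_lit 0x8050201008345255) (nat_lit 1792))
))) (.node (nat_lit 0x80502010182442a5) (.node (nat_lit 0x80502010181402d5) (.node (nat_lit 0x80502010180412a5) (.leaf (nat_lit 0x8050201018040285) (nat_lit 770))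
 (.leaf (nat_lit 0x80502010180412a5) (nat_lit 1284))
) (.node (nat_lit 0x80502010181412f5) (.leaf (nat_lit 0x80502010181402d5) (nat_lit 1795))
 (.leaf (nat_lit 0x80502010181412f5) (nat_lit 2305))
)) (.node (nat_lit 0x80502010183442f5) (.node (nat_lit 0x8050201018245285) (.leaf (nat_lit 0x80502010182442a5) (nat_lit 1282))
 (.leaf (nat_lit 0x8050201018245285) (nat_lit 1284))
) (.node (nat_lit 0x80502010183452d5) (.leaf (nat_lit 0x80502010183442f5) (nat_lit 1797))
 (.leaf (nat_lit 0x80502010183452d5) (nat_lit 1792))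
)))) (.node (nat_lit 0x8050201038048285) (.node (nat_lit 0x805020102824c225) (.node (nat_lit 0x8050201028148255) (.node (nat_lit 0x8050201028049225) (.leaf (nat_lit 0x8050201028048205) (nat_lit 517))
 (.leaf (nat_lit 0x8050201028049225) (nat_lit 2048))
) (.node (nat_lit 0x8050201028149275) (.leaf (nat_lit 0x8050201028148255) (nat_lit 2049))
 (.leaf (nat_lit 0x8050201028149275) (nat_lit 2564))
)) (.node (nat_lit 0x805020102834c275) (.node (nat_lit 0x805020102824d205) (.leaf (nat_lit 0x805020102824c225) (nat_lit 1027))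
 (.leaf (nat_lit 0x805020102824d205) (nat_lit 1025))
) (.node (nat_lit 0x805020102834d255) (.leaf (nat_lit 0x805020102834c275) (nat_lit 2050))
 (.leaf (nat_lit 0x805020102834d255) (nat_lit 2049))
))) (.node (nat_lit 0x805020103824c2a5) (.node (nat_lit 0x80502010381482d5) (.node (nat_lit 0x80502010380492a5) (.leaf (nat_lit 0x8050201038048285) (nat_lit 1024))
 (.leaf (nat_lit 0x80502010380492a5) (nat_lit 1540))
) (.node (nat_lit 0x80502010381492f5) (.leaf (nat_lit 0x80502010381482d5) (nat_lit 2053))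
 (.leaf (nat_lit 0x80502010381492f5) (nat_lit 2562))
)) (.node (nat_lit 0x805020103834c2f5) (.node (nat_lit 0x805020103824d285) (.leaf (nat_lit 0x805020103824c2a5) (nat_lit 1538))
 (.leaf (nat_lit 0x805020103824d285) (nat_lit 1537))
) (.node (nat_lit 0x805020103834d2d5) (.leaf (nat_lit 0x805020103834c2f5) (nat_lit 1539))
 (.leaf (nat_lit 0x805020103834d2d5) (nat_lit 1537))
))))) (.node (nat_lit 0x8050201068848285) (.node (nat_lit 0x8050201058840205) (.node (nat_lit 0x8050201048a442a5) (.node (nat_lit 0x80502010489402d5) (.node (nat_lit 0x80502010488412a5) (.leaf (nat_lit 0x8050201048840285) (nat_lit 515))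
 (.leaf (nat_lit 0x80502010488412a5) (nat_lit 1538))
) (.node (nat_lit 0x80502010489412f5) (.leaf (nat_lit 0x80502010489402d5) (nat_lit 1537))
 (.leaf (nat_lit 0x80502010489412f5) (nat_lit 2565))
)) (.node (nat_lit 0x8050201048b442f5) (.node (nat_lit 0x8050201048a45285) (.leaf (nat_lit 0x8050201048a442a5) (nat_lit 1028))
 (.leaf (nat_lit 0x8050201048a45285) (nat_lit 1541))
) (.node (nat_lit 0x8050201048b452d5) (.leaf (nat_lit 0x8050201048b442f5) (nat_lit 1536))
 (.leaf (nat_lit 0x8050201048b452d5) (nat_lit 2048))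
))) (.node (nat_lit 0x8050201058a44225) (.node (nat_lit 0x8050201058940255) (.node (nat_lit 0x8050201058841225) (.leaf (nat_lit 0x8050201058840205) (nat_lit 514))
 (.leaf (nat_lit 0x8050201058841225) (nat_lit 1540))
) (.node (nat_lit 0x8050201058941275) (.leaf (nat_lit 0x8050201058940255) (nat_lit 1539))
 (.leaf (nat_lit 0x8050201058941275) (nat_lit 2561))
)) (.node (nat_lit 0x8050201058b44275) (.node (nat_lit 0x8050201058a45205) (.leaf (nat_lit 0x8050201058a44225) (nat_lit 1541))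
 (.leaf (nat_lit 0x8050201058a45205) (nat_lit 1028))
) (.node (nat_lit 0x8050201058b45255) (.leaf (nat_lit 0x8050201058b44275) (nat_lit 2053))
 (.leaf (nat_lit 0x8050201058b45255) (nat_lit 1536))
)))) (.node (nat_lit 0x8050201078848205) (.node (nat_lit 0x8050201068a4c2a5) (.node (nat_lit 0x80502010689482d5) (.node (nat_lit 0x80502010688492a5) (.leaf (nat_lit 0x8050201068848285) (nat_lit 773))
 (.leaf (nat_lit 0x80502010688492a5) (nat_lit 1796))
) (.node (nat_lit 0x80502010689492f5) (.leaf (nat_lit 0x80502010689482d5) (nat_lit 1797))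
 (.leaf (nat_lit 0x80502010689492f5) (nat_lit 2308))
)) (.node (nat_lit 0x8050201068b4c2f5) (.node (nat_lit 0x8050201068a4d285) (.leaf (nat_lit 0x8050201068a4c2a5) (nat_lit 1283))
 (.leaf (nat_lit 0x8050201068a4d285) (nat_lit 1281))
) (.node (nat_lit 0x8050201068b4d2d5) (.leaf (nat_lit 0x8050201068b4c2f5) (nat_lit 1794))
 (.leaf (nat_lit 0x8050201068b4d2d5) (nat_lit 1793))
))) (.node (nat_lit 0x8050201078a4c225) (.node (nat_lit 0x8050201078948255) (.node (nat_lit 0x8050201078849225) (.leaf (nat_lit 0x8050201078848205) (nat_lit 773))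
 (.leaf (nat_lit 0x8050201078849225) (nat_lit 1796))
) (.node (nat_lit 0x8050201078949275) (.leaf (nat_lit 0x8050201078948255) (nat_lit 1797))
 (.leaf (nat_lit 0x8050201078949275) (nat_lit 2305))
)) (.node (nat_lit 0x8050201078b4c275) (.node (nat_lit 0x8050201078a4d205) (.leaf (nat_lit 0x8050201078a4c225) (nat_lit 1282))
 (.leaf (nat_lit 0x8050201078a4d205) (nat_lit 1281))
) (.node (nat_lit 0x8050201078b4d255) (.leaf (nat_lit 0x8050201078b4c275) (nat_lit 1795))
 (.leaf (nat_lit 0x8050201078b4d255) (nat_lit 1793))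
)))))) (.node (nat_lit 0x8050301048840287) (.node (nat_lit 0x8050301028048287) (.node (nat_lit 0x8050301018040287) (.node (nat_lit 0x8050301008244267) (.node (nat_lit 0x8050301008140257) (.node (nat_lit 0x8050301008041237) (.leaf (nat_lit 0x8050301008040207) (nat_lit 515))
 (.leaf (nat_lit 0x8050301008041237) (nat_lit 2049))
) (.node (nat_lit 0x8050301008141267) (.leaf (nat_lit 0x8050301008140257) (nat_lit 2050))
 (.leaf (nat_lit 0x8050301008141267) (nat_lit 2565))
)) (.node (nat_lit 0x8050301008344237) (.node (nat_lit 0x8050301008245257) (.leaf (nat_lit 0x8050301008244267) (nat_lit 1536))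
 (.leaf (nat_lit 0x8050301008245257) (nat_lit 1536))
) (.node (nat_lit 0x8050301008345207) (.leaf (nat_lit 0x8050301008344237) (nat_lit 1541))
 (.leaf (nat_lit 0x8050301008345207) (nat_lit 1541))
))) (.node (nat_lit 0x80503010182442e7) (.node (nat_lit 0x80503010181402d7) (.node (nat_lit 0x80503010180412b7) (.leaf (nat_lit 0x8050301018040287) (nat_lit 1026))
 (.leaf (nat_lit 0x80503010180412b7) (nat_lit 1540))
) (.node (nat_lit 0x80503010181412e7) (.leaf (nat_lit 0x80503010181402d7) (nat_lit 1539))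
 (.leaf (nat_lit 0x80503010181412e7) (nat_lit 2049))
)) (.node (nat_lit 0x80503010183442b7) (.node (nat_lit 0x80503010182452d7) (.leaf (nat_lit 0x80503010182442e7) (nat_lit 1541))
 (.leaf (nat_lit 0x80503010182452d7) (nat_lit 1536))
) (.node (nat_lit 0x8050301018345287) (.leaf (nat_lit 0x80503010183442b7) (nat_lit 1538))
 (.leaf (nat_lit 0x8050301018345287) (nat_lit 1540))
)))) (.node (nat_lit 0x8050301038048207) (.node (nat_lit 0x805030102824c2e7) (.node (nat_lit 0x80503010281482d7) (.node (nat_lit 0x80503010280492b7) (.leaf (nat_lit 0x8050301028048287) (nat_lit 768))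
 (.leaf (nat_lit 0x80503010280492b7) (nat_lit 1796))
) (.node (nat_lit 0x80503010281492e7) (.leaf (nat_lit 0x80503010281482d7) (nat_lit 1797))
 (.leaf (nat_lit 0x80503010281492e7) (nat_lit 2306))
)) (.node (nat_lit 0x805030102834c2b7) (.node (nat_lit 0x805030102824d2d7) (.leaf (nat_lit 0x805030102824c2e7) (nat_lit 1283))
 (.leaf (nat_lit 0x805030102824d2d7) (nat_lit 1281))
) (.node (nat_lit 0x805030102834d287) (.leaf (nat_lit 0x805030102834c2b7) (nat_lit 1794))
 (.leaf (nat_lit 0x805030102834d287) (nat_lit 1793))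
))) (.node (nat_lit 0x805030103824c267) (.node (nat_lit 0x8050301038148257) (.node (nat_lit 0x8050301038049237) (.leaf (nat_lit 0x8050301038048207) (nat_lit 773))
 (.leaf (nat_lit 0x8050301038049237) (nat_lit 1792))
) (.node (nat_lit 0x8050301038149267) (.leaf (nat_lit 0x8050301038148257) (nat_lit 1793))
 (.leaf (nat_lit 0x8050301038149267) (nat_lit 2308))
)) (.node (nat_lit 0x805030103834c237) (.node (nat_lit 0x805030103824d257) (.leaf (nat_lit 0x805030103824c267) (nat_lit 1794))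
 (.leaf (nat_lit 0x805030103824d257) (nat_lit 1793))
) (.node (nat_lit 0x805030103834d207) (.leaf (nat_lit 0x805030103834c237) (nat_lit 1283))
 (.leaf (nat_lit 0x805030103834d207) (nat_lit 1281))
))))) (.node (nat_lit 0x8050301068848207) (.node (nat_lit 0x8050301058840207) (.node (nat_lit 0x8050301048a442e7) (.node (nat_lit 0x80503010489402d7) (.node (nat_lit 0x80503010488412b7) (.leaf (nat_lit 0x8050301048840287) (nat_lit 771))
 (.leaf (nat_lit 0x80503010488412b7) (nat_lit 1794))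
) (.node (nat_lit 0x80503010489412e7) (.leaf (nat_lit 0x80503010489402d7) (nat_lit 1793))
 (.leaf (nat_lit 0x80503010489412e7) (nat_lit 2309))
)) (.node (nat_lit 0x8050301048b442b7) (.node (nat_lit 0x8050301048a452d7) (.leaf (nat_lit 0x8050301048a442e7) (nat_lit 1280))
 (.leaf (nat_lit 0x8050301048a452d7) (nat_lit 1792))
) (.node (nat_lit 0x8050301048b45287) (.leaf (nat_lit 0x8050301048b442b7) (nat_lit 1284))
 (.leaf (nat_lit 0x8050301048b45287) (nat_lit 1797))
))) (.node (nat_lit 0x8050301058a44267) (.node (nat_lit 0x8050301058940257) (.node (nat_lit 0x8050301058841237) (.leaf (nat_lit 0x8050301058840207) (nat_lit 770))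
 (.leaf (nat_lit 0x8050301058841237) (nat_lit 1796))
) (.node (nat_lit 0x8050301058941267) (.leaf (nat_lit 0x8050301058940257) (nat_lit 1795))
 (.leaf (nat_lit 0x8050301058941267) (nat_lit 2305))
)) (.node (nat_lit 0x8050301058b44237) (.node (nat_lit 0x8050301058a45257) (.leaf (nat_lit 0x8050301058a44267) (nat_lit 1797))
 (.leaf (nat_lit 0x8050301058a45257) (nat_lit 1280))
) (.node (nat_lit 0x8050301058b45207) (.leaf (nat_lit 0x8050301058b44237) (nat_lit 1797))
 (.leaf (nat_lit 0x8050301058b45207) (nat_lit 1284))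
)))) (.node (nat_lit 0x8050301078848287) (.node (nat_lit 0x8050301068a4c267) (.node (nat_lit 0x8050301068948257) (.node (nat_lit 0x8050301068849237) (.leaf (nat_lit 0x8050301068848207) (nat_lit 1029))
 (.leaf (nat_lit 0x8050301068849237) (nat_lit 2052))
) (.node (nat_lit 0x8050301068949267) (.leaf (nat_lit 0x8050301068948257) (nat_lit 2053))
 (.leaf (nat_lit 0x8050301068949267) (nat_lit 2561))
)) (.node (nat_lit 0x8050301068b4c237) (.node (nat_lit 0x8050301068a4d257) (.leaf (nat_lit 0x8050301068a4c267) (nat_lit 1539))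
 (.leaf (nat_lit 0x8050301068a4d257) (nat_lit 1537))
) (.node (nat_lit 0x8050301068b4d207) (.leaf (nat_lit 0x8050301068b4c237) (nat_lit 1538))
 (.leaf (nat_lit 0x8050301068b4d207) (nat_lit 1537))
))) (.node (nat_lit 0x8050301078a4c2e7) (.node (nat_lit 0x80503010789482d7) (.node (nat_lit 0x80503010788492b7) (.leaf (nat_lit 0x8050301078848287) (nat_lit 1029))
 (.leaf (nat_lit 0x80503010788492b7) (nat_lit 2052))
) (.node (nat_lit 0x80503010789492e7) (.leaf (nat_lit 0x80503010789482d7) (nat_lit 2053))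
 (.leaf (nat_lit 0x80503010789492e7) (nat_lit 2052))
)) (.node (nat_lit 0x8050301078b4c2b7) (.node (nat_lit 0x8050301078a4d2d7) (.leaf (nat_lit 0x8050301078a4c2e7) (nat_lit 1538))
 (.leaf (nat_lit 0x8050301078a4d2d7) (nat_lit 1537))
) (.node (nat_lit 0x8050301078b4d287) (.leaf (nat_lit 0x8050301078b4c2b7) (nat_lit 1539))
 (.leaf (nat_lit 0x8050301078b4d287) (nat_lit 1537))
)))))))) (.node (nat_lit 0x905020100804020d) (.node (nat_lit 0x904030100804020b) (.node (nat_lit 0x9040201048840249) (.node (nat_lit 0x9040201028048229) (.node (nat_lit 0x9040201018040299) (.node (nat_lit 0x9040201008244209) (.node (nat_lit 0x9040201008140249) (.node (nat_lit 0x9040201008041229) (.leaf (nat_lit 0x9040201008040209) (nat_lit 1028))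
 (.leaf (nat_lit 0x9040201008041229) (nat_lit 1541))
) (.node (nat_lit 0x9040201008141269) (.leaf (nat_lit 0x9040201008140249) (nat_lit 1538))
 (.leaf (nat_lit 0x9040201008141269) (nat_lit 2053))
)) (.node (nat_lit 0x9040201008344249) (.node (nat_lit 0x9040201008245229) (.leaf (nat_lit 0x9040201008244209) (nat_lit 1538))
 (.leaf (nat_lit 0x9040201008245229) (nat_lit 1541))
) (.node (nat_lit 0x9040201008345269) (.leaf (nat_lit 0x9040201008344249) (nat_lit 1540))
 (.leaf (nat_lit 0x9040201008345269) (nat_lit 2048))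
))) (.node (nat_lit 0x9040201018244299) (.node (nat_lit 0x90402010181402d9) (.node (nat_lit 0x90402010180412b9) (.leaf (nat_lit 0x9040201018040299) (nat_lit 1538))
 (.leaf (nat_lit 0x90402010180412b9) (nat_lit 1541))
) (.node (nat_lit 0x90402010181412f9) (.leaf (nat_lit 0x90402010181402d9) (nat_lit 1539))
 (.leaf (nat_lit 0x90402010181412f9) (nat_lit 2049))
)) (.node (nat_lit 0x90402010183442d9) (.node (nat_lit 0x90402010182452b9) (.leaf (nat_lit 0x9040201018244299) (nat_lit 2051))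
 (.leaf (nat_lit 0x90402010182452b9) (nat_lit 2050))
) (.node (nat_lit 0x90402010183452f9) (.leaf (nat_lit 0x90402010183442d9) (nat_lit 2053))
 (.leaf (nat_lit 0x90402010183452f9) (nat_lit 2053))
)))) (.node (nat_lit 0x90402010380482b9) (.node (nat_lit 0x904020102824c229) (.node (nat_lit 0x9040201028148269) (.node (nat_lit 0x9040201028049209) (.leaf (nat_lit 0x9040201028048229) (nat_lit 1281))
 (.leaf (nat_lit 0x9040201028049209) (nat_lit 1285))
) (.node (nat_lit 0x9040201028149249) (.leaf (nat_lit 0x9040201028148269) (nat_lit 1794))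
 (.leaf (nat_lit 0x9040201028149249) (nat_lit 1797))
)) (.node (nat_lit 0x904020102834c269) (.node (nat_lit 0x904020102824d209) (.leaf (nat_lit 0x904020102824c229) (nat_lit 1283))
 (.leaf (nat_lit 0x904020102824d209) (nat_lit 1281))
) (.node (nat_lit 0x904020102834d249) (.leaf (nat_lit 0x904020102834c269) (nat_lit 1794))
 (.leaf (nat_lit 0x904020102834d249) (nat_lit 1797))
))) (.node (nat_lit 0x904020103824c2b9) (.node (nat_lit 0x90402010381482f9) (.node (nat_lit 0x9040201038049299) (.leaf (nat_lit 0x90402010380482b9) (nat_lit 1284))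
 (.leaf (nat_lit 0x9040201038049299) (nat_lit 1280))
) (.node (nat_lit 0x90402010381492d9) (.leaf (nat_lit 0x90402010381482f9) (nat_lit 1794))
 (.leaf (nat_lit 0x90402010381492d9) (nat_lit 1797))
)) (.node (nat_lit 0x904020103834c2f9) (.node (nat_lit 0x904020103824d299) (.leaf (nat_lit 0x904020103824c2b9) (nat_lit 1794))
 (.leaf (nat_lit 0x904020103824d299) (nat_lit 1793))
) (.node (nat_lit 0x904020103834d2d9) (.leaf (nat_lit 0x904020103834c2f9) (nat_lit 1795))
 (.leaf (nat_lit 0x904020103834d2d9) (nat_lit 1793))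
))))) (.node (nat_lit 0x9040201068848269) (.node (nat_lit 0x90402010588402d9) (.node (nat_lit 0x9040201048a44249) (.node (nat_lit 0x9040201048940209) (.node (nat_lit 0x9040201048841269) (.leaf (nat_lit 0x9040201048840249) (nat_lit 1284))
 (.leaf (nat_lit 0x9040201048841269) (nat_lit 1797))
) (.node (nat_lit 0x9040201048941229) (.leaf (nat_lit 0x9040201048940209) (nat_lit 1282))
 (.leaf (nat_lit 0x9040201048941229) (nat_lit 1797))
)) (.node (nat_lit 0x9040201048b44209) (.node (nat_lit 0x9040201048a45269) (.leaf (nat_lit 0x9040201048a44249) (nat_lit 1280))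
 (.leaf (nat_lit 0x9040201048a45269) (nat_lit 1797))
) (.node (nat_lit 0x9040201048b45229) (.leaf (nat_lit 0x9040201048b44209) (nat_lit 1284))
 (.leaf (nat_lit 0x9040201048b45229) (nat_lit 1797))
))) (.node (nat_lit 0x9040201058a442d9) (.node (nat_lit 0x9040201058940299) (.node (nat_lit 0x90402010588412f9) (.leaf (nat_lit 0x90402010588402d9) (nat_lit 1281))
 (.leaf (nat_lit 0x90402010588412f9) (nat_lit 1797))
) (.node (nat_lit 0x90402010589412b9) (.leaf (nat_lit 0x9040201058940299) (nat_lit 1283))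
 (.leaf (nat_lit 0x90402010589412b9) (nat_lit 1797))
)) (.node (nat_lit 0x9040201058b44299) (.node (nat_lit 0x9040201058a452f9) (.leaf (nat_lit 0x9040201058a442d9) (nat_lit 1797))
 (.leaf (nat_lit 0x9040201058a452f9) (nat_lit 1796))
) (.node (nat_lit 0x9040201058b452b9) (.leaf (nat_lit 0x9040201058b44299) (nat_lit 1796))
 (.leaf (nat_lit 0x9040201058b452b9) (nat_lit 1796))
)))) (.node (nat_lit 0x90402010788482f9) (.node (nat_lit 0x9040201068a4c269) (.node (nat_lit 0x9040201068948229) (.node (nat_lit 0x9040201068849249) (.leaf (nat_lit 0x9040201068848269) (nat_lit 1537))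
 (.leaf (nat_lit 0x9040201068849249) (nat_lit 1541))
) (.node (nat_lit 0x9040201068949209) (.leaf (nat_lit 0x9040201068948229) (nat_lit 1538))
 (.leaf (nat_lit 0x9040201068949209) (nat_lit 1541))
)) (.node (nat_lit 0x9040201068b4c229) (.node (nat_lit 0x9040201068a4d249) (.leaf (nat_lit 0x9040201068a4c269) (nat_lit 1539))
 (.leaf (nat_lit 0x9040201068a4d249) (nat_lit 1537))
) (.node (nat_lit 0x9040201068b4d209) (.leaf (nat_lit 0x9040201068b4c229) (nat_lit 1538))
 (.leaf (nat_lit 0x9040201068b4d209) (nat_lit 1541))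
))) (.node (nat_lit 0x9040201078a4c2f9) (.node (nat_lit 0x90402010789482b9) (.node (nat_lit 0x90402010788492d9) (.leaf (nat_lit 0x90402010788482f9) (nat_lit 1540))
 (.leaf (nat_lit 0x90402010788492d9) (nat_lit 1536))
) (.node (nat_lit 0x9040201078949299) (.leaf (nat_lit 0x90402010789482b9) (nat_lit 1538))
 (.leaf (nat_lit 0x9040201078949299) (nat_lit 1541))
)) (.node (nat_lit 0x9040201078b4c2b9) (.node (nat_lit 0x9040201078a4d2d9) (.leaf (nat_lit 0x9040201078a4c2f9) (nat_lit 2050))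
 (.leaf (nat_lit 0x9040201078a4d2d9) (nat_lit 1537))
) (.node (nat_lit 0x9040201078b4d299) (.leaf (nat_lit 0x9040201078b4c2b9) (nat_lit 1540))
 (.leaf (nat_lit 0x9040201078b4d299) (nat_lit 2049))
)))))) (.node (nat_lit 0x904030104884024b) (.node (nat_lit 0x90403010280482ab) (.node (nat_lit 0x904030101804029b) (.node (nat_lit 0x904030100824424b) (.node (nat_lit 0x904030100814024b) (.node (nat_lit 0x904030100804123b) (.leaf (nat_lit 0x904030100804020b) (nat_lit 772))
 (.leaf (nat_lit 0x904030100804123b) (nat_lit 1797))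
) (.node (nat_lit 0x904030100814127b) (.leaf (nat_lit 0x904030100814024b) (nat_lit 1282))
 (.leaf (nat_lit 0x904030100814127b) (nat_lit 2309))
)) (.node (nat_lit 0x904030100834420b) (.node (nat_lit 0x904030100824527b) (.leaf (nat_lit 0x904030100824424b) (nat_lit 1284))
 (.leaf (nat_lit 0x904030100824527b) (nat_lit 1792))
) (.node (nat_lit 0x904030100834523b) (.leaf (nat_lit 0x904030100834420b) (nat_lit 1282))
 (.leaf (nat_lit 0x904030100834523b) (nat_lit 1797))
))) (.node (nat_lit 0x90403010182442db) (.node (nat_lit 0x90403010181402db) (.node (nat_lit 0x90403010180412ab) (.leaf (nat_lit 0x904030101804029b) (nat_lit 1794))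
 (.leaf (nat_lit 0x90403010180412ab) (nat_lit 1285))
) (.node (nat_lit 0x90403010181412eb) (.leaf (nat_lit 0x90403010181402db) (nat_lit 1795))
 (.leaf (nat_lit 0x90403010181412eb) (nat_lit 1793))
)) (.node (nat_lit 0x904030101834429b) (.node (nat_lit 0x90403010182452eb) (.leaf (nat_lit 0x90403010182442db) (nat_lit 1797))
 (.leaf (nat_lit 0x90403010182452eb) (nat_lit 1797))
) (.node (nat_lit 0x90403010183452ab) (.leaf (nat_lit 0x904030101834429b) (nat_lit 1795))
 (.leaf (nat_lit 0x90403010183452ab) (nat_lit 1794))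
)))) (.node (nat_lit 0x904030103804823b) (.node (nat_lit 0x904030102824c2eb) (.node (nat_lit 0x90403010281482eb) (.node (nat_lit 0x904030102804929b) (.leaf (nat_lit 0x90403010280482ab) (nat_lit 1028))
 (.leaf (nat_lit 0x904030102804929b) (nat_lit 1536))
) (.node (nat_lit 0x90403010281492db) (.leaf (nat_lit 0x90403010281482eb) (nat_lit 1538))
 (.leaf (nat_lit 0x90403010281492db) (nat_lit 2053))
)) (.node (nat_lit 0x904030102834c2ab) (.node (nat_lit 0x904030102824d2db) (.leaf (nat_lit 0x904030102824c2eb) (nat_lit 1539))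
 (.leaf (nat_lit 0x904030102824d2db) (nat_lit 1537))
) (.node (nat_lit 0x904030102834d29b) (.leaf (nat_lit 0x904030102834c2ab) (nat_lit 1538))
 (.leaf (nat_lit 0x904030102834d29b) (nat_lit 2049))
))) (.node (nat_lit 0x904030103824c27b) (.node (nat_lit 0x904030103814827b) (.node (nat_lit 0x904030103804920b) (.leaf (nat_lit 0x904030103804823b) (nat_lit 1537))
 (.leaf (nat_lit 0x904030103804920b) (nat_lit 1029))
) (.node (nat_lit 0x904030103814924b) (.leaf (nat_lit 0x904030103814827b) (nat_lit 2050))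
 (.leaf (nat_lit 0x904030103814924b) (nat_lit 1541))
)) (.node (nat_lit 0x904030103834c23b) (.node (nat_lit 0x904030103824d24b) (.leaf (nat_lit 0x904030103824c27b) (nat_lit 2050))
 (.leaf (nat_lit 0x904030103824d24b) (nat_lit 1541))
) (.node (nat_lit 0x904030103834d20b) (.leaf (nat_lit 0x904030103834c23b) (nat_lit 1539))
 (.leaf (nat_lit 0x904030103834d20b) (nat_lit 1537))
))))) (.node (nat_lit 0x90403010688482eb) (.node (nat_lit 0x90403010588402db) (.node (nat_lit 0x9040301048a4420b) (.node (nat_lit 0x904030104894020b) (.node (nat_lit 0x904030104884127b) (.leaf (nat_lit 0x904030104884024b) (nat_lit 1028))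
 (.leaf (nat_lit 0x904030104884127b) (nat_lit 2053))
) (.node (nat_lit 0x904030104894123b) (.leaf (nat_lit 0x904030104894020b) (nat_lit 1026))
 (.leaf (nat_lit 0x904030104894123b) (nat_lit 2053))
)) (.node (nat_lit 0x9040301048b4424b) (.node (nat_lit 0x9040301048a4523b) (.leaf (nat_lit 0x9040301048a4420b) (nat_lit 1028))
 (.leaf (nat_lit 0x9040301048a4523b) (nat_lit 2053))
) (.node (nat_lit 0x9040301048b4527b) (.leaf (nat_lit 0x9040301048b4424b) (nat_lit 1536))
 (.leaf (nat_lit 0x9040301048b4527b) (nat_lit 2053))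
))) (.node (nat_lit 0x9040301058a4429b) (.node (nat_lit 0x904030105894029b) (.node (nat_lit 0x90403010588412eb) (.leaf (nat_lit 0x90403010588402db) (nat_lit 1537))
 (.leaf (nat_lit 0x90403010588412eb) (nat_lit 1541))
) (.node (nat_lit 0x90403010589412ab) (.leaf (nat_lit 0x904030105894029b) (nat_lit 1539))
 (.leaf (nat_lit 0x90403010589412ab) (nat_lit 1541))
)) (.node (nat_lit 0x9040301058b442db) (.node (nat_lit 0x9040301058a452ab) (.leaf (nat_lit 0x9040301058a4429b) (nat_lit 2052))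
 (.leaf (nat_lit 0x9040301058a452ab) (nat_lit 1540))
) (.node (nat_lit 0x9040301058b452eb) (.leaf (nat_lit 0x9040301058b442db) (nat_lit 2053))
 (.leaf (nat_lit 0x9040301058b452eb) (nat_lit 2052))
)))) (.node (nat_lit 0x904030107884827b) (.node (nat_lit 0x9040301068a4c2ab) (.node (nat_lit 0x90403010689482ab) (.node (nat_lit 0x90403010688492db) (.leaf (nat_lit 0x90403010688482eb) (nat_lit 1284))
 (.leaf (nat_lit 0x90403010688492db) (nat_lit 1792))
) (.node (nat_lit 0x904030106894929b) (.leaf (nat_lit 0x90403010689482ab) (nat_lit 1282))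
 (.leaf (nat_lit 0x904030106894929b) (nat_lit 1797))
)) (.node (nat_lit 0x9040301068b4c2eb) (.node (nat_lit 0x9040301068a4d29b) (.leaf (nat_lit 0x9040301068a4c2ab) (nat_lit 1284))
 (.leaf (nat_lit 0x9040301068a4d29b) (nat_lit 1793))
) (.node (nat_lit 0x9040301068b4d2db) (.leaf (nat_lit 0x9040301068b4c2eb) (nat_lit 1794))
 (.leaf (nat_lit 0x9040301068b4d2db) (nat_lit 1793))
))) (.node (nat_lit 0x9040301078a4c23b) (.node (nat_lit 0x904030107894823b) (.node (nat_lit 0x904030107884924b) (.leaf (nat_lit 0x904030107884827b) (nat_lit 1793))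
 (.leaf (nat_lit 0x904030107884924b) (nat_lit 1285))
) (.node (nat_lit 0x904030107894920b) (.leaf (nat_lit 0x904030107894823b) (nat_lit 1794))
 (.leaf (nat_lit 0x904030107894920b) (nat_lit 1285))
)) (.node (nat_lit 0x9040301078b4c27b) (.node (nat_lit 0x9040301078a4d20b) (.leaf (nat_lit 0x9040301078a4c23b) (nat_lit 1794))
 (.leaf (nat_lit 0x9040301078a4d20b) (nat_lit 1285))
) (.node (nat_lit 0x9040301078b4d24b) (.leaf (nat_lit 0x9040301078b4c27b) (nat_lit 1795))
 (.leaf (nat_lit 0x9040301078b4d24b) (nat_lit 1793))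
))))))) (.node (nat_lit 0x905030100804020f) (.node (nat_lit 0x90502010488402cd) (.node (nat_lit 0x905020102804822d) (.node (nat_lit 0x905020101804029d) (.node (nat_lit 0x905020100824422d) (.node (nat_lit 0x905020100814025d) (.node (nat_lit 0x905020100804122d) (.leaf (nat_lit 0x905020100804020d) (nat_lit 769))
 (.leaf (nat_lit 0x905020100804122d) (nat_lit 1285))
) (.node (nat_lit 0x905020100814127d) (.leaf (nat_lit 0x905020100814025d) (nat_lit 1795))
 (.leaf (nat_lit 0x905020100814127d) (nat_lit 2309))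
)) (.node (nat_lit 0x905020100834427d) (.node (nat_lit 0x905020100824520d) (.leaf (nat_lit 0x905020100824422d) (nat_lit 1281))
 (.leaf (nat_lit 0x905020100824520d) (nat_lit 1285))
) (.node (nat_lit 0x905020100834525d) (.leaf (nat_lit 0x905020100834427d) (nat_lit 1796))
 (.leaf (nat_lit 0x905020100834525d) (nat_lit 1792))
))) (.node (nat_lit 0x90502010182442bd) (.node (nat_lit 0x90502010181402cd) (.node (nat_lit 0x90502010180412bd) (.leaf (nat_lit 0x905020101804029d) (nat_lit 1797))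
 (.leaf (nat_lit 0x90502010180412bd) (nat_lit 1797))
) (.node (nat_lit 0x90502010181412ed) (.leaf (nat_lit 0x90502010181402cd) (nat_lit 1282))
 (.leaf (nat_lit 0x90502010181412ed) (nat_lit 1796))
)) (.node (nat_lit 0x90502010183442ed) (.node (nat_lit 0x905020101824529d) (.leaf (nat_lit 0x90502010182442bd) (nat_lit 1794))
 (.leaf (nat_lit 0x905020101824529d) (nat_lit 1792))
) (.node (nat_lit 0x90502010183452cd) (.leaf (nat_lit 0x90502010183442ed) (nat_lit 1794))
 (.leaf (nat_lit 0x90502010183452cd) (nat_lit 1797))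
)))) (.node (nat_lit 0x90502010380482bd) (.node (nat_lit 0x905020102824c20d) (.node (nat_lit 0x905020102814827d) (.node (nat_lit 0x905020102804920d) (.leaf (nat_lit 0x905020102804822d) (nat_lit 1025))
 (.leaf (nat_lit 0x905020102804920d) (nat_lit 1029))
) (.node (nat_lit 0x905020102814925d) (.leaf (nat_lit 0x905020102814827d) (nat_lit 2050))
 (.leaf (nat_lit 0x905020102814925d) (nat_lit 2048))
)) (.node (nat_lit 0x905020102834c25d) (.node (nat_lit 0x905020102824d22d) (.leaf (nat_lit 0x905020102824c20d) (nat_lit 1025))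
 (.leaf (nat_lit 0x905020102824d22d) (nat_lit 1539))
) (.node (nat_lit 0x905020102834d27d) (.leaf (nat_lit 0x905020102834c25d) (nat_lit 2053))
 (.leaf (nat_lit 0x905020102834d27d) (nat_lit 2052))
))) (.node (nat_lit 0x905020103824c29d) (.node (nat_lit 0x90502010381482ed) (.node (nat_lit 0x905020103804929d) (.leaf (nat_lit 0x90502010380482bd) (nat_lit 1540))
 (.leaf (nat_lit 0x905020103804929d) (nat_lit 1536))
) (.node (nat_lit 0x90502010381492cd) (.leaf (nat_lit 0x90502010381482ed) (nat_lit 1538))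
 (.leaf (nat_lit 0x90502010381492cd) (nat_lit 1541))
)) (.node (nat_lit 0x905020103834c2cd) (.node (nat_lit 0x905020103824d2bd) (.leaf (nat_lit 0x905020103824c29d) (nat_lit 2051))
 (.leaf (nat_lit 0x905020103824d2bd) (nat_lit 2050))
) (.node (nat_lit 0x905020103834d2ed) (.leaf (nat_lit 0x905020103834c2cd) (nat_lit 1537))
 (.leaf (nat_lit 0x905020103834d2ed) (nat_lit 2051))
))))) (.node (nat_lit 0x90502010688482ed) (.node (nat_lit 0x905020105884025d) (.node (nat_lit 0x9050201048a442ed) (.node (nat_lit 0x905020104894029d) (.node (nat_lit 0x90502010488412ed) (.leaf (nat_lit 0x90502010488402cd) (nat_lit 1025))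
 (.leaf (nat_lit 0x90502010488412ed) (nat_lit 1541))
) (.node (nat_lit 0x90502010489412bd) (.leaf (nat_lit 0x905020104894029d) (nat_lit 1539))
 (.leaf (nat_lit 0x90502010489412bd) (nat_lit 2053))
)) (.node (nat_lit 0x9050201048b442bd) (.node (nat_lit 0x9050201048a452cd) (.leaf (nat_lit 0x9050201048a442ed) (nat_lit 1540))
 (.leaf (nat_lit 0x9050201048a452cd) (nat_lit 1541))
) (.node (nat_lit 0x9050201048b4529d) (.leaf (nat_lit 0x9050201048b442bd) (nat_lit 1540))
 (.leaf (nat_lit 0x9050201048b4529d) (nat_lit 2048))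
))) (.node (nat_lit 0x9050201058a4427d) (.node (nat_lit 0x905020105894020d) (.node (nat_lit 0x905020105884127d) (.leaf (nat_lit 0x905020105884025d) (nat_lit 1540))
 (.leaf (nat_lit 0x905020105884127d) (nat_lit 2053))
) (.node (nat_lit 0x905020105894122d) (.leaf (nat_lit 0x905020105894020d) (nat_lit 1026))
 (.leaf (nat_lit 0x905020105894122d) (nat_lit 1541))
)) (.node (nat_lit 0x9050201058b4422d) (.node (nat_lit 0x9050201058a4525d) (.leaf (nat_lit 0x9050201058a4427d) (nat_lit 2050))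
 (.leaf (nat_lit 0x9050201058a4525d) (nat_lit 1536))
) (.node (nat_lit 0x9050201058b4520d) (.leaf (nat_lit 0x9050201058b4422d) (nat_lit 1537))
 (.leaf (nat_lit 0x9050201058b4520d) (nat_lit 1540))
)))) (.node (nat_lit 0x905020107884827d) (.node (nat_lit 0x9050201068a4c2cd) (.node (nat_lit 0x90502010689482bd) (.node (nat_lit 0x90502010688492cd) (.leaf (nat_lit 0x90502010688482ed) (nat_lit 1281))
 (.leaf (nat_lit 0x90502010688492cd) (nat_lit 1285))
) (.node (nat_lit 0x905020106894929d) (.leaf (nat_lit 0x90502010689482bd) (nat_lit 1794))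
 (.leaf (nat_lit 0x905020106894929d) (nat_lit 1792))
)) (.node (nat_lit 0x9050201068b4c29d) (.node (nat_lit 0x9050201068a4d2ed) (.leaf (nat_lit 0x9050201068a4c2cd) (nat_lit 1281))
 (.leaf (nat_lit 0x9050201068a4d2ed) (nat_lit 1797))
) (.node (nat_lit 0x9050201068b4d2bd) (.leaf (nat_lit 0x9050201068b4c29d) (nat_lit 1795))
 (.leaf (nat_lit 0x9050201068b4d2bd) (nat_lit 1796))
))) (.node (nat_lit 0x9050201078a4c25d) (.node (nat_lit 0x905020107894822d) (.node (nat_lit 0x905020107884925d) (.leaf (nat_lit 0x905020107884827d) (nat_lit 1796))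
 (.leaf (nat_lit 0x905020107884925d) (nat_lit 1792))
) (.node (nat_lit 0x905020107894920d) (.leaf (nat_lit 0x905020107894822d) (nat_lit 1282))
 (.leaf (nat_lit 0x905020107894920d) (nat_lit 1285))
)) (.node (nat_lit 0x9050201078b4c20d) (.node (nat_lit 0x9050201078a4d27d) (.leaf (nat_lit 0x9050201078a4c25d) (nat_lit 1793))
 (.leaf (nat_lit 0x9050201078a4d27d) (nat_lit 1795))
) (.node (nat_lit 0x9050201078b4d22d) (.leaf (nat_lit 0x9050201078b4c20d) (nat_lit 1281))
 (.leaf (nat_lit 0x9050201078b4d22d) (nat_lit 1794))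
)))))) (.node (nat_lit 0x90503010488402cf) (.node (nat_lit 0x90503010280482af) (.node (nat_lit 0x905030101804029f) (.node (nat_lit 0x905030100824426f) (.node (nat_lit 0x905030100814025f) (.node (nat_lit 0x905030100804123f) (.leaf (nat_lit 0x905030100804020f) (nat_lit 1025))
 (.leaf (nat_lit 0x905030100804123f) (nat_lit 1541))
) (.node (nat_lit 0x905030100814126f) (.leaf (nat_lit 0x905030100814025f) (nat_lit 1539))
 (.leaf (nat_lit 0x905030100814126f) (nat_lit 2053))
)) (.node (nat_lit 0x905030100834423f) (.node (nat_lit 0x905030100824525f) (.leaf (nat_lit 0x905030100824426f) (nat_lit 1540))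
 (.leaf (nat_lit 0x905030100824525f) (nat_lit 1536))
) (.node (nat_lit 0x905030100834520f) (.leaf (nat_lit 0x905030100834423f) (nat_lit 1537))
 (.leaf (nat_lit 0x905030100834520f) (nat_lit 1541))
))) (.node (nat_lit 0x90503010182442ff) (.node (nat_lit 0x90503010181402cf) (.node (nat_lit 0x90503010180412af) (.leaf (nat_lit 0x905030101804029f) (nat_lit 1541))
 (.leaf (nat_lit 0x90503010180412af) (nat_lit 1541))
) (.node (nat_lit 0x90503010181412ff) (.leaf (nat_lit 0x90503010181402cf) (nat_lit 1538))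
 (.leaf (nat_lit 0x90503010181412ff) (nat_lit 2052))
)) (.node (nat_lit 0x90503010183442af) (.node (nat_lit 0x90503010182452cf) (.leaf (nat_lit 0x90503010182442ff) (nat_lit 2050))
 (.leaf (nat_lit 0x90503010182452cf) (nat_lit 1541))
) (.node (nat_lit 0x905030101834529f) (.leaf (nat_lit 0x90503010183442af) (nat_lit 1538))
 (.leaf (nat_lit 0x905030101834529f) (nat_lit 2048))
)))) (.node (nat_lit 0x905030103804823f) (.node (nat_lit 0x905030102824c2cf) (.node (nat_lit 0x90503010281482ff) (.node (nat_lit 0x905030102804929f) (.leaf (nat_lit 0x90503010280482af) (nat_lit 1284))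
 (.leaf (nat_lit 0x905030102804929f) (nat_lit 1280))
) (.node (nat_lit 0x90503010281492cf) (.leaf (nat_lit 0x90503010281482ff) (nat_lit 1794))
 (.leaf (nat_lit 0x90503010281492cf) (nat_lit 1797))
)) (.node (nat_lit 0x905030102834c29f) (.node (nat_lit 0x905030102824d2ff) (.leaf (nat_lit 0x905030102824c2cf) (nat_lit 1281))
 (.leaf (nat_lit 0x905030102824d2ff) (nat_lit 1795))
) (.node (nat_lit 0x905030102834d2af) (.leaf (nat_lit 0x905030102834c29f) (nat_lit 1795))
 (.leaf (nat_lit 0x905030102834d2af) (nat_lit 1794))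
))) (.node (nat_lit 0x905030103824c25f) (.node (nat_lit 0x905030103814826f) (.node (nat_lit 0x905030103804920f) (.leaf (nat_lit 0x905030103804823f) (nat_lit 1281))
 (.leaf (nat_lit 0x905030103804920f) (nat_lit 1285))
) (.node (nat_lit 0x905030103814925f) (.leaf (nat_lit 0x905030103814826f) (nat_lit 1794))
 (.leaf (nat_lit 0x905030103814925f) (nat_lit 1792))
)) (.node (nat_lit 0x905030103834c20f) (.node (nat_lit 0x905030103824d26f) (.leaf (nat_lit 0x905030103824c25f) (nat_lit 1797))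
 (.leaf (nat_lit 0x905030103824d26f) (nat_lit 1796))
) (.node (nat_lit 0x905030103834d23f) (.leaf (nat_lit 0x905030103834c20f) (nat_lit 1281))
 (.leaf (nat_lit 0x905030103834d23f) (nat_lit 1795))
))))) (.node (nat_lit 0x905030106884826f) (.node (nat_lit 0x905030105884025f) (.node (nat_lit 0x9050301048a442af) (.node (nat_lit 0x905030104894029f) (.node (nat_lit 0x90503010488412ff) (.leaf (nat_lit 0x90503010488402cf) (nat_lit 1281))
 (.leaf (nat_lit 0x90503010488412ff) (nat_lit 1797))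
) (.node (nat_lit 0x90503010489412af) (.leaf (nat_lit 0x905030104894029f) (nat_lit 1283))
 (.leaf (nat_lit 0x90503010489412af) (nat_lit 1797))
)) (.node (nat_lit 0x9050301048b442ff) (.node (nat_lit 0x9050301048a4529f) (.leaf (nat_lit 0x9050301048a442af) (nat_lit 1284))
 (.leaf (nat_lit 0x9050301048a4529f) (nat_lit 1792))
) (.node (nat_lit 0x9050301048b452cf) (.leaf (nat_lit 0x9050301048b442ff) (nat_lit 1796))
 (.leaf (nat_lit 0x9050301048b452cf) (nat_lit 1797))
))) (.node (nat_lit 0x9050301058a4423f) (.node (nat_lit 0x905030105894020f) (.node (nat_lit 0x905030105884126f) (.leaf (nat_lit 0x905030105884025f) (nat_lit 1284))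
 (.leaf (nat_lit 0x905030105884126f) (nat_lit 1797))
) (.node (nat_lit 0x905030105894123f) (.leaf (nat_lit 0x905030105894020f) (nat_lit 1282))
 (.leaf (nat_lit 0x905030105894123f) (nat_lit 1797))
)) (.node (nat_lit 0x9050301058b4426f) (.node (nat_lit 0x9050301058a4520f) (.leaf (nat_lit 0x9050301058a4423f) (nat_lit 1793))
 (.leaf (nat_lit 0x9050301058a4520f) (nat_lit 1284))
) (.node (nat_lit 0x9050301058b4525f) (.leaf (nat_lit 0x9050301058b4426f) (nat_lit 1794))
 (.leaf (nat_lit 0x9050301058b4525f) (nat_lit 1792))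
)))) (.node (nat_lit 0x90503010788482ff) (.node (nat_lit 0x9050301068a4c20f) (.node (nat_lit 0x905030106894823f) (.node (nat_lit 0x905030106884925f) (.leaf (nat_lit 0x905030106884826f) (nat_lit 1540))
 (.leaf (nat_lit 0x905030106884925f) (nat_lit 1536))
) (.node (nat_lit 0x905030106894920f) (.leaf (nat_lit 0x905030106894823f) (nat_lit 1538))
 (.leaf (nat_lit 0x905030106894920f) (nat_lit 1541))
)) (.node (nat_lit 0x9050301068b4c25f) (.node (nat_lit 0x9050301068a4d23f) (.leaf (nat_lit 0x9050301068a4c20f) (nat_lit 1537))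
 (.leaf (nat_lit 0x9050301068a4d23f) (nat_lit 2050))
) (.node (nat_lit 0x9050301068b4d26f) (.leaf (nat_lit 0x9050301068b4c25f) (nat_lit 2049))
 (.leaf (nat_lit 0x9050301068b4d26f) (nat_lit 2051))
))) (.node (nat_lit 0x9050301078a4c29f) (.node (nat_lit 0x90503010789482af) (.node (nat_lit 0x90503010788492cf) (.leaf (nat_lit 0x90503010788482ff) (nat_lit 1537))
 (.leaf (nat_lit 0x90503010788492cf) (nat_lit 1541))
) (.node (nat_lit 0x905030107894929f) (.leaf (nat_lit 0x90503010789482af) (nat_lit 1538))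
 (.leaf (nat_lit 0x905030107894929f) (nat_lit 1536))
)) (.node (nat_lit 0x9050301078b4c2cf) (.node (nat_lit 0x9050301078a4d2af) (.leaf (nat_lit 0x9050301078a4c29f) (nat_lit 2051))
 (.leaf (nat_lit 0x9050301078a4d2af) (nat_lit 1540))
) (.node (nat_lit 0x9050301078b4d2ff) (.leaf (nat_lit 0x9050301078b4c2cf) (nat_lit 1537))
 (.leaf (nat_lit 0x9050301078b4d2ff) (nat_lit 2053))
))))))))) (.node (nat_lit 0xb040201008040a09) (.node (nat_lit 0xa050201008040a05) (.node (nat_lit 0xa040301008040a0b) (.node (nat_lit 0xa040201048844a01) (.node (nat_lit 0xa04020102804aa01) (.node (nat_lit 0xa040201018040aa1) (.node (nat_lit 0xa040201008244a01) (.node (nat_lit 0xa040201008140a41) (.node (nat_lit 0xa040201008041a21) (.leaf (nat_lit 0xa040201008040a01) (nat_lit 260))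
 (.leaf (nat_lit 0xa040201008041a21) (nat_lit 1792))
) (.node (nat_lit 0xa040201008141a61) (.leaf (nat_lit 0xa040201008140a41) (nat_lit 1794))
 (.leaf (nat_lit 0xa040201008141a61) (nat_lit 2821))
)) (.node (nat_lit 0xa040201008344a41) (.node (nat_lit 0xa040201008245a21) (.leaf (nat_lit 0xa040201008244a01) (nat_lit 770))
 (.leaf (nat_lit 0xa040201008245a21) (nat_lit 1283))
) (.node (nat_lit 0xa040201008345a61) (.leaf (nat_lit 0xa040201008344a41) (nat_lit 1796))
 (.leaf (nat_lit 0xa040201008345a61) (nat_lit 2307))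
))) (.node (nat_lit 0xa040201018244aa1) (.node (nat_lit 0xa040201018140ae1) (.node (nat_lit 0xa040201018041a81) (.leaf (nat_lit 0xa040201018040aa1) (nat_lit 1282))
 (.leaf (nat_lit 0xa040201018041a81) (nat_lit 1285))
) (.node (nat_lit 0xa040201018141ac1) (.leaf (nat_lit 0xa040201018140ae1) (nat_lit 1794))
 (.leaf (nat_lit 0xa040201018141ac1) (nat_lit 1793))
)) (.node (nat_lit 0xa040201018344ae1) (.node (nat_lit 0xa040201018245a81) (.leaf (nat_lit 0xa040201018244aa1) (nat_lit 1283))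
 (.leaf (nat_lit 0xa040201018245a81) (nat_lit 1282))
) (.node (nat_lit 0xa040201018345ac1) (.leaf (nat_lit 0xa040201018344ae1) (nat_lit 1793))
 (.leaf (nat_lit 0xa040201018345ac1) (nat_lit 1797))
)))) (.node (nat_lit 0xa04020103804aaa1) (.node (nat_lit 0xa04020102824ea01) (.node (nat_lit 0xa04020102814aa41) (.node (nat_lit 0xa04020102804ba21) (.leaf (nat_lit 0xa04020102804aa01) (nat_lit 517))
 (.leaf (nat_lit 0xa04020102804ba21) (nat_lit 2049))
) (.node (nat_lit 0xa04020102814ba61) (.leaf (nat_lit 0xa04020102814aa41) (nat_lit 2053))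
 (.leaf (nat_lit 0xa04020102814ba61) (nat_lit 2560))
)) (.node (nat_lit 0xa04020102834ea41) (.node (nat_lit 0xa04020102824fa21) (.leaf (nat_lit 0xa04020102824ea01) (nat_lit 1025))
 (.leaf (nat_lit 0xa04020102824fa21) (nat_lit 1539))
) (.node (nat_lit 0xa04020102834fa61) (.leaf (nat_lit 0xa04020102834ea41) (nat_lit 2053))
 (.leaf (nat_lit 0xa04020102834fa61) (nat_lit 2560))
))) (.node (nat_lit 0xa04020103824eaa1) (.node (nat_lit 0xa04020103814aae1) (.node (nat_lit 0xa04020103804ba81) (.leaf (nat_lit 0xa04020103804aaa1) (nat_lit 1024))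
 (.leaf (nat_lit 0xa04020103804ba81) (nat_lit 1028))
) (.node (nat_lit 0xa04020103814bac1) (.leaf (nat_lit 0xa04020103814aae1) (nat_lit 2049))
 (.leaf (nat_lit 0xa04020103814bac1) (nat_lit 2050))
)) (.node (nat_lit 0xa04020103834eae1) (.node (nat_lit 0xa04020103824fa81) (.leaf (nat_lit 0xa04020103824eaa1) (nat_lit 1541))
 (.leaf (nat_lit 0xa04020103824fa81) (nat_lit 1538))
) (.node (nat_lit 0xa04020103834fac1) (.leaf (nat_lit 0xa04020103834eae1) (nat_lit 1537))
 (.leaf (nat_lit 0xa04020103834fac1) (nat_lit 1540))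
))))) (.node (nat_lit 0xa04020106884ea01) (.node (nat_lit 0xa040201058844aa1) (.node (nat_lit 0xa040201048a40a01) (.node (nat_lit 0xa040201048944a41) (.node (nat_lit 0xa040201048845a21) (.leaf (nat_lit 0xa040201048844a01) (nat_lit 516))
 (.leaf (nat_lit 0xa040201048845a21) (nat_lit 1538))
) (.node (nat_lit 0xa040201048945a61) (.leaf (nat_lit 0xa040201048944a41) (nat_lit 1536))
 (.leaf (nat_lit 0xa040201048945a61) (nat_lit 2565))
)) (.node (nat_lit 0xa040201048b40a41) (.node (nat_lit 0xa040201048a41a21) (.leaf (nat_lit 0xa040201048a40a01) (nat_lit 514))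
 (.leaf (nat_lit 0xa040201048a41a21) (nat_lit 1539))
) (.node (nat_lit 0xa040201048b41a61) (.leaf (nat_lit 0xa040201048b40a41) (nat_lit 1540))
 (.leaf (nat_lit 0xa040201048b41a61) (nat_lit 2563))
))) (.node (nat_lit 0xa040201058a40aa1) (.node (nat_lit 0xa040201058944ae1) (.node (nat_lit 0xa040201058845a81) (.leaf (nat_lit 0xa040201058844aa1) (nat_lit 1538))
 (.leaf (nat_lit 0xa040201058845a81) (nat_lit 1028))
) (.node (nat_lit 0xa040201058945ac1) (.leaf (nat_lit 0xa040201058944ae1) (nat_lit 2050))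
 (.leaf (nat_lit 0xa040201058945ac1) (nat_lit 1540))
)) (.node (nat_lit 0xa040201058b40ae1) (.node (nat_lit 0xa040201058a41a81) (.leaf (nat_lit 0xa040201058a40aa1) (nat_lit 1027))
 (.leaf (nat_lit 0xa040201058a41a81) (nat_lit 1541))
) (.node (nat_lit 0xa040201058b41ac1) (.leaf (nat_lit 0xa040201058b40ae1) (nat_lit 1537))
 (.leaf (nat_lit 0xa040201058b41ac1) (nat_lit 2053))
)))) (.node (nat_lit 0xa04020107884eaa1) (.node (nat_lit 0xa040201068a4aa01) (.node (nat_lit 0xa04020106894ea41) (.node (nat_lit 0xa04020106884fa21) (.leaf (nat_lit 0xa04020106884ea01) (nat_lit 773))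
 (.leaf (nat_lit 0xa04020106884fa21) (nat_lit 1794))
) (.node (nat_lit 0xa04020106894fa61) (.leaf (nat_lit 0xa04020106894ea41) (nat_lit 1797))
 (.leaf (nat_lit 0xa04020106894fa61) (nat_lit 2304))
)) (.node (nat_lit 0xa040201068b4aa41) (.node (nat_lit 0xa040201068a4ba21) (.leaf (nat_lit 0xa040201068a4aa01) (nat_lit 773))
 (.leaf (nat_lit 0xa040201068a4ba21) (nat_lit 1795))
) (.node (nat_lit 0xa040201068b4ba61) (.leaf (nat_lit 0xa040201068b4aa41) (nat_lit 1797))
 (.leaf (nat_lit 0xa040201068b4ba61) (nat_lit 2305))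
))) (.node (nat_lit 0xa040201078a4aaa1) (.node (nat_lit 0xa04020107894eae1) (.node (nat_lit 0xa04020107884fa81) (.leaf (nat_lit 0xa04020107884eaa1) (nat_lit 1280))
 (.leaf (nat_lit 0xa04020107884fa81) (nat_lit 1284))
) (.node (nat_lit 0xa04020107894fac1) (.leaf (nat_lit 0xa04020107894eae1) (nat_lit 1793))
 (.leaf (nat_lit 0xa04020107894fac1) (nat_lit 1794))
)) (.node (nat_lit 0xa040201078b4aae1) (.node (nat_lit 0xa040201078a4ba81) (.leaf (nat_lit 0xa040201078a4aaa1) (nat_lit 1285))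
 (.leaf (nat_lit 0xa040201078a4ba81) (nat_lit 1282))
) (.node (nat_lit 0xa040201078b4bac1) (.leaf (nat_lit 0xa040201078b4aae1) (nat_lit 1793))
 (.leaf (nat_lit 0xa040201078b4bac1) (nat_lit 1796))
)))))) (.node (nat_lit 0xa040301048844a4b) (.node (nat_lit 0xa04030102804aaab) (.node (nat_lit 0xa040301018040aab) (.node (nat_lit 0xa040301008244a4b) (.node (nat_lit 0xa040301008140a4b) (.node (nat_lit 0xa040301008041a3b) (.leaf (nat_lit 0xa040301008040a0b) (nat_lit 512))
 (.leaf (nat_lit 0xa040301008041a3b) (nat_lit 1541))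
) (.node (nat_lit 0xa040301008141a7b) (.leaf (nat_lit 0xa040301008140a4b) (nat_lit 1540))
 (.leaf (nat_lit 0xa040301008141a7b) (nat_lit 2562))
)) (.node (nat_lit 0xa040301008344a0b) (.node (nat_lit 0xa040301008245a7b) (.leaf (nat_lit 0xa040301008244a4b) (nat_lit 1026))
 (.leaf (nat_lit 0xa040301008245a7b) (nat_lit 1539))
) (.node (nat_lit 0xa040301008345a3b) (.leaf (nat_lit 0xa040301008344a0b) (nat_lit 1541))
 (.leaf (nat_lit 0xa040301008345a3b) (nat_lit 2051))
))) (.node (nat_lit 0xa040301018244aeb) (.node (nat_lit 0xa040301018140aeb) (.node (nat_lit 0xa040301018041a9b) (.leaf (nat_lit 0xa040301018040aab) (nat_lit 1029))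
 (.leaf (nat_lit 0xa040301018041a9b) (nat_lit 1536))
) (.node (nat_lit 0xa040301018141adb) (.leaf (nat_lit 0xa040301018140aeb) (nat_lit 1537))
 (.leaf (nat_lit 0xa040301018141adb) (nat_lit 2052))
)) (.node (nat_lit 0xa040301018344aab) (.node (nat_lit 0xa040301018245adb) (.leaf (nat_lit 0xa040301018244aeb) (nat_lit 1541))
 (.leaf (nat_lit 0xa040301018245adb) (nat_lit 1538))
) (.node (nat_lit 0xa040301018345a9b) (.leaf (nat_lit 0xa040301018344aab) (nat_lit 1537))
 (.leaf (nat_lit 0xa040301018345a9b) (nat_lit 2050))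
)))) (.node (nat_lit 0xa04030103804aa0b) (.node (nat_lit 0xa04030102824eaeb) (.node (nat_lit 0xa04030102814aaeb) (.node (nat_lit 0xa04030102804ba9b) (.leaf (nat_lit 0xa04030102804aaab) (nat_lit 768))
 (.leaf (nat_lit 0xa04030102804ba9b) (nat_lit 1796))
) (.node (nat_lit 0xa04030102814badb) (.leaf (nat_lit 0xa04030102814aaeb) (nat_lit 1797))
 (.leaf (nat_lit 0xa04030102814badb) (nat_lit 2309))
)) (.node (nat_lit 0xa04030102834eaab) (.node (nat_lit 0xa04030102824fadb) (.leaf (nat_lit 0xa04030102824eaeb) (nat_lit 1281))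
 (.leaf (nat_lit 0xa04030102824fadb) (nat_lit 1796))
) (.node (nat_lit 0xa04030102834fa9b) (.leaf (nat_lit 0xa04030102834eaab) (nat_lit 1796))
 (.leaf (nat_lit 0xa04030102834fa9b) (nat_lit 2309))
))) (.node (nat_lit 0xa04030103824ea4b) (.node (nat_lit 0xa04030103814aa4b) (.node (nat_lit 0xa04030103804ba3b) (.leaf (nat_lit 0xa04030103804aa0b) (nat_lit 773))
 (.leaf (nat_lit 0xa04030103804ba3b) (nat_lit 1280))
) (.node (nat_lit 0xa04030103814ba7b) (.leaf (nat_lit 0xa04030103814aa4b) (nat_lit 1793))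
 (.leaf (nat_lit 0xa04030103814ba7b) (nat_lit 2306))
)) (.node (nat_lit 0xa04030103834ea0b) (.node (nat_lit 0xa04030103824fa7b) (.leaf (nat_lit 0xa04030103824ea4b) (nat_lit 1285))
 (.leaf (nat_lit 0xa04030103824fa7b) (nat_lit 1794))
) (.node (nat_lit 0xa04030103834fa3b) (.leaf (nat_lit 0xa04030103834ea0b) (nat_lit 1281))
 (.leaf (nat_lit 0xa04030103834fa3b) (nat_lit 1795))
))))) (.node (nat_lit 0xa04030106884eaeb) (.node (nat_lit 0xa040301058844aeb) (.node (nat_lit 0xa040301048a40a0b) (.node (nat_lit 0xa040301048944a0b) (.node (nat_lit 0xa040301048845a7b) (.leaf (nat_lit 0xa040301048844a4b) (nat_lit 768))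
 (.leaf (nat_lit 0xa040301048845a7b) (nat_lit 1797))
) (.node (nat_lit 0xa040301048945a3b) (.leaf (nat_lit 0xa040301048944a0b) (nat_lit 1284))
 (.leaf (nat_lit 0xa040301048945a3b) (nat_lit 2306))
)) (.node (nat_lit 0xa040301048b40a4b) (.node (nat_lit 0xa040301048a41a3b) (.leaf (nat_lit 0xa040301048a40a0b) (nat_lit 770))
 (.leaf (nat_lit 0xa040301048a41a3b) (nat_lit 1797))
) (.node (nat_lit 0xa040301048b41a7b) (.leaf (nat_lit 0xa040301048b40a4b) (nat_lit 1795))
 (.leaf (nat_lit 0xa040301048b41a7b) (nat_lit 2307))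
))) (.node (nat_lit 0xa040301058a40aab) (.node (nat_lit 0xa040301058944aab) (.node (nat_lit 0xa040301058845adb) (.leaf (nat_lit 0xa040301058844aeb) (nat_lit 1285))
 (.leaf (nat_lit 0xa040301058845adb) (nat_lit 1280))
) (.node (nat_lit 0xa040301058945a9b) (.leaf (nat_lit 0xa040301058944aab) (nat_lit 1793))
 (.leaf (nat_lit 0xa040301058945a9b) (nat_lit 1796))
)) (.node (nat_lit 0xa040301058b40aeb) (.node (nat_lit 0xa040301058a41a9b) (.leaf (nat_lit 0xa040301058a40aab) (nat_lit 1283))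
 (.leaf (nat_lit 0xa040301058a41a9b) (nat_lit 1792))
) (.node (nat_lit 0xa040301058b41adb) (.leaf (nat_lit 0xa040301058b40aeb) (nat_lit 1793))
 (.leaf (nat_lit 0xa040301058b41adb) (nat_lit 2306))
)))) (.node (nat_lit 0xa04030107884ea4b) (.node (nat_lit 0xa040301068a4aaab) (.node (nat_lit 0xa04030106894eaab) (.node (nat_lit 0xa04030106884fadb) (.leaf (nat_lit 0xa04030106884eaeb) (nat_lit 1024))
 (.leaf (nat_lit 0xa04030106884fadb) (nat_lit 1541))
) (.node (nat_lit 0xa04030106894fa9b) (.leaf (nat_lit 0xa04030106894eaab) (nat_lit 1540))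
 (.leaf (nat_lit 0xa04030106894fa9b) (nat_lit 2053))
)) (.node (nat_lit 0xa040301068b4aaeb) (.node (nat_lit 0xa040301068a4ba9b) (.leaf (nat_lit 0xa040301068a4aaab) (nat_lit 1024))
 (.leaf (nat_lit 0xa040301068a4ba9b) (nat_lit 2051))
) (.node (nat_lit 0xa040301068b4badb) (.leaf (nat_lit 0xa040301068b4aaeb) (nat_lit 2053))
 (.leaf (nat_lit 0xa040301068b4badb) (nat_lit 2049))
))) (.node (nat_lit 0xa040301078a4aa0b) (.node (nat_lit 0xa04030107894ea0b) (.node (nat_lit 0xa04030107884fa7b) (.leaf (nat_lit 0xa04030107884ea4b) (nat_lit 1029))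
 (.leaf (nat_lit 0xa04030107884fa7b) (nat_lit 1536))
) (.node (nat_lit 0xa04030107894fa3b) (.leaf (nat_lit 0xa04030107894ea0b) (nat_lit 1537))
 (.leaf (nat_lit 0xa04030107894fa3b) (nat_lit 2050))
)) (.node (nat_lit 0xa040301078b4aa4b) (.node (nat_lit 0xa040301078a4ba3b) (.leaf (nat_lit 0xa040301078a4aa0b) (nat_lit 1029))
 (.leaf (nat_lit 0xa040301078a4ba3b) (nat_lit 1538))
) (.node (nat_lit 0xa040301078b4ba7b) (.leaf (nat_lit 0xa040301078b4aa4b) (nat_lit 1537))
 (.leaf (nat_lit 0xa040301078b4ba7b) (nat_lit 2051))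
))))))) (.node (nat_lit 0xa050301008040a0f) (.node (nat_lit 0xa050201048844a85) (.node (nat_lit 0xa05020102804aa05) (.node (nat_lit 0xa050201018040aa5) (.node (nat_lit 0xa050201008244a25) (.node (nat_lit 0xa050201008140a55) (.node (nat_lit 0xa050201008041a25) (.leaf (nat_lit 0xa050201008040a05) (nat_lit 516))
 (.leaf (nat_lit 0xa050201008041a25) (nat_lit 2048))
) (.node (nat_lit 0xa050201008141a75) (.leaf (nat_lit 0xa050201008140a55) (nat_lit 2050))
 (.leaf (nat_lit 0xa050201008141a75) (nat_lit 2565))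
)) (.node (nat_lit 0xa050201008344a75) (.node (nat_lit 0xa050201008245a05) (.leaf (nat_lit 0xa050201008244a25) (nat_lit 1027))
 (.leaf (nat_lit 0xa050201008245a05) (nat_lit 1026))
) (.node (nat_lit 0xa050201008345a55) (.leaf (nat_lit 0xa050201008344a75) (nat_lit 2049))
 (.leaf (nat_lit 0xa050201008345a55) (nat_lit 2050))
))) (.node (nat_lit 0xa050201018244a85) (.node (nat_lit 0xa050201018140af5) (.node (nat_lit 0xa050201018041a85) (.leaf (nat_lit 0xa050201018040aa5) (nat_lit 1026))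
 (.leaf (nat_lit 0xa050201018041a85) (nat_lit 1028))
) (.node (nat_lit 0xa050201018141ad5) (.leaf (nat_lit 0xa050201018140af5) (nat_lit 2049))
 (.leaf (nat_lit 0xa050201018141ad5) (nat_lit 2048))
)) (.node (nat_lit 0xa050201018344ad5) (.node (nat_lit 0xa050201018245aa5) (.leaf (nat_lit 0xa050201018244a85) (nat_lit 1026))
 (.leaf (nat_lit 0xa050201018245aa5) (nat_lit 1539))
) (.node (nat_lit 0xa050201018345af5) (.leaf (nat_lit 0xa050201018344ad5) (nat_lit 2052))
 (.leaf (nat_lit 0xa050201018345af5) (nat_lit 2053))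
)))) (.node (nat_lit 0xa05020103804aaa5) (.node (nat_lit 0xa05020102824ea25) (.node (nat_lit 0xa05020102814aa55) (.node (nat_lit 0xa05020102804ba25) (.leaf (nat_lit 0xa05020102804aa05) (nat_lit 773))
 (.leaf (nat_lit 0xa05020102804ba25) (nat_lit 1793))
) (.node (nat_lit 0xa05020102814ba75) (.leaf (nat_lit 0xa05020102814aa55) (nat_lit 2305))
 (.leaf (nat_lit 0xa05020102814ba75) (nat_lit 2304))
)) (.node (nat_lit 0xa05020102834ea75) (.node (nat_lit 0xa05020102824fa05) (.leaf (nat_lit 0xa05020102824ea25) (nat_lit 1283))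
 (.leaf (nat_lit 0xa05020102824fa05) (nat_lit 1281))
) (.node (nat_lit 0xa05020102834fa55) (.leaf (nat_lit 0xa05020102834ea75) (nat_lit 2309))
 (.leaf (nat_lit 0xa05020102834fa55) (nat_lit 2309))
))) (.node (nat_lit 0xa05020103824ea85) (.node (nat_lit 0xa05020103814aaf5) (.node (nat_lit 0xa05020103804ba85) (.leaf (nat_lit 0xa05020103804aaa5) (nat_lit 1280))
 (.leaf (nat_lit 0xa05020103804ba85) (nat_lit 1284))
) (.node (nat_lit 0xa05020103814bad5) (.leaf (nat_lit 0xa05020103814aaf5) (nat_lit 2309))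
 (.leaf (nat_lit 0xa05020103814bad5) (nat_lit 2309))
)) (.node (nat_lit 0xa05020103834ead5) (.node (nat_lit 0xa05020103824faa5) (.leaf (nat_lit 0xa05020103824ea85) (nat_lit 1285))
 (.leaf (nat_lit 0xa05020103824faa5) (nat_lit 1795))
) (.node (nat_lit 0xa05020103834faf5) (.leaf (nat_lit 0xa05020103834ead5) (nat_lit 1796))
 (.leaf (nat_lit 0xa05020103834faf5) (nat_lit 1793))
))))) (.node (nat_lit 0xa05020106884ea85) (.node (nat_lit 0xa050201058844a25) (.node (nat_lit 0xa050201048a40aa5) (.node (nat_lit 0xa050201048944ad5) (.node (nat_lit 0xa050201048845aa5) (.leaf (nat_lit 0xa050201048844a85) (nat_lit 772))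
 (.leaf (nat_lit 0xa050201048845aa5) (nat_lit 1794))
) (.node (nat_lit 0xa050201048945af5) (.leaf (nat_lit 0xa050201048944ad5) (nat_lit 1796))
 (.leaf (nat_lit 0xa050201048945af5) (nat_lit 2309))
)) (.node (nat_lit 0xa050201048b40af5) (.node (nat_lit 0xa050201048a41a85) (.leaf (nat_lit 0xa050201048a40aa5) (nat_lit 771))
 (.leaf (nat_lit 0xa050201048a41a85) (nat_lit 1282))
) (.node (nat_lit 0xa050201048b41ad5) (.leaf (nat_lit 0xa050201048b40af5) (nat_lit 1793))
 (.leaf (nat_lit 0xa050201048b41ad5) (nat_lit 2306))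
))) (.node (nat_lit 0xa050201058a40a05) (.node (nat_lit 0xa050201058944a75) (.node (nat_lit 0xa050201058845a05) (.leaf (nat_lit 0xa050201058844a25) (nat_lit 1282))
 (.leaf (nat_lit 0xa050201058845a05) (nat_lit 772))
) (.node (nat_lit 0xa050201058945a55) (.leaf (nat_lit 0xa050201058944a75) (nat_lit 2305))
 (.leaf (nat_lit 0xa050201058945a55) (nat_lit 1792))
)) (.node (nat_lit 0xa050201058b40a55) (.node (nat_lit 0xa050201058a41a25) (.leaf (nat_lit 0xa050201058a40a05) (nat_lit 770))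
 (.leaf (nat_lit 0xa050201058a41a25) (nat_lit 1797))
) (.node (nat_lit 0xa050201058b41a75) (.leaf (nat_lit 0xa050201058b40a55) (nat_lit 1796))
 (.leaf (nat_lit 0xa050201058b41a75) (nat_lit 2309))
)))) (.node (nat_lit 0xa05020107884ea25) (.node (nat_lit 0xa050201068a4aaa5) (.node (nat_lit 0xa05020106894ead5) (.node (nat_lit 0xa05020106884faa5) (.leaf (nat_lit 0xa05020106884ea85) (nat_lit 1029))
 (.leaf (nat_lit 0xa05020106884faa5) (nat_lit 1536))
) (.node (nat_lit 0xa05020106894faf5) (.leaf (nat_lit 0xa05020106894ead5) (nat_lit 2050))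
 (.leaf (nat_lit 0xa05020106894faf5) (nat_lit 2048))
)) (.node (nat_lit 0xa050201068b4aaf5) (.node (nat_lit 0xa050201068a4ba85) (.leaf (nat_lit 0xa050201068a4aaa5) (nat_lit 1029))
 (.leaf (nat_lit 0xa050201068a4ba85) (nat_lit 1538))
) (.node (nat_lit 0xa050201068b4bad5) (.leaf (nat_lit 0xa050201068b4aaf5) (nat_lit 2053))
 (.leaf (nat_lit 0xa050201068b4bad5) (nat_lit 2052))
))) (.node (nat_lit 0xa050201078a4aa05) (.node (nat_lit 0xa05020107894ea75) (.node (nat_lit 0xa05020107884fa05) (.leaf (nat_lit 0xa05020107884ea25) (nat_lit 1538))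
 (.leaf (nat_lit 0xa05020107884fa05) (nat_lit 1029))
) (.node (nat_lit 0xa05020107894fa55) (.leaf (nat_lit 0xa05020107894ea75) (nat_lit 2048))
 (.leaf (nat_lit 0xa05020107894fa55) (nat_lit 2053))
)) (.node (nat_lit 0xa050201078b4aa55) (.node (nat_lit 0xa050201078a4ba25) (.leaf (nat_lit 0xa050201078a4aa05) (nat_lit 1029))
 (.leaf (nat_lit 0xa050201078a4ba25) (nat_lit 1539))
) (.node (nat_lit 0xa050201078b4ba75) (.leaf (nat_lit 0xa050201078b4aa55) (nat_lit 2049))
 (.leaf (nat_lit 0xa050201078b4ba75) (nat_lit 2049))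
)))))) (.node (nat_lit 0xa050301048844acf) (.node (nat_lit 0xa05030102804aaaf) (.node (nat_lit 0xa050301018040aaf) (.node (nat_lit 0xa050301008244a6f) (.node (nat_lit 0xa050301008140a5f) (.node (nat_lit 0xa050301008041a3f) (.leaf (nat_lit 0xa050301008040a0f) (nat_lit 768))
 (.leaf (nat_lit 0xa050301008041a3f) (nat_lit 1797))
) (.node (nat_lit 0xa050301008141a6f) (.leaf (nat_lit 0xa050301008140a5f) (nat_lit 1796))
 (.leaf (nat_lit 0xa050301008141a6f) (nat_lit 2305))
)) (.node (nat_lit 0xa050301008344a3f) (.node (nat_lit 0xa050301008245a5f) (.leaf (nat_lit 0xa050301008244a6f) (nat_lit 1283))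
 (.leaf (nat_lit 0xa050301008245a5f) (nat_lit 1282))
) (.node (nat_lit 0xa050301008345a0f) (.leaf (nat_lit 0xa050301008344a3f) (nat_lit 1793))
 (.leaf (nat_lit 0xa050301008345a0f) (nat_lit 1794))
))) (.node (nat_lit 0xa050301018244acf) (.node (nat_lit 0xa050301018140aff) (.node (nat_lit 0xa050301018041a9f) (.leaf (nat_lit 0xa050301018040aaf) (nat_lit 1285))
 (.leaf (nat_lit 0xa050301018041a9f) (nat_lit 1280))
) (.node (nat_lit 0xa050301018141acf) (.leaf (nat_lit 0xa050301018140aff) (nat_lit 1794))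
 (.leaf (nat_lit 0xa050301018141acf) (nat_lit 1796))
)) (.node (nat_lit 0xa050301018344a9f) (.node (nat_lit 0xa050301018245aff) (.leaf (nat_lit 0xa050301018244acf) (nat_lit 1282))
 (.leaf (nat_lit 0xa050301018245aff) (nat_lit 1797))
) (.node (nat_lit 0xa050301018345aaf) (.leaf (nat_lit 0xa050301018344a9f) (nat_lit 1794))
 (.leaf (nat_lit 0xa050301018345aaf) (nat_lit 1793))
)))) (.node (nat_lit 0xa05030103804aa0f) (.node (nat_lit 0xa05030102824eacf) (.node (nat_lit 0xa05030102814aaff) (.node (nat_lit 0xa05030102804ba9f) (.leaf (nat_lit 0xa05030102804aaaf) (nat_lit 1024))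
 (.leaf (nat_lit 0xa05030102804ba9f) (nat_lit 1540))
) (.node (nat_lit 0xa05030102814bacf) (.leaf (nat_lit 0xa05030102814aaff) (nat_lit 2053))
 (.leaf (nat_lit 0xa05030102814bacf) (nat_lit 2053))
)) (.node (nat_lit 0xa05030102834ea9f) (.node (nat_lit 0xa05030102824faff) (.leaf (nat_lit 0xa05030102824eacf) (nat_lit 1540))
 (.leaf (nat_lit 0xa05030102824faff) (nat_lit 1537))
) (.node (nat_lit 0xa05030102834faaf) (.leaf (nat_lit 0xa05030102834ea9f) (nat_lit 2050))
 (.leaf (nat_lit 0xa05030102834faaf) (nat_lit 2052))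
))) (.node (nat_lit 0xa05030103824ea6f) (.node (nat_lit 0xa05030103814aa5f) (.node (nat_lit 0xa05030103804ba3f) (.leaf (nat_lit 0xa05030103804aa0f) (nat_lit 1029))
 (.leaf (nat_lit 0xa05030103804ba3f) (nat_lit 1536))
) (.node (nat_lit 0xa05030103814ba6f) (.leaf (nat_lit 0xa05030103814aa5f) (nat_lit 2052))
 (.leaf (nat_lit 0xa05030103814ba6f) (nat_lit 2052))
)) (.node (nat_lit 0xa05030103834ea3f) (.node (nat_lit 0xa05030103824fa5f) (.leaf (nat_lit 0xa05030103824ea6f) (nat_lit 1536))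
 (.leaf (nat_lit 0xa05030103824fa5f) (nat_lit 1541))
) (.node (nat_lit 0xa05030103834fa0f) (.leaf (nat_lit 0xa05030103834ea3f) (nat_lit 1539))
 (.leaf (nat_lit 0xa05030103834fa0f) (nat_lit 1537))
))))) (.node (nat_lit 0xa05030106884ea6f) (.node (nat_lit 0xa050301058844a6f) (.node (nat_lit 0xa050301048a40aaf) (.node (nat_lit 0xa050301048944a9f) (.node (nat_lit 0xa050301048845aff) (.leaf (nat_lit 0xa050301048844acf) (nat_lit 1024))
 (.leaf (nat_lit 0xa050301048845aff) (nat_lit 1541))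
) (.node (nat_lit 0xa050301048945aaf) (.leaf (nat_lit 0xa050301048944a9f) (nat_lit 1540))
 (.leaf (nat_lit 0xa050301048945aaf) (nat_lit 2049))
)) (.node (nat_lit 0xa050301048b40aff) (.node (nat_lit 0xa050301048a41a9f) (.leaf (nat_lit 0xa050301048a40aaf) (nat_lit 1027))
 (.leaf (nat_lit 0xa050301048a41a9f) (nat_lit 1538))
) (.node (nat_lit 0xa050301048b41acf) (.leaf (nat_lit 0xa050301048b40aff) (nat_lit 1537))
 (.leaf (nat_lit 0xa050301048b41acf) (nat_lit 2050))
))) (.node (nat_lit 0xa050301058a40a0f) (.node (nat_lit 0xa050301058944a3f) (.node (nat_lit 0xa050301058845a5f) (.leaf (nat_lit 0xa050301058844a6f) (nat_lit 1541))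
 (.leaf (nat_lit 0xa050301058845a5f) (nat_lit 1024))
) (.node (nat_lit 0xa050301058945a0f) (.leaf (nat_lit 0xa050301058944a3f) (nat_lit 2050))
 (.leaf (nat_lit 0xa050301058945a0f) (nat_lit 1540))
)) (.node (nat_lit 0xa050301058b40a5f) (.node (nat_lit 0xa050301058a41a3f) (.leaf (nat_lit 0xa050301058a40a0f) (nat_lit 1026))
 (.leaf (nat_lit 0xa050301058a41a3f) (nat_lit 2053))
) (.node (nat_lit 0xa050301058b41a6f) (.leaf (nat_lit 0xa050301058b40a5f) (nat_lit 2051))
 (.leaf (nat_lit 0xa050301058b41a6f) (nat_lit 2049))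
)))) (.node (nat_lit 0xa05030107884eacf) (.node (nat_lit 0xa050301068a4aa0f) (.node (nat_lit 0xa05030106894ea3f) (.node (nat_lit 0xa05030106884fa5f) (.leaf (nat_lit 0xa05030106884ea6f) (nat_lit 1280))
 (.leaf (nat_lit 0xa05030106884fa5f) (nat_lit 1285))
) (.node (nat_lit 0xa05030106894fa0f) (.leaf (nat_lit 0xa05030106894ea3f) (nat_lit 1796))
 (.leaf (nat_lit 0xa05030106894fa0f) (nat_lit 1797))
)) (.node (nat_lit 0xa050301068b4aa5f) (.node (nat_lit 0xa050301068a4ba3f) (.leaf (nat_lit 0xa050301068a4aa0f) (nat_lit 1285))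
 (.leaf (nat_lit 0xa050301068a4ba3f) (nat_lit 1794))
) (.node (nat_lit 0xa050301068b4ba6f) (.leaf (nat_lit 0xa050301068b4aa5f) (nat_lit 1793))
 (.leaf (nat_lit 0xa050301068b4ba6f) (nat_lit 2307))
))) (.node (nat_lit 0xa050301078a4aaaf) (.node (nat_lit 0xa05030107894ea9f) (.node (nat_lit 0xa05030107884faff) (.leaf (nat_lit 0xa05030107884eacf) (nat_lit 1285))
 (.leaf (nat_lit 0xa05030107884faff) (nat_lit 1280))
) (.node (nat_lit 0xa05030107894faaf) (.leaf (nat_lit 0xa05030107894ea9f) (nat_lit 1796))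
 (.leaf (nat_lit 0xa05030107894faaf) (nat_lit 1796))
)) (.node (nat_lit 0xa050301078b4aaff) (.node (nat_lit 0xa050301078a4ba9f) (.leaf (nat_lit 0xa050301078a4aaaf) (nat_lit 1280))
 (.leaf (nat_lit 0xa050301078a4ba9f) (nat_lit 1795))
) (.node (nat_lit 0xa050301078b4bacf) (.leaf (nat_lit 0xa050301078b4aaff) (nat_lit 1797))
 (.leaf (nat_lit 0xa050301078b4bacf) (nat_lit 1793))
)))))))) (.node (nat_lit 0xb050201008040a0d) (.node (nat_lit 0xb040301008040a03) (.node (nat_lit 0xb040201048844a49) (.node (nat_lit 0xb04020102804aa29) (.node (nat_lit 0xb040201018040ab9) (.node (nat_lit 0xb040201008244a09) (.node (nat_lit 0xb040201008140a49) (.node (nat_lit 0xb040201008041a29) (.leaf (nat_lit 0xb040201008040a09) (nat_lit 768))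
 (.leaf (nat_lit 0xb040201008041a29) (nat_lit 1285))
) (.node (nat_lit 0xb040201008141a69) (.leaf (nat_lit 0xb040201008140a49) (nat_lit 1796))
 (.leaf (nat_lit 0xb040201008141a69) (nat_lit 2306))
)) (.node (nat_lit 0xb040201008344a49) (.node (nat_lit 0xb040201008245a29) (.leaf (nat_lit 0xb040201008244a09) (nat_lit 1797))
 (.leaf (nat_lit 0xb040201008245a29) (nat_lit 1795))
) (.node (nat_lit 0xb040201008345a69) (.leaf (nat_lit 0xb040201008344a49) (nat_lit 1282))
 (.leaf (nat_lit 0xb040201008345a69) (nat_lit 1795))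
))) (.node (nat_lit 0xb040201018244ab9) (.node (nat_lit 0xb040201018140af9) (.node (nat_lit 0xb040201018041a99) (.leaf (nat_lit 0xb040201018040ab9) (nat_lit 1285))
 (.leaf (nat_lit 0xb040201018041a99) (nat_lit 1280))
) (.node (nat_lit 0xb040201018141ad9) (.leaf (nat_lit 0xb040201018140af9) (nat_lit 1793))
 (.leaf (nat_lit 0xb040201018141ad9) (nat_lit 1796))
)) (.node (nat_lit 0xb040201018344af9) (.node (nat_lit 0xb040201018245a99) (.leaf (nat_lit 0xb040201018244ab9) (nat_lit 1793))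
 (.leaf (nat_lit 0xb040201018245a99) (nat_lit 1794))
) (.node (nat_lit 0xb040201018345ad9) (.leaf (nat_lit 0xb040201018344af9) (nat_lit 1797))
 (.leaf (nat_lit 0xb040201018345ad9) (nat_lit 1794))
)))) (.node (nat_lit 0xb04020103804aa99) (.node (nat_lit 0xb04020102824ea29) (.node (nat_lit 0xb04020102814aa69) (.node (nat_lit 0xb04020102804ba09) (.leaf (nat_lit 0xb04020102804aa29) (nat_lit 1024))
 (.leaf (nat_lit 0xb04020102804ba09) (nat_lit 1029))
) (.node (nat_lit 0xb04020102814ba49) (.leaf (nat_lit 0xb04020102814aa69) (nat_lit 2050))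
 (.leaf (nat_lit 0xb04020102814ba49) (nat_lit 2049))
)) (.node (nat_lit 0xb04020102834ea69) (.node (nat_lit 0xb04020102824fa09) (.leaf (nat_lit 0xb04020102824ea29) (nat_lit 1539))
 (.leaf (nat_lit 0xb04020102824fa09) (nat_lit 1537))
) (.node (nat_lit 0xb04020102834fa49) (.leaf (nat_lit 0xb04020102834ea69) (nat_lit 1538))
 (.leaf (nat_lit 0xb04020102834fa49) (nat_lit 1541))
))) (.node (nat_lit 0xb04020103824ea99) (.node (nat_lit 0xb04020103814aad9) (.node (nat_lit 0xb04020103804bab9) (.leaf (nat_lit 0xb04020103804aa99) (nat_lit 1540))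
 (.leaf (nat_lit 0xb04020103804bab9) (nat_lit 1024))
) (.node (nat_lit 0xb04020103814baf9) (.leaf (nat_lit 0xb04020103814aad9) (nat_lit 2053))
 (.leaf (nat_lit 0xb04020103814baf9) (nat_lit 2053))
)) (.node (nat_lit 0xb04020103834ead9) (.node (nat_lit 0xb04020103824fab9) (.leaf (nat_lit 0xb04020103824ea99) (nat_lit 2053))
 (.leaf (nat_lit 0xb04020103824fab9) (nat_lit 2052))
) (.node (nat_lit 0xb04020103834faf9) (.leaf (nat_lit 0xb04020103834ead9) (nat_lit 2052))
 (.leaf (nat_lit 0xb04020103834faf9) (nat_lit 1537))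
))))) (.node (nat_lit 0xb04020106884ea69) (.node (nat_lit 0xb040201058844af9) (.node (nat_lit 0xb040201048a40a49) (.node (nat_lit 0xb040201048944a09) (.node (nat_lit 0xb040201048845a69) (.leaf (nat_lit 0xb040201048844a49) (nat_lit 1024))
 (.leaf (nat_lit 0xb040201048845a69) (nat_lit 1541))
) (.node (nat_lit 0xb040201048945a29) (.leaf (nat_lit 0xb040201048944a09) (nat_lit 1540))
 (.leaf (nat_lit 0xb040201048945a29) (nat_lit 2050))
)) (.node (nat_lit 0xb040201048b40a09) (.node (nat_lit 0xb040201048a41a69) (.leaf (nat_lit 0xb040201048a40a49) (nat_lit 1539))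
 (.leaf (nat_lit 0xb040201048a41a69) (nat_lit 2051))
) (.node (nat_lit 0xb040201048b41a29) (.leaf (nat_lit 0xb040201048b40a09) (nat_lit 1026))
 (.leaf (nat_lit 0xb040201048b41a29) (nat_lit 1541))
))) (.node (nat_lit 0xb040201058a40af9) (.node (nat_lit 0xb040201058944ab9) (.node (nat_lit 0xb040201058845ad9) (.leaf (nat_lit 0xb040201058844af9) (nat_lit 1541))
 (.leaf (nat_lit 0xb040201058845ad9) (nat_lit 1536))
) (.node (nat_lit 0xb040201058945a99) (.leaf (nat_lit 0xb040201058944ab9) (nat_lit 2049))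
 (.leaf (nat_lit 0xb040201058945a99) (nat_lit 1540))
)) (.node (nat_lit 0xb040201058b40ab9) (.node (nat_lit 0xb040201058a41ad9) (.leaf (nat_lit 0xb040201058a40af9) (nat_lit 1537))
 (.leaf (nat_lit 0xb040201058a41ad9) (nat_lit 2050))
) (.node (nat_lit 0xb040201058b41a99) (.leaf (nat_lit 0xb040201058b40ab9) (nat_lit 1539))
 (.leaf (nat_lit 0xb040201058b41a99) (nat_lit 1536))
)))) (.node (nat_lit 0xb04020107884ead9) (.node (nat_lit 0xb040201068a4aa69) (.node (nat_lit 0xb04020106894ea29) (.node (nat_lit 0xb04020106884fa49) (.leaf (nat_lit 0xb04020106884ea69) (nat_lit 1280))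
 (.leaf (nat_lit 0xb04020106884fa49) (nat_lit 1285))
) (.node (nat_lit 0xb04020106894fa09) (.leaf (nat_lit 0xb04020106894ea29) (nat_lit 1794))
 (.leaf (nat_lit 0xb04020106894fa09) (nat_lit 1793))
)) (.node (nat_lit 0xb040201068b4aa29) (.node (nat_lit 0xb040201068a4ba49) (.leaf (nat_lit 0xb040201068a4aa69) (nat_lit 1795))
 (.leaf (nat_lit 0xb040201068a4ba49) (nat_lit 1793))
) (.node (nat_lit 0xb040201068b4ba09) (.leaf (nat_lit 0xb040201068b4aa29) (nat_lit 1282))
 (.leaf (nat_lit 0xb040201068b4ba09) (nat_lit 1285))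
))) (.node (nat_lit 0xb040201078a4aad9) (.node (nat_lit 0xb04020107894ea99) (.node (nat_lit 0xb04020107884faf9) (.leaf (nat_lit 0xb04020107884ead9) (nat_lit 1797))
 (.leaf (nat_lit 0xb04020107884faf9) (nat_lit 1280))
) (.node (nat_lit 0xb04020107894fab9) (.leaf (nat_lit 0xb04020107894ea99) (nat_lit 1797))
 (.leaf (nat_lit 0xb04020107894fab9) (nat_lit 1796))
)) (.node (nat_lit 0xb040201078b4aa99) (.node (nat_lit 0xb040201078a4baf9) (.leaf (nat_lit 0xb040201078a4aad9) (nat_lit 1793))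
 (.leaf (nat_lit 0xb040201078a4baf9) (nat_lit 1797))
) (.node (nat_lit 0xb040201078b4bab9) (.leaf (nat_lit 0xb040201078b4aa99) (nat_lit 1795))
 (.leaf (nat_lit 0xb040201078b4bab9) (nat_lit 1280))
)))))) (.node (nat_lit 0xb040301048844a03) (.node (nat_lit 0xb04030102804aa83) (.node (nat_lit 0xb040301018040ab3) (.node (nat_lit 0xb040301008244a43) (.node (nat_lit 0xb040301008140a43) (.node (nat_lit 0xb040301008041a33) (.leaf (nat_lit 0xb040301008040a03) (nat_lit 516))
 (.leaf (nat_lit 0xb040301008041a33) (nat_lit 1536))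
) (.node (nat_lit 0xb040301008141a73) (.leaf (nat_lit 0xb040301008140a43) (nat_lit 1538))
 (.leaf (nat_lit 0xb040301008141a73) (nat_lit 2565))
)) (.node (nat_lit 0xb040301008344a03) (.node (nat_lit 0xb040301008245a73) (.leaf (nat_lit 0xb040301008244a43) (nat_lit 1540))
 (.leaf (nat_lit 0xb040301008245a73) (nat_lit 2051))
) (.node (nat_lit 0xb040301008345a33) (.leaf (nat_lit 0xb040301008344a03) (nat_lit 1026))
 (.leaf (nat_lit 0xb040301008345a33) (nat_lit 1539))
))) (.node (nat_lit 0xb040301018244af3) (.node (nat_lit 0xb040301018140af3) (.node (nat_lit 0xb040301018041a83) (.leaf (nat_lit 0xb040301018040ab3) (nat_lit 1538))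
 (.leaf (nat_lit 0xb040301018041a83) (nat_lit 1029))
) (.node (nat_lit 0xb040301018141ac3) (.leaf (nat_lit 0xb040301018140af3) (nat_lit 2050))
 (.leaf (nat_lit 0xb040301018141ac3) (nat_lit 1537))
)) (.node (nat_lit 0xb040301018344ab3) (.node (nat_lit 0xb040301018245ac3) (.leaf (nat_lit 0xb040301018244af3) (nat_lit 2049))
 (.leaf (nat_lit 0xb040301018245ac3) (nat_lit 1541))
) (.node (nat_lit 0xb040301018345a83) (.leaf (nat_lit 0xb040301018344ab3) (nat_lit 1539))
 (.leaf (nat_lit 0xb040301018345a83) (nat_lit 1538))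
)))) (.node (nat_lit 0xb04030103804aa33) (.node (nat_lit 0xb04030102824eac3) (.node (nat_lit 0xb04030102814aac3) (.node (nat_lit 0xb04030102804bab3) (.leaf (nat_lit 0xb04030102804aa83) (nat_lit 772))
 (.leaf (nat_lit 0xb04030102804bab3) (nat_lit 1280))
) (.node (nat_lit 0xb04030102814baf3) (.leaf (nat_lit 0xb04030102814aac3) (nat_lit 1794))
 (.leaf (nat_lit 0xb04030102814baf3) (nat_lit 2305))
)) (.node (nat_lit 0xb04030102834ea83) (.node (nat_lit 0xb04030102824faf3) (.leaf (nat_lit 0xb04030102824eac3) (nat_lit 1284))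
 (.leaf (nat_lit 0xb04030102824faf3) (nat_lit 1793))
) (.node (nat_lit 0xb04030102834fab3) (.leaf (nat_lit 0xb04030102834ea83) (nat_lit 1282))
 (.leaf (nat_lit 0xb04030102834fab3) (nat_lit 1797))
))) (.node (nat_lit 0xb04030103824ea73) (.node (nat_lit 0xb04030103814aa73) (.node (nat_lit 0xb04030103804ba03) (.leaf (nat_lit 0xb04030103804aa33) (nat_lit 1793))
 (.leaf (nat_lit 0xb04030103804ba03) (nat_lit 773))
) (.node (nat_lit 0xb04030103814ba43) (.leaf (nat_lit 0xb04030103814aa73) (nat_lit 2304))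
 (.leaf (nat_lit 0xb04030103814ba43) (nat_lit 1797))
)) (.node (nat_lit 0xb04030103834ea33) (.node (nat_lit 0xb04030103824fa43) (.leaf (nat_lit 0xb04030103824ea73) (nat_lit 2304))
 (.leaf (nat_lit 0xb04030103824fa43) (nat_lit 1797))
) (.node (nat_lit 0xb04030103834fa03) (.leaf (nat_lit 0xb04030103834ea33) (nat_lit 1795))
 (.leaf (nat_lit 0xb04030103834fa03) (nat_lit 1281))
))))) (.node (nat_lit 0xb04030106884ea83) (.node (nat_lit 0xb040301058844ab3) (.node (nat_lit 0xb040301048a40a43) (.node (nat_lit 0xb040301048944a43) (.node (nat_lit 0xb040301048845a33) (.leaf (nat_lit 0xb040301048844a03) (nat_lit 772))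
 (.leaf (nat_lit 0xb040301048845a33) (nat_lit 1794))
) (.node (nat_lit 0xb040301048945a73) (.leaf (nat_lit 0xb040301048944a43) (nat_lit 1792))
 (.leaf (nat_lit 0xb040301048945a73) (nat_lit 2309))
)) (.node (nat_lit 0xb040301048b40a03) (.node (nat_lit 0xb040301048a41a73) (.leaf (nat_lit 0xb040301048a40a43) (nat_lit 1284))
 (.leaf (nat_lit 0xb040301048a41a73) (nat_lit 2307))
) (.node (nat_lit 0xb040301048b41a33) (.leaf (nat_lit 0xb040301048b40a03) (nat_lit 770))
 (.leaf (nat_lit 0xb040301048b41a33) (nat_lit 1795))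
))) (.node (nat_lit 0xb040301058a40af3) (.node (nat_lit 0xb040301058944af3) (.node (nat_lit 0xb040301058845a83) (.leaf (nat_lit 0xb040301058844ab3) (nat_lit 1794))
 (.leaf (nat_lit 0xb040301058845a83) (nat_lit 1284))
) (.node (nat_lit 0xb040301058945ac3) (.leaf (nat_lit 0xb040301058944af3) (nat_lit 2306))
 (.leaf (nat_lit 0xb040301058945ac3) (nat_lit 1796))
)) (.node (nat_lit 0xb040301058b40ab3) (.node (nat_lit 0xb040301058a41ac3) (.leaf (nat_lit 0xb040301058a40af3) (nat_lit 1793))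
 (.leaf (nat_lit 0xb040301058a41ac3) (nat_lit 1797))
) (.node (nat_lit 0xb040301058b41a83) (.leaf (nat_lit 0xb040301058b40ab3) (nat_lit 1283))
 (.leaf (nat_lit 0xb040301058b41a83) (nat_lit 1285))
)))) (.node (nat_lit 0xb04030107884ea33) (.node (nat_lit 0xb040301068a4aac3) (.node (nat_lit 0xb04030106894eac3) (.node (nat_lit 0xb04030106884fab3) (.leaf (nat_lit 0xb04030106884ea83) (nat_lit 1028))
 (.leaf (nat_lit 0xb04030106884fab3) (nat_lit 1536))
) (.node (nat_lit 0xb04030106894faf3) (.leaf (nat_lit 0xb04030106894eac3) (nat_lit 1538))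
 (.leaf (nat_lit 0xb04030106894faf3) (nat_lit 2049))
)) (.node (nat_lit 0xb040301068b4aa83) (.node (nat_lit 0xb040301068a4baf3) (.leaf (nat_lit 0xb040301068a4aac3) (nat_lit 1540))
 (.leaf (nat_lit 0xb040301068a4baf3) (nat_lit 2049))
) (.node (nat_lit 0xb040301068b4bab3) (.leaf (nat_lit 0xb040301068b4aa83) (nat_lit 1026))
 (.leaf (nat_lit 0xb040301068b4bab3) (nat_lit 1541))
))) (.node (nat_lit 0xb040301078a4aa73) (.node (nat_lit 0xb04030107894ea73) (.node (nat_lit 0xb04030107884fa03) (.leaf (nat_lit 0xb04030107884ea33) (nat_lit 2050))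
 (.leaf (nat_lit 0xb04030107884fa03) (nat_lit 1029))
) (.node (nat_lit 0xb04030107894fa43) (.leaf (nat_lit 0xb04030107894ea73) (nat_lit 2048))
 (.leaf (nat_lit 0xb04030107894fa43) (nat_lit 2053))
)) (.node (nat_lit 0xb040301078b4aa33) (.node (nat_lit 0xb040301078a4ba43) (.leaf (nat_lit 0xb040301078a4aa73) (nat_lit 2049))
 (.leaf (nat_lit 0xb040301078a4ba43) (nat_lit 1541))
) (.node (nat_lit 0xb040301078b4ba03) (.leaf (nat_lit 0xb040301078b4aa33) (nat_lit 1539))
 (.leaf (nat_lit 0xb040301078b4ba03) (nat_lit 1029))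
))))))) (.node (nat_lit 0xb050301008040a07) (.node (nat_lit 0xb050201048844acd) (.node (nat_lit 0xb05020102804aa2d) (.node (nat_lit 0xb050201018040abd) (.node (nat_lit 0xb050201008244a2d) (.node (nat_lit 0xb050201008140a5d) (.node (nat_lit 0xb050201008041a2d) (.leaf (nat_lit 0xb050201008040a0d) (nat_lit 1024))
 (.leaf (nat_lit 0xb050201008041a2d) (nat_lit 1541))
) (.node (nat_lit 0xb050201008141a7d) (.leaf (nat_lit 0xb050201008140a5d) (nat_lit 2052))
 (.leaf (nat_lit 0xb050201008141a7d) (nat_lit 2561))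
)) (.node (nat_lit 0xb050201008344a7d) (.node (nat_lit 0xb050201008245a0d) (.leaf (nat_lit 0xb050201008244a2d) (nat_lit 1537))
 (.leaf (nat_lit 0xb050201008245a0d) (nat_lit 1538))
) (.node (nat_lit 0xb050201008345a5d) (.leaf (nat_lit 0xb050201008344a7d) (nat_lit 1539))
 (.leaf (nat_lit 0xb050201008345a5d) (nat_lit 1538))
))) (.node (nat_lit 0xb050201018244a9d) (.node (nat_lit 0xb050201018140aed) (.node (nat_lit 0xb050201018041a9d) (.leaf (nat_lit 0xb050201018040abd) (nat_lit 1541))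
 (.leaf (nat_lit 0xb050201018041a9d) (nat_lit 1536))
) (.node (nat_lit 0xb050201018141acd) (.leaf (nat_lit 0xb050201018140aed) (nat_lit 1538))
 (.leaf (nat_lit 0xb050201018141acd) (nat_lit 1540))
)) (.node (nat_lit 0xb050201018344acd) (.node (nat_lit 0xb050201018245abd) (.leaf (nat_lit 0xb050201018244a9d) (nat_lit 2050))
 (.leaf (nat_lit 0xb050201018245abd) (nat_lit 2049))
) (.node (nat_lit 0xb050201018345aed) (.leaf (nat_lit 0xb050201018344acd) (nat_lit 1538))
 (.leaf (nat_lit 0xb050201018345aed) (nat_lit 2053))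
)))) (.node (nat_lit 0xb05020103804aa9d) (.node (nat_lit 0xb05020102824ea0d) (.node (nat_lit 0xb05020102814aa7d) (.node (nat_lit 0xb05020102804ba0d) (.leaf (nat_lit 0xb05020102804aa2d) (nat_lit 1280))
 (.leaf (nat_lit 0xb05020102804ba0d) (nat_lit 1285))
) (.node (nat_lit 0xb05020102814ba5d) (.leaf (nat_lit 0xb05020102814aa7d) (nat_lit 2308))
 (.leaf (nat_lit 0xb05020102814ba5d) (nat_lit 2308))
)) (.node (nat_lit 0xb05020102834ea5d) (.node (nat_lit 0xb05020102824fa2d) (.leaf (nat_lit 0xb05020102824ea0d) (nat_lit 1281))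
 (.leaf (nat_lit 0xb05020102824fa2d) (nat_lit 1795))
) (.node (nat_lit 0xb05020102834fa7d) (.leaf (nat_lit 0xb05020102834ea5d) (nat_lit 1797))
 (.leaf (nat_lit 0xb05020102834fa7d) (nat_lit 1792))
))) (.node (nat_lit 0xb05020103824eabd) (.node (nat_lit 0xb05020103814aacd) (.node (nat_lit 0xb05020103804babd) (.leaf (nat_lit 0xb05020103804aa9d) (nat_lit 1796))
 (.leaf (nat_lit 0xb05020103804babd) (nat_lit 1280))
) (.node (nat_lit 0xb05020103814baed) (.leaf (nat_lit 0xb05020103814aacd) (nat_lit 1797))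
 (.leaf (nat_lit 0xb05020103814baed) (nat_lit 1797))
)) (.node (nat_lit 0xb05020103834eaed) (.node (nat_lit 0xb05020103824fa9d) (.leaf (nat_lit 0xb05020103824eabd) (nat_lit 2308))
 (.leaf (nat_lit 0xb05020103824fa9d) (nat_lit 2306))
) (.node (nat_lit 0xb05020103834facd) (.leaf (nat_lit 0xb05020103834eaed) (nat_lit 1793))
 (.leaf (nat_lit 0xb05020103834facd) (nat_lit 1796))
))))) (.node (nat_lit 0xb05020106884eaed) (.node (nat_lit 0xb050201058844a7d) (.node (nat_lit 0xb050201048a40aed) (.node (nat_lit 0xb050201048944a9d) (.node (nat_lit 0xb050201048845aed) (.leaf (nat_lit 0xb050201048844acd) (nat_lit 1280))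
 (.leaf (nat_lit 0xb050201048845aed) (nat_lit 1797))
) (.node (nat_lit 0xb050201048945abd) (.leaf (nat_lit 0xb050201048944a9d) (nat_lit 1796))
 (.leaf (nat_lit 0xb050201048945abd) (nat_lit 2305))
)) (.node (nat_lit 0xb050201048b40abd) (.node (nat_lit 0xb050201048a41acd) (.leaf (nat_lit 0xb050201048a40aed) (nat_lit 1281))
 (.leaf (nat_lit 0xb050201048a41acd) (nat_lit 1794))
) (.node (nat_lit 0xb050201048b41a9d) (.leaf (nat_lit 0xb050201048b40abd) (nat_lit 1283))
 (.leaf (nat_lit 0xb050201048b41a9d) (nat_lit 1794))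
))) (.node (nat_lit 0xb050201058a40a5d) (.node (nat_lit 0xb050201058944a2d) (.node (nat_lit 0xb050201058845a5d) (.leaf (nat_lit 0xb050201058844a7d) (nat_lit 1797))
 (.leaf (nat_lit 0xb050201058845a5d) (nat_lit 1280))
) (.node (nat_lit 0xb050201058945a0d) (.leaf (nat_lit 0xb050201058944a2d) (nat_lit 1794))
 (.leaf (nat_lit 0xb050201058945a0d) (nat_lit 1284))
)) (.node (nat_lit 0xb050201058b40a0d) (.node (nat_lit 0xb050201058a41a7d) (.leaf (nat_lit 0xb050201058a40a5d) (nat_lit 1795))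
 (.leaf (nat_lit 0xb050201058a41a7d) (nat_lit 2305))
) (.node (nat_lit 0xb050201058b41a2d) (.leaf (nat_lit 0xb050201058b40a0d) (nat_lit 1282))
 (.leaf (nat_lit 0xb050201058b41a2d) (nat_lit 1797))
)))) (.node (nat_lit 0xb05020107884ea5d) (.node (nat_lit 0xb050201068a4aacd) (.node (nat_lit 0xb05020106894eabd) (.node (nat_lit 0xb05020106884facd) (.leaf (nat_lit 0xb05020106884eaed) (nat_lit 1536))
 (.leaf (nat_lit 0xb05020106884facd) (nat_lit 1541))
) (.node (nat_lit 0xb05020106894fa9d) (.leaf (nat_lit 0xb05020106894eabd) (nat_lit 2052))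
 (.leaf (nat_lit 0xb05020106894fa9d) (nat_lit 2052))
)) (.node (nat_lit 0xb050201068b4aa9d) (.node (nat_lit 0xb050201068a4baed) (.leaf (nat_lit 0xb050201068a4aacd) (nat_lit 1537))
 (.leaf (nat_lit 0xb050201068a4baed) (nat_lit 1541))
) (.node (nat_lit 0xb050201068b4babd) (.leaf (nat_lit 0xb050201068b4aa9d) (nat_lit 1539))
 (.leaf (nat_lit 0xb050201068b4babd) (nat_lit 1536))
))) (.node (nat_lit 0xb050201078a4aa7d) (.node (nat_lit 0xb05020107894ea0d) (.node (nat_lit 0xb05020107884fa7d) (.leaf (nat_lit 0xb05020107884ea5d) (nat_lit 1541))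
 (.leaf (nat_lit 0xb05020107884fa7d) (nat_lit 1536))
) (.node (nat_lit 0xb05020107894fa2d) (.leaf (nat_lit 0xb05020107894ea0d) (nat_lit 1541))
 (.leaf (nat_lit 0xb05020107894fa2d) (nat_lit 1540))
)) (.node (nat_lit 0xb050201078b4aa2d) (.node (nat_lit 0xb050201078a4ba5d) (.leaf (nat_lit 0xb050201078a4aa7d) (nat_lit 2051))
 (.leaf (nat_lit 0xb050201078a4ba5d) (nat_lit 2049))
) (.node (nat_lit 0xb050201078b4ba0d) (.leaf (nat_lit 0xb050201078b4aa2d) (nat_lit 1538))
 (.leaf (nat_lit 0xb050201078b4ba0d) (nat_lit 1541))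
)))))) (.node (nat_lit 0xb050301048844a87) (.node (nat_lit 0xb05030102804aa87) (.node (nat_lit 0xb050301018040ab7) (.node (nat_lit 0xb050301008244a67) (.node (nat_lit 0xb050301008140a57) (.node (nat_lit 0xb050301008041a37) (.leaf (nat_lit 0xb050301008040a07) (nat_lit 772))
 (.leaf (nat_lit 0xb050301008041a37) (nat_lit 1792))
) (.node (nat_lit 0xb050301008141a67) (.leaf (nat_lit 0xb050301008140a57) (nat_lit 1794))
 (.leaf (nat_lit 0xb050301008141a67) (nat_lit 2309))
)) (.node (nat_lit 0xb050301008344a37) (.node (nat_lit 0xb050301008245a57) (.leaf (nat_lit 0xb050301008244a67) (nat_lit 1793))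
 (.leaf (nat_lit 0xb050301008245a57) (nat_lit 1794))
) (.node (nat_lit 0xb050301008345a07) (.leaf (nat_lit 0xb050301008344a37) (nat_lit 1283))
 (.leaf (nat_lit 0xb050301008345a07) (nat_lit 1282))
))) (.node (nat_lit 0xb050301018244ad7) (.node (nat_lit 0xb050301018140ae7) (.node (nat_lit 0xb050301018041a87) (.leaf (nat_lit 0xb050301018040ab7) (nat_lit 1282))
 (.leaf (nat_lit 0xb050301018041a87) (nat_lit 1284))
) (.node (nat_lit 0xb050301018141ad7) (.leaf (nat_lit 0xb050301018140ae7) (nat_lit 1793))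
 (.leaf (nat_lit 0xb050301018141ad7) (nat_lit 1792))
)) (.node (nat_lit 0xb050301018344a87) (.node (nat_lit 0xb050301018245ae7) (.leaf (nat_lit 0xb050301018244ad7) (nat_lit 1796))
 (.leaf (nat_lit 0xb050301018245ae7) (nat_lit 1797))
) (.node (nat_lit 0xb050301018345ab7) (.leaf (nat_lit 0xb050301018344a87) (nat_lit 1282))
 (.leaf (nat_lit 0xb050301018345ab7) (nat_lit 1795))
)))) (.node (nat_lit 0xb05030103804aa37) (.node (nat_lit 0xb05030102824eae7) (.node (nat_lit 0xb05030102814aad7) (.node (nat_lit 0xb05030102804bab7) (.leaf (nat_lit 0xb05030102804aa87) (nat_lit 1028))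
 (.leaf (nat_lit 0xb05030102804bab7) (nat_lit 1536))
) (.node (nat_lit 0xb05030102814bae7) (.leaf (nat_lit 0xb05030102814aad7) (nat_lit 2053))
 (.leaf (nat_lit 0xb05030102814bae7) (nat_lit 2053))
)) (.node (nat_lit 0xb05030102834eab7) (.node (nat_lit 0xb05030102824fad7) (.leaf (nat_lit 0xb05030102824eae7) (nat_lit 1537))
 (.leaf (nat_lit 0xb05030102824fad7) (nat_lit 1540))
) (.node (nat_lit 0xb05030102834fa87) (.leaf (nat_lit 0xb05030102834eab7) (nat_lit 1539))
 (.leaf (nat_lit 0xb05030102834fa87) (nat_lit 1541))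
))) (.node (nat_lit 0xb05030103824ea57) (.node (nat_lit 0xb05030103814aa67) (.node (nat_lit 0xb05030103804ba07) (.leaf (nat_lit 0xb05030103804aa37) (nat_lit 1537))
 (.leaf (nat_lit 0xb05030103804ba07) (nat_lit 1029))
) (.node (nat_lit 0xb05030103814ba57) (.leaf (nat_lit 0xb05030103814aa67) (nat_lit 2048))
 (.leaf (nat_lit 0xb05030103814ba57) (nat_lit 2049))
)) (.node (nat_lit 0xb05030103834ea07) (.node (nat_lit 0xb05030103824fa67) (.leaf (nat_lit 0xb05030103824ea57) (nat_lit 2053))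
 (.leaf (nat_lit 0xb05030103824fa67) (nat_lit 2053))
) (.node (nat_lit 0xb05030103834fa37) (.leaf (nat_lit 0xb05030103834ea07) (nat_lit 1537))
 (.leaf (nat_lit 0xb05030103834fa37) (nat_lit 1539))
))))) (.node (nat_lit 0xb05030106884ea07) (.node (nat_lit 0xb050301058844a37) (.node (nat_lit 0xb050301048a40ae7) (.node (nat_lit 0xb050301048944ad7) (.node (nat_lit 0xb050301048845ab7) (.leaf (nat_lit 0xb050301048844a87) (nat_lit 1028))
 (.leaf (nat_lit 0xb050301048845ab7) (nat_lit 2050))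
) (.node (nat_lit 0xb050301048945ae7) (.leaf (nat_lit 0xb050301048944ad7) (nat_lit 2052))
 (.leaf (nat_lit 0xb050301048945ae7) (nat_lit 2053))
)) (.node (nat_lit 0xb050301048b40ab7) (.node (nat_lit 0xb050301048a41ad7) (.leaf (nat_lit 0xb050301048a40ae7) (nat_lit 1537))
 (.leaf (nat_lit 0xb050301048a41ad7) (nat_lit 2050))
) (.node (nat_lit 0xb050301048b41a87) (.leaf (nat_lit 0xb050301048b40ab7) (nat_lit 1027))
 (.leaf (nat_lit 0xb050301048b41a87) (nat_lit 1538))
))) (.node (nat_lit 0xb050301058a40a57) (.node (nat_lit 0xb050301058944a67) (.node (nat_lit 0xb050301058845a07) (.leaf (nat_lit 0xb050301058844a37) (nat_lit 1538))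
 (.leaf (nat_lit 0xb050301058845a07) (nat_lit 1028))
) (.node (nat_lit 0xb050301058945a57) (.leaf (nat_lit 0xb050301058944a67) (nat_lit 2049))
 (.leaf (nat_lit 0xb050301058945a57) (nat_lit 1536))
)) (.node (nat_lit 0xb050301058b40a07) (.node (nat_lit 0xb050301058a41a67) (.leaf (nat_lit 0xb050301058a40a57) (nat_lit 1540))
 (.leaf (nat_lit 0xb050301058a41a67) (nat_lit 2053))
) (.node (nat_lit 0xb050301058b41a37) (.leaf (nat_lit 0xb050301058b40a07) (nat_lit 1026))
 (.leaf (nat_lit 0xb050301058b41a37) (nat_lit 1541))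
)))) (.node (nat_lit 0xb05030107884eab7) (.node (nat_lit 0xb050301068a4aa67) (.node (nat_lit 0xb05030106894ea57) (.node (nat_lit 0xb05030106884fa37) (.leaf (nat_lit 0xb05030106884ea07) (nat_lit 1285))
 (.leaf (nat_lit 0xb05030106884fa37) (nat_lit 1794))
) (.node (nat_lit 0xb05030106894fa67) (.leaf (nat_lit 0xb05030106894ea57) (nat_lit 1797))
 (.leaf (nat_lit 0xb05030106894fa67) (nat_lit 2304))
)) (.node (nat_lit 0xb050301068b4aa37) (.node (nat_lit 0xb050301068a4ba57) (.leaf (nat_lit 0xb050301068a4aa67) (nat_lit 1793))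
 (.leaf (nat_lit 0xb050301068a4ba57) (nat_lit 1793))
) (.node (nat_lit 0xb050301068b4ba07) (.leaf (nat_lit 0xb050301068b4aa37) (nat_lit 1283))
 (.leaf (nat_lit 0xb050301068b4ba07) (nat_lit 1285))
))) (.node (nat_lit 0xb050301078a4aad7) (.node (nat_lit 0xb05030107894eae7) (.node (nat_lit 0xb05030107884fa87) (.leaf (nat_lit 0xb05030107884eab7) (nat_lit 1792))
 (.leaf (nat_lit 0xb05030107884fa87) (nat_lit 1285))
) (.node (nat_lit 0xb05030107894fad7) (.leaf (nat_lit 0xb05030107894eae7) (nat_lit 1792))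
 (.leaf (nat_lit 0xb05030107894fad7) (nat_lit 1794))
)) (.node (nat_lit 0xb050301078b4aa87) (.node (nat_lit 0xb050301078a4bae7) (.leaf (nat_lit 0xb050301078a4aad7) (nat_lit 1796))
 (.leaf (nat_lit 0xb050301078a4bae7) (nat_lit 1797))
) (.node (nat_lit 0xb050301078b4bab7) (.leaf (nat_lit 0xb050301078b4aa87) (nat_lit 1282))
 (.leaf (nat_lit 0xb050301078b4bab7) (nat_lit 1285))
)))))))))) (.node (nat_lit 0xe0402010080c0a01) (.node (nat_lit 0xd0402010080c0209) (.node (nat_lit 0xc0502010080c020d) (.node (nat_lit 0xc0403010080c0203) (.node (nat_lit 0xc040201048cc0201) (.node (nat_lit 0xc0402010280cc201) (.node (nat_lit 0xc0402010180c02c1) (.node (nat_lit 0xc0402010082c4201) (.node (nat_lit 0xc0402010081c0241) (.node (nat_lit 0xc0402010080c1221) (.leaf (nat_lit 0xc0402010080c0201) (nat_lit 257))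
 (.leaf (nat_lit 0xc0402010080c1221) (nat_lit 1797))
) (.node (nat_lit 0xc0402010081c1261) (.leaf (nat_lit 0xc0402010081c0241) (nat_lit 1795))
 (.leaf (nat_lit 0xc0402010081c1261) (nat_lit 2821))
)) (.node (nat_lit 0xc0402010083c4241) (.node (nat_lit 0xc0402010082c5221) (.leaf (nat_lit 0xc0402010082c4201) (nat_lit 773))
 (.leaf (nat_lit 0xc0402010082c5221) (nat_lit 1797))
) (.node (nat_lit 0xc0402010083c5261) (.leaf (nat_lit 0xc0402010083c4241) (nat_lit 1280))
 (.leaf (nat_lit 0xc0402010083c5261) (nat_lit 2304))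
))) (.node (nat_lit 0xc0402010182c42c1) (.node (nat_lit 0xc0402010181c0281) (.node (nat_lit 0xc0402010180c12e1) (.leaf (nat_lit 0xc0402010180c02c1) (nat_lit 1285))
 (.leaf (nat_lit 0xc0402010180c12e1) (nat_lit 1796))
) (.node (nat_lit 0xc0402010181c12a1) (.leaf (nat_lit 0xc0402010181c0281) (nat_lit 1281))
 (.leaf (nat_lit 0xc0402010181c12a1) (nat_lit 1796))
)) (.node (nat_lit 0xc0402010183c4281) (.node (nat_lit 0xc0402010182c52e1) (.leaf (nat_lit 0xc0402010182c42c1) (nat_lit 1280))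
 (.leaf (nat_lit 0xc0402010182c52e1) (nat_lit 1796))
) (.node (nat_lit 0xc0402010183c52a1) (.leaf (nat_lit 0xc0402010183c4281) (nat_lit 1285))
 (.leaf (nat_lit 0xc0402010183c52a1) (nat_lit 1796))
)))) (.node (nat_lit 0xc0402010380cc2c1) (.node (nat_lit 0xc0402010282c8201) (.node (nat_lit 0xc0402010281cc241) (.node (nat_lit 0xc0402010280cd221) (.leaf (nat_lit 0xc0402010280cc201) (nat_lit 517))
 (.leaf (nat_lit 0xc0402010280cd221) (nat_lit 1537))
) (.node (nat_lit 0xc0402010281cd261) (.leaf (nat_lit 0xc0402010281cc241) (nat_lit 1536))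
 (.leaf (nat_lit 0xc0402010281cd261) (nat_lit 2564))
)) (.node (nat_lit 0xc0402010283c8241) (.node (nat_lit 0xc0402010282c9221) (.leaf (nat_lit 0xc0402010282c8201) (nat_lit 513))
 (.leaf (nat_lit 0xc0402010282c9221) (nat_lit 1539))
) (.node (nat_lit 0xc0402010283c9261) (.leaf (nat_lit 0xc0402010283c8241) (nat_lit 1541))
 (.leaf (nat_lit 0xc0402010283c9261) (nat_lit 2563))
))) (.node (nat_lit 0xc0402010382c82c1) (.node (nat_lit 0xc0402010381cc281) (.node (nat_lit 0xc0402010380cd2e1) (.leaf (nat_lit 0xc0402010380cc2c1) (nat_lit 1024))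
 (.leaf (nat_lit 0xc0402010380cd2e1) (nat_lit 1540))
) (.node (nat_lit 0xc0402010381cd2a1) (.leaf (nat_lit 0xc0402010381cc281) (nat_lit 1541))
 (.leaf (nat_lit 0xc0402010381cd2a1) (nat_lit 2049))
)) (.node (nat_lit 0xc0402010383c8281) (.node (nat_lit 0xc0402010382c92e1) (.leaf (nat_lit 0xc0402010382c82c1) (nat_lit 1539))
 (.leaf (nat_lit 0xc0402010382c92e1) (nat_lit 2051))
) (.node (nat_lit 0xc0402010383c92a1) (.leaf (nat_lit 0xc0402010383c8281) (nat_lit 1025))
 (.leaf (nat_lit 0xc0402010383c92a1) (nat_lit 1540))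
))))) (.node (nat_lit 0xc040201068ccc201) (.node (nat_lit 0xc040201058cc02c1) (.node (nat_lit 0xc040201048ec4201) (.node (nat_lit 0xc040201048dc0241) (.node (nat_lit 0xc040201048cc1221) (.leaf (nat_lit 0xc040201048cc0201) (nat_lit 514))
 (.leaf (nat_lit 0xc040201048cc1221) (nat_lit 2052))
) (.node (nat_lit 0xc040201048dc1261) (.leaf (nat_lit 0xc040201048dc0241) (nat_lit 2052))
 (.leaf (nat_lit 0xc040201048dc1261) (nat_lit 2565))
)) (.node (nat_lit 0xc040201048fc4241) (.node (nat_lit 0xc040201048ec5221) (.leaf (nat_lit 0xc040201048ec4201) (nat_lit 1028))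
 (.leaf (nat_lit 0xc040201048ec5221) (nat_lit 2053))
) (.node (nat_lit 0xc040201048fc5261) (.leaf (nat_lit 0xc040201048fc4241) (nat_lit 1536))
 (.leaf (nat_lit 0xc040201048fc5261) (nat_lit 2560))
))) (.node (nat_lit 0xc040201058ec42c1) (.node (nat_lit 0xc040201058dc0281) (.node (nat_lit 0xc040201058cc12e1) (.leaf (nat_lit 0xc040201058cc02c1) (nat_lit 1027))
 (.leaf (nat_lit 0xc040201058cc12e1) (nat_lit 2052))
) (.node (nat_lit 0xc040201058dc12a1) (.leaf (nat_lit 0xc040201058dc0281) (nat_lit 1025))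
 (.leaf (nat_lit 0xc040201058dc12a1) (nat_lit 2052))
)) (.node (nat_lit 0xc040201058fc4281) (.node (nat_lit 0xc040201058ec52e1) (.leaf (nat_lit 0xc040201058ec42c1) (nat_lit 1536))
 (.leaf (nat_lit 0xc040201058ec52e1) (nat_lit 1540))
) (.node (nat_lit 0xc040201058fc52a1) (.leaf (nat_lit 0xc040201058fc4281) (nat_lit 1541))
 (.leaf (nat_lit 0xc040201058fc52a1) (nat_lit 1540))
)))) (.node (nat_lit 0xc040201078ccc2c1) (.node (nat_lit 0xc040201068ec8201) (.node (nat_lit 0xc040201068dcc241) (.node (nat_lit 0xc040201068ccd221) (.leaf (nat_lit 0xc040201068ccc201) (nat_lit 773))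
 (.leaf (nat_lit 0xc040201068ccd221) (nat_lit 1793))
) (.node (nat_lit 0xc040201068dcd261) (.leaf (nat_lit 0xc040201068dcc241) (nat_lit 1792))
 (.leaf (nat_lit 0xc040201068dcd261) (nat_lit 2308))
)) (.node (nat_lit 0xc040201068fc8241) (.node (nat_lit 0xc040201068ec9221) (.leaf (nat_lit 0xc040201068ec8201) (nat_lit 769))
 (.leaf (nat_lit 0xc040201068ec9221) (nat_lit 1795))
) (.node (nat_lit 0xc040201068fc9261) (.leaf (nat_lit 0xc040201068fc8241) (nat_lit 1797))
 (.leaf (nat_lit 0xc040201068fc9261) (nat_lit 2307))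
))) (.node (nat_lit 0xc040201078ec82c1) (.node (nat_lit 0xc040201078dcc281) (.node (nat_lit 0xc040201078ccd2e1) (.leaf (nat_lit 0xc040201078ccc2c1) (nat_lit 1280))
 (.leaf (nat_lit 0xc040201078ccd2e1) (nat_lit 1796))
) (.node (nat_lit 0xc040201078dcd2a1) (.leaf (nat_lit 0xc040201078dcc281) (nat_lit 1285))
 (.leaf (nat_lit 0xc040201078dcd2a1) (nat_lit 1793))
)) (.node (nat_lit 0xc040201078fc8281) (.node (nat_lit 0xc040201078ec92e1) (.leaf (nat_lit 0xc040201078ec82c1) (nat_lit 1283))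
 (.leaf (nat_lit 0xc040201078ec92e1) (nat_lit 1795))
) (.node (nat_lit 0xc040201078fc92a1) (.leaf (nat_lit 0xc040201078fc8281) (nat_lit 1281))
 (.leaf (nat_lit 0xc040201078fc92a1) (nat_lit 1796))
)))))) (.node (nat_lit 0xc040301048cc0203) (.node (nat_lit 0xc0403010280cc2c3) (.node (nat_lit 0xc0403010180c02c3) (.node (nat_lit 0xc0403010082c4243) (.node (nat_lit 0xc0403010081c0243) (.node (nat_lit 0xc0403010080c1233) (.leaf (nat_lit 0xc0403010080c0203) (nat_lit 513))
 (.leaf (nat_lit 0xc0403010080c1233) (nat_lit 2053))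
) (.node (nat_lit 0xc0403010081c1273) (.leaf (nat_lit 0xc0403010081c0243) (nat_lit 2051))
 (.leaf (nat_lit 0xc0403010081c1273) (nat_lit 2565))
)) (.node (nat_lit 0xc0403010083c4203) (.node (nat_lit 0xc0403010082c5273) (.leaf (nat_lit 0xc0403010082c4243) (nat_lit 1024))
 (.leaf (nat_lit 0xc0403010082c5273) (nat_lit 2048))
) (.node (nat_lit 0xc0403010083c5233) (.leaf (nat_lit 0xc0403010083c4203) (nat_lit 1029))
 (.leaf (nat_lit 0xc0403010083c5233) (nat_lit 2053))
))) (.node (nat_lit 0xc0403010182c4283) (.node (nat_lit 0xc0403010181c0283) (.node (nat_lit 0xc0403010180c12f3) (.leaf (nat_lit 0xc0403010180c02c3) (nat_lit 1029))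
 (.leaf (nat_lit 0xc0403010180c12f3) (nat_lit 2052))
) (.node (nat_lit 0xc0403010181c12b3) (.leaf (nat_lit 0xc0403010181c0283) (nat_lit 1025))
 (.leaf (nat_lit 0xc0403010181c12b3) (nat_lit 2052))
)) (.node (nat_lit 0xc0403010183c42c3) (.node (nat_lit 0xc0403010182c52b3) (.leaf (nat_lit 0xc0403010182c4283) (nat_lit 1029))
 (.leaf (nat_lit 0xc0403010182c52b3) (nat_lit 2052))
) (.node (nat_lit 0xc0403010183c52f3) (.leaf (nat_lit 0xc0403010183c42c3) (nat_lit 1536))
 (.leaf (nat_lit 0xc0403010183c52f3) (nat_lit 2052))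
)))) (.node (nat_lit 0xc0403010380cc203) (.node (nat_lit 0xc0403010282c8283) (.node (nat_lit 0xc0403010281cc283) (.node (nat_lit 0xc0403010280cd2f3) (.leaf (nat_lit 0xc0403010280cc2c3) (nat_lit 768))
 (.leaf (nat_lit 0xc0403010280cd2f3) (nat_lit 1796))
) (.node (nat_lit 0xc0403010281cd2b3) (.leaf (nat_lit 0xc0403010281cc283) (nat_lit 1285))
 (.leaf (nat_lit 0xc0403010281cd2b3) (nat_lit 2305))
)) (.node (nat_lit 0xc0403010283c82c3) (.node (nat_lit 0xc0403010282c92b3) (.leaf (nat_lit 0xc0403010282c8283) (nat_lit 769))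
 (.leaf (nat_lit 0xc0403010282c92b3) (nat_lit 1796))
) (.node (nat_lit 0xc0403010283c92f3) (.leaf (nat_lit 0xc0403010283c82c3) (nat_lit 1795))
 (.leaf (nat_lit 0xc0403010283c92f3) (nat_lit 2307))
))) (.node (nat_lit 0xc0403010382c8243) (.node (nat_lit 0xc0403010381cc243) (.node (nat_lit 0xc0403010380cd233) (.leaf (nat_lit 0xc0403010380cc203) (nat_lit 773))
 (.leaf (nat_lit 0xc0403010380cd233) (nat_lit 1793))
) (.node (nat_lit 0xc0403010381cd273) (.leaf (nat_lit 0xc0403010381cc243) (nat_lit 1792))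
 (.leaf (nat_lit 0xc0403010381cd273) (nat_lit 2308))
)) (.node (nat_lit 0xc0403010383c8203) (.node (nat_lit 0xc0403010382c9273) (.leaf (nat_lit 0xc0403010382c8243) (nat_lit 1285))
 (.leaf (nat_lit 0xc0403010382c9273) (nat_lit 2307))
) (.node (nat_lit 0xc0403010383c9233) (.leaf (nat_lit 0xc0403010383c8203) (nat_lit 769))
 (.leaf (nat_lit 0xc0403010383c9233) (nat_lit 1795))
))))) (.node (nat_lit 0xc040301068ccc2c3) (.node (nat_lit 0xc040301058cc02c3) (.node (nat_lit 0xc040301048ec4243) (.node (nat_lit 0xc040301048dc0243) (.node (nat_lit 0xc040301048cc1233) (.leaf (nat_lit 0xc040301048cc0203) (nat_lit 770))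
 (.leaf (nat_lit 0xc040301048cc1233) (nat_lit 2308))
) (.node (nat_lit 0xc040301048dc1273) (.leaf (nat_lit 0xc040301048dc0243) (nat_lit 1796))
 (.leaf (nat_lit 0xc040301048dc1273) (nat_lit 2309))
)) (.node (nat_lit 0xc040301048fc4203) (.node (nat_lit 0xc040301048ec5273) (.leaf (nat_lit 0xc040301048ec4243) (nat_lit 1280))
 (.leaf (nat_lit 0xc040301048ec5273) (nat_lit 2304))
) (.node (nat_lit 0xc040301048fc5233) (.leaf (nat_lit 0xc040301048fc4203) (nat_lit 1284))
 (.leaf (nat_lit 0xc040301048fc5233) (nat_lit 2309))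
))) (.node (nat_lit 0xc040301058ec4283) (.node (nat_lit 0xc040301058dc0283) (.node (nat_lit 0xc040301058cc12f3) (.leaf (nat_lit 0xc040301058cc02c3) (nat_lit 1283))
 (.leaf (nat_lit 0xc040301058cc12f3) (nat_lit 2308))
) (.node (nat_lit 0xc040301058dc12b3) (.leaf (nat_lit 0xc040301058dc0283) (nat_lit 1281))
 (.leaf (nat_lit 0xc040301058dc12b3) (nat_lit 2308))
)) (.node (nat_lit 0xc040301058fc42c3) (.node (nat_lit 0xc040301058ec52b3) (.leaf (nat_lit 0xc040301058ec4283) (nat_lit 1285))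
 (.leaf (nat_lit 0xc040301058ec52b3) (nat_lit 1796))
) (.node (nat_lit 0xc040301058fc52f3) (.leaf (nat_lit 0xc040301058fc42c3) (nat_lit 1792))
 (.leaf (nat_lit 0xc040301058fc52f3) (nat_lit 1796))
)))) (.node (nat_lit 0xc040301078ccc203) (.node (nat_lit 0xc040301068ec8283) (.node (nat_lit 0xc040301068dcc283) (.node (nat_lit 0xc040301068ccd2f3) (.leaf (nat_lit 0xc040301068ccc2c3) (nat_lit 1024))
 (.leaf (nat_lit 0xc040301068ccd2f3) (nat_lit 2052))
) (.node (nat_lit 0xc040301068dcd2b3) (.leaf (nat_lit 0xc040301068dcc283) (nat_lit 1541))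
 (.leaf (nat_lit 0xc040301068dcd2b3) (nat_lit 2049))
)) (.node (nat_lit 0xc040301068fc82c3) (.node (nat_lit 0xc040301068ec92b3) (.leaf (nat_lit 0xc040301068ec8283) (nat_lit 1025))
 (.leaf (nat_lit 0xc040301068ec92b3) (nat_lit 2052))
) (.node (nat_lit 0xc040301068fc92f3) (.leaf (nat_lit 0xc040301068fc82c3) (nat_lit 1539))
 (.leaf (nat_lit 0xc040301068fc92f3) (nat_lit 2051))
))) (.node (nat_lit 0xc040301078ec8243) (.node (nat_lit 0xc040301078dcc243) (.node (nat_lit 0xc040301078ccd233) (.leaf (nat_lit 0xc040301078ccc203) (nat_lit 1029))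
 (.leaf (nat_lit 0xc040301078ccd233) (nat_lit 2049))
) (.node (nat_lit 0xc040301078dcd273) (.leaf (nat_lit 0xc040301078dcc243) (nat_lit 1536))
 (.leaf (nat_lit 0xc040301078dcd273) (nat_lit 2052))
)) (.node (nat_lit 0xc040301078fc8203) (.node (nat_lit 0xc040301078ec9273) (.leaf (nat_lit 0xc040301078ec8243) (nat_lit 1541))
 (.leaf (nat_lit 0xc040301078ec9273) (nat_lit 2051))
) (.node (nat_lit 0xc040301078fc9233) (.leaf (nat_lit 0xc040301078fc8203) (nat_lit 1025))
 (.leaf (nat_lit 0xc040301078fc9233) (nat_lit 2051))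
))))))) (.node (nat_lit 0xc0503010080c020f) (.node (nat_lit 0xc050201048cc02cd) (.node (nat_lit 0xc0502010280cc20d) (.node (nat_lit 0xc0502010180c02cd) (.node (nat_lit 0xc0502010082c422d) (.node (nat_lit 0xc0502010081c025d) (.node (nat_lit 0xc0502010080c122d) (.leaf (nat_lit 0xc0502010080c020d) (nat_lit 515))
 (.leaf (nat_lit 0xc0502010080c122d) (nat_lit 1537))
) (.node (nat_lit 0xc0502010081c127d) (.leaf (nat_lit 0xc0502010081c025d) (nat_lit 1538))
 (.leaf (nat_lit 0xc0502010081c127d) (nat_lit 2565))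
)) (.node (nat_lit 0xc0502010083c427d) (.node (nat_lit 0xc0502010082c520d) (.leaf (nat_lit 0xc0502010082c422d) (nat_lit 1029))
 (.leaf (nat_lit 0xc0502010082c520d) (nat_lit 1541))
) (.node (nat_lit 0xc0502010083c525d) (.leaf (nat_lit 0xc0502010083c427d) (nat_lit 1536))
 (.leaf (nat_lit 0xc0502010083c525d) (nat_lit 2048))
))) (.node (nat_lit 0xc0502010182c42ed) (.node (nat_lit 0xc0502010181c029d) (.node (nat_lit 0xc0502010180c12ed) (.leaf (nat_lit 0xc0502010180c02cd) (nat_lit 1026))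
 (.leaf (nat_lit 0xc0502010180c12ed) (nat_lit 1540))
) (.node (nat_lit 0xc0502010181c12bd) (.leaf (nat_lit 0xc0502010181c029d) (nat_lit 1539))
 (.leaf (nat_lit 0xc0502010181c12bd) (nat_lit 2049))
)) (.node (nat_lit 0xc0502010183c42bd) (.node (nat_lit 0xc0502010182c52cd) (.leaf (nat_lit 0xc0502010182c42ed) (nat_lit 1538))
 (.leaf (nat_lit 0xc0502010182c52cd) (nat_lit 1540))
) (.node (nat_lit 0xc0502010183c529d) (.leaf (nat_lit 0xc0502010183c42bd) (nat_lit 1541))
 (.leaf (nat_lit 0xc0502010183c529d) (nat_lit 2048))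
)))) (.node (nat_lit 0xc0502010380cc2cd) (.node (nat_lit 0xc0502010282c822d) (.node (nat_lit 0xc0502010281cc25d) (.node (nat_lit 0xc0502010280cd22d) (.leaf (nat_lit 0xc0502010280cc20d) (nat_lit 773))
 (.leaf (nat_lit 0xc0502010280cd22d) (nat_lit 1793))
) (.node (nat_lit 0xc0502010281cd27d) (.leaf (nat_lit 0xc0502010281cc25d) (nat_lit 1797))
 (.leaf (nat_lit 0xc0502010281cd27d) (nat_lit 2308))
)) (.node (nat_lit 0xc0502010283c827d) (.node (nat_lit 0xc0502010282c920d) (.leaf (nat_lit 0xc0502010282c822d) (nat_lit 771))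
 (.leaf (nat_lit 0xc0502010282c920d) (nat_lit 1281))
) (.node (nat_lit 0xc0502010283c925d) (.leaf (nat_lit 0xc0502010283c827d) (nat_lit 1794))
 (.leaf (nat_lit 0xc0502010283c925d) (nat_lit 2305))
))) (.node (nat_lit 0xc0502010382c82ed) (.node (nat_lit 0xc0502010381cc29d) (.node (nat_lit 0xc0502010380cd2ed) (.leaf (nat_lit 0xc0502010380cc2cd) (nat_lit 1280))
 (.leaf (nat_lit 0xc0502010380cd2ed) (nat_lit 1796))
) (.node (nat_lit 0xc0502010381cd2bd) (.leaf (nat_lit 0xc0502010381cc29d) (nat_lit 1797))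
 (.leaf (nat_lit 0xc0502010381cd2bd) (nat_lit 2306))
)) (.node (nat_lit 0xc0502010383c82bd) (.node (nat_lit 0xc0502010382c92cd) (.leaf (nat_lit 0xc0502010382c82ed) (nat_lit 1282))
 (.leaf (nat_lit 0xc0502010382c92cd) (nat_lit 1793))
) (.node (nat_lit 0xc0502010383c929d) (.leaf (nat_lit 0xc0502010383c82bd) (nat_lit 1283))
 (.leaf (nat_lit 0xc0502010383c929d) (nat_lit 1793))
))))) (.node (nat_lit 0xc050201068ccc2cd) (.node (nat_lit 0xc050201058cc020d) (.node (nat_lit 0xc050201048ec42ed) (.node (nat_lit 0xc050201048dc029d) (.node (nat_lit 0xc050201048cc12ed) (.leaf (nat_lit 0xc050201048cc02cd) (nat_lit 771))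
 (.leaf (nat_lit 0xc050201048cc12ed) (nat_lit 1794))
) (.node (nat_lit 0xc050201048dc12bd) (.leaf (nat_lit 0xc050201048dc029d) (nat_lit 1793))
 (.leaf (nat_lit 0xc050201048dc12bd) (nat_lit 2309))
)) (.node (nat_lit 0xc050201048fc42bd) (.node (nat_lit 0xc050201048ec52cd) (.leaf (nat_lit 0xc050201048ec42ed) (nat_lit 1284))
 (.leaf (nat_lit 0xc050201048ec52cd) (nat_lit 1797))
) (.node (nat_lit 0xc050201048fc529d) (.leaf (nat_lit 0xc050201048fc42bd) (nat_lit 1792))
 (.leaf (nat_lit 0xc050201048fc529d) (nat_lit 2304))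
))) (.node (nat_lit 0xc050201058ec422d) (.node (nat_lit 0xc050201058dc025d) (.node (nat_lit 0xc050201058cc122d) (.leaf (nat_lit 0xc050201058cc020d) (nat_lit 770))
 (.leaf (nat_lit 0xc050201058cc122d) (nat_lit 1796))
) (.node (nat_lit 0xc050201058dc127d) (.leaf (nat_lit 0xc050201058dc025d) (nat_lit 1283))
 (.leaf (nat_lit 0xc050201058dc127d) (nat_lit 2305))
)) (.node (nat_lit 0xc050201058fc427d) (.node (nat_lit 0xc050201058ec520d) (.leaf (nat_lit 0xc050201058ec422d) (nat_lit 1285))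
 (.leaf (nat_lit 0xc050201058ec520d) (nat_lit 1284))
) (.node (nat_lit 0xc050201058fc525d) (.leaf (nat_lit 0xc050201058fc427d) (nat_lit 1797))
 (.leaf (nat_lit 0xc050201058fc525d) (nat_lit 1792))
)))) (.node (nat_lit 0xc050201078ccc20d) (.node (nat_lit 0xc050201068ec82ed) (.node (nat_lit 0xc050201068dcc29d) (.node (nat_lit 0xc050201068ccd2ed) (.leaf (nat_lit 0xc050201068ccc2cd) (nat_lit 1029))
 (.leaf (nat_lit 0xc050201068ccd2ed) (nat_lit 2050))
) (.node (nat_lit 0xc050201068dcd2bd) (.leaf (nat_lit 0xc050201068dcc29d) (nat_lit 2048))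
 (.leaf (nat_lit 0xc050201068dcd2bd) (nat_lit 2052))
)) (.node (nat_lit 0xc050201068fc82bd) (.node (nat_lit 0xc050201068ec92cd) (.leaf (nat_lit 0xc050201068ec82ed) (nat_lit 1027))
 (.leaf (nat_lit 0xc050201068ec92cd) (nat_lit 1537))
) (.node (nat_lit 0xc050201068fc929d) (.leaf (nat_lit 0xc050201068fc82bd) (nat_lit 1538))
 (.leaf (nat_lit 0xc050201068fc929d) (nat_lit 2049))
))) (.node (nat_lit 0xc050201078ec822d) (.node (nat_lit 0xc050201078dcc25d) (.node (nat_lit 0xc050201078ccd22d) (.leaf (nat_lit 0xc050201078ccc20d) (nat_lit 1029))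
 (.leaf (nat_lit 0xc050201078ccd22d) (nat_lit 1540))
) (.node (nat_lit 0xc050201078dcd27d) (.leaf (nat_lit 0xc050201078dcc25d) (nat_lit 1541))
 (.leaf (nat_lit 0xc050201078dcd27d) (nat_lit 2049))
)) (.node (nat_lit 0xc050201078fc827d) (.node (nat_lit 0xc050201078ec920d) (.leaf (nat_lit 0xc050201078ec822d) (nat_lit 1026))
 (.leaf (nat_lit 0xc050201078ec920d) (nat_lit 1537))
) (.node (nat_lit 0xc050201078fc925d) (.leaf (nat_lit 0xc050201078fc827d) (nat_lit 1539))
 (.leaf (nat_lit 0xc050201078fc925d) (nat_lit 2049))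
)))))) (.node (nat_lit 0xc050301048cc02cf) (.node (nat_lit 0xc0503010280cc2cf) (.node (nat_lit 0xc0503010180c02cf) (.node (nat_lit 0xc0503010082c426f) (.node (nat_lit 0xc0503010081c025f) (.node (nat_lit 0xc0503010080c123f) (.leaf (nat_lit 0xc0503010080c020f) (nat_lit 771))
 (.leaf (nat_lit 0xc0503010080c123f) (nat_lit 1793))
) (.node (nat_lit 0xc0503010081c126f) (.leaf (nat_lit 0xc0503010081c025f) (nat_lit 1794))
 (.leaf (nat_lit 0xc0503010081c126f) (nat_lit 2309))
)) (.node (nat_lit 0xc0503010083c423f) (.node (nat_lit 0xc0503010082c525f) (.leaf (nat_lit 0xc0503010082c426f) (nat_lit 1280))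
 (.leaf (nat_lit 0xc0503010082c525f) (nat_lit 1792))
) (.node (nat_lit 0xc0503010083c520f) (.leaf (nat_lit 0xc0503010083c423f) (nat_lit 1285))
 (.leaf (nat_lit 0xc0503010083c520f) (nat_lit 1797))
))) (.node (nat_lit 0xc0503010182c42af) (.node (nat_lit 0xc0503010181c029f) (.node (nat_lit 0xc0503010180c12ff) (.leaf (nat_lit 0xc0503010180c02cf) (nat_lit 1282))
 (.leaf (nat_lit 0xc0503010180c12ff) (nat_lit 1796))
) (.node (nat_lit 0xc0503010181c12af) (.leaf (nat_lit 0xc0503010181c029f) (nat_lit 1283))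
 (.leaf (nat_lit 0xc0503010181c12af) (nat_lit 1793))
)) (.node (nat_lit 0xc0503010183c42ff) (.node (nat_lit 0xc0503010182c529f) (.leaf (nat_lit 0xc0503010182c42af) (nat_lit 1285))
 (.leaf (nat_lit 0xc0503010182c529f) (nat_lit 1792))
) (.node (nat_lit 0xc0503010183c52cf) (.leaf (nat_lit 0xc0503010183c42ff) (nat_lit 1794))
 (.leaf (nat_lit 0xc0503010183c52cf) (nat_lit 1796))
)))) (.node (nat_lit 0xc0503010380cc20f) (.node (nat_lit 0xc0503010282c82af) (.node (nat_lit 0xc0503010281cc29f) (.node (nat_lit 0xc0503010280cd2ff) (.leaf (nat_lit 0xc0503010280cc2cf) (nat_lit 1024))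
 (.leaf (nat_lit 0xc0503010280cd2ff) (nat_lit 1540))
) (.node (nat_lit 0xc0503010281cd2af) (.leaf (nat_lit 0xc0503010281cc29f) (nat_lit 1541))
 (.leaf (nat_lit 0xc0503010281cd2af) (nat_lit 2050))
)) (.node (nat_lit 0xc0503010283c82ff) (.node (nat_lit 0xc0503010282c929f) (.leaf (nat_lit 0xc0503010282c82af) (nat_lit 1027))
 (.leaf (nat_lit 0xc0503010282c929f) (nat_lit 1537))
) (.node (nat_lit 0xc0503010283c92cf) (.leaf (nat_lit 0xc0503010283c82ff) (nat_lit 1538))
 (.leaf (nat_lit 0xc0503010283c92cf) (nat_lit 2049))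
))) (.node (nat_lit 0xc0503010382c826f) (.node (nat_lit 0xc0503010381cc25f) (.node (nat_lit 0xc0503010380cd23f) (.leaf (nat_lit 0xc0503010380cc20f) (nat_lit 1029))
 (.leaf (nat_lit 0xc0503010380cd23f) (nat_lit 2049))
) (.node (nat_lit 0xc0503010381cd26f) (.leaf (nat_lit 0xc0503010381cc25f) (nat_lit 2053))
 (.leaf (nat_lit 0xc0503010381cd26f) (nat_lit 2052))
)) (.node (nat_lit 0xc0503010383c823f) (.node (nat_lit 0xc0503010382c925f) (.leaf (nat_lit 0xc0503010382c826f) (nat_lit 1538))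
 (.leaf (nat_lit 0xc0503010382c925f) (nat_lit 2049))
) (.node (nat_lit 0xc0503010383c920f) (.leaf (nat_lit 0xc0503010383c823f) (nat_lit 1027))
 (.leaf (nat_lit 0xc0503010383c920f) (nat_lit 1537))
))))) (.node (nat_lit 0xc050301068ccc20f) (.node (nat_lit 0xc050301058cc020f) (.node (nat_lit 0xc050301048ec42af) (.node (nat_lit 0xc050301048dc029f) (.node (nat_lit 0xc050301048cc12ff) (.leaf (nat_lit 0xc050301048cc02cf) (nat_lit 1027))
 (.leaf (nat_lit 0xc050301048cc12ff) (nat_lit 2050))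
) (.node (nat_lit 0xc050301048dc12af) (.leaf (nat_lit 0xc050301048dc029f) (nat_lit 1537))
 (.leaf (nat_lit 0xc050301048dc12af) (nat_lit 2053))
)) (.node (nat_lit 0xc050301048fc42ff) (.node (nat_lit 0xc050301048ec529f) (.leaf (nat_lit 0xc050301048ec42af) (nat_lit 1536))
 (.leaf (nat_lit 0xc050301048ec529f) (nat_lit 2048))
) (.node (nat_lit 0xc050301048fc52cf) (.leaf (nat_lit 0xc050301048fc42ff) (nat_lit 1540))
 (.leaf (nat_lit 0xc050301048fc52cf) (nat_lit 2053))
))) (.node (nat_lit 0xc050301058ec426f) (.node (nat_lit 0xc050301058dc025f) (.node (nat_lit 0xc050301058cc123f) (.leaf (nat_lit 0xc050301058cc020f) (nat_lit 1026))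
 (.leaf (nat_lit 0xc050301058cc123f) (nat_lit 2052))
) (.node (nat_lit 0xc050301058dc126f) (.leaf (nat_lit 0xc050301058dc025f) (nat_lit 1539))
 (.leaf (nat_lit 0xc050301058dc126f) (nat_lit 2049))
)) (.node (nat_lit 0xc050301058fc423f) (.node (nat_lit 0xc050301058ec525f) (.leaf (nat_lit 0xc050301058ec426f) (nat_lit 1541))
 (.leaf (nat_lit 0xc050301058ec525f) (nat_lit 1536))
) (.node (nat_lit 0xc050301058fc520f) (.leaf (nat_lit 0xc050301058fc423f) (nat_lit 1541))
 (.leaf (nat_lit 0xc050301058fc520f) (nat_lit 1540))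
)))) (.node (nat_lit 0xc050301078ccc2cf) (.node (nat_lit 0xc050301068ec826f) (.node (nat_lit 0xc050301068dcc25f) (.node (nat_lit 0xc050301068ccd23f) (.leaf (nat_lit 0xc050301068ccc20f) (nat_lit 1285))
 (.leaf (nat_lit 0xc050301068ccd23f) (nat_lit 1796))
) (.node (nat_lit 0xc050301068dcd26f) (.leaf (nat_lit 0xc050301068dcc25f) (nat_lit 1797))
 (.leaf (nat_lit 0xc050301068dcd26f) (nat_lit 2305))
)) (.node (nat_lit 0xc050301068fc823f) (.node (nat_lit 0xc050301068ec925f) (.leaf (nat_lit 0xc050301068ec826f) (nat_lit 1283))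
 (.leaf (nat_lit 0xc050301068ec925f) (nat_lit 1793))
) (.node (nat_lit 0xc050301068fc920f) (.leaf (nat_lit 0xc050301068fc823f) (nat_lit 1282))
 (.leaf (nat_lit 0xc050301068fc920f) (nat_lit 1793))
))) (.node (nat_lit 0xc050301078ec82af) (.node (nat_lit 0xc050301078dcc29f) (.node (nat_lit 0xc050301078ccd2ff) (.leaf (nat_lit 0xc050301078ccc2cf) (nat_lit 1285))
 (.leaf (nat_lit 0xc050301078ccd2ff) (nat_lit 1794))
) (.node (nat_lit 0xc050301078dcd2af) (.leaf (nat_lit 0xc050301078dcc29f) (nat_lit 1792))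
 (.leaf (nat_lit 0xc050301078dcd2af) (nat_lit 1796))
)) (.node (nat_lit 0xc050301078fc82ff) (.node (nat_lit 0xc050301078ec929f) (.leaf (nat_lit 0xc050301078ec82af) (nat_lit 1282))
 (.leaf (nat_lit 0xc050301078ec929f) (nat_lit 1793))
) (.node (nat_lit 0xc050301078fc92cf) (.leaf (nat_lit 0xc050301078fc82ff) (nat_lit 1283))
 (.leaf (nat_lit 0xc050301078fc92cf) (nat_lit 1793))
)))))))) (.node (nat_lit 0xd0502010080c0205) (.node (nat_lit 0xd0403010080c020b) (.node (nat_lit 0xd040201048cc0249) (.node (nat_lit 0xd0402010280cc229) (.node (nat_lit 0xd0402010180c02d9) (.node (nat_lit 0xd0402010082c4209) (.node (nat_lit 0xd0402010081c0249) (.node (nat_lit 0xd0402010080c1229) (.leaf (nat_lit 0xd0402010080c0209) (nat_lit 771))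
 (.leaf (nat_lit 0xd0402010080c1229) (nat_lit 1797))
) (.node (nat_lit 0xd0402010081c1269) (.leaf (nat_lit 0xd0402010081c0249) (nat_lit 1282))
 (.leaf (nat_lit 0xd0402010081c1269) (nat_lit 2309))
)) (.node (nat_lit 0xd0402010083c4249) (.node (nat_lit 0xd0402010082c5229) (.leaf (nat_lit 0xd0402010082c4209) (nat_lit 1794))
 (.leaf (nat_lit 0xd0402010082c5229) (nat_lit 1285))
) (.node (nat_lit 0xd0402010083c5269) (.leaf (nat_lit 0xd0402010083c4249) (nat_lit 1796))
 (.leaf (nat_lit 0xd0402010083c5269) (nat_lit 1792))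
))) (.node (nat_lit 0xd0402010182c42d9) (.node (nat_lit 0xd0402010181c0299) (.node (nat_lit 0xd0402010180c12f9) (.leaf (nat_lit 0xd0402010180c02d9) (nat_lit 1282))
 (.leaf (nat_lit 0xd0402010180c12f9) (nat_lit 1797))
) (.node (nat_lit 0xd0402010181c12b9) (.leaf (nat_lit 0xd0402010181c0299) (nat_lit 1283))
 (.leaf (nat_lit 0xd0402010181c12b9) (nat_lit 1793))
)) (.node (nat_lit 0xd0402010183c4299) (.node (nat_lit 0xd0402010182c52f9) (.leaf (nat_lit 0xd0402010182c42d9) (nat_lit 1796))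
 (.leaf (nat_lit 0xd0402010182c52f9) (nat_lit 1794))
) (.node (nat_lit 0xd0402010183c52b9) (.leaf (nat_lit 0xd0402010183c4299) (nat_lit 1797))
 (.leaf (nat_lit 0xd0402010183c52b9) (nat_lit 1797))
)))) (.node (nat_lit 0xd0402010380cc2f9) (.node (nat_lit 0xd0402010282c8229) (.node (nat_lit 0xd0402010281cc269) (.node (nat_lit 0xd0402010280cd209) (.leaf (nat_lit 0xd0402010280cc229) (nat_lit 1537))
 (.leaf (nat_lit 0xd0402010280cd209) (nat_lit 1029))
) (.node (nat_lit 0xd0402010281cd249) (.leaf (nat_lit 0xd0402010281cc269) (nat_lit 2050))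
 (.leaf (nat_lit 0xd0402010281cd249) (nat_lit 1541))
)) (.node (nat_lit 0xd0402010283c8269) (.node (nat_lit 0xd0402010282c9209) (.leaf (nat_lit 0xd0402010282c8229) (nat_lit 1027))
 (.leaf (nat_lit 0xd0402010282c9209) (nat_lit 1537))
) (.node (nat_lit 0xd0402010283c9249) (.leaf (nat_lit 0xd0402010283c8269) (nat_lit 1538))
 (.leaf (nat_lit 0xd0402010283c9249) (nat_lit 2053))
))) (.node (nat_lit 0xd0402010382c82f9) (.node (nat_lit 0xd0402010381cc2b9) (.node (nat_lit 0xd0402010380cd2d9) (.leaf (nat_lit 0xd0402010380cc2f9) (nat_lit 1540))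
 (.leaf (nat_lit 0xd0402010380cd2d9) (nat_lit 1536))
) (.node (nat_lit 0xd0402010381cd299) (.leaf (nat_lit 0xd0402010381cc2b9) (nat_lit 2050))
 (.leaf (nat_lit 0xd0402010381cd299) (nat_lit 1541))
)) (.node (nat_lit 0xd0402010383c82b9) (.node (nat_lit 0xd0402010382c92d9) (.leaf (nat_lit 0xd0402010382c82f9) (nat_lit 1538))
 (.leaf (nat_lit 0xd0402010382c92d9) (nat_lit 2049))
) (.node (nat_lit 0xd0402010383c9299) (.leaf (nat_lit 0xd0402010383c82b9) (nat_lit 1539))
 (.leaf (nat_lit 0xd0402010383c9299) (nat_lit 1537))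
))))) (.node (nat_lit 0xd040201068ccc269) (.node (nat_lit 0xd040201058cc0299) (.node (nat_lit 0xd040201048ec4249) (.node (nat_lit 0xd040201048dc0209) (.node (nat_lit 0xd040201048cc1269) (.leaf (nat_lit 0xd040201048cc0249) (nat_lit 1027))
 (.leaf (nat_lit 0xd040201048cc1269) (nat_lit 2053))
) (.node (nat_lit 0xd040201048dc1229) (.leaf (nat_lit 0xd040201048dc0209) (nat_lit 1026))
 (.leaf (nat_lit 0xd040201048dc1229) (nat_lit 2053))
)) (.node (nat_lit 0xd040201048fc4209) (.node (nat_lit 0xd040201048ec5269) (.leaf (nat_lit 0xd040201048ec4249) (nat_lit 1536))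
 (.leaf (nat_lit 0xd040201048ec5269) (nat_lit 1541))
) (.node (nat_lit 0xd040201048fc5229) (.leaf (nat_lit 0xd040201048fc4209) (nat_lit 1540))
 (.leaf (nat_lit 0xd040201048fc5229) (nat_lit 1541))
))) (.node (nat_lit 0xd040201058ec4299) (.node (nat_lit 0xd040201058dc02d9) (.node (nat_lit 0xd040201058cc12b9) (.leaf (nat_lit 0xd040201058cc0299) (nat_lit 1537))
 (.leaf (nat_lit 0xd040201058cc12b9) (nat_lit 2053))
) (.node (nat_lit 0xd040201058dc12f9) (.leaf (nat_lit 0xd040201058dc02d9) (nat_lit 1027))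
 (.leaf (nat_lit 0xd040201058dc12f9) (nat_lit 2053))
)) (.node (nat_lit 0xd040201058fc42d9) (.node (nat_lit 0xd040201058ec52b9) (.leaf (nat_lit 0xd040201058ec4299) (nat_lit 2053))
 (.leaf (nat_lit 0xd040201058ec52b9) (nat_lit 2048))
) (.node (nat_lit 0xd040201058fc52f9) (.leaf (nat_lit 0xd040201058fc42d9) (nat_lit 2052))
 (.leaf (nat_lit 0xd040201058fc52f9) (nat_lit 1540))
)))) (.node (nat_lit 0xd040201078ccc2b9) (.node (nat_lit 0xd040201068ec8269) (.node (nat_lit 0xd040201068dcc229) (.node (nat_lit 0xd040201068ccd249) (.leaf (nat_lit 0xd040201068ccc269) (nat_lit 1793))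
 (.leaf (nat_lit 0xd040201068ccd249) (nat_lit 1285))
) (.node (nat_lit 0xd040201068dcd209) (.leaf (nat_lit 0xd040201068dcc229) (nat_lit 1794))
 (.leaf (nat_lit 0xd040201068dcd209) (nat_lit 1285))
)) (.node (nat_lit 0xd040201068fc8229) (.node (nat_lit 0xd040201068ec9249) (.leaf (nat_lit 0xd040201068ec8269) (nat_lit 1283))
 (.leaf (nat_lit 0xd040201068ec9249) (nat_lit 1793))
) (.node (nat_lit 0xd040201068fc9209) (.leaf (nat_lit 0xd040201068fc8229) (nat_lit 1282))
 (.leaf (nat_lit 0xd040201068fc9209) (nat_lit 1797))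
))) (.node (nat_lit 0xd040201078ec82b9) (.node (nat_lit 0xd040201078dcc2f9) (.node (nat_lit 0xd040201078ccd299) (.leaf (nat_lit 0xd040201078ccc2b9) (nat_lit 1796))
 (.leaf (nat_lit 0xd040201078ccd299) (nat_lit 1792))
) (.node (nat_lit 0xd040201078dcd2d9) (.leaf (nat_lit 0xd040201078dcc2f9) (nat_lit 1794))
 (.leaf (nat_lit 0xd040201078dcd2d9) (nat_lit 1285))
)) (.node (nat_lit 0xd040201078fc82f9) (.node (nat_lit 0xd040201078ec9299) (.leaf (nat_lit 0xd040201078ec82b9) (nat_lit 1794))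
 (.leaf (nat_lit 0xd040201078ec9299) (nat_lit 1793))
) (.node (nat_lit 0xd040201078fc92d9) (.leaf (nat_lit 0xd040201078fc82f9) (nat_lit 1283))
 (.leaf (nat_lit 0xd040201078fc92d9) (nat_lit 1793))
)))))) (.node (nat_lit 0xd040301048cc024b) (.node (nat_lit 0xd0403010280cc2eb) (.node (nat_lit 0xd0403010180c02db) (.node (nat_lit 0xd0403010082c424b) (.node (nat_lit 0xd0403010081c024b) (.node (nat_lit 0xd0403010080c123b) (.leaf (nat_lit 0xd0403010080c020b) (nat_lit 1027))
 (.leaf (nat_lit 0xd0403010080c123b) (nat_lit 2053))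
) (.node (nat_lit 0xd0403010081c127b) (.leaf (nat_lit 0xd0403010081c024b) (nat_lit 1538))
 (.leaf (nat_lit 0xd0403010081c127b) (nat_lit 2565))
)) (.node (nat_lit 0xd0403010083c420b) (.node (nat_lit 0xd0403010082c527b) (.leaf (nat_lit 0xd0403010082c424b) (nat_lit 1540))
 (.leaf (nat_lit 0xd0403010082c527b) (nat_lit 1536))
) (.node (nat_lit 0xd0403010083c523b) (.leaf (nat_lit 0xd0403010083c420b) (nat_lit 1538))
 (.leaf (nat_lit 0xd0403010083c523b) (nat_lit 1541))
))) (.node (nat_lit 0xd0403010182c429b) (.node (nat_lit 0xd0403010181c029b) (.node (nat_lit 0xd0403010180c12eb) (.leaf (nat_lit 0xd0403010180c02db) (nat_lit 1538))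
 (.leaf (nat_lit 0xd0403010180c12eb) (nat_lit 1541))
) (.node (nat_lit 0xd0403010181c12ab) (.leaf (nat_lit 0xd0403010181c029b) (nat_lit 1539))
 (.leaf (nat_lit 0xd0403010181c12ab) (nat_lit 1537))
)) (.node (nat_lit 0xd0403010183c42db) (.node (nat_lit 0xd0403010182c52ab) (.leaf (nat_lit 0xd0403010182c429b) (nat_lit 2053))
 (.leaf (nat_lit 0xd0403010182c52ab) (nat_lit 1541))
) (.node (nat_lit 0xd0403010183c52eb) (.leaf (nat_lit 0xd0403010183c42db) (nat_lit 2052))
 (.leaf (nat_lit 0xd0403010183c52eb) (nat_lit 2050))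
)))) (.node (nat_lit 0xd0403010380cc23b) (.node (nat_lit 0xd0403010282c82ab) (.node (nat_lit 0xd0403010281cc2ab) (.node (nat_lit 0xd0403010280cd2db) (.leaf (nat_lit 0xd0403010280cc2eb) (nat_lit 1284))
 (.leaf (nat_lit 0xd0403010280cd2db) (nat_lit 1280))
) (.node (nat_lit 0xd0403010281cd29b) (.leaf (nat_lit 0xd0403010281cc2ab) (nat_lit 1794))
 (.leaf (nat_lit 0xd0403010281cd29b) (nat_lit 1797))
)) (.node (nat_lit 0xd0403010283c82eb) (.node (nat_lit 0xd0403010282c929b) (.leaf (nat_lit 0xd0403010282c82ab) (nat_lit 1283))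
 (.leaf (nat_lit 0xd0403010282c929b) (nat_lit 1793))
) (.node (nat_lit 0xd0403010283c92db) (.leaf (nat_lit 0xd0403010283c82eb) (nat_lit 1794))
 (.leaf (nat_lit 0xd0403010283c92db) (nat_lit 2305))
))) (.node (nat_lit 0xd0403010382c827b) (.node (nat_lit 0xd0403010381cc27b) (.node (nat_lit 0xd0403010380cd20b) (.leaf (nat_lit 0xd0403010380cc23b) (nat_lit 1793))
 (.leaf (nat_lit 0xd0403010380cd20b) (nat_lit 1285))
) (.node (nat_lit 0xd0403010381cd24b) (.leaf (nat_lit 0xd0403010381cc27b) (nat_lit 2306))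
 (.leaf (nat_lit 0xd0403010381cd24b) (nat_lit 1797))
)) (.node (nat_lit 0xd0403010383c823b) (.node (nat_lit 0xd0403010382c924b) (.leaf (nat_lit 0xd0403010382c827b) (nat_lit 1794))
 (.leaf (nat_lit 0xd0403010382c924b) (nat_lit 1797))
) (.node (nat_lit 0xd0403010383c920b) (.leaf (nat_lit 0xd0403010383c823b) (nat_lit 1283))
 (.leaf (nat_lit 0xd0403010383c920b) (nat_lit 1281))
))))) (.node (nat_lit 0xd040301068ccc2ab) (.node (nat_lit 0xd040301058cc029b) (.node (nat_lit 0xd040301048ec420b) (.node (nat_lit 0xd040301048dc020b) (.node (nat_lit 0xd040301048cc127b) (.leaf (nat_lit 0xd040301048cc024b) (nat_lit 1283))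
 (.leaf (nat_lit 0xd040301048cc127b) (nat_lit 2309))
) (.node (nat_lit 0xd040301048dc123b) (.leaf (nat_lit 0xd040301048dc020b) (nat_lit 1282))
 (.leaf (nat_lit 0xd040301048dc123b) (nat_lit 2309))
)) (.node (nat_lit 0xd040301048fc424b) (.node (nat_lit 0xd040301048ec523b) (.leaf (nat_lit 0xd040301048ec420b) (nat_lit 1284))
 (.leaf (nat_lit 0xd040301048ec523b) (nat_lit 1797))
) (.node (nat_lit 0xd040301048fc527b) (.leaf (nat_lit 0xd040301048fc424b) (nat_lit 1792))
 (.leaf (nat_lit 0xd040301048fc527b) (nat_lit 1797))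
))) (.node (nat_lit 0xd040301058ec42db) (.node (nat_lit 0xd040301058dc02db) (.node (nat_lit 0xd040301058cc12ab) (.leaf (nat_lit 0xd040301058cc029b) (nat_lit 1793))
 (.leaf (nat_lit 0xd040301058cc12ab) (nat_lit 1797))
) (.node (nat_lit 0xd040301058dc12eb) (.leaf (nat_lit 0xd040301058dc02db) (nat_lit 1283))
 (.leaf (nat_lit 0xd040301058dc12eb) (nat_lit 1797))
)) (.node (nat_lit 0xd040301058fc429b) (.node (nat_lit 0xd040301058ec52eb) (.leaf (nat_lit 0xd040301058ec42db) (nat_lit 2308))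
 (.leaf (nat_lit 0xd040301058ec52eb) (nat_lit 1796))
) (.node (nat_lit 0xd040301058fc52ab) (.leaf (nat_lit 0xd040301058fc429b) (nat_lit 2309))
 (.leaf (nat_lit 0xd040301058fc52ab) (nat_lit 1792))
)))) (.node (nat_lit 0xd040301078ccc27b) (.node (nat_lit 0xd040301068ec82eb) (.node (nat_lit 0xd040301068dcc2eb) (.node (nat_lit 0xd040301068ccd29b) (.leaf (nat_lit 0xd040301068ccc2ab) (nat_lit 1540))
 (.leaf (nat_lit 0xd040301068ccd29b) (nat_lit 1536))
) (.node (nat_lit 0xd040301068dcd2db) (.leaf (nat_lit 0xd040301068dcc2eb) (nat_lit 1538))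
 (.leaf (nat_lit 0xd040301068dcd2db) (nat_lit 1541))
)) (.node (nat_lit 0xd040301068fc82ab) (.node (nat_lit 0xd040301068ec92db) (.leaf (nat_lit 0xd040301068ec82eb) (nat_lit 1539))
 (.leaf (nat_lit 0xd040301068ec92db) (nat_lit 2049))
) (.node (nat_lit 0xd040301068fc929b) (.leaf (nat_lit 0xd040301068fc82ab) (nat_lit 1538))
 (.leaf (nat_lit 0xd040301068fc929b) (nat_lit 2049))
))) (.node (nat_lit 0xd040301078ec823b) (.node (nat_lit 0xd040301078dcc23b) (.node (nat_lit 0xd040301078ccd24b) (.leaf (nat_lit 0xd040301078ccc27b) (nat_lit 2049))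
 (.leaf (nat_lit 0xd040301078ccd24b) (nat_lit 1541))
) (.node (nat_lit 0xd040301078dcd20b) (.leaf (nat_lit 0xd040301078dcc23b) (nat_lit 2050))
 (.leaf (nat_lit 0xd040301078dcd20b) (nat_lit 1541))
)) (.node (nat_lit 0xd040301078fc827b) (.node (nat_lit 0xd040301078ec920b) (.leaf (nat_lit 0xd040301078ec823b) (nat_lit 1538))
 (.leaf (nat_lit 0xd040301078ec920b) (nat_lit 1541))
) (.node (nat_lit 0xd040301078fc924b) (.leaf (nat_lit 0xd040301078fc827b) (nat_lit 1539))
 (.leaf (nat_lit 0xd040301078fc924b) (nat_lit 1537))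
))))))) (.node (nat_lit 0xd0503010080c0207) (.node (nat_lit 0xd050201048cc0285) (.node (nat_lit 0xd0502010280cc225) (.node (nat_lit 0xd0502010180c02d5) (.node (nat_lit 0xd0502010082c4225) (.node (nat_lit 0xd0502010081c0255) (.node (nat_lit 0xd0502010080c1225) (.leaf (nat_lit 0xd0502010080c0205) (nat_lit 513))
 (.leaf (nat_lit 0xd0502010080c1225) (nat_lit 1541))
) (.node (nat_lit 0xd0502010081c1275) (.leaf (nat_lit 0xd0502010081c0255) (nat_lit 1539))
 (.leaf (nat_lit 0xd0502010081c1275) (nat_lit 2565))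
)) (.node (nat_lit 0xd0502010083c4275) (.node (nat_lit 0xd0502010082c5205) (.leaf (nat_lit 0xd0502010082c4225) (nat_lit 1537))
 (.leaf (nat_lit 0xd0502010082c5205) (nat_lit 1029))
) (.node (nat_lit 0xd0502010083c5255) (.leaf (nat_lit 0xd0502010083c4275) (nat_lit 2052))
 (.leaf (nat_lit 0xd0502010083c5255) (nat_lit 1536))
))) (.node (nat_lit 0xd0502010182c42f5) (.node (nat_lit 0xd0502010181c0285) (.node (nat_lit 0xd0502010180c12f5) (.leaf (nat_lit 0xd0502010180c02d5) (nat_lit 1541))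
 (.leaf (nat_lit 0xd0502010180c12f5) (nat_lit 2053))
) (.node (nat_lit 0xd0502010181c12a5) (.leaf (nat_lit 0xd0502010181c0285) (nat_lit 1026))
 (.leaf (nat_lit 0xd0502010181c12a5) (nat_lit 1540))
)) (.node (nat_lit 0xd0502010183c42a5) (.node (nat_lit 0xd0502010182c52d5) (.leaf (nat_lit 0xd0502010182c42f5) (nat_lit 2050))
 (.leaf (nat_lit 0xd0502010182c52d5) (nat_lit 1536))
) (.node (nat_lit 0xd0502010183c5285) (.leaf (nat_lit 0xd0502010183c42a5) (nat_lit 1538))
 (.leaf (nat_lit 0xd0502010183c5285) (nat_lit 1541))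
)))) (.node (nat_lit 0xd0502010380cc2f5) (.node (nat_lit 0xd0502010282c8205) (.node (nat_lit 0xd0502010281cc275) (.node (nat_lit 0xd0502010280cd205) (.leaf (nat_lit 0xd0502010280cc225) (nat_lit 1281))
 (.leaf (nat_lit 0xd0502010280cd205) (nat_lit 773))
) (.node (nat_lit 0xd0502010281cd255) (.leaf (nat_lit 0xd0502010281cc275) (nat_lit 2306))
 (.leaf (nat_lit 0xd0502010281cd255) (nat_lit 1792))
)) (.node (nat_lit 0xd0502010283c8255) (.node (nat_lit 0xd0502010282c9225) (.leaf (nat_lit 0xd0502010282c8205) (nat_lit 769))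
 (.leaf (nat_lit 0xd0502010282c9225) (nat_lit 1795))
) (.node (nat_lit 0xd0502010283c9275) (.leaf (nat_lit 0xd0502010283c8255) (nat_lit 1797))
 (.leaf (nat_lit 0xd0502010283c9275) (nat_lit 2308))
))) (.node (nat_lit 0xd0502010382c82d5) (.node (nat_lit 0xd0502010381cc2a5) (.node (nat_lit 0xd0502010380cd2d5) (.leaf (nat_lit 0xd0502010380cc2f5) (nat_lit 1796))
 (.leaf (nat_lit 0xd0502010380cd2d5) (nat_lit 1280))
) (.node (nat_lit 0xd0502010381cd285) (.leaf (nat_lit 0xd0502010381cc2a5) (nat_lit 1794))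
 (.leaf (nat_lit 0xd0502010381cd285) (nat_lit 1285))
)) (.node (nat_lit 0xd0502010383c8285) (.node (nat_lit 0xd0502010382c92f5) (.leaf (nat_lit 0xd0502010382c82d5) (nat_lit 1795))
 (.leaf (nat_lit 0xd0502010382c92f5) (nat_lit 2306))
) (.node (nat_lit 0xd0502010383c92a5) (.leaf (nat_lit 0xd0502010383c8285) (nat_lit 1281))
 (.leaf (nat_lit 0xd0502010383c92a5) (nat_lit 1796))
))))) (.node (nat_lit 0xd050201068ccc2a5) (.node (nat_lit 0xd050201058cc0255) (.node (nat_lit 0xd050201048ec42a5) (.node (nat_lit 0xd050201048dc02d5) (.node (nat_lit 0xd050201048cc12a5) (.leaf (nat_lit 0xd050201048cc0285) (nat_lit 769))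
 (.leaf (nat_lit 0xd050201048cc12a5) (nat_lit 1797))
) (.node (nat_lit 0xd050201048dc12f5) (.leaf (nat_lit 0xd050201048dc02d5) (nat_lit 1283))
 (.leaf (nat_lit 0xd050201048dc12f5) (nat_lit 2309))
)) (.node (nat_lit 0xd050201048fc42f5) (.node (nat_lit 0xd050201048ec5285) (.leaf (nat_lit 0xd050201048ec42a5) (nat_lit 1284))
 (.leaf (nat_lit 0xd050201048ec5285) (nat_lit 1285))
) (.node (nat_lit 0xd050201048fc52d5) (.leaf (nat_lit 0xd050201048fc42f5) (nat_lit 1796))
 (.leaf (nat_lit 0xd050201048fc52d5) (nat_lit 1792))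
))) (.node (nat_lit 0xd050201058ec4275) (.node (nat_lit 0xd050201058dc0205) (.node (nat_lit 0xd050201058cc1275) (.leaf (nat_lit 0xd050201058cc0255) (nat_lit 1796))
 (.leaf (nat_lit 0xd050201058cc1275) (nat_lit 2309))
) (.node (nat_lit 0xd050201058dc1225) (.leaf (nat_lit 0xd050201058dc0205) (nat_lit 770))
 (.leaf (nat_lit 0xd050201058dc1225) (nat_lit 1797))
)) (.node (nat_lit 0xd050201058fc4225) (.node (nat_lit 0xd050201058ec5255) (.leaf (nat_lit 0xd050201058ec4275) (nat_lit 2306))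
 (.leaf (nat_lit 0xd050201058ec5255) (nat_lit 1792))
) (.node (nat_lit 0xd050201058fc5205) (.leaf (nat_lit 0xd050201058fc4225) (nat_lit 1793))
 (.leaf (nat_lit 0xd050201058fc5205) (nat_lit 1284))
)))) (.node (nat_lit 0xd050201078ccc275) (.node (nat_lit 0xd050201068ec8285) (.node (nat_lit 0xd050201068dcc2f5) (.node (nat_lit 0xd050201068ccd285) (.leaf (nat_lit 0xd050201068ccc2a5) (nat_lit 1537))
 (.leaf (nat_lit 0xd050201068ccd285) (nat_lit 1029))
) (.node (nat_lit 0xd050201068dcd2d5) (.leaf (nat_lit 0xd050201068dcc2f5) (nat_lit 2050))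
 (.leaf (nat_lit 0xd050201068dcd2d5) (nat_lit 1536))
)) (.node (nat_lit 0xd050201068fc82d5) (.node (nat_lit 0xd050201068ec92a5) (.leaf (nat_lit 0xd050201068ec8285) (nat_lit 1025))
 (.leaf (nat_lit 0xd050201068ec92a5) (nat_lit 1541))
) (.node (nat_lit 0xd050201068fc92f5) (.leaf (nat_lit 0xd050201068fc82d5) (nat_lit 1539))
 (.leaf (nat_lit 0xd050201068fc92f5) (nat_lit 2052))
))) (.node (nat_lit 0xd050201078ec8255) (.node (nat_lit 0xd050201078dcc225) (.node (nat_lit 0xd050201078ccd255) (.leaf (nat_lit 0xd050201078ccc275) (nat_lit 2052))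
 (.leaf (nat_lit 0xd050201078ccd255) (nat_lit 1536))
) (.node (nat_lit 0xd050201078dcd205) (.leaf (nat_lit 0xd050201078dcc225) (nat_lit 1538))
 (.leaf (nat_lit 0xd050201078dcd205) (nat_lit 1029))
)) (.node (nat_lit 0xd050201078fc8205) (.node (nat_lit 0xd050201078ec9275) (.leaf (nat_lit 0xd050201078ec8255) (nat_lit 2053))
 (.leaf (nat_lit 0xd050201078ec9275) (nat_lit 2051))
) (.node (nat_lit 0xd050201078fc9225) (.leaf (nat_lit 0xd050201078fc8205) (nat_lit 1025))
 (.leaf (nat_lit 0xd050201078fc9225) (nat_lit 2050))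
)))))) (.node (nat_lit 0xd050301048cc0287) (.node (nat_lit 0xd0503010280cc2e7) (.node (nat_lit 0xd0503010180c02d7) (.node (nat_lit 0xd0503010082c4267) (.node (nat_lit 0xd0503010081c0257) (.node (nat_lit 0xd0503010080c1237) (.leaf (nat_lit 0xd0503010080c0207) (nat_lit 769))
 (.leaf (nat_lit 0xd0503010080c1237) (nat_lit 1797))
) (.node (nat_lit 0xd0503010081c1267) (.leaf (nat_lit 0xd0503010081c0257) (nat_lit 1795))
 (.leaf (nat_lit 0xd0503010081c1267) (nat_lit 2309))
)) (.node (nat_lit 0xd0503010083c4237) (.node (nat_lit 0xd0503010082c5257) (.leaf (nat_lit 0xd0503010082c4267) (nat_lit 1796))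
 (.leaf (nat_lit 0xd0503010082c5257) (nat_lit 1280))
) (.node (nat_lit 0xd0503010083c5207) (.leaf (nat_lit 0xd0503010083c4237) (nat_lit 1793))
 (.leaf (nat_lit 0xd0503010083c5207) (nat_lit 1285))
))) (.node (nat_lit 0xd0503010182c42b7) (.node (nat_lit 0xd0503010181c0287) (.node (nat_lit 0xd0503010180c12e7) (.leaf (nat_lit 0xd0503010180c02d7) (nat_lit 1285))
 (.leaf (nat_lit 0xd0503010180c12e7) (nat_lit 1797))
) (.node (nat_lit 0xd0503010181c12b7) (.leaf (nat_lit 0xd0503010181c0287) (nat_lit 1282))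
 (.leaf (nat_lit 0xd0503010181c12b7) (nat_lit 1796))
)) (.node (nat_lit 0xd0503010183c42e7) (.node (nat_lit 0xd0503010182c5287) (.leaf (nat_lit 0xd0503010182c42b7) (nat_lit 1794))
 (.leaf (nat_lit 0xd0503010182c5287) (nat_lit 1285))
) (.node (nat_lit 0xd0503010183c52d7) (.leaf (nat_lit 0xd0503010183c42e7) (nat_lit 1794))
 (.leaf (nat_lit 0xd0503010183c52d7) (nat_lit 1792))
)))) (.node (nat_lit 0xd0503010380cc237) (.node (nat_lit 0xd0503010282c8287) (.node (nat_lit 0xd0503010281cc2b7) (.node (nat_lit 0xd0503010280cd2d7) (.leaf (nat_lit 0xd0503010280cc2e7) (nat_lit 1540))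
 (.leaf (nat_lit 0xd0503010280cd2d7) (nat_lit 1024))
) (.node (nat_lit 0xd0503010281cd287) (.leaf (nat_lit 0xd0503010281cc2b7) (nat_lit 2050))
 (.leaf (nat_lit 0xd0503010281cd287) (nat_lit 1541))
)) (.node (nat_lit 0xd0503010283c82d7) (.node (nat_lit 0xd0503010282c92b7) (.leaf (nat_lit 0xd0503010282c8287) (nat_lit 1025))
 (.leaf (nat_lit 0xd0503010282c92b7) (nat_lit 2052))
) (.node (nat_lit 0xd0503010283c92e7) (.leaf (nat_lit 0xd0503010283c82d7) (nat_lit 2051))
 (.leaf (nat_lit 0xd0503010283c92e7) (nat_lit 2050))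
))) (.node (nat_lit 0xd0503010382c8257) (.node (nat_lit 0xd0503010381cc267) (.node (nat_lit 0xd0503010380cd207) (.leaf (nat_lit 0xd0503010380cc237) (nat_lit 1537))
 (.leaf (nat_lit 0xd0503010380cd207) (nat_lit 1029))
) (.node (nat_lit 0xd0503010381cd257) (.leaf (nat_lit 0xd0503010381cc267) (nat_lit 2050))
 (.leaf (nat_lit 0xd0503010381cd257) (nat_lit 1536))
)) (.node (nat_lit 0xd0503010383c8207) (.node (nat_lit 0xd0503010382c9267) (.leaf (nat_lit 0xd0503010382c8257) (nat_lit 1541))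
 (.leaf (nat_lit 0xd0503010382c9267) (nat_lit 2052))
) (.node (nat_lit 0xd0503010383c9237) (.leaf (nat_lit 0xd0503010383c8207) (nat_lit 1025))
 (.leaf (nat_lit 0xd0503010383c9237) (nat_lit 1539))
))))) (.node (nat_lit 0xd050301068ccc267) (.node (nat_lit 0xd050301058cc0257) (.node (nat_lit 0xd050301048ec42e7) (.node (nat_lit 0xd050301048dc02d7) (.node (nat_lit 0xd050301048cc12b7) (.leaf (nat_lit 0xd050301048cc0287) (nat_lit 1025))
 (.leaf (nat_lit 0xd050301048cc12b7) (nat_lit 2053))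
) (.node (nat_lit 0xd050301048dc12e7) (.leaf (nat_lit 0xd050301048dc02d7) (nat_lit 1539))
 (.leaf (nat_lit 0xd050301048dc12e7) (nat_lit 2053))
)) (.node (nat_lit 0xd050301048fc42b7) (.node (nat_lit 0xd050301048ec52d7) (.leaf (nat_lit 0xd050301048ec42e7) (nat_lit 1540))
 (.leaf (nat_lit 0xd050301048ec52d7) (nat_lit 1536))
) (.node (nat_lit 0xd050301048fc5287) (.leaf (nat_lit 0xd050301048fc42b7) (nat_lit 1540))
 (.leaf (nat_lit 0xd050301048fc5287) (nat_lit 1541))
))) (.node (nat_lit 0xd050301058ec4237) (.node (nat_lit 0xd050301058dc0207) (.node (nat_lit 0xd050301058cc1267) (.leaf (nat_lit 0xd050301058cc0257) (nat_lit 1540))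
 (.leaf (nat_lit 0xd050301058cc1267) (nat_lit 2053))
) (.node (nat_lit 0xd050301058dc1237) (.leaf (nat_lit 0xd050301058dc0207) (nat_lit 1026))
 (.leaf (nat_lit 0xd050301058dc1237) (nat_lit 2053))
)) (.node (nat_lit 0xd050301058fc4267) (.node (nat_lit 0xd050301058ec5207) (.leaf (nat_lit 0xd050301058ec4237) (nat_lit 2049))
 (.leaf (nat_lit 0xd050301058ec5207) (nat_lit 1540))
) (.node (nat_lit 0xd050301058fc5257) (.leaf (nat_lit 0xd050301058fc4267) (nat_lit 2050))
 (.leaf (nat_lit 0xd050301058fc5257) (nat_lit 1536))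
)))) (.node (nat_lit 0xd050301078ccc2b7) (.node (nat_lit 0xd050301068ec8207) (.node (nat_lit 0xd050301068dcc237) (.node (nat_lit 0xd050301068ccd257) (.leaf (nat_lit 0xd050301068ccc267) (nat_lit 1796))
 (.leaf (nat_lit 0xd050301068ccd257) (nat_lit 1280))
) (.node (nat_lit 0xd050301068dcd207) (.leaf (nat_lit 0xd050301068dcc237) (nat_lit 1794))
 (.leaf (nat_lit 0xd050301068dcd207) (nat_lit 1285))
)) (.node (nat_lit 0xd050301068fc8257) (.node (nat_lit 0xd050301068ec9237) (.leaf (nat_lit 0xd050301068ec8207) (nat_lit 1281))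
 (.leaf (nat_lit 0xd050301068ec9237) (nat_lit 1794))
) (.node (nat_lit 0xd050301068fc9267) (.leaf (nat_lit 0xd050301068fc8257) (nat_lit 1797))
 (.leaf (nat_lit 0xd050301068fc9267) (nat_lit 2307))
))) (.node (nat_lit 0xd050301078ec82d7) (.node (nat_lit 0xd050301078dcc2e7) (.node (nat_lit 0xd050301078ccd287) (.leaf (nat_lit 0xd050301078ccc2b7) (nat_lit 1793))
 (.leaf (nat_lit 0xd050301078ccd287) (nat_lit 1285))
) (.node (nat_lit 0xd050301078dcd2d7) (.leaf (nat_lit 0xd050301078dcc2e7) (nat_lit 1794))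
 (.leaf (nat_lit 0xd050301078dcd2d7) (nat_lit 1280))
)) (.node (nat_lit 0xd050301078fc8287) (.node (nat_lit 0xd050301078ec92e7) (.leaf (nat_lit 0xd050301078ec82d7) (nat_lit 1795))
 (.leaf (nat_lit 0xd050301078ec92e7) (nat_lit 1796))
) (.node (nat_lit 0xd050301078fc92b7) (.leaf (nat_lit 0xd050301078fc8287) (nat_lit 1281))
 (.leaf (nat_lit 0xd050301078fc92b7) (nat_lit 1797))
))))))))) (.node (nat_lit 0xf0402010080c0a09) (.node (nat_lit 0xe0502010080c0a0d) (.node (nat_lit 0xe0403010080c0a0b) (.node (nat_lit 0xe040201048cc4a01) (.node (nat_lit 0xe0402010280cea01) (.node (nat_lit 0xe0402010180c0ae1) (.node (nat_lit 0xe0402010082c4a01) (.node (nat_lit 0xe0402010081c0a41) (.node (nat_lit 0xe0402010080c1a21) (.leaf (nat_lit 0xe0402010080c0a01) (nat_lit 516))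
 (.leaf (nat_lit 0xe0402010080c1a21) (nat_lit 2048))
) (.node (nat_lit 0xe0402010081c1a61) (.leaf (nat_lit 0xe0402010081c0a41) (nat_lit 2050))
 (.leaf (nat_lit 0xe0402010081c1a61) (nat_lit 2565))
)) (.node (nat_lit 0xe0402010083c4a41) (.node (nat_lit 0xe0402010082c5a21) (.leaf (nat_lit 0xe0402010082c4a01) (nat_lit 1026))
 (.leaf (nat_lit 0xe0402010082c5a21) (nat_lit 1539))
) (.node (nat_lit 0xe0402010083c5a61) (.leaf (nat_lit 0xe0402010083c4a41) (nat_lit 1540))
 (.leaf (nat_lit 0xe0402010083c5a61) (nat_lit 2051))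
))) (.node (nat_lit 0xe0402010182c4ae1) (.node (nat_lit 0xe0402010181c0aa1) (.node (nat_lit 0xe0402010180c1ac1) (.leaf (nat_lit 0xe0402010180c0ae1) (nat_lit 1538))
 (.leaf (nat_lit 0xe0402010180c1ac1) (nat_lit 1541))
) (.node (nat_lit 0xe0402010181c1a81) (.leaf (nat_lit 0xe0402010181c0aa1) (nat_lit 1538))
 (.leaf (nat_lit 0xe0402010181c1a81) (nat_lit 1537))
)) (.node (nat_lit 0xe0402010183c4aa1) (.node (nat_lit 0xe0402010182c5ac1) (.leaf (nat_lit 0xe0402010182c4ae1) (nat_lit 1539))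
 (.leaf (nat_lit 0xe0402010182c5ac1) (nat_lit 1538))
) (.node (nat_lit 0xe0402010183c5a81) (.leaf (nat_lit 0xe0402010183c4aa1) (nat_lit 1537))
 (.leaf (nat_lit 0xe0402010183c5a81) (nat_lit 1541))
)))) (.node (nat_lit 0xe0402010380ceae1) (.node (nat_lit 0xe0402010282caa01) (.node (nat_lit 0xe0402010281cea41) (.node (nat_lit 0xe0402010280cfa21) (.leaf (nat_lit 0xe0402010280cea01) (nat_lit 773))
 (.leaf (nat_lit 0xe0402010280cfa21) (nat_lit 1792))
) (.node (nat_lit 0xe0402010281cfa61) (.leaf (nat_lit 0xe0402010281cea41) (nat_lit 1792))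
 (.leaf (nat_lit 0xe0402010281cfa61) (nat_lit 2304))
)) (.node (nat_lit 0xe0402010283caa41) (.node (nat_lit 0xe0402010282cba21) (.leaf (nat_lit 0xe0402010282caa01) (nat_lit 769))
 (.leaf (nat_lit 0xe0402010282cba21) (nat_lit 1795))
) (.node (nat_lit 0xe0402010283cba61) (.leaf (nat_lit 0xe0402010283caa41) (nat_lit 1797))
 (.leaf (nat_lit 0xe0402010283cba61) (nat_lit 2304))
))) (.node (nat_lit 0xe0402010382caae1) (.node (nat_lit 0xe0402010381ceaa1) (.node (nat_lit 0xe0402010380cfac1) (.leaf (nat_lit 0xe0402010380ceae1) (nat_lit 1280))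
 (.leaf (nat_lit 0xe0402010380cfac1) (nat_lit 1284))
) (.node (nat_lit 0xe0402010381cfa81) (.leaf (nat_lit 0xe0402010381ceaa1) (nat_lit 1793))
 (.leaf (nat_lit 0xe0402010381cfa81) (nat_lit 1794))
)) (.node (nat_lit 0xe0402010383caaa1) (.node (nat_lit 0xe0402010382cbac1) (.leaf (nat_lit 0xe0402010382caae1) (nat_lit 1797))
 (.leaf (nat_lit 0xe0402010382cbac1) (nat_lit 1794))
) (.node (nat_lit 0xe0402010383cba81) (.leaf (nat_lit 0xe0402010383caaa1) (nat_lit 1281))
 (.leaf (nat_lit 0xe0402010383cba81) (nat_lit 1284))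
))))) (.node (nat_lit 0xe040201068ccaa01) (.node (nat_lit 0xe040201058cc4ae1) (.node (nat_lit 0xe040201048ec0a01) (.node (nat_lit 0xe040201048dc4a41) (.node (nat_lit 0xe040201048cc5a21) (.leaf (nat_lit 0xe040201048cc4a01) (nat_lit 772))
 (.leaf (nat_lit 0xe040201048cc5a21) (nat_lit 1794))
) (.node (nat_lit 0xe040201048dc5a61) (.leaf (nat_lit 0xe040201048dc4a41) (nat_lit 1792))
 (.leaf (nat_lit 0xe040201048dc5a61) (nat_lit 2309))
)) (.node (nat_lit 0xe040201048fc0a41) (.node (nat_lit 0xe040201048ec1a21) (.leaf (nat_lit 0xe040201048ec0a01) (nat_lit 770))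
 (.leaf (nat_lit 0xe040201048ec1a21) (nat_lit 1795))
) (.node (nat_lit 0xe040201048fc1a61) (.leaf (nat_lit 0xe040201048fc0a41) (nat_lit 1796))
 (.leaf (nat_lit 0xe040201048fc1a61) (nat_lit 2307))
))) (.node (nat_lit 0xe040201058ec0ae1) (.node (nat_lit 0xe040201058dc4aa1) (.node (nat_lit 0xe040201058cc5ac1) (.leaf (nat_lit 0xe040201058cc4ae1) (nat_lit 1794))
 (.leaf (nat_lit 0xe040201058cc5ac1) (nat_lit 1284))
) (.node (nat_lit 0xe040201058dc5a81) (.leaf (nat_lit 0xe040201058dc4aa1) (nat_lit 1794))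
 (.leaf (nat_lit 0xe040201058dc5a81) (nat_lit 1284))
)) (.node (nat_lit 0xe040201058fc0aa1) (.node (nat_lit 0xe040201058ec1ac1) (.leaf (nat_lit 0xe040201058ec0ae1) (nat_lit 1283))
 (.leaf (nat_lit 0xe040201058ec1ac1) (nat_lit 1797))
) (.node (nat_lit 0xe040201058fc1a81) (.leaf (nat_lit 0xe040201058fc0aa1) (nat_lit 1281))
 (.leaf (nat_lit 0xe040201058fc1a81) (nat_lit 1797))
)))) (.node (nat_lit 0xe040201078ccaae1) (.node (nat_lit 0xe040201068ecea01) (.node (nat_lit 0xe040201068dcaa41) (.node (nat_lit 0xe040201068ccba21) (.leaf (nat_lit 0xe040201068ccaa01) (nat_lit 1029))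
 (.leaf (nat_lit 0xe040201068ccba21) (nat_lit 2050))
) (.node (nat_lit 0xe040201068dcba61) (.leaf (nat_lit 0xe040201068dcaa41) (nat_lit 2053))
 (.leaf (nat_lit 0xe040201068dcba61) (nat_lit 2048))
)) (.node (nat_lit 0xe040201068fcea41) (.node (nat_lit 0xe040201068ecfa21) (.leaf (nat_lit 0xe040201068ecea01) (nat_lit 1029))
 (.leaf (nat_lit 0xe040201068ecfa21) (nat_lit 2051))
) (.node (nat_lit 0xe040201068fcfa61) (.leaf (nat_lit 0xe040201068fcea41) (nat_lit 2053))
 (.leaf (nat_lit 0xe040201068fcfa61) (nat_lit 2561))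
))) (.node (nat_lit 0xe040201078eceae1) (.node (nat_lit 0xe040201078dcaaa1) (.node (nat_lit 0xe040201078ccbac1) (.leaf (nat_lit 0xe040201078ccaae1) (nat_lit 1536))
 (.leaf (nat_lit 0xe040201078ccbac1) (nat_lit 1540))
) (.node (nat_lit 0xe040201078dcba81) (.leaf (nat_lit 0xe040201078dcaaa1) (nat_lit 1537))
 (.leaf (nat_lit 0xe040201078dcba81) (nat_lit 1538))
)) (.node (nat_lit 0xe040201078fceaa1) (.node (nat_lit 0xe040201078ecfac1) (.leaf (nat_lit 0xe040201078eceae1) (nat_lit 1541))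
 (.leaf (nat_lit 0xe040201078ecfac1) (nat_lit 1538))
) (.node (nat_lit 0xe040201078fcfa81) (.leaf (nat_lit 0xe040201078fceaa1) (nat_lit 1537))
 (.leaf (nat_lit 0xe040201078fcfa81) (nat_lit 1540))
)))))) (.node (nat_lit 0xe040301048cc4a4b) (.node (nat_lit 0xe0403010280ceaeb) (.node (nat_lit 0xe0403010180c0aeb) (.node (nat_lit 0xe0403010082c4a4b) (.node (nat_lit 0xe0403010081c0a4b) (.node (nat_lit 0xe0403010080c1a3b) (.leaf (nat_lit 0xe0403010080c0a0b) (nat_lit 768))
 (.leaf (nat_lit 0xe0403010080c1a3b) (nat_lit 1797))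
) (.node (nat_lit 0xe0403010081c1a7b) (.leaf (nat_lit 0xe0403010081c0a4b) (nat_lit 1796))
 (.leaf (nat_lit 0xe0403010081c1a7b) (nat_lit 2306))
)) (.node (nat_lit 0xe0403010083c4a0b) (.node (nat_lit 0xe0403010082c5a7b) (.leaf (nat_lit 0xe0403010082c4a4b) (nat_lit 1282))
 (.leaf (nat_lit 0xe0403010082c5a7b) (nat_lit 1795))
) (.node (nat_lit 0xe0403010083c5a3b) (.leaf (nat_lit 0xe0403010083c4a0b) (nat_lit 1285))
 (.leaf (nat_lit 0xe0403010083c5a3b) (nat_lit 1795))
))) (.node (nat_lit 0xe0403010182c4aab) (.node (nat_lit 0xe0403010181c0aab) (.node (nat_lit 0xe0403010180c1adb) (.leaf (nat_lit 0xe0403010180c0aeb) (nat_lit 1285))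
 (.leaf (nat_lit 0xe0403010180c1adb) (nat_lit 1792))
) (.node (nat_lit 0xe0403010181c1a9b) (.leaf (nat_lit 0xe0403010181c0aab) (nat_lit 1281))
 (.leaf (nat_lit 0xe0403010181c1a9b) (nat_lit 1796))
)) (.node (nat_lit 0xe0403010183c4aeb) (.node (nat_lit 0xe0403010182c5a9b) (.leaf (nat_lit 0xe0403010182c4aab) (nat_lit 1285))
 (.leaf (nat_lit 0xe0403010182c5a9b) (nat_lit 1794))
) (.node (nat_lit 0xe0403010183c5adb) (.leaf (nat_lit 0xe0403010183c4aeb) (nat_lit 1793))
 (.leaf (nat_lit 0xe0403010183c5adb) (nat_lit 1794))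
)))) (.node (nat_lit 0xe0403010380cea0b) (.node (nat_lit 0xe0403010282caaab) (.node (nat_lit 0xe0403010281ceaab) (.node (nat_lit 0xe0403010280cfadb) (.leaf (nat_lit 0xe0403010280ceaeb) (nat_lit 1024))
 (.leaf (nat_lit 0xe0403010280cfadb) (nat_lit 1540))
) (.node (nat_lit 0xe0403010281cfa9b) (.leaf (nat_lit 0xe0403010281ceaab) (nat_lit 1541))
 (.leaf (nat_lit 0xe0403010281cfa9b) (nat_lit 2053))
)) (.node (nat_lit 0xe0403010283caaeb) (.node (nat_lit 0xe0403010282cba9b) (.leaf (nat_lit 0xe0403010282caaab) (nat_lit 1025))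
 (.leaf (nat_lit 0xe0403010282cba9b) (nat_lit 2051))
) (.node (nat_lit 0xe0403010283cbadb) (.leaf (nat_lit 0xe0403010283caaeb) (nat_lit 2052))
 (.leaf (nat_lit 0xe0403010283cbadb) (nat_lit 2053))
))) (.node (nat_lit 0xe0403010382caa4b) (.node (nat_lit 0xe0403010381cea4b) (.node (nat_lit 0xe0403010380cfa3b) (.leaf (nat_lit 0xe0403010380cea0b) (nat_lit 1029))
 (.leaf (nat_lit 0xe0403010380cfa3b) (nat_lit 1536))
) (.node (nat_lit 0xe0403010381cfa7b) (.leaf (nat_lit 0xe0403010381cea4b) (nat_lit 1537))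
 (.leaf (nat_lit 0xe0403010381cfa7b) (nat_lit 2050))
)) (.node (nat_lit 0xe0403010383caa0b) (.node (nat_lit 0xe0403010382cba7b) (.leaf (nat_lit 0xe0403010382caa4b) (nat_lit 1541))
 (.leaf (nat_lit 0xe0403010382cba7b) (nat_lit 2050))
) (.node (nat_lit 0xe0403010383cba3b) (.leaf (nat_lit 0xe0403010383caa0b) (nat_lit 1025))
 (.leaf (nat_lit 0xe0403010383cba3b) (nat_lit 1539))
))))) (.node (nat_lit 0xe040301068ccaaab) (.node (nat_lit 0xe040301058cc4aab) (.node (nat_lit 0xe040301048ec0a0b) (.node (nat_lit 0xe040301048dc4a0b) (.node (nat_lit 0xe040301048cc5a7b) (.leaf (nat_lit 0xe040301048cc4a4b) (nat_lit 1024))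
 (.leaf (nat_lit 0xe040301048cc5a7b) (nat_lit 2053))
) (.node (nat_lit 0xe040301048dc5a3b) (.leaf (nat_lit 0xe040301048dc4a0b) (nat_lit 1540))
 (.leaf (nat_lit 0xe040301048dc5a3b) (nat_lit 2050))
)) (.node (nat_lit 0xe040301048fc0a4b) (.node (nat_lit 0xe040301048ec1a3b) (.leaf (nat_lit 0xe040301048ec0a0b) (nat_lit 1026))
 (.leaf (nat_lit 0xe040301048ec1a3b) (nat_lit 2053))
) (.node (nat_lit 0xe040301048fc1a7b) (.leaf (nat_lit 0xe040301048fc0a4b) (nat_lit 1539))
 (.leaf (nat_lit 0xe040301048fc1a7b) (nat_lit 2051))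
))) (.node (nat_lit 0xe040301058ec0aeb) (.node (nat_lit 0xe040301058dc4aeb) (.node (nat_lit 0xe040301058cc5a9b) (.leaf (nat_lit 0xe040301058cc4aab) (nat_lit 1541))
 (.leaf (nat_lit 0xe040301058cc5a9b) (nat_lit 1536))
) (.node (nat_lit 0xe040301058dc5adb) (.leaf (nat_lit 0xe040301058dc4aeb) (nat_lit 1537))
 (.leaf (nat_lit 0xe040301058dc5adb) (nat_lit 1540))
)) (.node (nat_lit 0xe040301058fc0aab) (.node (nat_lit 0xe040301058ec1adb) (.leaf (nat_lit 0xe040301058ec0aeb) (nat_lit 1539))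
 (.leaf (nat_lit 0xe040301058ec1adb) (nat_lit 2048))
) (.node (nat_lit 0xe040301058fc1a9b) (.leaf (nat_lit 0xe040301058fc0aab) (nat_lit 1537))
 (.leaf (nat_lit 0xe040301058fc1a9b) (nat_lit 2050))
)))) (.node (nat_lit 0xe040301078ccaa4b) (.node (nat_lit 0xe040301068eceaeb) (.node (nat_lit 0xe040301068dcaaeb) (.node (nat_lit 0xe040301068ccba9b) (.leaf (nat_lit 0xe040301068ccaaab) (nat_lit 1280))
 (.leaf (nat_lit 0xe040301068ccba9b) (nat_lit 1797))
) (.node (nat_lit 0xe040301068dcbadb) (.leaf (nat_lit 0xe040301068dcaaeb) (nat_lit 1796))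
 (.leaf (nat_lit 0xe040301068dcbadb) (nat_lit 1797))
)) (.node (nat_lit 0xe040301068fceaab) (.node (nat_lit 0xe040301068ecfadb) (.leaf (nat_lit 0xe040301068eceaeb) (nat_lit 1280))
 (.leaf (nat_lit 0xe040301068ecfadb) (nat_lit 1794))
) (.node (nat_lit 0xe040301068fcfa9b) (.leaf (nat_lit 0xe040301068fceaab) (nat_lit 1797))
 (.leaf (nat_lit 0xe040301068fcfa9b) (nat_lit 2305))
))) (.node (nat_lit 0xe040301078ecea0b) (.node (nat_lit 0xe040301078dcaa0b) (.node (nat_lit 0xe040301078ccba7b) (.leaf (nat_lit 0xe040301078ccaa4b) (nat_lit 1285))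
 (.leaf (nat_lit 0xe040301078ccba7b) (nat_lit 1792))
) (.node (nat_lit 0xe040301078dcba3b) (.leaf (nat_lit 0xe040301078dcaa0b) (nat_lit 1281))
 (.leaf (nat_lit 0xe040301078dcba3b) (nat_lit 1794))
)) (.node (nat_lit 0xe040301078fcea4b) (.node (nat_lit 0xe040301078ecfa3b) (.leaf (nat_lit 0xe040301078ecea0b) (nat_lit 1285))
 (.leaf (nat_lit 0xe040301078ecfa3b) (nat_lit 1794))
) (.node (nat_lit 0xe040301078fcfa7b) (.leaf (nat_lit 0xe040301078fcea4b) (nat_lit 1281))
 (.leaf (nat_lit 0xe040301078fcfa7b) (nat_lit 1795))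
))))))) (.node (nat_lit 0xe0503010080c0a07) (.node (nat_lit 0xe050201048cc4acd) (.node (nat_lit 0xe0502010280cea0d) (.node (nat_lit 0xe0502010180c0aed) (.node (nat_lit 0xe0502010082c4a2d) (.node (nat_lit 0xe0502010081c0a5d) (.node (nat_lit 0xe0502010080c1a2d) (.leaf (nat_lit 0xe0502010080c0a0d) (nat_lit 772))
 (.leaf (nat_lit 0xe0502010080c1a2d) (nat_lit 1797))
) (.node (nat_lit 0xe0502010081c1a7d) (.leaf (nat_lit 0xe0502010081c0a5d) (nat_lit 1796))
 (.leaf (nat_lit 0xe0502010081c1a7d) (nat_lit 2309))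
)) (.node (nat_lit 0xe0502010083c4a7d) (.node (nat_lit 0xe0502010082c5a0d) (.leaf (nat_lit 0xe0502010082c4a2d) (nat_lit 1283))
 (.leaf (nat_lit 0xe0502010082c5a0d) (nat_lit 1282))
) (.node (nat_lit 0xe0502010083c5a5d) (.leaf (nat_lit 0xe0502010083c4a7d) (nat_lit 1793))
 (.leaf (nat_lit 0xe0502010083c5a5d) (nat_lit 1794))
))) (.node (nat_lit 0xe0502010182c4acd) (.node (nat_lit 0xe0502010181c0abd) (.node (nat_lit 0xe0502010180c1acd) (.leaf (nat_lit 0xe0502010180c0aed) (nat_lit 1282))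
 (.leaf (nat_lit 0xe0502010180c1acd) (nat_lit 1284))
) (.node (nat_lit 0xe0502010181c1a9d) (.leaf (nat_lit 0xe0502010181c0abd) (nat_lit 1793))
 (.leaf (nat_lit 0xe0502010181c1a9d) (nat_lit 1792))
)) (.node (nat_lit 0xe0502010183c4a9d) (.node (nat_lit 0xe0502010182c5aed) (.leaf (nat_lit 0xe0502010182c4acd) (nat_lit 1282))
 (.leaf (nat_lit 0xe0502010182c5aed) (nat_lit 1795))
) (.node (nat_lit 0xe0502010183c5abd) (.leaf (nat_lit 0xe0502010183c4a9d) (nat_lit 1795))
 (.leaf (nat_lit 0xe0502010183c5abd) (nat_lit 1797))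
)))) (.node (nat_lit 0xe0502010380ceaed) (.node (nat_lit 0xe0502010282caa2d) (.node (nat_lit 0xe0502010281cea5d) (.node (nat_lit 0xe0502010280cfa2d) (.leaf (nat_lit 0xe0502010280cea0d) (nat_lit 1029))
 (.leaf (nat_lit 0xe0502010280cfa2d) (nat_lit 1536))
) (.node (nat_lit 0xe0502010281cfa7d) (.leaf (nat_lit 0xe0502010281cea5d) (nat_lit 2049))
 (.leaf (nat_lit 0xe0502010281cfa7d) (nat_lit 2048))
)) (.node (nat_lit 0xe0502010283caa7d) (.node (nat_lit 0xe0502010282cba0d) (.leaf (nat_lit 0xe0502010282caa2d) (nat_lit 1027))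
 (.leaf (nat_lit 0xe0502010282cba0d) (nat_lit 1537))
) (.node (nat_lit 0xe0502010283cba5d) (.leaf (nat_lit 0xe0502010283caa7d) (nat_lit 2053))
 (.leaf (nat_lit 0xe0502010283cba5d) (nat_lit 2053))
))) (.node (nat_lit 0xe0502010382caacd) (.node (nat_lit 0xe0502010381ceabd) (.node (nat_lit 0xe0502010380cfacd) (.leaf (nat_lit 0xe0502010380ceaed) (nat_lit 1536))
 (.leaf (nat_lit 0xe0502010380cfacd) (nat_lit 1540))
) (.node (nat_lit 0xe0502010381cfa9d) (.leaf (nat_lit 0xe0502010381ceabd) (nat_lit 2053))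
 (.leaf (nat_lit 0xe0502010381cfa9d) (nat_lit 2053))
)) (.node (nat_lit 0xe0502010383caa9d) (.node (nat_lit 0xe0502010382cbaed) (.leaf (nat_lit 0xe0502010382caacd) (nat_lit 1541))
 (.leaf (nat_lit 0xe0502010382cbaed) (nat_lit 1540))
) (.node (nat_lit 0xe0502010383cbabd) (.leaf (nat_lit 0xe0502010383caa9d) (nat_lit 1539))
 (.leaf (nat_lit 0xe0502010383cbabd) (nat_lit 1537))
))))) (.node (nat_lit 0xe050201068ccaacd) (.node (nat_lit 0xe050201058cc4a2d) (.node (nat_lit 0xe050201048ec0aed) (.node (nat_lit 0xe050201048dc4a9d) (.node (nat_lit 0xe050201048cc5aed) (.leaf (nat_lit 0xe050201048cc4acd) (nat_lit 1028))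
 (.leaf (nat_lit 0xe050201048cc5aed) (nat_lit 2049))
) (.node (nat_lit 0xe050201048dc5abd) (.leaf (nat_lit 0xe050201048dc4a9d) (nat_lit 2048))
 (.leaf (nat_lit 0xe050201048dc5abd) (nat_lit 2053))
)) (.node (nat_lit 0xe050201048fc0abd) (.node (nat_lit 0xe050201048ec1acd) (.leaf (nat_lit 0xe050201048ec0aed) (nat_lit 1027))
 (.leaf (nat_lit 0xe050201048ec1acd) (nat_lit 1538))
) (.node (nat_lit 0xe050201048fc1a9d) (.leaf (nat_lit 0xe050201048fc0abd) (nat_lit 1537))
 (.leaf (nat_lit 0xe050201048fc1a9d) (nat_lit 2050))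
))) (.node (nat_lit 0xe050201058ec0a0d) (.node (nat_lit 0xe050201058dc4a7d) (.node (nat_lit 0xe050201058cc5a0d) (.leaf (nat_lit 0xe050201058cc4a2d) (nat_lit 1538))
 (.leaf (nat_lit 0xe050201058cc5a0d) (nat_lit 1028))
) (.node (nat_lit 0xe050201058dc5a5d) (.leaf (nat_lit 0xe050201058dc4a7d) (nat_lit 2049))
 (.leaf (nat_lit 0xe050201058dc5a5d) (nat_lit 1536))
)) (.node (nat_lit 0xe050201058fc0a5d) (.node (nat_lit 0xe050201058ec1a2d) (.leaf (nat_lit 0xe050201058ec0a0d) (nat_lit 1026))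
 (.leaf (nat_lit 0xe050201058ec1a2d) (nat_lit 1541))
) (.node (nat_lit 0xe050201058fc1a7d) (.leaf (nat_lit 0xe050201058fc0a5d) (nat_lit 1539))
 (.leaf (nat_lit 0xe050201058fc1a7d) (nat_lit 2053))
)))) (.node (nat_lit 0xe050201078ccaa2d) (.node (nat_lit 0xe050201068eceaed) (.node (nat_lit 0xe050201068dcaa9d) (.node (nat_lit 0xe050201068ccbaed) (.leaf (nat_lit 0xe050201068ccaacd) (nat_lit 1285))
 (.leaf (nat_lit 0xe050201068ccbaed) (nat_lit 1792))
) (.node (nat_lit 0xe050201068dcbabd) (.leaf (nat_lit 0xe050201068dcaa9d) (nat_lit 1794))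
 (.leaf (nat_lit 0xe050201068dcbabd) (nat_lit 1792))
)) (.node (nat_lit 0xe050201068fceabd) (.node (nat_lit 0xe050201068ecfacd) (.leaf (nat_lit 0xe050201068eceaed) (nat_lit 1285))
 (.leaf (nat_lit 0xe050201068ecfacd) (nat_lit 1794))
) (.node (nat_lit 0xe050201068fcfa9d) (.leaf (nat_lit 0xe050201068fceabd) (nat_lit 1797))
 (.leaf (nat_lit 0xe050201068fcfa9d) (nat_lit 2308))
))) (.node (nat_lit 0xe050201078ecea0d) (.node (nat_lit 0xe050201078dcaa7d) (.node (nat_lit 0xe050201078ccba0d) (.leaf (nat_lit 0xe050201078ccaa2d) (nat_lit 1282))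
 (.leaf (nat_lit 0xe050201078ccba0d) (nat_lit 1285))
) (.node (nat_lit 0xe050201078dcba5d) (.leaf (nat_lit 0xe050201078dcaa7d) (nat_lit 1792))
 (.leaf (nat_lit 0xe050201078dcba5d) (nat_lit 1797))
)) (.node (nat_lit 0xe050201078fcea5d) (.node (nat_lit 0xe050201078ecfa2d) (.leaf (nat_lit 0xe050201078ecea0d) (nat_lit 1285))
 (.leaf (nat_lit 0xe050201078ecfa2d) (nat_lit 1284))
) (.node (nat_lit 0xe050201078fcfa7d) (.leaf (nat_lit 0xe050201078fcea5d) (nat_lit 1793))
 (.leaf (nat_lit 0xe050201078fcfa7d) (nat_lit 1793))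
)))))) (.node (nat_lit 0xe050301048cc4a87) (.node (nat_lit 0xe0503010280ceae7) (.node (nat_lit 0xe0503010180c0ae7) (.node (nat_lit 0xe0503010082c4a67) (.node (nat_lit 0xe0503010081c0a57) (.node (nat_lit 0xe0503010080c1a37) (.leaf (nat_lit 0xe0503010080c0a07) (nat_lit 1028))
 (.leaf (nat_lit 0xe0503010080c1a37) (nat_lit 2053))
) (.node (nat_lit 0xe0503010081c1a67) (.leaf (nat_lit 0xe0503010081c0a57) (nat_lit 2052))
 (.leaf (nat_lit 0xe0503010081c1a67) (nat_lit 2562))
)) (.node (nat_lit 0xe0503010083c4a37) (.node (nat_lit 0xe0503010082c5a57) (.leaf (nat_lit 0xe0503010082c4a67) (nat_lit 1539))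
 (.leaf (nat_lit 0xe0503010082c5a57) (nat_lit 1538))
) (.node (nat_lit 0xe0503010083c5a07) (.leaf (nat_lit 0xe0503010083c4a37) (nat_lit 1537))
 (.leaf (nat_lit 0xe0503010083c5a07) (nat_lit 1538))
))) (.node (nat_lit 0xe0503010182c4a87) (.node (nat_lit 0xe0503010181c0ab7) (.node (nat_lit 0xe0503010180c1ad7) (.leaf (nat_lit 0xe0503010180c0ae7) (nat_lit 1541))
 (.leaf (nat_lit 0xe0503010180c1ad7) (nat_lit 1536))
) (.node (nat_lit 0xe0503010181c1a87) (.leaf (nat_lit 0xe0503010181c0ab7) (nat_lit 1538))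
 (.leaf (nat_lit 0xe0503010181c1a87) (nat_lit 1540))
)) (.node (nat_lit 0xe0503010183c4ad7) (.node (nat_lit 0xe0503010182c5ab7) (.leaf (nat_lit 0xe0503010182c4a87) (nat_lit 1538))
 (.leaf (nat_lit 0xe0503010182c5ab7) (nat_lit 2049))
) (.node (nat_lit 0xe0503010183c5ae7) (.leaf (nat_lit 0xe0503010183c4ad7) (nat_lit 2050))
 (.leaf (nat_lit 0xe0503010183c5ae7) (nat_lit 2051))
)))) (.node (nat_lit 0xe0503010380cea07) (.node (nat_lit 0xe0503010282caa87) (.node (nat_lit 0xe0503010281ceab7) (.node (nat_lit 0xe0503010280cfad7) (.leaf (nat_lit 0xe0503010280ceae7) (nat_lit 1280))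
 (.leaf (nat_lit 0xe0503010280cfad7) (nat_lit 1284))
) (.node (nat_lit 0xe0503010281cfa87) (.leaf (nat_lit 0xe0503010281ceab7) (nat_lit 1797))
 (.leaf (nat_lit 0xe0503010281cfa87) (nat_lit 1797))
)) (.node (nat_lit 0xe0503010283caad7) (.node (nat_lit 0xe0503010282cbab7) (.leaf (nat_lit 0xe0503010282caa87) (nat_lit 1284))
 (.leaf (nat_lit 0xe0503010282cbab7) (nat_lit 1793))
) (.node (nat_lit 0xe0503010283cbae7) (.leaf (nat_lit 0xe0503010283caad7) (nat_lit 1794))
 (.leaf (nat_lit 0xe0503010283cbae7) (nat_lit 2309))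
))) (.node (nat_lit 0xe0503010382caa67) (.node (nat_lit 0xe0503010381cea57) (.node (nat_lit 0xe0503010380cfa37) (.leaf (nat_lit 0xe0503010380cea07) (nat_lit 1285))
 (.leaf (nat_lit 0xe0503010380cfa37) (nat_lit 1792))
) (.node (nat_lit 0xe0503010381cfa67) (.leaf (nat_lit 0xe0503010381cea57) (nat_lit 1796))
 (.leaf (nat_lit 0xe0503010381cfa67) (nat_lit 2304))
)) (.node (nat_lit 0xe0503010383caa37) (.node (nat_lit 0xe0503010382cba57) (.leaf (nat_lit 0xe0503010382caa67) (nat_lit 1792))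
 (.leaf (nat_lit 0xe0503010382cba57) (nat_lit 1797))
) (.node (nat_lit 0xe0503010383cba07) (.leaf (nat_lit 0xe0503010383caa37) (nat_lit 1283))
 (.leaf (nat_lit 0xe0503010383cba07) (nat_lit 1281))
))))) (.node (nat_lit 0xe050301068ccaa67) (.node (nat_lit 0xe050301058cc4a67) (.node (nat_lit 0xe050301048ec0ae7) (.node (nat_lit 0xe050301048dc4ad7) (.node (nat_lit 0xe050301048cc5ab7) (.leaf (nat_lit 0xe050301048cc4a87) (nat_lit 1284))
 (.leaf (nat_lit 0xe050301048cc5ab7) (nat_lit 1797))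
) (.node (nat_lit 0xe050301048dc5ae7) (.leaf (nat_lit 0xe050301048dc4ad7) (nat_lit 1796))
 (.leaf (nat_lit 0xe050301048dc5ae7) (nat_lit 2306))
)) (.node (nat_lit 0xe050301048fc0ab7) (.node (nat_lit 0xe050301048ec1ad7) (.leaf (nat_lit 0xe050301048ec0ae7) (nat_lit 1283))
 (.leaf (nat_lit 0xe050301048ec1ad7) (nat_lit 1794))
) (.node (nat_lit 0xe050301048fc1a87) (.leaf (nat_lit 0xe050301048fc0ab7) (nat_lit 1281))
 (.leaf (nat_lit 0xe050301048fc1a87) (nat_lit 1794))
))) (.node (nat_lit 0xe050301058ec0a07) (.node (nat_lit 0xe050301058dc4a37) (.node (nat_lit 0xe050301058cc5a57) (.leaf (nat_lit 0xe050301058cc4a67) (nat_lit 1797))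
 (.leaf (nat_lit 0xe050301058cc5a57) (nat_lit 1280))
) (.node (nat_lit 0xe050301058dc5a07) (.leaf (nat_lit 0xe050301058dc4a37) (nat_lit 1794))
 (.leaf (nat_lit 0xe050301058dc5a07) (nat_lit 1284))
)) (.node (nat_lit 0xe050301058fc0a57) (.node (nat_lit 0xe050301058ec1a37) (.leaf (nat_lit 0xe050301058ec0a07) (nat_lit 1282))
 (.leaf (nat_lit 0xe050301058ec1a37) (nat_lit 1793))
) (.node (nat_lit 0xe050301058fc1a67) (.leaf (nat_lit 0xe050301058fc0a57) (nat_lit 1796))
 (.leaf (nat_lit 0xe050301058fc1a67) (nat_lit 2307))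
)))) (.node (nat_lit 0xe050301078ccaa87) (.node (nat_lit 0xe050301068ecea07) (.node (nat_lit 0xe050301068dcaa37) (.node (nat_lit 0xe050301068ccba57) (.leaf (nat_lit 0xe050301068ccaa67) (nat_lit 1536))
 (.leaf (nat_lit 0xe050301068ccba57) (nat_lit 1541))
) (.node (nat_lit 0xe050301068dcba07) (.leaf (nat_lit 0xe050301068dcaa37) (nat_lit 1538))
 (.leaf (nat_lit 0xe050301068dcba07) (nat_lit 1541))
)) (.node (nat_lit 0xe050301068fcea57) (.node (nat_lit 0xe050301068ecfa37) (.leaf (nat_lit 0xe050301068ecea07) (nat_lit 1541))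
 (.leaf (nat_lit 0xe050301068ecfa37) (nat_lit 2050))
) (.node (nat_lit 0xe050301068fcfa67) (.leaf (nat_lit 0xe050301068fcea57) (nat_lit 2048))
 (.leaf (nat_lit 0xe050301068fcfa67) (nat_lit 2563))
))) (.node (nat_lit 0xe050301078eceae7) (.node (nat_lit 0xe050301078dcaad7) (.node (nat_lit 0xe050301078ccbab7) (.leaf (nat_lit 0xe050301078ccaa87) (nat_lit 1541))
 (.leaf (nat_lit 0xe050301078ccbab7) (nat_lit 1537))
) (.node (nat_lit 0xe050301078dcbae7) (.leaf (nat_lit 0xe050301078dcaad7) (nat_lit 1540))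
 (.leaf (nat_lit 0xe050301078dcbae7) (nat_lit 2048))
)) (.node (nat_lit 0xe050301078fceab7) (.node (nat_lit 0xe050301078ecfad7) (.leaf (nat_lit 0xe050301078eceae7) (nat_lit 1536))
 (.leaf (nat_lit 0xe050301078ecfad7) (nat_lit 1538))
) (.node (nat_lit 0xe050301078fcfa87) (.leaf (nat_lit 0xe050301078fceab7) (nat_lit 1541))
 (.leaf (nat_lit 0xe050301078fcfa87) (nat_lit 1537))
)))))))) (.node (nat_lit 0xf0502010080c0a05) (.node (nat_lit 0xf0403010080c0a03) (.node (nat_lit 0xf040201048cc4a49) (.node (nat_lit 0xf0402010280cea29) (.node (nat_lit 0xf0402010180c0af9) (.node (nat_lit 0xf0402010082c4a09) (.node (nat_lit 0xf0402010081c0a49) (.node (nat_lit 0xf0402010080c1a29) (.leaf (nat_lit 0xf0402010080c0a09) (nat_lit 1024))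
 (.leaf (nat_lit 0xf0402010080c1a29) (nat_lit 1541))
) (.node (nat_lit 0xf0402010081c1a69) (.leaf (nat_lit 0xf0402010081c0a49) (nat_lit 1540))
 (.leaf (nat_lit 0xf0402010081c1a69) (nat_lit 2050))
)) (.node (nat_lit 0xf0402010083c4a49) (.node (nat_lit 0xf0402010082c5a29) (.leaf (nat_lit 0xf0402010082c4a09) (nat_lit 1541))
 (.leaf (nat_lit 0xf0402010082c5a29) (nat_lit 1539))
) (.node (nat_lit 0xf0402010083c5a69) (.leaf (nat_lit 0xf0402010083c4a49) (nat_lit 1538))
 (.leaf (nat_lit 0xf0402010083c5a69) (nat_lit 2051))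
))) (.node (nat_lit 0xf0402010182c4af9) (.node (nat_lit 0xf0402010181c0ab9) (.node (nat_lit 0xf0402010180c1ad9) (.leaf (nat_lit 0xf0402010180c0af9) (nat_lit 1541))
 (.leaf (nat_lit 0xf0402010180c1ad9) (nat_lit 1536))
) (.node (nat_lit 0xf0402010181c1a99) (.leaf (nat_lit 0xf0402010181c0ab9) (nat_lit 1537))
 (.leaf (nat_lit 0xf0402010181c1a99) (nat_lit 1540))
)) (.node (nat_lit 0xf0402010183c4ab9) (.node (nat_lit 0xf0402010182c5ad9) (.leaf (nat_lit 0xf0402010182c4af9) (nat_lit 2049))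
 (.leaf (nat_lit 0xf0402010182c5ad9) (nat_lit 1538))
) (.node (nat_lit 0xf0402010183c5a99) (.leaf (nat_lit 0xf0402010183c4ab9) (nat_lit 1541))
 (.leaf (nat_lit 0xf0402010183c5a99) (nat_lit 2050))
)))) (.node (nat_lit 0xf0402010380cead9) (.node (nat_lit 0xf0402010282caa29) (.node (nat_lit 0xf0402010281cea69) (.node (nat_lit 0xf0402010280cfa09) (.leaf (nat_lit 0xf0402010280cea29) (nat_lit 1280))
 (.leaf (nat_lit 0xf0402010280cfa09) (nat_lit 1285))
) (.node (nat_lit 0xf0402010281cfa49) (.leaf (nat_lit 0xf0402010281cea69) (nat_lit 1794))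
 (.leaf (nat_lit 0xf0402010281cfa49) (nat_lit 1793))
)) (.node (nat_lit 0xf0402010283caa69) (.node (nat_lit 0xf0402010282cba09) (.leaf (nat_lit 0xf0402010282caa29) (nat_lit 1283))
 (.leaf (nat_lit 0xf0402010282cba09) (nat_lit 1281))
) (.node (nat_lit 0xf0402010283cba49) (.leaf (nat_lit 0xf0402010283caa69) (nat_lit 1794))
 (.leaf (nat_lit 0xf0402010283cba49) (nat_lit 1797))
))) (.node (nat_lit 0xf0402010382caad9) (.node (nat_lit 0xf0402010381cea99) (.node (nat_lit 0xf0402010380cfaf9) (.leaf (nat_lit 0xf0402010380cead9) (nat_lit 1796))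
 (.leaf (nat_lit 0xf0402010380cfaf9) (nat_lit 1280))
) (.node (nat_lit 0xf0402010381cfab9) (.leaf (nat_lit 0xf0402010381cea99) (nat_lit 1797))
 (.leaf (nat_lit 0xf0402010381cfab9) (nat_lit 1797))
)) (.node (nat_lit 0xf0402010383caa99) (.node (nat_lit 0xf0402010382cbaf9) (.leaf (nat_lit 0xf0402010382caad9) (nat_lit 1797))
 (.leaf (nat_lit 0xf0402010382cbaf9) (nat_lit 1796))
) (.node (nat_lit 0xf0402010383cbab9) (.leaf (nat_lit 0xf0402010383caa99) (nat_lit 1795))
 (.leaf (nat_lit 0xf0402010383cbab9) (nat_lit 1281))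
))))) (.node (nat_lit 0xf040201068ccaa69) (.node (nat_lit 0xf040201058cc4ab9) (.node (nat_lit 0xf040201048ec0a49) (.node (nat_lit 0xf040201048dc4a09) (.node (nat_lit 0xf040201048cc5a69) (.leaf (nat_lit 0xf040201048cc4a49) (nat_lit 1280))
 (.leaf (nat_lit 0xf040201048cc5a69) (nat_lit 1797))
) (.node (nat_lit 0xf040201048dc5a29) (.leaf (nat_lit 0xf040201048dc4a09) (nat_lit 1284))
 (.leaf (nat_lit 0xf040201048dc5a29) (nat_lit 1794))
)) (.node (nat_lit 0xf040201048fc0a09) (.node (nat_lit 0xf040201048ec1a69) (.leaf (nat_lit 0xf040201048ec0a49) (nat_lit 1283))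
 (.leaf (nat_lit 0xf040201048ec1a69) (nat_lit 1795))
) (.node (nat_lit 0xf040201048fc1a29) (.leaf (nat_lit 0xf040201048fc0a09) (nat_lit 1282))
 (.leaf (nat_lit 0xf040201048fc1a29) (nat_lit 1797))
))) (.node (nat_lit 0xf040201058ec0ab9) (.node (nat_lit 0xf040201058dc4af9) (.node (nat_lit 0xf040201058cc5a99) (.leaf (nat_lit 0xf040201058cc4ab9) (nat_lit 1797))
 (.leaf (nat_lit 0xf040201058cc5a99) (nat_lit 1792))
) (.node (nat_lit 0xf040201058dc5ad9) (.leaf (nat_lit 0xf040201058dc4af9) (nat_lit 1793))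
 (.leaf (nat_lit 0xf040201058dc5ad9) (nat_lit 1284))
)) (.node (nat_lit 0xf040201058fc0af9) (.node (nat_lit 0xf040201058ec1a99) (.leaf (nat_lit 0xf040201058ec0ab9) (nat_lit 1793))
 (.leaf (nat_lit 0xf040201058ec1a99) (nat_lit 1794))
) (.node (nat_lit 0xf040201058fc1ad9) (.leaf (nat_lit 0xf040201058fc0af9) (nat_lit 1283))
 (.leaf (nat_lit 0xf040201058fc1ad9) (nat_lit 1792))
)))) (.node (nat_lit 0xf040201078ccaa99) (.node (nat_lit 0xf040201068ecea69) (.node (nat_lit 0xf040201068dcaa29) (.node (nat_lit 0xf040201068ccba49) (.leaf (nat_lit 0xf040201068ccaa69) (nat_lit 1536))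
 (.leaf (nat_lit 0xf040201068ccba49) (nat_lit 1541))
) (.node (nat_lit 0xf040201068dcba09) (.leaf (nat_lit 0xf040201068dcaa29) (nat_lit 1538))
 (.leaf (nat_lit 0xf040201068dcba09) (nat_lit 1537))
)) (.node (nat_lit 0xf040201068fcea29) (.node (nat_lit 0xf040201068ecfa49) (.leaf (nat_lit 0xf040201068ecea69) (nat_lit 1539))
 (.leaf (nat_lit 0xf040201068ecfa49) (nat_lit 1537))
) (.node (nat_lit 0xf040201068fcfa09) (.leaf (nat_lit 0xf040201068fcea29) (nat_lit 1538))
 (.leaf (nat_lit 0xf040201068fcfa09) (nat_lit 1541))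
))) (.node (nat_lit 0xf040201078ecea99) (.node (nat_lit 0xf040201078dcaad9) (.node (nat_lit 0xf040201078ccbab9) (.leaf (nat_lit 0xf040201078ccaa99) (nat_lit 2053))
 (.leaf (nat_lit 0xf040201078ccbab9) (nat_lit 1536))
) (.node (nat_lit 0xf040201078dcbaf9) (.leaf (nat_lit 0xf040201078dcaad9) (nat_lit 1541))
 (.leaf (nat_lit 0xf040201078dcbaf9) (nat_lit 2052))
)) (.node (nat_lit 0xf040201078fcead9) (.node (nat_lit 0xf040201078ecfab9) (.leaf (nat_lit 0xf040201078ecea99) (nat_lit 2049))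
 (.leaf (nat_lit 0xf040201078ecfab9) (nat_lit 2053))
) (.node (nat_lit 0xf040201078fcfaf9) (.leaf (nat_lit 0xf040201078fcead9) (nat_lit 2050))
 (.leaf (nat_lit 0xf040201078fcfaf9) (nat_lit 1536))
)))))) (.node (nat_lit 0xf040301048cc4a03) (.node (nat_lit 0xf0403010280ceac3) (.node (nat_lit 0xf0403010180c0af3) (.node (nat_lit 0xf0403010082c4a43) (.node (nat_lit 0xf0403010081c0a43) (.node (nat_lit 0xf0403010080c1a33) (.leaf (nat_lit 0xf0403010080c0a03) (nat_lit 772))
 (.leaf (nat_lit 0xf0403010080c1a33) (nat_lit 1792))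
) (.node (nat_lit 0xf0403010081c1a73) (.leaf (nat_lit 0xf0403010081c0a43) (nat_lit 1794))
 (.leaf (nat_lit 0xf0403010081c1a73) (nat_lit 2309))
)) (.node (nat_lit 0xf0403010083c4a03) (.node (nat_lit 0xf0403010082c5a73) (.leaf (nat_lit 0xf0403010082c4a43) (nat_lit 1284))
 (.leaf (nat_lit 0xf0403010082c5a73) (nat_lit 1795))
) (.node (nat_lit 0xf0403010083c5a33) (.leaf (nat_lit 0xf0403010083c4a03) (nat_lit 1282))
 (.leaf (nat_lit 0xf0403010083c5a33) (nat_lit 1795))
))) (.node (nat_lit 0xf0403010182c4ab3) (.node (nat_lit 0xf0403010181c0ab3) (.node (nat_lit 0xf0403010180c1ac3) (.leaf (nat_lit 0xf0403010180c0af3) (nat_lit 1794))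
 (.leaf (nat_lit 0xf0403010180c1ac3) (nat_lit 1285))
) (.node (nat_lit 0xf0403010181c1a83) (.leaf (nat_lit 0xf0403010181c0ab3) (nat_lit 1794))
 (.leaf (nat_lit 0xf0403010181c1a83) (nat_lit 1281))
)) (.node (nat_lit 0xf0403010183c4af3) (.node (nat_lit 0xf0403010182c5a83) (.leaf (nat_lit 0xf0403010182c4ab3) (nat_lit 1793))
 (.leaf (nat_lit 0xf0403010182c5a83) (nat_lit 1285))
) (.node (nat_lit 0xf0403010183c5ac3) (.leaf (nat_lit 0xf0403010183c4af3) (nat_lit 1795))
 (.leaf (nat_lit 0xf0403010183c5ac3) (nat_lit 1794))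
)))) (.node (nat_lit 0xf0403010380cea33) (.node (nat_lit 0xf0403010282caa83) (.node (nat_lit 0xf0403010281cea83) (.node (nat_lit 0xf0403010280cfaf3) (.leaf (nat_lit 0xf0403010280ceac3) (nat_lit 1028))
 (.leaf (nat_lit 0xf0403010280cfaf3) (nat_lit 1536))
) (.node (nat_lit 0xf0403010281cfab3) (.leaf (nat_lit 0xf0403010281cea83) (nat_lit 1538))
 (.leaf (nat_lit 0xf0403010281cfab3) (nat_lit 2049))
)) (.node (nat_lit 0xf0403010283caac3) (.node (nat_lit 0xf0403010282cbab3) (.leaf (nat_lit 0xf0403010282caa83) (nat_lit 1028))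
 (.leaf (nat_lit 0xf0403010282cbab3) (nat_lit 1537))
) (.node (nat_lit 0xf0403010283cbaf3) (.leaf (nat_lit 0xf0403010283caac3) (nat_lit 1538))
 (.leaf (nat_lit 0xf0403010283cbaf3) (nat_lit 2053))
))) (.node (nat_lit 0xf0403010382caa73) (.node (nat_lit 0xf0403010381cea73) (.node (nat_lit 0xf0403010380cfa03) (.leaf (nat_lit 0xf0403010380cea33) (nat_lit 2048))
 (.leaf (nat_lit 0xf0403010380cfa03) (nat_lit 1029))
) (.node (nat_lit 0xf0403010381cfa43) (.leaf (nat_lit 0xf0403010381cea73) (nat_lit 2048))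
 (.leaf (nat_lit 0xf0403010381cfa43) (nat_lit 2048))
)) (.node (nat_lit 0xf0403010383caa33) (.node (nat_lit 0xf0403010382cba43) (.leaf (nat_lit 0xf0403010382caa73) (nat_lit 2048))
 (.leaf (nat_lit 0xf0403010382cba43) (nat_lit 1541))
) (.node (nat_lit 0xf0403010383cba03) (.leaf (nat_lit 0xf0403010383caa33) (nat_lit 1539))
 (.leaf (nat_lit 0xf0403010383cba03) (nat_lit 1025))
))))) (.node (nat_lit 0xf040301068ccaac3) (.node (nat_lit 0xf040301058cc4af3) (.node (nat_lit 0xf040301048ec0a43) (.node (nat_lit 0xf040301048dc4a43) (.node (nat_lit 0xf040301048cc5a33) (.leaf (nat_lit 0xf040301048cc4a03) (nat_lit 1028))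
 (.leaf (nat_lit 0xf040301048cc5a33) (nat_lit 2050))
) (.node (nat_lit 0xf040301048dc5a73) (.leaf (nat_lit 0xf040301048dc4a43) (nat_lit 1536))
 (.leaf (nat_lit 0xf040301048dc5a73) (nat_lit 2053))
)) (.node (nat_lit 0xf040301048fc0a03) (.node (nat_lit 0xf040301048ec1a73) (.leaf (nat_lit 0xf040301048ec0a43) (nat_lit 1540))
 (.leaf (nat_lit 0xf040301048ec1a73) (nat_lit 2051))
) (.node (nat_lit 0xf040301048fc1a33) (.leaf (nat_lit 0xf040301048fc0a03) (nat_lit 1026))
 (.leaf (nat_lit 0xf040301048fc1a33) (nat_lit 2051))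
))) (.node (nat_lit 0xf040301058ec0ab3) (.node (nat_lit 0xf040301058dc4ab3) (.node (nat_lit 0xf040301058cc5ac3) (.leaf (nat_lit 0xf040301058cc4af3) (nat_lit 2050))
 (.leaf (nat_lit 0xf040301058cc5ac3) (nat_lit 1540))
) (.node (nat_lit 0xf040301058dc5a83) (.leaf (nat_lit 0xf040301058dc4ab3) (nat_lit 2050))
 (.leaf (nat_lit 0xf040301058dc5a83) (nat_lit 1540))
)) (.node (nat_lit 0xf040301058fc0af3) (.node (nat_lit 0xf040301058ec1a83) (.leaf (nat_lit 0xf040301058ec0ab3) (nat_lit 1537))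
 (.leaf (nat_lit 0xf040301058ec1a83) (nat_lit 1541))
) (.node (nat_lit 0xf040301058fc1ac3) (.leaf (nat_lit 0xf040301058fc0af3) (nat_lit 1539))
 (.leaf (nat_lit 0xf040301058fc1ac3) (nat_lit 1541))
)))) (.node (nat_lit 0xf040301078ccaa33) (.node (nat_lit 0xf040301068ecea83) (.node (nat_lit 0xf040301068dcaa83) (.node (nat_lit 0xf040301068ccbaf3) (.leaf (nat_lit 0xf040301068ccaac3) (nat_lit 1284))
 (.leaf (nat_lit 0xf040301068ccbaf3) (nat_lit 1792))
) (.node (nat_lit 0xf040301068dcbab3) (.leaf (nat_lit 0xf040301068dcaa83) (nat_lit 1282))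
 (.leaf (nat_lit 0xf040301068dcbab3) (nat_lit 1793))
)) (.node (nat_lit 0xf040301068fceac3) (.node (nat_lit 0xf040301068ecfab3) (.leaf (nat_lit 0xf040301068ecea83) (nat_lit 1284))
 (.leaf (nat_lit 0xf040301068ecfab3) (nat_lit 1793))
) (.node (nat_lit 0xf040301068fcfaf3) (.leaf (nat_lit 0xf040301068fceac3) (nat_lit 1282))
 (.leaf (nat_lit 0xf040301068fcfaf3) (nat_lit 1797))
))) (.node (nat_lit 0xf040301078ecea73) (.node (nat_lit 0xf040301078dcaa73) (.node (nat_lit 0xf040301078ccba03) (.leaf (nat_lit 0xf040301078ccaa33) (nat_lit 1794))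
 (.leaf (nat_lit 0xf040301078ccba03) (nat_lit 1285))
) (.node (nat_lit 0xf040301078dcba43) (.leaf (nat_lit 0xf040301078dcaa73) (nat_lit 1792))
 (.leaf (nat_lit 0xf040301078dcba43) (nat_lit 1797))
)) (.node (nat_lit 0xf040301078fcea33) (.node (nat_lit 0xf040301078ecfa43) (.leaf (nat_lit 0xf040301078ecea73) (nat_lit 2305))
 (.leaf (nat_lit 0xf040301078ecfa43) (nat_lit 1797))
) (.node (nat_lit 0xf040301078fcfa03) (.leaf (nat_lit 0xf040301078fcea33) (nat_lit 1795))
 (.leaf (nat_lit 0xf040301078fcfa03) (nat_lit 1285))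
))))))) (.node (nat_lit 0xf0503010080c0a0f) (.node (nat_lit 0xf050201048cc4a85) (.node (nat_lit 0xf0502010280cea25) (.node (nat_lit 0xf0502010180c0af5) (.node (nat_lit 0xf0502010082c4a25) (.node (nat_lit 0xf0502010081c0a55) (.node (nat_lit 0xf0502010080c1a25) (.leaf (nat_lit 0xf0502010080c0a05) (nat_lit 772))
 (.leaf (nat_lit 0xf0502010080c1a25) (nat_lit 1797))
) (.node (nat_lit 0xf0502010081c1a75) (.leaf (nat_lit 0xf0502010081c0a55) (nat_lit 1796))
 (.leaf (nat_lit 0xf0502010081c1a75) (nat_lit 2306))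
)) (.node (nat_lit 0xf0502010083c4a75) (.node (nat_lit 0xf0502010082c5a05) (.leaf (nat_lit 0xf0502010082c4a25) (nat_lit 1281))
 (.leaf (nat_lit 0xf0502010082c5a05) (nat_lit 1282))
) (.node (nat_lit 0xf0502010083c5a55) (.leaf (nat_lit 0xf0502010083c4a75) (nat_lit 1795))
 (.leaf (nat_lit 0xf0502010083c5a55) (nat_lit 1794))
))) (.node (nat_lit 0xf0502010182c4ad5) (.node (nat_lit 0xf0502010181c0aa5) (.node (nat_lit 0xf0502010180c1ad5) (.leaf (nat_lit 0xf0502010180c0af5) (nat_lit 1797))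
 (.leaf (nat_lit 0xf0502010180c1ad5) (nat_lit 1792))
) (.node (nat_lit 0xf0502010181c1a85) (.leaf (nat_lit 0xf0502010181c0aa5) (nat_lit 1282))
 (.leaf (nat_lit 0xf0502010181c1a85) (nat_lit 1284))
)) (.node (nat_lit 0xf0502010183c4a85) (.node (nat_lit 0xf0502010182c5af5) (.leaf (nat_lit 0xf0502010182c4ad5) (nat_lit 1794))
 (.leaf (nat_lit 0xf0502010182c5af5) (nat_lit 1795))
) (.node (nat_lit 0xf0502010183c5aa5) (.leaf (nat_lit 0xf0502010183c4a85) (nat_lit 1282))
 (.leaf (nat_lit 0xf0502010183c5aa5) (nat_lit 1793))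
)))) (.node (nat_lit 0xf0502010380cead5) (.node (nat_lit 0xf0502010282caa05) (.node (nat_lit 0xf0502010281cea75) (.node (nat_lit 0xf0502010280cfa05) (.leaf (nat_lit 0xf0502010280cea25) (nat_lit 1536))
 (.leaf (nat_lit 0xf0502010280cfa05) (nat_lit 1029))
) (.node (nat_lit 0xf0502010281cfa55) (.leaf (nat_lit 0xf0502010281cea75) (nat_lit 2048))
 (.leaf (nat_lit 0xf0502010281cfa55) (nat_lit 2052))
)) (.node (nat_lit 0xf0502010283caa55) (.node (nat_lit 0xf0502010282cba25) (.leaf (nat_lit 0xf0502010282caa05) (nat_lit 1025))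
 (.leaf (nat_lit 0xf0502010282cba25) (nat_lit 1539))
) (.node (nat_lit 0xf0502010283cba75) (.leaf (nat_lit 0xf0502010283caa55) (nat_lit 2053))
 (.leaf (nat_lit 0xf0502010283cba75) (nat_lit 2048))
))) (.node (nat_lit 0xf0502010382caaf5) (.node (nat_lit 0xf0502010381cea85) (.node (nat_lit 0xf0502010380cfaf5) (.leaf (nat_lit 0xf0502010380cead5) (nat_lit 1540))
 (.leaf (nat_lit 0xf0502010380cfaf5) (nat_lit 1536))
) (.node (nat_lit 0xf0502010381cfaa5) (.leaf (nat_lit 0xf0502010381cea85) (nat_lit 1541))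
 (.leaf (nat_lit 0xf0502010381cfaa5) (nat_lit 1541))
)) (.node (nat_lit 0xf0502010383caaa5) (.node (nat_lit 0xf0502010382cbad5) (.leaf (nat_lit 0xf0502010382caaf5) (nat_lit 2053))
 (.leaf (nat_lit 0xf0502010382cbad5) (nat_lit 2050))
) (.node (nat_lit 0xf0502010383cba85) (.leaf (nat_lit 0xf0502010383caaa5) (nat_lit 1537))
 (.leaf (nat_lit 0xf0502010383cba85) (nat_lit 1540))
))))) (.node (nat_lit 0xf050201068ccaaa5) (.node (nat_lit 0xf050201058cc4a75) (.node (nat_lit 0xf050201048ec0aa5) (.node (nat_lit 0xf050201048dc4ad5) (.node (nat_lit 0xf050201048cc5aa5) (.leaf (nat_lit 0xf050201048cc4a85) (nat_lit 1028))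
 (.leaf (nat_lit 0xf050201048cc5aa5) (nat_lit 1541))
) (.node (nat_lit 0xf050201048dc5af5) (.leaf (nat_lit 0xf050201048dc4ad5) (nat_lit 1540))
 (.leaf (nat_lit 0xf050201048dc5af5) (nat_lit 2050))
)) (.node (nat_lit 0xf050201048fc0af5) (.node (nat_lit 0xf050201048ec1a85) (.leaf (nat_lit 0xf050201048ec0aa5) (nat_lit 1025))
 (.leaf (nat_lit 0xf050201048ec1a85) (nat_lit 1538))
) (.node (nat_lit 0xf050201048fc1ad5) (.leaf (nat_lit 0xf050201048fc0af5) (nat_lit 1539))
 (.leaf (nat_lit 0xf050201048fc1ad5) (nat_lit 2050))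
))) (.node (nat_lit 0xf050201058ec0a55) (.node (nat_lit 0xf050201058dc4a25) (.node (nat_lit 0xf050201058cc5a55) (.leaf (nat_lit 0xf050201058cc4a75) (nat_lit 2053))
 (.leaf (nat_lit 0xf050201058cc5a55) (nat_lit 1536))
) (.node (nat_lit 0xf050201058dc5a05) (.leaf (nat_lit 0xf050201058dc4a25) (nat_lit 1538))
 (.leaf (nat_lit 0xf050201058dc5a05) (nat_lit 1028))
)) (.node (nat_lit 0xf050201058fc0a05) (.node (nat_lit 0xf050201058ec1a75) (.leaf (nat_lit 0xf050201058ec0a55) (nat_lit 2052))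
 (.leaf (nat_lit 0xf050201058ec1a75) (nat_lit 2051))
) (.node (nat_lit 0xf050201058fc1a25) (.leaf (nat_lit 0xf050201058fc0a05) (nat_lit 1026))
 (.leaf (nat_lit 0xf050201058fc1a25) (nat_lit 2049))
)))) (.node (nat_lit 0xf050201078ccaa55) (.node (nat_lit 0xf050201068ecea85) (.node (nat_lit 0xf050201068dcaaf5) (.node (nat_lit 0xf050201068ccba85) (.leaf (nat_lit 0xf050201068ccaaa5) (nat_lit 1281))
 (.leaf (nat_lit 0xf050201068ccba85) (nat_lit 1285))
) (.node (nat_lit 0xf050201068dcbad5) (.leaf (nat_lit 0xf050201068dcaaf5) (nat_lit 1792))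
 (.leaf (nat_lit 0xf050201068dcbad5) (nat_lit 1796))
)) (.node (nat_lit 0xf050201068fcead5) (.node (nat_lit 0xf050201068ecfaa5) (.leaf (nat_lit 0xf050201068ecea85) (nat_lit 1281))
 (.leaf (nat_lit 0xf050201068ecfaa5) (nat_lit 1285))
) (.node (nat_lit 0xf050201068fcfaf5) (.leaf (nat_lit 0xf050201068fcead5) (nat_lit 1794))
 (.leaf (nat_lit 0xf050201068fcfaf5) (nat_lit 1792))
))) (.node (nat_lit 0xf050201078ecea75) (.node (nat_lit 0xf050201078dcaa05) (.node (nat_lit 0xf050201078ccba75) (.leaf (nat_lit 0xf050201078ccaa55) (nat_lit 1797))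
 (.leaf (nat_lit 0xf050201078ccba75) (nat_lit 1792))
) (.node (nat_lit 0xf050201078dcba25) (.leaf (nat_lit 0xf050201078dcaa05) (nat_lit 1285))
 (.leaf (nat_lit 0xf050201078dcba25) (nat_lit 1794))
)) (.node (nat_lit 0xf050201078fcea25) (.node (nat_lit 0xf050201078ecfa55) (.leaf (nat_lit 0xf050201078ecea75) (nat_lit 2307))
 (.leaf (nat_lit 0xf050201078ecfa55) (nat_lit 1792))
) (.node (nat_lit 0xf050201078fcfa05) (.leaf (nat_lit 0xf050201078fcea25) (nat_lit 1794))
 (.leaf (nat_lit 0xf050201078fcfa05) (nat_lit 1285))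
)))))) (.node (nat_lit 0xf050301048cc4acf) (.node (nat_lit 0xf0503010280ceacf) (.node (nat_lit 0xf0503010180c0aff) (.node (nat_lit 0xf0503010082c4a6f) (.node (nat_lit 0xf0503010081c0a5f) (.node (nat_lit 0xf0503010080c1a3f) (.leaf (nat_lit 0xf0503010080c0a0f) (nat_lit 1028))
 (.leaf (nat_lit 0xf0503010080c1a3f) (nat_lit 2053))
) (.node (nat_lit 0xf0503010081c1a6f) (.leaf (nat_lit 0xf0503010081c0a5f) (nat_lit 2052))
 (.leaf (nat_lit 0xf0503010081c1a6f) (nat_lit 2053))
)) (.node (nat_lit 0xf0503010083c4a3f) (.node (nat_lit 0xf0503010082c5a5f) (.leaf (nat_lit 0xf0503010082c4a6f) (nat_lit 1537))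
 (.leaf (nat_lit 0xf0503010082c5a5f) (nat_lit 1538))
) (.node (nat_lit 0xf0503010083c5a0f) (.leaf (nat_lit 0xf0503010083c4a3f) (nat_lit 1539))
 (.leaf (nat_lit 0xf0503010083c5a0f) (nat_lit 1538))
))) (.node (nat_lit 0xf0503010182c4a9f) (.node (nat_lit 0xf0503010181c0aaf) (.node (nat_lit 0xf0503010180c1acf) (.leaf (nat_lit 0xf0503010180c0aff) (nat_lit 1538))
 (.leaf (nat_lit 0xf0503010180c1acf) (nat_lit 1540))
) (.node (nat_lit 0xf0503010181c1a9f) (.leaf (nat_lit 0xf0503010181c0aaf) (nat_lit 1537))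
 (.leaf (nat_lit 0xf0503010181c1a9f) (nat_lit 1536))
)) (.node (nat_lit 0xf0503010183c4acf) (.node (nat_lit 0xf0503010182c5aaf) (.leaf (nat_lit 0xf0503010182c4a9f) (nat_lit 2051))
 (.leaf (nat_lit 0xf0503010182c5aaf) (nat_lit 1541))
) (.node (nat_lit 0xf0503010183c5aff) (.leaf (nat_lit 0xf0503010183c4acf) (nat_lit 1538))
 (.leaf (nat_lit 0xf0503010183c5aff) (nat_lit 2051))
)))) (.node (nat_lit 0xf0503010380cea3f) (.node (nat_lit 0xf0503010282caaaf) (.node (nat_lit 0xf0503010281cea9f) (.node (nat_lit 0xf0503010280cfaff) (.leaf (nat_lit 0xf0503010280ceacf) (nat_lit 1284))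
 (.leaf (nat_lit 0xf0503010280cfaff) (nat_lit 1280))
) (.node (nat_lit 0xf0503010281cfaaf) (.leaf (nat_lit 0xf0503010281cea9f) (nat_lit 1797))
 (.leaf (nat_lit 0xf0503010281cfaaf) (nat_lit 1797))
)) (.node (nat_lit 0xf0503010283caaff) (.node (nat_lit 0xf0503010282cba9f) (.leaf (nat_lit 0xf0503010282caaaf) (nat_lit 1281))
 (.leaf (nat_lit 0xf0503010282cba9f) (nat_lit 1795))
) (.node (nat_lit 0xf0503010283cbacf) (.leaf (nat_lit 0xf0503010283caaff) (nat_lit 1796))
 (.leaf (nat_lit 0xf0503010283cbacf) (nat_lit 1797))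
))) (.node (nat_lit 0xf0503010382caa5f) (.node (nat_lit 0xf0503010381cea6f) (.node (nat_lit 0xf0503010380cfa0f) (.leaf (nat_lit 0xf0503010380cea3f) (nat_lit 1792))
 (.leaf (nat_lit 0xf0503010380cfa0f) (nat_lit 1285))
) (.node (nat_lit 0xf0503010381cfa5f) (.leaf (nat_lit 0xf0503010381cea6f) (nat_lit 1792))
 (.leaf (nat_lit 0xf0503010381cfa5f) (nat_lit 1793))
)) (.node (nat_lit 0xf0503010383caa0f) (.node (nat_lit 0xf0503010382cba6f) (.leaf (nat_lit 0xf0503010382caa5f) (nat_lit 1797))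
 (.leaf (nat_lit 0xf0503010382cba6f) (nat_lit 1797))
) (.node (nat_lit 0xf0503010383cba3f) (.leaf (nat_lit 0xf0503010383caa0f) (nat_lit 1281))
 (.leaf (nat_lit 0xf0503010383cba3f) (nat_lit 1283))
))))) (.node (nat_lit 0xf050301068ccaa0f) (.node (nat_lit 0xf050301058cc4a3f) (.node (nat_lit 0xf050301048ec0aaf) (.node (nat_lit 0xf050301048dc4a9f) (.node (nat_lit 0xf050301048cc5aff) (.leaf (nat_lit 0xf050301048cc4acf) (nat_lit 1284))
 (.leaf (nat_lit 0xf050301048cc5aff) (nat_lit 1793))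
) (.node (nat_lit 0xf050301048dc5aaf) (.leaf (nat_lit 0xf050301048dc4a9f) (nat_lit 1792))
 (.leaf (nat_lit 0xf050301048dc5aaf) (nat_lit 1797))
)) (.node (nat_lit 0xf050301048fc0aff) (.node (nat_lit 0xf050301048ec1a9f) (.leaf (nat_lit 0xf050301048ec0aaf) (nat_lit 1281))
 (.leaf (nat_lit 0xf050301048ec1a9f) (nat_lit 1794))
) (.node (nat_lit 0xf050301048fc1acf) (.leaf (nat_lit 0xf050301048fc0aff) (nat_lit 1283))
 (.leaf (nat_lit 0xf050301048fc1acf) (nat_lit 1794))
))) (.node (nat_lit 0xf050301058ec0a5f) (.node (nat_lit 0xf050301058dc4a6f) (.node (nat_lit 0xf050301058cc5a0f) (.leaf (nat_lit 0xf050301058cc4a3f) (nat_lit 1794))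
 (.leaf (nat_lit 0xf050301058cc5a0f) (nat_lit 1284))
) (.node (nat_lit 0xf050301058dc5a5f) (.leaf (nat_lit 0xf050301058dc4a6f) (nat_lit 1793))
 (.leaf (nat_lit 0xf050301058dc5a5f) (nat_lit 1280))
)) (.node (nat_lit 0xf050301058fc0a0f) (.node (nat_lit 0xf050301058ec1a6f) (.leaf (nat_lit 0xf050301058ec0a5f) (nat_lit 1795))
 (.leaf (nat_lit 0xf050301058ec1a6f) (nat_lit 1797))
) (.node (nat_lit 0xf050301058fc1a3f) (.leaf (nat_lit 0xf050301058fc0a0f) (nat_lit 1282))
 (.leaf (nat_lit 0xf050301058fc1a3f) (nat_lit 1797))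
)))) (.node (nat_lit 0xf050301078ccaaff) (.node (nat_lit 0xf050301068ecea6f) (.node (nat_lit 0xf050301068dcaa5f) (.node (nat_lit 0xf050301068ccba3f) (.leaf (nat_lit 0xf050301068ccaa0f) (nat_lit 1541))
 (.leaf (nat_lit 0xf050301068ccba3f) (nat_lit 1538))
) (.node (nat_lit 0xf050301068dcba6f) (.leaf (nat_lit 0xf050301068dcaa5f) (nat_lit 1541))
 (.leaf (nat_lit 0xf050301068dcba6f) (nat_lit 2048))
)) (.node (nat_lit 0xf050301068fcea3f) (.node (nat_lit 0xf050301068ecfa5f) (.leaf (nat_lit 0xf050301068ecea6f) (nat_lit 1537))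
 (.leaf (nat_lit 0xf050301068ecfa5f) (nat_lit 1537))
) (.node (nat_lit 0xf050301068fcfa0f) (.leaf (nat_lit 0xf050301068fcea3f) (nat_lit 1540))
 (.leaf (nat_lit 0xf050301068fcfa0f) (nat_lit 1541))
))) (.node (nat_lit 0xf050301078ecea9f) (.node (nat_lit 0xf050301078dcaaaf) (.node (nat_lit 0xf050301078ccbacf) (.leaf (nat_lit 0xf050301078ccaaff) (nat_lit 2048))
 (.leaf (nat_lit 0xf050301078ccbacf) (nat_lit 1541))
) (.node (nat_lit 0xf050301078dcba9f) (.leaf (nat_lit 0xf050301078dcaaaf) (nat_lit 1536))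
 (.leaf (nat_lit 0xf050301078dcba9f) (nat_lit 2050))
)) (.node (nat_lit 0xf050301078fceacf) (.node (nat_lit 0xf050301078ecfaaf) (.leaf (nat_lit 0xf050301078ecea9f) (nat_lit 2052))
 (.leaf (nat_lit 0xf050301078ecfaaf) (nat_lit 1541))
) (.node (nat_lit 0xf050301078fcfaff) (.leaf (nat_lit 0xf050301078fceacf) (nat_lit 1538))
 (.leaf (nat_lit 0xf050301078fcfaff) (nat_lit 1541))
)))))))))))

theorem V0_ok : genOK B8.A [(nat_lit 0x8040301008040203), (nat_lit 0xc0402010080c0201), (nat_lit 0x8040201048840201), (nat_lit 0x8050201008040205), (nat_lit 0xa040201008040a01), (nat_lit 0x8040201028048201)] V0_t (nat_lit 2048) = true := by decide +kernel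

end Cfsg.Agent.Tri8
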